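import Cfsg.Agent.Lib.KnownB.ChevRoots

/-!
Subgroups of fixed elements of a Chevalley group over any field: the centralizer and normalizer of the
subgroup generated by the fixed root elements, and the Sylow subgroup in the defining characteristic.
-/

set_option autoImplicit false

namespace CfsgLib.KnownB.ChevField

open Cfsg.Lie Matrix CfsgLib.Chev

variable {D : ChevalleyDatum} {A : Aux} {F : Type*} [Field F]

variable (F) in
/-- The subgroup generated by the root elements with parameters fixed by `σ`. -/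
noncomputable def fixRoots (g : Good D A) (σ : F ≃+* F) : Subgroup (GL D.Idx F) :=
  Subgroup.closure {y | ∃ s t, σ t = t ∧ y = xG g s t}

theorem xG_mem_fixRoots (g : Good D A) {σ : F ≃+* F} (s : ℕ) {t : F} (ht : σ t = t) :
    xG g s t ∈ fixRoots F g σ :=
  Subgroup.subset_closure ⟨s, t, ht, rfl⟩

theorem W_le_fixRoots (g : Good D A) (σ : F ≃+* F) : W F g ≤ fixRoots F g σ := by
  refine (Subgroup.closure_le _).2 ?_
  rintro _ ⟨i, hi, rfl⟩
  exact mul_mem (mul_mem (xG_mem_fixRoots g _ (map_one σ)) (xG_mem_fixRoots g _ (by simp)))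
    (xG_mem_fixRoots g _ (map_one σ))

theorem fixRoots_fixed (g : Good D A) {σ : F ≃+* F} {y : GL D.Idx F} (hy : y ∈ fixRoots F g σ) :
    Matrix.GeneralLinearGroup.map (σ : F →+* F) y = y := by
  induction hy using Subgroup.closure_induction with
  | one => exact map_one _
  | mul a b _ _ ha hb => rw [map_mul, ha, hb]
  | inv a _ ha => rw [map_inv, ha]
  | mem a ha =>
    obtain ⟨s, t, ht, rfl⟩ := ha
    rw [map_xG, RingEquiv.coe_toRingHom, ht]

theorem chi_fixed (g : Good D A) {σ : F ≃+* F} {c : Fin D.rank → Fˣ}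
    (hc : Matrix.GeneralLinearGroup.map (σ : F →+* F) (tor D A c) = tor D A c) {s : ℕ}
    (hs : s < D.nroots) : σ (chi D A c s : F) = chi D A c s := by
  have h1 := congrArg (fun y : GL D.Idx F =>
    (y : Matrix D.Idx D.Idx F) (Sum.inr ⟨s, hs⟩) (Sum.inr ⟨s, hs⟩)) hc
  simpa [tor_val, dia] using h1

theorem fixRoots_tor_conj (g : Good D A) {σ : F ≃+* F} {c : Fin D.rank → Fˣ}
    (hc : Matrix.GeneralLinearGroup.map (σ : F →+* F) (tor D A c) = tor D A c) {z : GL D.Idx F}
    (hz : z ∈ fixRoots F g σ) : tor D A c * z * (tor D A c)⁻¹ ∈ fixRoots F g σ := by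
  induction hz using Subgroup.closure_induction with
  | one => simp [one_mem]
  | mul a b _ _ ha hb =>
    rw [show tor D A c * (a * b) * (tor D A c)⁻¹ =
      (tor D A c * a * (tor D A c)⁻¹) * (tor D A c * b * (tor D A c)⁻¹) by group]
    exact mul_mem ha hb
  | inv a _ ha =>
    rw [show tor D A c * a⁻¹ * (tor D A c)⁻¹ = (tor D A c * a * (tor D A c)⁻¹)⁻¹ by group]
    exact inv_mem ha
  | mem a ha =>
    obtain ⟨s, t, ht, rfl⟩ := ha
    by_cases hs : s < D.nroots
    · rw [tor_conj_xG g c hs]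
      exact xG_mem_fixRoots g _ (by rw [map_mul, chi_fixed g hc hs, ht])
    · have h1 : xG g s t = 1 := by
        apply Units.ext
        rw [xG_val, x_of_ge hs]
        rfl
      rw [h1, mul_one, mul_inv_cancel]
      exact one_mem _

/-- A fixed element is a fixed diagonal element times a product of fixed root elements. -/
theorem fixed_decomp (h : Std D A) {σ : F ≃+* F} {y : GL D.Idx F} (hy : y ∈ D.group F)
    (hfix : Matrix.GeneralLinearGroup.map (σ : F →+* F) y = y) :
    ∃ z ∈ fixRoots F h.good σ, ∃ c,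
      Matrix.GeneralLinearGroup.map (σ : F →+* F) (tor D A c) = tor D A c ∧ y = z * tor D A c := by
  have g := h.good
  set m := Matrix.GeneralLinearGroup.map (n := D.Idx) (σ : F →+* F)
  obtain ⟨b₁, hb₁, n, hn, τ, hτ, u, hu, e⟩ := normal_form_exists h hy
  obtain ⟨n₀, hn₀, c, rfl⟩ := monomial_split g hn
  obtain ⟨d, hd⟩ := monomial_conj_tor g (W_le_monomial g hn₀) c
  set b := b₁ * tor D A d with hbdef
  have hb : b ∈ D.borelSubgroup F := mul_mem hb₁ (tor_mem_borel g d)
  have hτ₀ : Acts g n₀ τ := by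
    have := hτ.mul (acts_tor g c⁻¹)
    rwa [map_inv, mul_inv_cancel_right] at this
  have e' : y = b * n₀ * u := by
    rw [e, hbdef, ← hd]
    group
  have hmn : m n₀ = n₀ := fixRoots_fixed g (W_le_fixRoots g σ hn₀)
  have e2 : m b * n₀ * m u = b * n₀ * u := by
    rw [← e']
    conv_rhs => rw [← hfix, e', map_mul, map_mul, hmn]
  obtain ⟨hbfix, hufix⟩ := normal_form_unique h hτ₀ (borel_map_mem g _ hb) hb
    (UP_map_le g _ _ ⟨u, hu, rfl⟩) hu e2
  have hpos : ∀ v ∈ D.posUnipotent F, m v = v → v ∈ fixRoots F g σ := by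
    intro v hv hmv
    rw [← UL_posRoots g] at hv
    obtain ⟨T, rfl⟩ := exists_pw h upList_posRoots hv
    rw [map_pw] at hmv
    have hT := pw_inj h upList_posRoots hmv
    refine list_prod_mem fun z hz => ?_
    obtain ⟨r, hr, rfl⟩ := List.mem_map.1 hz
    exact xG_mem_fixRoots g r (hT r hr)
  obtain ⟨v, hv, a, hva⟩ := (mem_borel_iff g).1 hb
  have e3 : m v * m (tor D A a) = v * tor D A a := by rw [← map_mul, ← hva, hbfix]
  have hmt : m (tor D A a) ∈ D.diagonalSubgroup F := by
    rw [show m (tor D A a) = _ from map_tor (σ : F →+* F) a, diagonalSubgroup_eq g]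
    exact ⟨_, rfl⟩
  have e4 : v⁻¹ * m v = 1 := by
    refine Subgroup.mem_bot.1 ((posUnipotent_inf_diagonal (F := F) h).le (Subgroup.mem_inf.2
      ⟨mul_mem (inv_mem hv) (pos_map_mem g (σ : F →+* F) hv), ?_⟩))
    rw [show v⁻¹ * m v = tor D A a * (m (tor D A a))⁻¹ by
      rw [eq_mul_inv_iff_mul_eq, mul_assoc, e3, inv_mul_cancel_left]]
    exact mul_mem (by rw [diagonalSubgroup_eq g]; exact ⟨a, rfl⟩) (inv_mem hmt)
  have hmv : m v = v := (inv_mul_eq_one.1 e4).symm
  rw [hmv] at e3
  have hma : m (tor D A a) = tor D A a := mul_left_cancel e3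
  refine ⟨v * (tor D A a * (n₀ * u) * (tor D A a)⁻¹),
    mul_mem (hpos v hv hmv) (fixRoots_tor_conj g hma
      (mul_mem (W_le_fixRoots g σ hn₀) (hpos u (UP_toNeg_le g τ hu) hufix))), a, hma, ?_⟩
  rw [e', hva]
  group

/-- Only the identity centralizes the fixed root elements. -/
theorem fixRoots_centralizer (h : Std D A) (σ : F ≃+* F) {z : GL D.Idx F} (hz : z ∈ D.group F)
    (hc : ∀ x ∈ fixRoots F h.good σ, z * x = x * z) : z = 1 := by
  have g := h.good
  have hzB : z ∈ D.borelSubgroup F := by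
    obtain ⟨b, hb, n, hn, τ, hτ, u, hu, rfl⟩ := normal_form_exists h hz
    have hu' : u ∈ D.posUnipotent F := UP_toNeg_le g τ hu
    refine mul_mem (mul_mem hb ?_) (pos_le_borel hu')
    refine (le_sup_right : D.diagonalSubgroup F ≤ D.borelSubgroup F)
      (diag_of_simple_pos h hn hτ fun i hi => ?_)
    by_contra hni
    set p := D.simple i
    have hp := g.simple_lt i hi
    have hP := simple_pos g hi
    set w := u * xG g p 1 * u⁻¹ with hwdef
    have hw : w ∈ D.posUnipotent F :=
      mul_mem (mul_mem hu' (xG_mem_posUnipotent g hP 1)) (inv_mem hu')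
    have hnw : n * w * n⁻¹ ∈ D.posUnipotent F := by
      have hx := hc _ (xG_mem_fixRoots g p (map_one σ))
      have e1 : n * w * n⁻¹ = b⁻¹ * xG g p 1 * b := by
        calc n * w * n⁻¹ = b⁻¹ * (b * n * u * xG g p 1) * u⁻¹ * n⁻¹ := by rw [hwdef]; group
          _ = b⁻¹ * xG g p 1 * b := by rw [hx]; group
      rw [e1]
      simpa using borel_conj_pos g (inv_mem hb) (xG_mem_posUnipotent g hP 1)
    have hwL := hw
    rw [← UL_posRoots g] at hwL
    obtain ⟨a, ha, b', hb', e⟩ := pos_split h τ hτ.map.1 upList_posRoots hwL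
    have hna : n * a * n⁻¹ ∈ D.posUnipotent F :=
      conj_UP_le hτ (fun r hr => hr.1.1) (fun r t hr => xG_mem_posUnipotent g hr.2 t) ha
    have hnb : n * b' * n⁻¹ ∈ D.negUnipotent F :=
      conj_UP_le hτ (fun r hr => hr.1.1) (fun r t hr => xG_mem_negUnipotent g hr.2 t) hb'
    have hb1 : n * b' * n⁻¹ = 1 := by
      refine Subgroup.mem_bot.1 ((borel_inf_negUnipotent (F := F) h).le (Subgroup.mem_inf.2 ⟨?_, hnb⟩))
      rw [show n * b' * n⁻¹ = (n * a * n⁻¹)⁻¹ * (n * w * n⁻¹) by rw [e]; group]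
      exact pos_le_borel (mul_mem (inv_mem hna) hnw)
    have hb'1 : b' = 1 := by
      have := congrArg (fun y => n⁻¹ * y * n) hb1
      simpa [mul_assoc] using this
    rw [hb'1, mul_one] at e
    have hle : UP F g (fun r => D.IsPosRoot r ∧ D.IsPosRoot (τ r)) ≤ UP F g (posBut D i) :=
      UP_le fun r t hr => xG_mem_UP g (P := posBut D i) ⟨hr.1, fun e => hni (by
        show D.IsPosRoot (τ p)
        rw [show p = r from e.symm]
        exact hr.2)⟩ t
    have hwP : w ∈ UP F g (posBut D i) := hle (e ▸ ha)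
    obtain ⟨v, hv, t, rfl⟩ := pos_decomp h hi hu'
    have hxP : xG g p 1 ∈ UP F g (posBut D i) := by
      have e5 : xG g p 1 = v⁻¹ * w * v := by
        rw [hwdef, show v * xG g p t * xG g p 1 * (v * xG g p t)⁻¹ =
          v * (xG g p t * xG g p 1 * (xG g p t)⁻¹) * v⁻¹ by group, xG_add, add_comm, ← xG_add,
          mul_inv_cancel_right]
        group
      rw [e5]
      exact mul_mem (mul_mem (inv_mem hv) hwP) hv
    have hcp := UP_posBut_le g i (nS_conj_posBut h hi hxP)
    rw [nS_conj_xG g hi hp, refl_simple g hi] at hcp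
    have hnp : D.IsNegRoot (A.neg p) :=
      isNeg_of_not_pos g (g.neg_lt p hp) (not_pos_neg g hP)
    have h0 := xG_eq_one h (g.neg_lt p hp) (Subgroup.mem_bot.1
      ((borel_inf_negUnipotent (F := F) h).le
        (Subgroup.mem_inf.2 ⟨pos_le_borel hcp, xG_mem_negUnipotent g hnp _⟩)))
    exact eta_ne_zero g hi hp (by simpa using h0)
  obtain ⟨v, hv, c, rfl⟩ := (mem_borel_iff g).1 hzB
  obtain ⟨n, hn, τ, hτ, hw⟩ := exists_longest (F := F) g
  obtain ⟨n₀, hn₀, a, rfl⟩ := monomial_split g hn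
  have hτ₀ : Acts g n₀ τ := by
    have := hτ.mul (acts_tor g a⁻¹)
    rwa [map_inv, mul_inv_cancel_right] at this
  obtain ⟨d, hd⟩ := monomial_conj_tor g (W_le_monomial g hn₀) c
  have hv1 : v = 1 := by
    have hneg : n₀ * v * n₀⁻¹ ∈ D.negUnipotent F := by
      rw [← longest_conj g hτ₀ hw]
      exact ⟨v, hv, rfl⟩
    have hx := hc n₀ (W_le_fixRoots g σ hn₀)
    have e1 : n₀ * v * n₀⁻¹ = v * tor D A c * (tor D A d)⁻¹ := by
      rw [← hd, ← mul_inv_cancel_right (v * tor D A c) n₀, hx]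
      group
    have h1 : n₀ * v * n₀⁻¹ = 1 := Subgroup.mem_bot.1 ((borel_inf_negUnipotent (F := F) h).le
      (Subgroup.mem_inf.2 ⟨by
        rw [e1]
        exact mul_mem (mul_mem (pos_le_borel hv) (tor_mem_borel g c)) (inv_mem (tor_mem_borel g d)),
        hneg⟩))
    have := congrArg (fun y => n₀⁻¹ * y * n₀) h1
    simpa [mul_assoc] using this
  subst hv1
  rw [one_mul] at hc ⊢
  apply Units.ext
  rw [tor_val, Units.val_one, dia_congr (e := fun _ => (1 : F)) fun s hs => ?_, dia_one]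
  have := hc _ (xG_mem_fixRoots g s (map_one σ))
  rw [← mul_inv_eq_iff_eq_mul, tor_conj_xG g c hs, mul_one] at this
  exact xG_inj h hs this

/-- Centralizer and normalizer of a group between the fixed root elements and the fixed elements. -/
theorem fixed_normalizer (h : Std D A) (σ : F ≃+* F) {K : Subgroup (GL D.Idx F)} (hKG : K ≤ D.group F)
    (hLK : fixRoots F h.good σ ≤ K)
    (hKfix : ∀ y ∈ K, Matrix.GeneralLinearGroup.map (σ : F →+* F) y = y) :
    D.group F ⊓ Subgroup.centralizer (K : Set (GL D.Idx F)) = ⊥ ∧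
    ∀ y ∈ D.group F, (y ∈ Subgroup.normalizer (K : Set (GL D.Idx F)) ↔
      Matrix.GeneralLinearGroup.map (σ : F →+* F) y = y) := by
  have g := h.good
  set m := Matrix.GeneralLinearGroup.map (n := D.Idx) (σ : F →+* F)
  refine ⟨?_, fun y hy => ⟨fun hn => ?_, fun hfix => ?_⟩⟩
  · rw [eq_bot_iff]
    intro z hz
    obtain ⟨hzG, hzc⟩ := Subgroup.mem_inf.1 hz
    exact Subgroup.mem_bot.2 (fixRoots_centralizer h σ hzG fun x hx =>
      (Subgroup.mem_centralizer_iff.1 hzc x (hLK hx)).symm)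
  · have hmy : m y ∈ D.group F := group_map_le g _ ⟨y, hy, rfl⟩
    refine (inv_mul_eq_one.1 (fixRoots_centralizer h σ (mul_mem (inv_mem hy) hmy) fun x hx => ?_)).symm
    have h1 := hKfix _ ((Subgroup.mem_normalizer_iff.1 hn x).1 (hLK hx))
    rw [map_mul, map_mul, map_inv, fixRoots_fixed g hx] at h1
    rw [mul_inv_eq_iff_eq_mul] at h1
    calc y⁻¹ * m y * x = y⁻¹ * (m y * x) := mul_assoc _ _ _
      _ = x * (y⁻¹ * m y) := by rw [h1]; group
  · have key : ∀ y ∈ D.group F, m y = y → ∀ k ∈ K, y * k * y⁻¹ ∈ K := by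
      intro y hy hfix k hk
      obtain ⟨z, hz, c, hc, rfl⟩ := fixed_decomp h hy hfix
      obtain ⟨z', hz', c', -, rfl⟩ := fixed_decomp h (hKG hk) (hKfix k hk)
      have hc' : tor D A c' ∈ K := (Subgroup.mul_mem_cancel_left K (hLK hz')).1 hk
      rw [show z * tor D A c * (z' * tor D A c') * (z * tor D A c)⁻¹ =
        z * (tor D A c * z' * (tor D A c)⁻¹) * (tor D A c * tor D A c' * (tor D A c)⁻¹) * z⁻¹ by group,
        tor_mul_comm c c', mul_inv_cancel_right]
      exact mul_mem (mul_mem (mul_mem (hLK hz) (hLK (fixRoots_tor_conj g hc hz'))) hc')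
        (inv_mem (hLK hz))
    rw [Subgroup.mem_normalizer_iff]
    intro k
    refine ⟨key y hy hfix k, fun hk => ?_⟩
    have := key y⁻¹ (inv_mem hy) (by rw [map_inv, hfix]) _ hk
    simpa [mul_assoc] using this

/-- `U` is a Sylow subgroup in the defining characteristic. -/
theorem sylow_posUnipotent [Fintype F] {p : ℕ} [Fact p.Prime] [CharP F p] (h : Std D A) :
    ∃ P : Sylow p ↥(D.group F),
      (P : Subgroup ↥(D.group F)) = (D.posUnipotent F).subgroupOf (D.group F) := by
  classical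
  have g := h.good
  haveI : Finite ↥(D.group F) := Finite.of_injective _ Subtype.val_injective
  refine sylow_of_normalizer _ ?_ fun z hz hk => ?_
  · obtain ⟨n, -, hn⟩ := FiniteField.card F p
    refine IsPGroup.of_card (n := (n : ℕ) * (D.nroots / 2)) ?_
    rw [Nat.card_congr (Subgroup.subgroupOfEquivOfLe (posUnipotent_le_group g)).toEquiv,
      card_posUnipotent h, hn, ← pow_mul]
  obtain ⟨k, hk⟩ := hk
  have hzB : (z : GL D.Idx F) ∈ D.borelSubgroup F := mem_borel_of_conj_pos h z.2 fun v hv =>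
    Subgroup.mem_subgroupOf.1 ((Subgroup.mem_normalizer_iff.1 hz
      ⟨v, posUnipotent_le_group g hv⟩).1 (Subgroup.mem_subgroupOf.2 hv))
  obtain ⟨v, hv, c, hzc⟩ := (mem_borel_iff g).1 hzB
  have hB : ∀ j : ℕ, ∃ w ∈ D.posUnipotent F, (z : GL D.Idx F) ^ j = w * tor D A (c ^ j) := by
    intro j
    induction j with
    | zero => exact ⟨1, one_mem _, by simp⟩
    | succ j ih =>
      obtain ⟨w, hw, e⟩ := ih
      refine ⟨w * (tor D A (c ^ j) * v * (tor D A (c ^ j))⁻¹),
        mul_mem hw (tor_conj_posUnipotent g _ hv), ?_⟩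
      rw [pow_succ, e, hzc, pow_succ c, map_mul]
      group
  obtain ⟨w, hw, e⟩ := hB (p ^ k)
  rw [← SubmonoidClass.coe_pow, hk, Subgroup.coe_one] at e
  have hc1 : tor D A (c ^ p ^ k) = 1 := by
    refine Subgroup.mem_bot.1 ((posUnipotent_inf_diagonal (F := F) h).le (Subgroup.mem_inf.2 ⟨?_, ?_⟩))
    · rw [← inv_eq_of_mul_eq_one_right e.symm]
      exact inv_mem hw
    · rw [diagonalSubgroup_eq g]
      exact ⟨_, rfl⟩
  have hc : tor D A c = 1 := by
    apply Units.ext
    rw [tor_val, Units.val_one, dia_congr (e := fun _ => (1 : F)) fun s hs => ?_, dia_one]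
    have h1 := congrArg (fun y : GL D.Idx F =>
      (y : Matrix D.Idx D.Idx F) (Sum.inr ⟨s, hs⟩) (Sum.inr ⟨s, hs⟩)) hc1
    refine iterateFrobenius_inj F p k ?_
    rw [iterateFrobenius_def, iterateFrobenius_def, one_pow]
    simpa [map_pow, tor_val, dia, Matrix.diagonal_pow] using h1
  rw [hc, mul_one] at hzc
  exact Subgroup.mem_subgroupOf.2 (hzc ▸ hv)

/-! ### Signs under graph automorphisms, one root length -/

/-- One root length, and the coroots determine the roots. -/
noncomputable def simplyLacedChk (D : ChevalleyDatum) (A : Aux) : Bool :=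
  ((List.range D.rank).all fun i => (List.range D.rank).all fun k =>
    i == k || decide (A.cart k (D.simple i) = -D.bonds k i)) &&
  ((List.range D.nroots).all fun r => (List.range D.nroots).all fun s => r == s ||
    (List.range D.rank).any fun i => decide (A.coro r i ≠ A.coro s i))

theorem graph_sign (h : Std D A) (hchk : simplyLacedChk D A = true) {π : Equiv.Perm (Fin D.rank)}
    (hπ : D.IsDiagramSymmetry π) (φ : ↥(D.group F) ≃* ↥(D.group F))
    (hφ : ∀ (y : ↥(D.group F)) (i : Fin D.rank) (t : F),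
      (((y : GL D.Idx F) : Matrix D.Idx D.Idx F) = D.x F (D.simple i) t →
        ((φ y : GL D.Idx F) : Matrix D.Idx D.Idx F) = D.x F (D.simple (π i)) t) ∧
      (((y : GL D.Idx F) : Matrix D.Idx D.Idx F) = D.x F (D.neg (D.simple i)) t →
        ((φ y : GL D.Idx F) : Matrix D.Idx D.Idx F) = D.x F (D.neg (D.simple (π i))) t))
    {r : ℕ} (hr : r < D.nroots) :
    ∃ ε : F, (ε = 1 ∨ ε = -1) ∧ ∀ (y : ↥(D.group F)) (t : F),
      ((y : GL D.Idx F) : Matrix D.Idx D.Idx F) = D.x F r t →
        ((φ y : GL D.Idx F) : Matrix D.Idx D.Idx F) = D.x F (D.permRoot π r) (ε * t) := by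
  have g := h.good
  simp only [simplyLacedChk, Bool.and_eq_true, List.all_eq_true, List.mem_range, Bool.or_eq_true,
    beq_iff_eq, decide_eq_true_eq, List.any_eq_true] at hchk
  obtain ⟨hcart, hinj⟩ := hchk
  have hcartπ : ∀ i k : Fin D.rank,
      A.cart (π k) (D.simple (π i)) = A.cart k (D.simple i) := by
    intro i k
    rcases eq_or_ne i k with rfl | hik
    · rw [g.cart_simple _ (π i).isLt, g.cart_simple _ i.isLt]
    · have h1 := (hcart i i.isLt k k.isLt).resolve_left fun e => hik (Fin.ext e)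
      have h2 := (hcart _ (π i).isLt _ (π k).isLt).resolve_left fun e =>
        hik (π.injective (Fin.ext e))
      rw [h1, h2, hπ k i (Ne.symm hik)]
  let ψ : ↥(D.group F) →* GL D.Idx F := (D.group F).subtype.comp φ.toMonoidHom
  let P : ℕ → Prop := fun r => ∃ r' < D.nroots, ∃ ε : F, (ε = 1 ∨ ε = -1) ∧
    (∀ i : Fin D.rank, A.coro r' (π i) = A.coro r i) ∧
      ∀ t, ψ ⟨xG g r t, xG_mem_group g r t⟩ = xG g r' (ε * t)
  have hroot : ∀ r < D.nroots, P r := by
    refine root_induction g (fun j hj _ => ?_) ?_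
    · refine ⟨_, g.simple_lt _ (π ⟨j, hj⟩).isLt, 1, Or.inl rfl, fun i => ?_, fun t => ?_⟩
      · rw [g.coro_simple _ (π ⟨j, hj⟩).isLt _ (π i).isLt, g.coro_simple j hj _ i.isLt]
        have : (π i).val = (π ⟨j, hj⟩).val ↔ i.val = j :=
          ⟨fun e => by rw [π.injective (Fin.ext e)], fun e => by rw [show i = ⟨j, hj⟩ from Fin.ext e]⟩
        simp only [this]
      · rw [one_mul, ← eq_xG_iff g]
        exact (hφ _ ⟨j, hj⟩ t).1 (xG_val g _ _)
    rintro i hi r hr ⟨r', hr', ε, hε, hco, hx⟩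
    set k := π ⟨i, hi⟩
    have hn : ψ ⟨nS F g i, nS_mem_group g i⟩ = nS F g k := by
      have e1 : (⟨nS F g i, nS_mem_group g i⟩ : ↥(D.group F)) =
          ⟨_, xG_mem_group g (D.simple i) 1⟩ * ⟨_, xG_mem_group g (D.neg (D.simple i)) (-(1 : F)⁻¹)⟩ *
            ⟨_, xG_mem_group g (D.simple i) 1⟩ := rfl
      rw [e1, map_mul, map_mul]
      exact congrArg₂ _ (congrArg₂ _ ((eq_xG_iff g).1 ((hφ _ ⟨i, hi⟩ _).1 (xG_val g _ _)))
        ((eq_xG_iff g).1 ((hφ _ ⟨i, hi⟩ _).2 (xG_val g _ _))))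
        ((eq_xG_iff g).1 ((hφ _ ⟨i, hi⟩ _).1 (xG_val g _ _)))
    refine ⟨A.refl k r', g.refl_lt k k.isLt r' hr', (A.eta k r' : F) * ε * (A.eta i r : F),
      ?_, fun l => ?_, fun t => ?_⟩
    · rcases g.eta_sign k k.isLt r' hr' with e | e <;> rcases g.eta_sign i hi r hr with e' | e' <;>
        rcases hε with rfl | rfl <;> simp [e, e']
    · rw [g.coro_refl k k.isLt r' hr' _ (π l).isLt, g.coro_refl i hi r hr _ l.isLt, hco l]
      have hiff : ((π l : ℕ) = (k : ℕ)) ↔ (l : ℕ) = i :=
        ⟨fun e => by rw [π.injective (Fin.ext e)], fun e => by rw [show l = ⟨i, hi⟩ from Fin.ext e]⟩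
      simp only [hiff]
      split_ifs
      · rw [Finset.sum_range, Finset.sum_range, ← Equiv.sum_comp π]
        congr 1
        refine Finset.sum_congr rfl fun m _ => ?_
        rw [hco m, hcartπ ⟨i, hi⟩ m]
      · rfl
    · have hsq : ((A.eta i r : ℤ) : F) * (A.eta i r : F) = 1 := by
        rcases g.eta_sign i hi r hr with e | e <;> simp [e]
      have e1 : (⟨_, xG_mem_group g (A.refl i r) t⟩ : ↥(D.group F)) =
          ⟨nS F g i, nS_mem_group g i⟩ * ⟨_, xG_mem_group g r ((A.eta i r : F) * t)⟩ *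
            (⟨nS F g i, nS_mem_group g i⟩ : ↥(D.group F))⁻¹ := by
        refine Subtype.ext ?_
        show xG g (A.refl i r) t = nS F g i * xG g r _ * (nS F g i)⁻¹
        rw [nS_conj_xG g hi hr, ← mul_assoc, hsq, one_mul]
      rw [e1, map_mul, map_mul, map_inv, hn, hx, nS_conj_xG g k.isLt hr']
      congr 1
      ring
  obtain ⟨r', hr', ε, hε, hco, hx⟩ := hroot r hr
  have hperm : D.permRoot π r = r' := by
    have hiff : ∀ s < D.nroots, ((List.finRange D.rank).all fun i =>
        (D.coroot.getD s #[]).getD (π i).val 0 == (D.coroot.getD r #[]).getD i.val 0) = true ↔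
        s = r' := by
      intro s hs
      simp only [List.all_eq_true, List.mem_finRange, beq_iff_eq, true_implies,
        g.coro_eq s hs, g.coro_eq r hr]
      refine ⟨fun hall => ?_, fun e i => e ▸ hco i⟩
      by_contra hne
      obtain ⟨i, hi, hd⟩ := (hinj s hs r' hr').resolve_left hne
      refine hd ?_
      have := hall (π.symm ⟨i, hi⟩)
      rw [← hco, Equiv.apply_symm_apply] at this
      exact this
    unfold ChevalleyDatum.permRoot
    rcases hfind : (List.range D.nroots).find? (fun s => (List.finRange D.rank).all fun i =>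
        (D.coroot.getD s #[]).getD (π i).val 0 == (D.coroot.getD r #[]).getD i.val 0) with _ | s
    · exact absurd ((hiff r' hr').2 rfl) (List.find?_eq_none.1 hfind r' (List.mem_range.2 hr'))
    · exact (hiff s (List.mem_range.1 (List.mem_of_find?_eq_some hfind))).1 (List.find?_some (p := fun s => (List.finRange D.rank).all fun i =>
        (D.coroot.getD s #[]).getD (π i).val 0 == (D.coroot.getD r #[]).getD i.val 0) hfind)
  refine ⟨ε, hε, fun y t hy => ?_⟩
  obtain rfl : y = ⟨xG g r t, xG_mem_group g r t⟩ := Subtype.ext ((eq_xG_iff g).1 hy)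
  rw [hperm]
  show ((ψ _ : GL D.Idx F) : Matrix D.Idx D.Idx F) = _
  rw [hx, xG_val]

theorem exists_simplyLaced {D : ChevalleyDatum} (hD : D ∈ [chevD4, chevE6]) :
    ∃ A, Std D A ∧ simplyLacedChk D A = true := by
  simp only [List.mem_cons, List.not_mem_nil, or_false] at hD
  rcases hD with rfl | rfl
  exacts [⟨_, stdD4, by decide +kernel⟩, ⟨_, stdE6, by decide +kernel⟩]

end CfsgLib.KnownB.ChevField
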