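import Cfsg.Agent.Lib.KnownB.ChevRoots

/-!
The filtration of `U` by root heights: the coefficient of a root of height `k` is an additive function
on the subgroup generated by the root elements of height at least `k`, read off from a matrix entry.
-/

set_option autoImplicit false

namespace CfsgLib.KnownB.ChevHeight

open Cfsg.Lie Matrix CfsgLib.Chev

variable {D : ChevalleyDatum} {A : Aux} {F : Type*} [Field F]

theorem ht_eq_sum (r : ℕ) : A.ht D.rank r = ∑ j ∈ Finset.range D.rank, A.a r j :=
  sum_map_range _ _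

theorem pos_iff_ht (h : Std D A) {r : ℕ} (hr : r < D.nroots) :
    D.IsPosRoot r ↔ 0 < A.ht D.rank r := by
  rw [ht_eq_sum]
  constructor
  · intro hp
    have hnn := (h.good.pos_iff r hr).1 hp
    refine lt_of_le_of_ne (Finset.sum_nonneg fun j _ => hnn j) fun e => ?_
    exact code_ne_zero h hr (code_eq_zero_of_a r fun j hj =>
      (Finset.sum_eq_zero_iff_of_nonneg fun j _ => hnn j).1 e.symm j (Finset.mem_range.2 hj))
  · intro hp
    rcases h.good.pos_or_neg r hr with e | e
    · exact (h.good.pos_iff r hr).2 e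
    · exact absurd (Finset.sum_nonpos fun j (_ : j ∈ Finset.range D.rank) => e j) (not_le.2 hp)

variable (D A) in
/-- The roots of height at least `k`. -/
def AtLeast (k : ℤ) (r : ℕ) : Prop := r < D.nroots ∧ k ≤ A.ht D.rank r

variable (D A) in
/-- The height of a coordinate. -/
noncomputable def htw : D.Idx → ℤ
  | Sum.inl _ => 0
  | Sum.inr s => A.ht D.rank s.val

variable (D A) in
/-- The height of a numbered coordinate. -/
noncomputable def htN (c : ℕ) : ℤ := if c < D.rank then 0 else A.ht D.rank (c - D.rank)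

theorem htN_idx (x : D.Idx) : htN D A (idx D x) = htw D A x := by
  rcases x with i | s
  · simp [htN, idx, htw, i.isLt]
  · simp [htN, idx, htw]

theorem col_height (g : Good D A) {r c : ℕ} (hr : r < D.nroots) {q : ℕ × ℤ × ℕ}
    (hq : q ∈ A.col D.rank D.nroots r c) :
    htN D A q.1 = htN D A c + (q.2.2 : ℤ) * A.ht D.rank r ∧ 1 ≤ q.2.2 := by
  have hneg : A.ht D.rank (A.neg r) = -A.ht D.rank r := by
    simp [ht_eq_sum, g.a_neg r hr, Finset.sum_neg_distrib]
  rcases lt_or_ge c D.rank with hc | hc
  · rw [col_h hc, List.mem_singleton] at hq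
    subst hq
    simp [htN, hc]
  obtain ⟨s, rfl⟩ : ∃ s, c = D.rank + s := ⟨c - D.rank, by omega⟩
  by_cases hs : s < D.nroots
  swap
  · simp [Aux.col, hs, show ¬ D.rank + s < D.rank by omega] at hq
  rcases eq_or_ne s r with rfl | h3
  · simp [col_self hs] at hq
  rcases eq_or_ne s (A.neg r) with rfl | h4
  · rw [col_neg hs h3] at hq
    simp only [List.mem_append, List.mem_map, List.mem_range, List.mem_singleton] at hq
    rcases hq with ⟨j, hj, rfl⟩ | rfl
    · simp [htN, hj, hneg]
    · simp [htN, hneg]; ring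
  · rw [col_chain hs h3 h4] at hq
    obtain ⟨p, hp, rfl⟩ := List.mem_map.1 hq
    have hm := g.chain_mem r hr s hs p.2 p.1.1 p.1.2 (List.mem_zipIdx_iff_getElem?.1 hp)
    refine ⟨?_, by simp⟩
    simp only [htN, show ¬ D.rank + p.1.1 < D.rank by omega, show ¬ D.rank + s < D.rank by omega,
      if_false, Nat.add_sub_cancel_left, ht_eq_sum, Finset.mul_sum, ← Finset.sum_add_distrib]
    refine Finset.sum_congr rfl fun j hj => ?_
    rw [hm.2.2.2 j (Finset.mem_range.1 hj)]
    push_cast
    ring

theorem x_htTri (g : Good D A) {r : ℕ} (hr : r < D.nroots) (t : F) {b : ℤ}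
    (hb : 0 ≤ b) (hbr : b < A.ht D.rank r) : Tri (htw D A) b (D.x F r t) := by
  intro x y hxy
  have h := congrFun (x_mulVec (F := F) g hr t (idx D y)) x
  rw [mulVec_ev] at h
  refine h.trans ?_
  rw [Pi.add_apply, tval_apply, List.sum_eq_zero, add_zero]
  · by_cases e : x = y
    · subst e; simp [ev]
    · have e2 : idx D x ≠ idx D y := fun e' => e (idx_inj e')
      simp [ev, e, e2]
  · intro v hv
    obtain ⟨q, hq, rfl⟩ := List.mem_map.1 hv
    rw [if_neg]
    intro e
    obtain ⟨h1, h2⟩ := col_height g hr hq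
    rw [← e, htN_idx, htN_idx] at h1
    have h3 : (1 : ℤ) ≤ (q.2.2 : ℤ) := by exact_mod_cast h2
    nlinarith

theorem UP_htTri (g : Good D A) {k : ℤ} (hk : 1 ≤ k) :
    UP F g (AtLeast D A k) ≤ triG (htw D A) (k - 1) (by omega) := by
  refine UP_le fun r t hr => ⟨?_, ?_⟩
  · rw [xG_val]; exact x_htTri g hr.1 t (by omega) (by linarith [hr.2])
  · rw [xG_inv, xG_val]; exact x_htTri g hr.1 (-t) (by omega) (by linarith [hr.2])

/-- Every root has a Cartan integer prime to each characteristic. -/
noncomputable def cartGcdChk (D : ChevalleyDatum) (A : Aux) : Bool :=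
  (List.range D.nroots).all fun r => (List.range D.rank).any fun i => (List.range D.rank).any fun j =>
    Int.gcd (A.cart i r) (A.cart j r) == 1

theorem exists_cart_ne (hchk : cartGcdChk D A = true) {r : ℕ} (hr : r < D.nroots) :
    ∃ i : Fin D.rank, (A.cart i r : F) ≠ 0 := by
  simp only [cartGcdChk, List.all_eq_true, List.mem_range, List.any_eq_true, beq_iff_eq] at hchk
  obtain ⟨i, hi, j, hj, hg⟩ := hchk r hr
  by_contra hc
  push Not at hc
  have h1 := congrArg (fun z : ℤ => (z : F)) (Int.gcd_eq_gcd_ab (A.cart i r) (A.cart j r))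
  rw [hg] at h1
  simp [hc ⟨i, hi⟩, hc ⟨j, hj⟩] at h1

variable (D A F) in
open scoped _root_.Classical in
/-- The coefficient of a root, read off at the row of its root vector. -/
noncomputable def crd (y : GL D.Idx F) (r : ℕ) : F :=
  if h : r < D.nroots ∧ ∃ i : Fin D.rank, (A.cart i r : F) ≠ 0 then
    (y : Matrix D.Idx D.Idx F) (Sum.inr ⟨r, h.1⟩) (Sum.inl h.2.choose) / -(A.cart h.2.choose r : F)
  else 0

theorem crd_mul (g : Good D A) {k : ℤ} (hk : 1 ≤ k) {y z : GL D.Idx F}
    (hy : y ∈ UP F g (AtLeast D A k)) (hz : z ∈ UP F g (AtLeast D A k)) {r : ℕ}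
    (hr : A.ht D.rank r ≤ k) : crd D A F (y * z) r = crd D A F y r + crd D A F z r := by
  unfold crd
  split_ifs with h
  swap
  · rw [add_zero]
  rw [← add_div]
  congr 1
  have hY := (UP_htTri g hk hy).1
  have hZ := (UP_htTri g hk hz).1
  set x : D.Idx := Sum.inr ⟨r, h.1⟩ with hx
  set w : D.Idx := Sum.inl h.2.choose with hw
  have hxw : x ≠ w := by simp [hx, hw]
  have hwx : htw D A x = A.ht D.rank r := rfl
  have hww : htw D A w = 0 := rfl
  rw [Units.val_mul, Matrix.mul_apply, Finset.sum_eq_add x w hxw]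
  · rw [hY x x (by omega), if_pos rfl, hZ w w (by omega), if_pos rfl, one_mul, mul_one, add_comm]
  · intro j _ hj
    by_cases hjw : htw D A j ≤ k - 1
    · rw [hZ j w (by omega), if_neg hj.2, mul_zero]
    · rw [hY x j (by omega), if_neg (Ne.symm hj.1), zero_mul]
  · simp
  · simp

theorem crd_one (r : ℕ) : crd D A F 1 r = 0 := by
  unfold crd
  split_ifs with h
  · simp
  · rfl

theorem crd_inv (g : Good D A) {k : ℤ} (hk : 1 ≤ k) {y : GL D.Idx F}
    (hy : y ∈ UP F g (AtLeast D A k)) {r : ℕ} (hr : A.ht D.rank r ≤ k) :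
    crd D A F y⁻¹ r = -crd D A F y r := by
  have := crd_mul g hk hy (inv_mem hy) hr
  rw [mul_inv_cancel, crd_one] at this
  linear_combination -this

theorem crd_xG (g : Good D A) (hchk : cartGcdChk D A = true) {s r : ℕ} (hs : s < D.nroots) (hr : r < D.nroots)
    (t : F) : crd D A F (xG g s t) r = if s = r then t else 0 := by
  have hex := exists_cart_ne (F := F) hchk hr
  rw [crd, dif_pos ⟨hr, hex⟩]
  set i := hex.choose
  have hi : (A.cart i r : F) ≠ 0 := hex.choose_spec
  have h1 := congrFun (x_mulVec_h (F := F) g hs t i.isLt) (Sum.inr ⟨r, hr⟩)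
  rw [show (i : ℕ) = idx D (Sum.inl i) from rfl, mulVec_ev] at h1
  dsimp only at h1
  rw [xG_val, h1]
  have hi' := i.isLt
  by_cases hsr : s = r
  · subst hsr
    simp [ev, idx, show D.rank + s ≠ (i : ℕ) by omega, hi]
  · simp [ev, idx, show D.rank + r ≠ (i : ℕ) by omega, hsr, Ne.symm hsr]

theorem crd_prod (g : Good D A) (hchk : cartGcdChk D A = true) {k : ℤ} (hk : 1 ≤ k) {r : ℕ}
    (hr : r < D.nroots) (hrk : A.ht D.rank r ≤ k) : ∀ L : List (ℕ × F),
    (∀ p ∈ L, AtLeast D A k p.1) →
    crd D A F (L.map fun p => xG g p.1 p.2).prod r = (L.map fun p => if p.1 = r then p.2 else 0).sum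
  | [], _ => by simp [crd_one]
  | p :: L, hL => by
    have hmem : (L.map fun p => xG g p.1 p.2).prod ∈ UP F g (AtLeast D A k) :=
      list_prod_mem fun y hy => by
        obtain ⟨q, hq, rfl⟩ := List.mem_map.1 hy
        exact xG_mem_UP g (hL q (List.mem_cons_of_mem _ hq)) _
    rw [List.map_cons, List.prod_cons, crd_mul g hk (xG_mem_UP g (hL p List.mem_cons_self) _) hmem hrk,
      crd_xG g hchk (hL p List.mem_cons_self).1 hr,
      crd_prod g hchk hk hr hrk L (fun q hq => hL q (List.mem_cons_of_mem _ hq)), List.map_cons,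
      List.sum_cons]

theorem sum_ite_nodup (r : ℕ) (c : ℕ → F) : ∀ L : List ℕ, L.Nodup →
    (L.map fun s => if s = r then c s else 0).sum = if r ∈ L then c r else 0
  | [], _ => by simp
  | s :: L, h => by
    obtain ⟨hs, hL⟩ := List.nodup_cons.1 h
    rw [List.map_cons, List.sum_cons, sum_ite_nodup r c L hL]
    by_cases e : s = r
    · subst e; simp [hs]
    · simp [e, Ne.symm e]

theorem atLeast_zero_one (h : Std D A) :
    D.posUnipotent F = UP F h.good (AtLeast D A 1) := by
  have e : D.posUnipotent F = UP F h.good (fun r => D.IsPosRoot r) := posUnipotent_eq h.good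
  rw [e]
  refine UP_congr h.good fun r => ⟨fun hr => ⟨hr.1, (pos_iff_ht h hr.1).1 hr⟩,
    fun hr => (pos_iff_ht h hr.1).2 hr.2⟩

theorem UP_atLeast_mono (g : Good D A) {j k : ℤ} (hjk : j ≤ k) :
    UP F g (AtLeast D A k) ≤ UP F g (AtLeast D A j) :=
  UP_le fun r t hr => xG_mem_UP g ⟨hr.1, hjk.trans hr.2⟩ t

/-- An element of height at least `k` without coefficients at height `k` has height above `k`. -/
theorem mem_succ (h : Std D A) (hchk : cartGcdChk D A = true) {k : ℤ} (hk : 1 ≤ k) {u : GL D.Idx F}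
    (hu : u ∈ UP F h.good (AtLeast D A k))
    (hz : ∀ r < D.nroots, A.ht D.rank r = k → crd D A F u r = 0) :
    u ∈ UP F h.good (AtLeast D A (k + 1)) := by
  have g := h.good
  have hU : u ∈ D.posUnipotent F := by
    rw [atLeast_zero_one h]; exact UP_atLeast_mono g hk hu
  rw [← UL_posRoots g] at hU
  obtain ⟨T, hT⟩ := exists_pw h upList_posRoots hU
  set L := D.posRoots.map fun s => (s, T s) with hL
  have hpw : u = (L.map fun p => xG g p.1 p.2).prod := by
    rw [hT, pw, hL, List.map_map]; rfl
  have below : ∀ n : ℕ, (1 : ℤ) + n ≤ k + 1 →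
      ∀ s ∈ D.posRoots, A.ht D.rank s < 1 + n → T s = 0 := by
    intro n
    induction n with
    | zero =>
      intro _ s hs hlt
      have hp := posRoots_mem.1 hs
      have := (pos_iff_ht h hp.1).1 hp
      omega
    | succ n ih =>
      intro hn s hs hlt
      have hp := posRoots_mem.1 hs
      rcases lt_or_eq_of_le (show A.ht D.rank s ≤ 1 + n by omega) with hl | he
      · exact ih (by omega) s hs hl
      set L' := L.filter fun p => decide (1 + (n : ℤ) ≤ A.ht D.rank p.1) with hL'
      have hprod : ∀ M : List (ℕ × F), (∀ p ∈ M, p ∈ L) →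
          ((M.filter fun p => decide (1 + (n : ℤ) ≤ A.ht D.rank p.1)).map fun p => xG g p.1 p.2).prod =
            (M.map fun p => xG g p.1 p.2).prod := by
        intro M hM
        induction M with
        | nil => rfl
        | cons p M ihM =>
          have ihM := ihM fun q hq => hM q (List.mem_cons_of_mem _ hq)
          obtain ⟨q, hq, rfl⟩ := List.mem_map.1 (hM p List.mem_cons_self)
          by_cases hb : 1 + (n : ℤ) ≤ A.ht D.rank q
          · simp [List.filter_cons, hb, ihM]
          · simp [List.filter_cons, hb, ihM, ih (by omega) q hq (by omega), xG_zero]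
      have hmem : ∀ p ∈ L', AtLeast D A (1 + n) p.1 := by
        intro p hp'
        obtain ⟨hp1, hp2⟩ := List.mem_filter.1 hp'
        obtain ⟨q, hq, rfl⟩ := List.mem_map.1 hp1
        exact ⟨(posRoots_mem.1 hq).1, of_decide_eq_true hp2⟩
      have hc := crd_prod g hchk (by omega) hp.1 he.le L' hmem
      rw [hL', hprod L (fun p hp => hp), ← hpw] at hc
      have hsum : ((L.filter fun p => decide (1 + (n : ℤ) ≤ A.ht D.rank p.1)).map
          fun p => if p.1 = s then p.2 else 0).sum = T s := by
        rw [hL, List.filter_map, List.map_map,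
          show (fun p : ℕ × F => if p.1 = s then p.2 else 0) ∘ (fun s => (s, T s)) =
            fun q => if q = s then T q else 0 from rfl,
          sum_ite_nodup s T _ (List.Nodup.filter _ (upList_posRoots.sorted.imp fun h => h.ne)),
          if_pos (List.mem_filter.2 ⟨hs, by simp [he]⟩)]
      rw [hsum] at hc
      rcases lt_or_eq_of_le (show 1 + (n : ℤ) ≤ k by omega) with hlk | hek
      · rw [← hc]
        unfold crd
        split_ifs with hh
        · have := (UP_htTri g hk hu).1 (Sum.inr ⟨s, hh.1⟩) (Sum.inl hh.2.choose)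
            (by show A.ht D.rank s ≤ 0 + (k - 1); omega)
          rw [this, if_neg (by simp), zero_div]
        · rfl
      · rw [← hc, hz s hp.1 (by omega)]
  rw [hT]
  refine list_prod_mem fun y hy => ?_
  obtain ⟨s, hs, rfl⟩ := List.mem_map.1 hy
  by_cases hlt : A.ht D.rank s < k + 1
  · rw [below k.toNat (by omega) s hs (by omega), xG_zero]
    exact one_mem _
  · exact xG_mem_UP g ⟨(posRoots_mem.1 hs).1, by omega⟩ _

variable (D A) in
theorem exists_ht_bound : ∃ B : ℤ, ∀ r < D.nroots, A.ht D.rank r < B := by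
  refine ⟨1 + ∑ r ∈ Finset.range D.nroots, |A.ht D.rank r|, fun r hr => ?_⟩
  have := Finset.single_le_sum (f := fun r => |A.ht D.rank r|) (fun _ _ => abs_nonneg _)
    (Finset.mem_range.2 hr)
  have := le_abs_self (A.ht D.rank r)
  omega

end CfsgLib.KnownB.ChevHeight
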