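import Cfsg.Agent.Lib.KnownB.ChevAutShape
import Cfsg.Agent.Lib.KnownB.ChevFixed
import Cfsg.Agent.Lib.KnownB.ChevHeight
import Cfsg.Agent.Lib.Chev.BNSimple

/-!
Every automorphism of a finite Chevalley group is, up to an inner automorphism, one that permutes the
fundamental root subgroups and their opposites.
-/

set_option autoImplicit false

namespace CfsgLib.KnownB.ChevAutThm

open Cfsg.Lie Matrix CfsgLib.Chev CfsgLib.KnownB.ChevField
open scoped Pointwise

variable {D : ChevalleyDatum} {A : Aux} {F : Type*} [Field F]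

/-- Root elements of a fundamental root and the opposite of another one commute. -/
noncomputable def oppChk (D : ChevalleyDatum) (A : Aux) : Bool :=
  (List.range D.rank).all fun i => (List.range D.rank).all fun m =>
    i == m || (A.terms (D.simple i) (A.neg (D.simple m))).isEmpty

theorem simple_inj (g : Good D A) {i j : ℕ} (hi : i < D.rank) (hj : j < D.rank)
    (e : D.simple i = D.simple j) : i = j := by
  by_contra hne
  have := congrArg (fun r => A.a r i) e
  simp [g.a_simple i hi i hi, g.a_simple j hj i hi, hne] at this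

theorem neg_le_group (g : Good D A) : D.negUnipotent F ≤ D.group F := by
  rw [negUnipotent_eq g]
  exact (Subgroup.closure_le _).2 (by rintro _ ⟨r, t, -, rfl⟩; exact xG_mem_group g r t)

theorem pos_inf_neg (h : Std D A) {y : GL D.Idx F} (hU : y ∈ D.posUnipotent F)
    (hV : y ∈ D.negUnipotent F) : y = 1 :=
  Subgroup.mem_bot.1 ((borel_inf_negUnipotent h).le (Subgroup.mem_inf.2 ⟨pos_le_borel hU, hV⟩))

theorem borel_conj_neg (g : Good D A) {z : GL D.Idx F}
    (hz : z ∈ D.negUnipotent F ⊔ D.diagonalSubgroup F) {v : GL D.Idx F}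
    (hv : v ∈ D.negUnipotent F) : z * v * z⁻¹ ∈ D.negUnipotent F := by
  have : D.negUnipotent F ⊔ D.diagonalSubgroup F ≤
      Subgroup.normalizer (D.negUnipotent F : Set (GL D.Idx F)) := by
    refine sup_le Subgroup.le_normalizer ?_
    rw [diagonalSubgroup_eq g]
    rintro _ ⟨c, rfl⟩
    intro w
    refine ⟨fun hw => tor_conj_negUnipotent g c hw, fun hw => ?_⟩
    have := tor_conj_negUnipotent g c⁻¹ hw
    rw [map_inv] at this
    simpa [mul_assoc] using this
  exact (Subgroup.mem_normalizer_iff.1 (this hz) v).1 hv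

/-- Conjugation by a longest element sends `V` back into `U`. -/
theorem longest_conj_back (g : Good D A) {n : GL D.Idx F} {σ : ℕ → ℕ} (hσ : Acts g n σ)
    (hw : ∀ r, D.IsPosRoot r → D.IsNegRoot (σ r)) :
    (D.negUnipotent F).map (MulAut.conj n).toMonoidHom = D.posUnipotent F := by
  have hneg : ∀ r, D.IsNegRoot r → D.IsPosRoot (σ r) := by
    intro r hr
    have hp : D.IsPosRoot (A.neg r) := by
      rcases pos_or_pos_neg g hr.1 with h | h
      · exact absurd h (not_pos_of_isNeg g hr)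
      · exact h
    have h2 := hw _ hp
    rw [hσ.map.map_neg g hr.1] at h2
    rcases pos_or_pos_neg g (hσ.map.1 r hr.1) with h | h
    · exact h
    · exact absurd h (not_pos_of_isNeg g h2)
  refine le_antisymm ?_ ?_
  · rw [negUnipotent_eq g, Subgroup.map_le_iff_le_comap]
    refine (Subgroup.closure_le _).2 ?_
    rintro y ⟨r, t, hr, rfl⟩
    obtain ⟨k, _, e⟩ := hσ.conj r hr.1
    simp only [SetLike.mem_coe, Subgroup.mem_comap, MulEquiv.coe_toMonoidHom, MulAut.conj_apply, e]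
    exact xG_mem_posUnipotent g (hneg r hr) _
  · rw [posUnipotent_eq g]
    refine (Subgroup.closure_le _).2 ?_
    rintro y ⟨r, t, hr, rfl⟩
    obtain ⟨q, hq, rfl⟩ := hσ.surj hr.1
    have hqn : D.IsNegRoot q := isNeg_of_not_pos g hq fun h => not_pos_of_isNeg g (hw q h) hr
    obtain ⟨k, hk, e⟩ := hσ.conj q hq
    exact ⟨xG g q (k⁻¹ * t), xG_mem_negUnipotent g hqn _, by
      simp only [MulEquiv.coe_toMonoidHom, MulAut.conj_apply, e, mul_inv_cancel_left₀ hk]⟩

/-- A longest element maps some fundamental root to each opposite of a fundamental root. -/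
theorem longest_simple (h : Std D A) (hadd : addChk D A = true) {n : GL D.Idx F} {σ : ℕ → ℕ}
    (hσ : Acts h.good n σ) (hw : ∀ r, D.IsPosRoot r → D.IsNegRoot (σ r)) :
    ∀ i : Fin D.rank, ∃ k : Fin D.rank, σ (D.simple k) = A.neg (D.simple i) := by
  have g := h.good
  intro i
  have hs := g.simple_lt i i.isLt
  obtain ⟨r, hr, e⟩ := hσ.surj (g.neg_lt _ hs)
  have hrp : D.IsPosRoot r := by
    rcases pos_or_pos_neg g hr with hp | hp
    · exact hp
    · have h2 := hw _ hp
      rw [hσ.map.map_neg g hr, e, g.neg_neg _ hs] at h2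
      exact absurd (simple_pos g i.isLt) (not_pos_of_isNeg g h2)
  obtain ⟨j, hj, hju⟩ := List.any_eq_true.1 (List.all_eq_true.1 hadd r (posRoots_mem.2 hrp))
  rw [List.mem_range] at hj
  rw [Bool.or_eq_true] at hju
  rcases hju with h0 | h0
  · exact ⟨⟨j, hj⟩, by rw [beq_iff_eq.1 h0, e]⟩
  exfalso
  have hp := g.simple_lt j hj
  split at h0
  · simp at h0
  rename_i e₁ l he
  rw [Bool.and_eq_true, decide_eq_true_eq] at h0
  obtain ⟨hs₁, h0⟩ := h0
  split at h0
  · simp at h0
  rename_i e' l' he'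
  rw [beq_iff_eq] at h0
  obtain ⟨u', m⟩ := e'
  simp only at h0
  subst h0
  obtain ⟨-, -, -, ha⟩ := g.chain_mem _ hp _ hs₁.1 0 u' m (by simp [he'])
  have hlin := hσ.map.lin (i := 1) (k := 1) hs₁.1 hp hr
    (fun l hl => by rw [ha l hl]; push_cast; ring)
  have hneg1 : ∀ q, D.IsPosRoot q → A.ht D.rank (σ q) ≤ -1 := by
    intro q hq
    have h2 := hw q hq
    have hlt := hσ.map.1 q hq.1
    by_contra hc
    have h3 : ¬ 0 < A.ht D.rank (σ q) := fun h0 =>
      not_pos_of_isNeg g h2 ((ChevHeight.pos_iff_ht h hlt).2 h0)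
    have hnp : D.IsPosRoot (A.neg (σ q)) :=
      (pos_or_pos_neg g hlt).resolve_left (not_pos_of_isNeg g h2)
    have h4 := (ChevHeight.pos_iff_ht h (g.neg_lt _ hlt)).1 hnp
    simp only [ChevHeight.ht_eq_sum, g.a_neg _ hlt, Finset.sum_neg_distrib] at h4 h3 hc
    omega
  have hsum : A.ht D.rank (σ u') = A.ht D.rank (σ e₁.1) + A.ht D.rank (σ (D.simple j)) := by
    simp only [ChevHeight.ht_eq_sum, ← Finset.sum_add_distrib]
    exact Finset.sum_congr rfl fun l hl => by rw [hlin l (Finset.mem_range.1 hl)]; ring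
  have hi : A.ht D.rank (σ u') = -1 := by
    rw [e, ChevHeight.ht_eq_sum, Finset.sum_eq_single i.val]
    · rw [g.a_neg _ hs, g.a_simple i i.isLt i i.isLt, if_pos rfl]
    · intro l hl hli
      rw [g.a_neg _ hs, g.a_simple i i.isLt l (Finset.mem_range.1 hl), if_neg hli, neg_zero]
    · simp
  have h1 := hneg1 _ hs₁
  have h2 := hneg1 _ (simple_pos g hj)
  omega

/-- A fundamental reflection as an element of the group. -/
noncomputable def sE (g : Good D A) (i : ℕ) : ↥(D.group F) := ⟨nS F g i, nS_mem_group g i⟩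

theorem sE_mem (h : Std D A) (i : Fin D.rank) : sE (F := F) h.good i ∈ (bnPair h).S :=
  ⟨i, i.isLt, rfl⟩

/-- A root element of `V` in the minimal parabolic over `B` is an opposite fundamental one. -/
theorem neg_in_parabolic (h : Std D A) (i : Fin D.rank) {y : ↥(D.group F)}
    (hy : y ∈ (bnPair h).parabolic {sE h.good i}) (hV : (y : GL D.Idx F) ∈ D.negUnipotent F) :
    ∃ c, (y : GL D.Idx F) = xG h.good (A.neg (D.simple i)) c := by
  have g := h.good
  have hp := g.simple_lt i i.isLt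
  have hy' : y ∈ (SetLike.coe (bnPair (F := F) h).B) ∪ BN.cell (bnPair h) (sE g i) := by
    rw [← BN.parabolic_singleton (sE_mem h i)]
    exact hy
  rcases hy' with hB | hC
  · exact ⟨0, by
      rw [xG_zero]
      exact Subgroup.mem_bot.1 ((borel_inf_negUnipotent h).le (Subgroup.mem_inf.2 ⟨hB, hV⟩))⟩
  obtain ⟨b, hb, b', hb', rfl⟩ := BN.mem_cell.1 hC
  obtain ⟨v, hv, c, hvc⟩ := (mem_borel_iff g).1 (Subgroup.mem_subgroupOf.1 hb')
  obtain ⟨v₀, hv₀, t, rfl⟩ := pos_decomp h i.isLt hv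
  obtain ⟨d, hd⟩ := monomial_conj_tor g (nS_mem_monomial g i.isLt) c
  set t' := ((chi D A c⁻¹ (D.simple i) : Fˣ) : F) * t with ht'
  have hsw : xG g (D.simple i) t * tor D A c = tor D A c * xG g (D.simple i) t' := by
    have := tor_conj_xG g c⁻¹ hp t
    rw [map_inv, inv_inv] at this
    rw [ht', ← this]
    group
  have hbB : (b : GL D.Idx F) ∈ D.borelSubgroup F := Subgroup.mem_subgroupOf.1 hb
  obtain ⟨b₁, hb₁, e⟩ : ∃ b₁ ∈ D.borelSubgroup F,
      ((b * sE g i * b' : ↥(D.group F)) : GL D.Idx F) = b₁ * ((nS F g i) * xG g (D.simple i) t') := by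
    refine ⟨(b : GL D.Idx F) * ((nS F g i) * v₀ * (nS F g i)⁻¹) * tor D A d,
      mul_mem (mul_mem hbB (pos_le_borel (UP_posBut_le g i (nS_conj_posBut h i.isLt hv₀))))
        (tor_mem_borel g d), ?_⟩
    rw [Subgroup.coe_mul, Subgroup.coe_mul, hvc, ← hd]
    show (b : GL D.Idx F) * (nS F g i) * (v₀ * xG g (D.simple i) t * tor D A c) = _
    rw [mul_assoc v₀, hsw]
    group
  rw [e] at hV ⊢
  by_cases ht : t' = 0
  · exfalso
    rw [ht, xG_zero, mul_one] at hV
    obtain ⟨n₀, hn₀, σ, hσ, hw⟩ := exists_longest (F := F) g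
    rw [← longest_conj g hσ hw] at hV
    obtain ⟨u, hu, eu⟩ := hV
    simp only [MulEquiv.coe_toMonoidHom, MulAut.conj_apply] at eu
    have e2 : b₁ * ((nS F g i) * n₀) * 1 = 1 * n₀ * u := by
      rw [mul_one, one_mul, ← mul_assoc b₁, ← eu]; group
    have := bruhat_unique h hb₁ (one_mem _) (one_mem _) (pos_le_borel hu)
      (mul_mem (nS_mem_monomial g i.isLt) hn₀) hn₀ e2
    rw [diagonalSubgroup_eq g] at this
    obtain ⟨w, hw'⟩ := this
    obtain ⟨w', hw''⟩ := monomial_conj_tor g hn₀ w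
    have hnB : (nS F g i)⁻¹ ∈ D.borelSubgroup F := by
      rw [show (nS F g i)⁻¹ = n₀ * (((nS F g i) * n₀)⁻¹ * n₀) * n₀⁻¹ by group, ← hw', hw'']
      exact tor_mem_borel g w'
    exact BN.not_mem_B (P := bnPair h) (sE_mem h i)
      (Subgroup.mem_subgroupOf.2 (by simpa [sE] using inv_mem hnB))
  -- `(nS F g i) x(t) = h⁻¹ x(-t) x_-(t⁻¹)`
  have hrk : (nS F g i) * xG g (D.simple i) t' = (hG g (D.simple i) (-t'))⁻¹ * (xG g (D.simple i) (-t') * xG g (A.neg (D.simple i)) t'⁻¹) := by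
    have h1 : nG g (D.simple i) (-t') = hG g (D.simple i) (-t') * (nS F g i) := nG_eq_hG g hp (-t')
    have h2 : nG g (D.simple i) (-t') * xG g (D.simple i) t' = xG g (D.simple i) (-t') * xG g (A.neg (D.simple i)) t'⁻¹ := by
      rw [nG, g.neg_eq (D.simple i) hp, inv_neg, neg_neg, mul_assoc, xG_add, neg_add_cancel, xG_zero, mul_one]
    rw [← h2, h1]
    group
  refine ⟨t'⁻¹, ?_⟩
  rw [hrk, ← mul_assoc, ← mul_assoc] at hV ⊢
  set q := b₁ * (hG g (D.simple i) (-t'))⁻¹ * xG g (D.simple i) (-t')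
  have hnegp : D.IsNegRoot (A.neg (D.simple i)) :=
    isNeg_of_not_pos g (g.neg_lt _ hp) fun hq => not_pos_neg g (simple_pos g i.isLt) hq
  have hq : q = 1 := by
    refine Subgroup.mem_bot.1 ((borel_inf_negUnipotent h).le (Subgroup.mem_inf.2 ⟨?_, ?_⟩))
    · refine mul_mem (mul_mem hb₁ (inv_mem ?_)) (xG_mem_borel g (simple_pos g i.isLt) _)
      exact (le_sup_right : _ ≤ D.borelSubgroup F) (hG_mem_diag g i.isLt (neg_ne_zero.2 ht))
    · have := mul_mem hV (inv_mem (xG_mem_negUnipotent g hnegp t'⁻¹))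
      rwa [mul_inv_cancel_right] at this
  rw [hq, one_mul]

theorem xNeg_mem_parabolic (h : Std D A) (i : Fin D.rank) (t : F) :
    xS h.good (A.neg (D.simple i)) t ∈ (bnPair h).parabolic {sE h.good i} := by
  have g := h.good
  have hB : (bnPair h).B ≤ (bnPair (F := F) h).parabolic {sE g i} := le_sup_left
  have hs : sE g i ∈ (bnPair (F := F) h).parabolic {sE g i} :=
    (le_sup_right : _ ≤ (bnPair (F := F) h).parabolic {sE g i}) (Subgroup.subset_closure rfl)
  have hx : xS g (D.simple i) (-t) ∈ (bnPair (F := F) h).parabolic {sE g i} :=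
    hB (Subgroup.mem_subgroupOf.2 (xG_mem_borel g (simple_pos g i.isLt) _))
  have e : xS g (A.neg (D.simple i)) t = sE g i * xS g (D.simple i) (-t) * (sE g i)⁻¹ :=
    Subtype.ext (by simp [sE, nS_conj_simple g i.isLt])
  rw [e]
  exact mul_mem (mul_mem hs hx) (inv_mem hs)

/-- An automorphism fixing `U` and `V` permutes the opposite fundamental root subgroups. -/
theorem exists_neg_perm [Finite F] (h : Std D A) {θ : MulAut ↥(D.group F)}
    (hU : ∀ y, (θ y : GL D.Idx F) ∈ D.posUnipotent F ↔ (y : GL D.Idx F) ∈ D.posUnipotent F)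
    (hV : ∀ y, (θ y : GL D.Idx F) ∈ D.negUnipotent F ↔ (y : GL D.Idx F) ∈ D.negUnipotent F) :
    ∃ π : Equiv.Perm (Fin D.rank), ∀ (i : Fin D.rank) (t : F),
      ∃ c, (θ (xS h.good (A.neg (D.simple i)) t) : GL D.Idx F) =
        xG h.good (A.neg (D.simple (π i))) c := by
  classical
  have g := h.good
  set P := bnPair (F := F) h
  have hBmem : ∀ y : ↥(D.group F), y ∈ P.B ↔ ∀ u : ↥(D.group F),
      (u : GL D.Idx F) ∈ D.posUnipotent F → ((y * u * y⁻¹ : ↥(D.group F)) : GL D.Idx F) ∈ D.posUnipotent F := by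
    intro y
    refine ⟨fun hy u hu => borel_conj_pos g (Subgroup.mem_subgroupOf.1 hy) hu, fun hy => ?_⟩
    refine Subgroup.mem_subgroupOf.2 (ChevField.mem_borel_of_conj_pos h y.2 fun u hu => ?_)
    exact hy ⟨u, posUnipotent_le_group g hu⟩ hu
  have hBθ : ∀ y, θ y ∈ P.B ↔ y ∈ P.B := by
    intro y
    rw [hBmem, hBmem]
    constructor
    · intro hy u hu
      have := hy (θ u) ((hU u).2 hu)
      rwa [← map_inv, ← map_mul, ← map_mul, hU] at this
    · intro hy u hu
      obtain ⟨u, rfl⟩ := θ.surjective u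
      rw [← map_inv, ← map_mul, ← map_mul, hU]
      exact hy u ((hU u).1 hu)
  let Pi : Fin D.rank → Subgroup ↥(D.group F) := fun i => P.parabolic {sE g i}
  have hgens : ∀ i : Fin D.rank, BN.gens P (Pi i) = {sE g i} := fun i =>
    BN.gens_parabolic (by simpa using sE_mem h i)
  have hmem : ∀ i : Fin D.rank, sE g i ∈ Pi i := fun i =>
    (le_sup_right : _ ≤ Pi i) (Subgroup.subset_closure rfl)
  have key : ∀ i : Fin D.rank, ∃ j : Fin D.rank, (Pi i).map θ.toMonoidHom = Pi j := by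
    intro i
    set M := (Pi i).map θ.toMonoidHom
    have hBM : P.B ≤ M := fun y hy => by
      obtain ⟨z, rfl⟩ := θ.surjective y
      exact ⟨z, (le_sup_left : P.B ≤ Pi i) ((hBθ z).1 hy), rfl⟩
    obtain ⟨s, hs⟩ : (BN.gens P M).Nonempty := by
      rw [Set.nonempty_iff_ne_empty]
      intro he
      have hM := BN.eq_parabolic_of_le hBM
      rw [he, Cfsg.BNPair.parabolic, Subgroup.closure_empty, sup_bot_eq] at hM
      exact BN.not_mem_B (sE_mem h i) ((hBθ _).1 (hM ▸ ⟨_, hmem i, rfl⟩ : θ (sE g i) ∈ P.B))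
    obtain ⟨j, hj, hsj⟩ := hs.1
    obtain rfl : s = sE g (⟨j, hj⟩ : Fin D.rank) := Subtype.ext hsj
    refine ⟨⟨j, hj⟩, ?_⟩
    set j' : Fin D.rank := ⟨j, hj⟩
    have hjM : Pi j' ≤ M := sup_le hBM ((Subgroup.closure_le _).2 (by simpa using hs.2))
    set K := (Pi j').comap θ.toMonoidHom
    have hBK : P.B ≤ K := fun y hy => (le_sup_left : P.B ≤ Pi j') ((hBθ y).2 hy)
    have hKi : K ≤ Pi i := fun y hy => by
      obtain ⟨z, hz, e⟩ := hjM hy
      obtain rfl := θ.injective e
      exact hz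
    have hgK : BN.gens P K = {sE g i} := by
      refine (Set.subset_singleton_iff_eq.1 fun x hx => ?_).resolve_left fun he => ?_
      · rw [← hgens i]; exact ⟨hx.1, hKi hx.2⟩
      · have hK := BN.eq_parabolic_of_le hBK
        rw [he, Cfsg.BNPair.parabolic, Subgroup.closure_empty, sup_bot_eq] at hK
        obtain ⟨z, hz⟩ := θ.surjective (sE g j')
        have hzK : z ∈ K := by rw [Subgroup.mem_comap]; exact hz.symm ▸ hmem j'
        rw [hK] at hzK
        exact BN.not_mem_B (sE_mem h j') (hz ▸ (hBθ z).2 hzK)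
    have hKeq : K = Pi i := by rw [BN.eq_parabolic_of_le hBK, hgK]
    show (Pi i).map θ.toMonoidHom = Pi j'
    rw [← hKeq, Subgroup.map_comap_eq_self_of_surjective θ.surjective]
  choose j hj using key
  have hinj : Function.Injective j := by
    intro a b e
    have h1 : Pi a = Pi b := Subgroup.map_injective θ.injective (by rw [hj, hj, e])
    have h2 := congrArg (BN.gens P) h1
    rw [hgens, hgens, Set.singleton_eq_singleton_iff] at h2
    have h3 : nS F g a = nS F g b := congrArg Subtype.val h2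
    exact Fin.ext (nS_inj h a.isLt b.isLt (by rw [h3, inv_mul_cancel]; exact one_mem _))
  refine ⟨Equiv.ofBijective j (Finite.injective_iff_bijective.1 hinj), fun i t => ?_⟩
  refine neg_in_parabolic h (j i) (y := θ (xS g (A.neg (D.simple i)) t)) ?_ ((hV _).2 ?_)
  · show θ _ ∈ Pi (j i)
    rw [← hj]
    exact ⟨_, xNeg_mem_parabolic h i t, rfl⟩
  · exact xG_mem_negUnipotent g (isNeg_of_not_pos g (g.neg_lt _ (g.simple_lt i i.isLt))
      fun hq => not_pos_neg g (simple_pos g i.isLt) hq) t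

/-- Up to an inner automorphism `U` and `V` are fixed. -/
theorem exists_fix_UV [Finite F] (h : Std D A) (θ : MulAut ↥(D.group F)) :
    ∃ x : ↥(D.group F),
      (∀ y, ((MulAut.conj x * θ) y : GL D.Idx F) ∈ D.posUnipotent F ↔
        (y : GL D.Idx F) ∈ D.posUnipotent F) ∧
      ∀ y, ((MulAut.conj x * θ) y : GL D.Idx F) ∈ D.negUnipotent F ↔
        (y : GL D.Idx F) ∈ D.negUnipotent F := by
  classical
  haveI := Fintype.ofFinite F
  obtain ⟨p, hp⟩ := CharP.exists F
  haveI : Fact p.Prime := ⟨CharP.char_is_prime F p⟩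
  haveI : Finite ↥(D.group F) := Finite.of_injective _ Subtype.val_injective
  have g := h.good
  obtain ⟨P, hP⟩ := sylow_posUnipotent (F := F) (p := p) h
  set Q := P.mapSurjective (f := θ.toMonoidHom) θ.surjective
  obtain ⟨m, hm⟩ := MulAction.exists_smul_eq ↥(D.group F) Q P
  set θ₁ := MulAut.conj m * θ with hθ₁
  have hU₁ : ∀ y, (θ₁ y : GL D.Idx F) ∈ D.posUnipotent F ↔ (y : GL D.Idx F) ∈ D.posUnipotent F := by
    intro y
    have e : (P : Subgroup ↥(D.group F)).map θ₁.toMonoidHom = (P : Subgroup ↥(D.group F)) := by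
      conv_rhs => rw [← hm, Sylow.coe_subgroup_smul]
      show _ = MulAut.conj m • ((P : Subgroup ↥(D.group F)).map θ.toMonoidHom)
      rw [Subgroup.pointwise_smul_def]
      exact ((P : Subgroup ↥(D.group F)).map_map (MulAut.conj m).toMonoidHom θ.toMonoidHom).symm
    have h1 := Subgroup.mem_map_iff_mem (f := θ₁.toMonoidHom) θ₁.injective
      (K := (P : Subgroup ↥(D.group F))) (x := y)
    rw [e, hP, Subgroup.mem_subgroupOf, Subgroup.mem_subgroupOf] at h1
    exact h1
  obtain ⟨n₀, hn₀, σ₀, hσ₀, hw₀⟩ := exists_longest (F := F) g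
  set N₀ : ↥(D.group F) := ⟨n₀, monomialSubgroup_le_group g hn₀⟩
  have hVmem : ∀ y : ↥(D.group F), (y : GL D.Idx F) ∈ D.negUnipotent F ↔
      ((N₀⁻¹ * y * N₀ : ↥(D.group F)) : GL D.Idx F) ∈ D.posUnipotent F := by
    intro y
    rw [← longest_conj g hσ₀ hw₀, Subgroup.mem_map_equiv, MulAut.conj_symm_apply]
    simp [N₀]
  set M := θ₁ N₀
  obtain ⟨b, hb, n, hn, σ, hσ, u, hu, e⟩ := normal_form_exists h M.2
  have huU := UP_toNeg_le g σ hu
  have hall : ∀ r, D.IsPosRoot r → D.IsNegRoot (σ r) := by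
    intro r hr
    refine isNeg_of_not_pos g (hσ.map.1 r hr.1) fun hpos => ?_
    obtain ⟨k, hk, ek⟩ := hσ.conj r hr.1
    set w : ↥(D.group F) := ⟨u⁻¹ * xG g r 1 * u, mul_mem (mul_mem
      (inv_mem (posUnipotent_le_group g huU)) (xG_mem_group g r 1)) (posUnipotent_le_group g huU)⟩
    have hwU : (w : GL D.Idx F) ∈ D.posUnipotent F :=
      mul_mem (mul_mem (inv_mem huU) (xG_mem_posUnipotent g hr 1)) huU
    have hzU : ((M * w * M⁻¹ : ↥(D.group F)) : GL D.Idx F) ∈ D.posUnipotent F := by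
      rw [Subgroup.coe_mul, Subgroup.coe_mul, Subgroup.coe_inv, e]
      show b * n * u * (u⁻¹ * xG g r 1 * u) * (b * n * u)⁻¹ ∈ _
      rw [show b * n * u * (u⁻¹ * xG g r 1 * u) * (b * n * u)⁻¹ =
        b * (n * xG g r 1 * n⁻¹) * b⁻¹ by group, ek]
      exact borel_conj_pos g hb (xG_mem_posUnipotent g hpos _)
    obtain ⟨y, hy⟩ := θ₁.surjective (M * w * M⁻¹)
    have hyU := (hU₁ y).1 (by rw [hy]; exact hzU)
    have hyV : (y : GL D.Idx F) ∈ D.negUnipotent F := by
      rw [hVmem]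
      refine (hU₁ _).1 ?_
      rw [map_mul, map_mul, map_inv, hy, show M⁻¹ * (M * w * M⁻¹) * M = w by group]
      exact hwU
    obtain rfl : y = 1 := Subtype.ext (pos_inf_neg h hyU hyV)
    rw [map_one] at hy
    have hw1 : w = 1 := by
      have := hy.symm
      rwa [mul_inv_eq_one, mul_eq_left] at this
    have h2 := congrArg Subtype.val hw1
    simp only [w, Subgroup.coe_one] at h2
    rw [mul_assoc, inv_mul_eq_one, eq_comm, mul_eq_right] at h2
    exact one_ne_zero (xG_eq_one h hr.1 h2)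
  have hUV := longest_conj g hσ hall
  set B₁ : ↥(D.group F) := ⟨b, borel_le_group g hb⟩
  refine ⟨B₁⁻¹ * m, fun y => ?_, fun y => ?_⟩
  · rw [map_mul, mul_assoc, ← hθ₁, MulAut.mul_apply, MulAut.conj_apply, inv_inv, Subgroup.coe_mul,
      Subgroup.coe_mul, Subgroup.coe_inv, ← hU₁]
    refine ⟨fun hy => ?_, fun hy => ?_⟩
    · have := borel_conj_pos g hb hy
      simpa [B₁, mul_assoc] using this
    · have := borel_conj_pos g (inv_mem hb) hy
      simpa [B₁, mul_assoc] using this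
  · rw [map_mul, mul_assoc, ← hθ₁, MulAut.mul_apply, MulAut.conj_apply, inv_inv, Subgroup.coe_mul,
      Subgroup.coe_mul, Subgroup.coe_inv, hVmem, ← hU₁, map_mul, map_mul, map_inv, Subgroup.coe_mul,
      Subgroup.coe_mul, Subgroup.coe_inv]
    show b⁻¹ * (θ₁ y : GL D.Idx F) * b ∈ D.negUnipotent F ↔
      (M : GL D.Idx F)⁻¹ * (θ₁ y : GL D.Idx F) * (M : GL D.Idx F) ∈ D.posUnipotent F
    rw [e, ← hUV, Subgroup.mem_map_equiv, MulAut.conj_symm_apply,
      show (b * n * u)⁻¹ * (θ₁ y : GL D.Idx F) * (b * n * u) =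
        u⁻¹ * (n⁻¹ * (b⁻¹ * (θ₁ y : GL D.Idx F) * b) * n) * u by group]
    exact ⟨fun hy => mul_mem (mul_mem (inv_mem huU) hy) huU, fun hy => by
      have := mul_mem (mul_mem huU hy) (inv_mem huU)
      rwa [show u * (u⁻¹ * (n⁻¹ * (b⁻¹ * (θ₁ y : GL D.Idx F) * b) * n) * u) * u⁻¹ =
        n⁻¹ * (b⁻¹ * (θ₁ y : GL D.Idx F) * b) * n by group] at this⟩

/-- Every automorphism has a shape up to an inner automorphism. -/
theorem exists_shape [Finite F] (h : Std D A) (hadd : addChk D A = true)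
    (hopp : oppChk D A = true) (θ : MulAut ↥(D.group F)) :
    ∃ (x : ↥(D.group F)) (π : Equiv.Perm (Fin D.rank)), HasShape h.good (MulAut.conj x * θ) π := by
  classical
  have g := h.good
  obtain ⟨x, hU, hV⟩ := exists_fix_UV h θ
  set φ := MulAut.conj x * θ
  obtain ⟨π, hπ⟩ := exists_neg_perm h hU hV
  obtain ⟨n, hn, σ, hσ, hw⟩ := exists_longest (F := F) g
  set N : ↥(D.group F) := ⟨n, monomialSubgroup_le_group g hn⟩
  set ψ := MulAut.conj N⁻¹ * φ * MulAut.conj N
  have hψ : ∀ y, ψ y = N⁻¹ * φ (N * y * N⁻¹) * N := fun y => by simp [ψ, mul_assoc]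
  have hUV := longest_conj g hσ hw
  have hVU := longest_conj_back g hσ hw
  have hUm : ∀ y : ↥(D.group F), ((N * y * N⁻¹ : ↥(D.group F)) : GL D.Idx F) ∈ D.negUnipotent F ↔
      (y : GL D.Idx F) ∈ D.posUnipotent F := fun y => by
    rw [← hUV, Subgroup.mem_map_equiv, MulAut.conj_symm_apply]
    simp [N, mul_assoc]
  have hVm : ∀ y : ↥(D.group F), ((N * y * N⁻¹ : ↥(D.group F)) : GL D.Idx F) ∈ D.posUnipotent F ↔
      (y : GL D.Idx F) ∈ D.negUnipotent F := fun y => by
    rw [← hVU, Subgroup.mem_map_equiv, MulAut.conj_symm_apply]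
    simp [N, mul_assoc]
  obtain ⟨π₂, hπ₂⟩ := exists_neg_perm h (θ := ψ)
    (fun y => by
      rw [hψ, ← hUm, show N * (N⁻¹ * φ (N * y * N⁻¹) * N) * N⁻¹ = φ (N * y * N⁻¹) by group, hV, hUm])
    (fun y => by
      rw [hψ, ← hVm, show N * (N⁻¹ * φ (N * y * N⁻¹) * N) * N⁻¹ = φ (N * y * N⁻¹) by group, hU, hVm])
  have hk := longest_simple h hadd hσ hw
  choose k hk using hk
  have hkb : Function.Bijective k := Finite.injective_iff_bijective.1 fun a b e => by
    have h1 : A.neg (D.simple a) = A.neg (D.simple b) := by rw [← hk, ← hk, e]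
    have h2 := congrArg A.neg h1
    rw [g.neg_neg _ (g.simple_lt a a.isLt), g.neg_neg _ (g.simple_lt b b.isLt)] at h2
    exact Fin.ext (simple_inj g a.isLt b.isLt h2)
  have hsm : ∀ i : Fin D.rank, σ (A.neg (D.simple (k i))) = D.simple i := fun i => by
    rw [hσ.map.map_neg g (g.simple_lt _ (k i).isLt), hk, g.neg_neg _ (g.simple_lt i i.isLt)]
  have hpos : ∀ i : Fin D.rank, ∃ j : Fin D.rank, ∀ t, ∃ c,
      (φ (xS g (D.simple i) t) : GL D.Idx F) = xG g (D.simple j) c := by
    intro i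
    obtain ⟨j, hj⟩ := hkb.2 (π₂ (k i))
    refine ⟨j, fun t => ?_⟩
    have hr := g.neg_lt _ (g.simple_lt _ (k i).isLt)
    obtain ⟨κ, hκ, eκ⟩ := hσ.conj _ hr
    rw [hsm] at eκ
    obtain ⟨c, hc⟩ := hπ₂ (k i) (κ⁻¹ * t)
    rw [hψ, show N * xS g (A.neg (D.simple (k i))) (κ⁻¹ * t) * N⁻¹ = xS g (D.simple i) t from
      Subtype.ext (by simp [N, eκ, mul_inv_cancel_left₀ hκ]), Subgroup.coe_mul, Subgroup.coe_mul,
      Subgroup.coe_inv] at hc
    obtain ⟨κ', -, eκ'⟩ := hσ.conj _ (g.neg_lt _ (g.simple_lt _ (k j).isLt))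
    rw [hsm] at eκ'
    refine ⟨κ' * c, ?_⟩
    rw [← eκ' c, hj, ← hc]
    simp [N, mul_assoc]
  choose j hj using hpos
  choose f hf using hj
  choose f' hf' using hπ
  refine ⟨x, π, f, f', fun i t => ?_, fun i t => hf' i t⟩
  suffices j i = π i by rw [← this]; exact hf i t
  by_contra hne
  obtain ⟨m, hm⟩ := π.surjective (j i)
  have hmi : i ≠ m := fun e => hne (by rw [← hm, e])
  have hsi := g.simple_lt i i.isLt
  have hsm' := g.simple_lt m m.isLt
  have hterm : A.terms (D.simple i) (A.neg (D.simple m)) = [] := by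
    have := List.all_eq_true.1 (List.all_eq_true.1 hopp i (List.mem_range.2 i.isLt)) m
      (List.mem_range.2 m.isLt)
    simpa [Fin.val_ne_of_ne hmi] using this
  have hne1 : A.neg (D.simple m) ≠ D.simple i := fun e =>
    not_pos_neg g (simple_pos g m.isLt) (e ▸ simple_pos g i.isLt)
  have hne2 : A.neg (D.simple m) ≠ A.neg (D.simple i) := fun e => hmi (Fin.ext (simple_inj g i.isLt
    m.isLt (by rw [← g.neg_neg _ hsi, ← e, g.neg_neg _ hsm'])))
  have hcomm := commute_xG h hsi (g.neg_lt _ hsm') hne1 hne2 (by simp [hterm]) (1 : F) 1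
  have h1 : xS g (A.neg (D.simple m)) (1 : F) * xS g (D.simple i) 1 =
      xS g (D.simple i) 1 * xS g (A.neg (D.simple m)) 1 := Subtype.ext hcomm
  have h2 := congrArg (fun y => (φ y : GL D.Idx F)) h1
  simp only [map_mul, Subgroup.coe_mul, hf, hf', hm] at h2
  have hne' : ∀ (r : ℕ), r < D.nroots → ∀ c, (φ (xS g r (1 : F)) : GL D.Idx F) = xG g c 0 → False := by
    intro r hr c e
    rw [xG_zero] at e
    have : xS g r (1 : F) = 1 := φ.injective (by rw [map_one]; exact Subtype.ext e)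
    exact one_ne_zero (xG_eq_one h hr (congrArg Subtype.val this))
  have hs : f' m 1 ≠ 0 := fun e => hne' _ (g.neg_lt _ hsm') _ (by rw [hf', e])
  have hd := opp_conj_trivial h (j i).isLt (d := f i 1) hs (e := f' m 1)
    (by rw [← h2, mul_inv_cancel_right])
  exact hne' _ hsi _ (by rw [hf, hd])

end CfsgLib.KnownB.ChevAutThm
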