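import Cfsg.Agent.Lib.KnownB.ChevAutGraph
import Cfsg.Agent.Lib.Chev.OrderTypes

/-!
The group of outer automorphisms of the Chevalley groups: orders and structure.
-/

set_option autoImplicit false

namespace CfsgLib.KnownB.ChevAutThm

open Cfsg.Lie CfsgLib.Chev CfsgLib.KnownB.ChevField
open scoped commutatorElement

variable {D : ChevalleyDatum} {A : Aux} {F : Type*} [Field F]

theorem range_eq_two [Finite F] (h : Std D A) (dt : AutData D A) {π : Equiv.Perm (Fin D.rank)}
    (hne : π ≠ 1) (hlen : (prefixes D A D.rank).length ≤ 2) {ψ : MulAut ↥(D.group F)}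
    (hψ : IsGraphPerm h.good ψ π) : Nat.card (outPerm (F := F) h dt).range = 2 := by
  refine le_antisymm ((card_range_le h dt).trans hlen) ?_
  refine Finite.one_lt_card_iff_nontrivial.2 ⟨⟨π, graph_mem_range h dt hψ⟩, 1, fun e => hne ?_⟩
  exact congrArg Subtype.val e

theorem range_eq_one [Finite F] (h : Std D A) (dt : AutData D A)
    (hlen : (prefixes D A D.rank).length ≤ 1) : Nat.card (outPerm (F := F) h dt).range = 1 :=
  le_antisymm ((card_range_le h dt).trans hlen) Nat.card_pos

/-- A graph automorphism forces the characteristic. -/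
theorem graph_char [Finite F] (h : Std D A) (dt : AutData D A) {π : Equiv.Perm (Fin D.rank)}
    {ψ : MulAut ↥(D.group F)} (hψ : IsGraphPerm h.good ψ π) {q : ℕ}
    (hchk : ∀ c < 4, expAt D A (nodes π) c = true → c = q) (hq : q ≠ 1) : ringChar F = q := by
  obtain ⟨k, k', hS⟩ := hasShape_dgf h.good dt.add (1 : Fin D.rank → Fˣ) hψ (1 : F ≃+* F)
  obtain ⟨c, hc, he, hp⟩ := hS.char_forced h dt
  obtain rfl := hchk c hc he
  exact hp.resolve_left hq

/-- The symmetries other than the identity need the given characteristic. -/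
theorem range_eq_one_of_char [Finite F] (h : Std D A) (dt : AutData D A) {q : ℕ} (hq : q ≠ 1)
    (hchar : ringChar F ≠ q)
    (hchk : ∀ p ∈ prefixes D A D.rank, p ≠ List.range D.rank → ∀ c < 4, expAt D A p c = true → c = q) :
    Nat.card (outPerm (F := F) h dt).range = 1 := by
  rw [Subgroup.card_eq_one, Subgroup.eq_bot_iff_forall]
  intro π hπ
  obtain ⟨ψ, hψ⟩ := range_diagram h dt hπ
  by_contra hne
  refine hchar (graph_char h dt hψ (hchk _ (nodes_mem h.good hψ.1) fun e => hne ?_) hq)
  exact Equiv.ext fun i => Fin.ext (by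
    rw [← nodes_getD π i, e]
    simp [List.getD_eq_getElem?_getD])

/-- A list of products of two permutations of the nodes of D₄. -/
def permsD4 : List (Equiv.Perm (Fin chevD4.rank)) :=
  [1, symD4b, symD4b * symD4b, symD4a, symD4a * symD4b, symD4a * (symD4b * symD4b)]

theorem len_D4 : (prefixes chevD4 auxD4 chevD4.rank).length = 6 := by decide +kernel
theorem len_E6 : (prefixes chevE6 auxE6 chevE6.rank).length = 2 := by decide +kernel
theorem len_E7 : (prefixes chevE7 auxE7 chevE7.rank).length = 1 := by decide +kernel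
theorem len_E8 : (prefixes chevE8 auxE8 chevE8.rank).length = 1 := by decide +kernel
theorem len_F4 : (prefixes chevF4 auxF4 chevF4.rank).length = 2 := by decide +kernel
theorem len_G2 : (prefixes chevG2 auxG2 chevG2.rank).length = 2 := by decide +kernel
theorem len_B2 : (prefixes chevB2 auxB2 chevB2.rank).length = 2 := by decide +kernel

theorem range_D4 [Finite F] : Nat.card (outPerm (F := F) stdD4 autData_D4).range = 6 ∧
    ∃ a b : ↥(outPerm (F := F) stdD4 autData_D4).range, a * b ≠ b * a := by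
  classical
  obtain ⟨ψ, hψ⟩ := exists_graph_D4a (F := F)
  obtain ⟨φ, hφ⟩ := exists_graph_D4b (F := F)
  have ha := graph_mem_range stdD4 autData_D4 hψ
  have hb := graph_mem_range stdD4 autData_D4 hφ
  have hne : symD4a * symD4b ≠ symD4b * symD4a := by decide +kernel
  refine ⟨le_antisymm ((card_range_le stdD4 autData_D4).trans len_D4.le) ?_,
    ⟨_, ha⟩, ⟨_, hb⟩, fun e => hne (congrArg Subtype.val e)⟩
  have hsub : ∀ x ∈ permsD4.toFinset, x ∈ (outPerm (F := F) stdD4 autData_D4).range := by
    intro x hx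
    simp only [permsD4, List.mem_toFinset, List.mem_cons, List.not_mem_nil, or_false] at hx
    rcases hx with rfl | rfl | rfl | rfl | rfl | rfl
    exacts [one_mem _, hb, mul_mem hb hb, ha, mul_mem ha hb, mul_mem ha (mul_mem hb hb)]
  calc (6 : ℕ) = permsD4.toFinset.card := (by decide +kernel)
    _ = Nat.card ↥permsD4.toFinset := (Nat.card_eq_finsetCard _).symm
    _ ≤ _ := Nat.card_le_card_of_injective (fun x => (⟨x.1, hsub x.1 x.2⟩ :
        ↥(outPerm (F := F) stdD4 autData_D4).range))
      fun a b e => Subtype.ext (congrArg (fun z => z.1) e)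

theorem out_range_cases [Finite F] (hD : D ∈ [chevG2, chevB2, chevD4, chevF4, chevE6, chevE7, chevE8]) :
    ∃ (A : Aux) (h : Std D A) (dt : AutData D A),
      Nat.card (outPerm (F := F) h dt).range = 1 ∨ Nat.card (outPerm (F := F) h dt).range = 2 ∨
        (Nat.card (outPerm (F := F) h dt).range = 6 ∧
          ∃ a b : ↥(outPerm (F := F) h dt).range, a * b ≠ b * a) := by
  simp only [List.mem_cons, List.not_mem_nil, or_false] at hD
  rcases hD with rfl | rfl | rfl | rfl | rfl | rfl | rfl
  · have := (card_range_le (F := F) stdG2 autData_G2).trans len_G2.le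
    have := Nat.card_pos (α := (outPerm (F := F) stdG2 autData_G2).range)
    exact ⟨_, stdG2, autData_G2, by omega⟩
  · have := (card_range_le (F := F) stdB2 autData_B2).trans len_B2.le
    have := Nat.card_pos (α := (outPerm (F := F) stdB2 autData_B2).range)
    exact ⟨_, stdB2, autData_B2, by omega⟩
  · exact ⟨_, stdD4, autData_D4, Or.inr (Or.inr range_D4)⟩
  · have := (card_range_le (F := F) stdF4 autData_F4).trans len_F4.le
    have := Nat.card_pos (α := (outPerm (F := F) stdF4 autData_F4).range)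
    exact ⟨_, stdF4, autData_F4, by omega⟩
  · have := (card_range_le (F := F) stdE6 autData_E6).trans len_E6.le
    have := Nat.card_pos (α := (outPerm (F := F) stdE6 autData_E6).range)
    exact ⟨_, stdE6, autData_E6, by omega⟩
  · exact ⟨_, stdE7, autData_E7, Or.inl (range_eq_one stdE7 autData_E7 len_E7.le)⟩
  · exact ⟨_, stdE8, autData_E8, Or.inl (range_eq_one stdE8 autData_E8 len_E8.le)⟩

/-- The structure of the group of outer automorphisms. -/
theorem out_structure [Finite F] (hD : D ∈ [chevG2, chevB2, chevD4, chevF4, chevE6, chevE7, chevE8])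
    (Dbar Fbar : Subgroup (Cfsg.Out ↥(D.group F)))
    (hDbar : Dbar = (Subgroup.closure {φ : MulAut ↥(D.group F) | D.IsDiagonalAut φ}).map
      (QuotientGroup.mk' (Cfsg.Inn ↥(D.group F))))
    (hFbar : Fbar = (Subgroup.closure {φ : MulAut ↥(D.group F) | D.IsFieldAut φ}).map
      (QuotientGroup.mk' (Cfsg.Inn ↥(D.group F)))) :
    Dbar.Normal ∧ IsMulCommutative ↥Dbar ∧ IsCyclic ↥Fbar ∧ (Dbar ⊔ Fbar).Normal ∧
      ((Dbar ⊔ Fbar).index = 1 ∨ (Dbar ⊔ Fbar).index = 2 ∨
        ((Dbar ⊔ Fbar).index = 6 ∧ ¬ commutator (Cfsg.Out ↥(D.group F)) ≤ Dbar ⊔ Fbar)) := by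
  haveI := Fintype.ofFinite F
  obtain ⟨A, h, dt, hr⟩ := out_range_cases (F := F) hD
  rw [diag_closure h dt] at hDbar
  rw [field_closure h] at hFbar
  subst hDbar hFbar
  have hcyc : IsCyclic (F ≃+* F) := by
    obtain ⟨p, hp⟩ := CharP.exists F
    obtain ⟨k, hk, hk'⟩ := FiniteField.card F p
    haveI := Fact.mk hk
    exact CfsgLib.KnownB.PSLAut.isCyclic_gal (F := F) k.pos hk'
  refine ⟨dOut_normal h dt, ?_, ?_, ?_, ?_⟩
  · infer_instance
  · exact isCyclic_of_surjective _ (fOut (F := F) h).rangeRestrict_surjective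
  · rw [← outPerm_ker h dt]; infer_instance
  · rw [← outPerm_ker h dt, Subgroup.index_ker]
    refine hr.imp id (Or.imp id fun h6 => ⟨h6.1, fun hle => ?_⟩)
    obtain ⟨⟨a, y, rfl⟩, ⟨b, z, rfl⟩, hne⟩ := h6.2
    refine hne (Subtype.ext ?_)
    have h1 : ⁅y, z⁆ ∈ (outPerm (F := F) h dt).ker :=
      hle (Subgroup.commutator_mem_commutator (Subgroup.mem_top y) (Subgroup.mem_top z))
    rw [MonoidHom.mem_ker, map_commutatorElement, commutatorElement_eq_one_iff_mul_comm] at h1
    exact h1

theorem card_aut_field [Fintype F] (p f : ℕ) [Fact p.Prime] [CharP F p]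
    (hF : Fintype.card F = p ^ f) : Nat.card (F ≃+* F) = f := by
  refine CfsgLib.KnownB.PSLAut.card_gal ?_ hF
  rcases Nat.eq_zero_or_pos f with rfl | hf
  · have := Fintype.one_lt_card (α := F)
    rw [hF, pow_zero] at this
    omega
  · exact hf

theorem out_G2 [Fintype F] (p f : ℕ) [Fact p.Prime] [CharP F p] (hF : Fintype.card F = p ^ f) :
    Nat.card (Cfsg.Out ↥(chevG2.group F)) = if p = 3 then 2 * f else f := by
  have hc : (mHom F (cartanM chevG2 auxG2)).range.index = 1 := by
    rw [cartan_index stdG2.good smithG2]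
    simp [chevG2, Fin.prod_univ_two]
  rw [card_out stdG2 autData_G2, card_aut_field p f hF, hc]
  split_ifs with hp
  · subst hp
    obtain ⟨ψ, hψ⟩ := exists_graph_G2 (F := F)
    rw [range_eq_two stdG2 autData_G2 (by decide +kernel) len_G2.le hψ, one_mul]
  · rw [range_eq_one_of_char stdG2 autData_G2 (q := 3) (by omega) (by rwa [ringChar.eq F p])
      (by decide +kernel), one_mul, one_mul]

theorem out_F4 [Fintype F] (p f : ℕ) [Fact p.Prime] [CharP F p] (hF : Fintype.card F = p ^ f) :
    Nat.card (Cfsg.Out ↥(chevF4.group F)) = Nat.gcd 2 p * f := by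
  have hc : (mHom F (cartanM chevF4 auxF4)).range.index = 1 := by
    rw [cartan_index stdF4.good smithF4]
    show ∏ i : Fin 4, Nat.gcd ((![1, 1, 1, 1] : Fin 4 → ℕ) i) (Fintype.card F - 1) = 1
    simp [Fin.prod_univ_succ]
  rw [card_out stdF4 autData_F4, card_aut_field p f hF, hc, one_mul]
  rcases eq_or_ne p 2 with rfl | hp
  · obtain ⟨ψ, hψ⟩ := exists_graph_F4 (F := F)
    rw [range_eq_two stdF4 autData_F4 (by decide +kernel) len_F4.le hψ]
    rfl
  · rw [range_eq_one_of_char stdF4 autData_F4 (q := 2) (by omega) (by rwa [ringChar.eq F p])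
      (by decide +kernel), Nat.Coprime.gcd_eq_one
      ((Nat.coprime_primes Nat.prime_two Fact.out).2 (Ne.symm hp))]

theorem out_E6 [Fintype F] (p f : ℕ) [Fact p.Prime] [CharP F p] (hF : Fintype.card F = p ^ f) :
    Nat.card (Cfsg.Out ↥(chevE6.group F)) = 2 * Nat.gcd 3 (p ^ f - 1) * f := by
  have hc : (mHom F (cartanM chevE6 auxE6)).range.index = Nat.gcd 3 (p ^ f - 1) := by
    rw [cartan_index stdE6.good smithE6, ← hF]
    show ∏ i : Fin 6, Nat.gcd ((![1, 1, 1, 1, 1, 3] : Fin 6 → ℕ) i) (Fintype.card F - 1) = Nat.gcd 3 (Fintype.card F - 1)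
    simp [Fin.prod_univ_succ]
  obtain ⟨ψ, hψ⟩ := exists_graph_E6 (F := F)
  rw [card_out stdE6 autData_E6, card_aut_field p f hF, hc,
    range_eq_two stdE6 autData_E6 (by decide +kernel) len_E6.le hψ, mul_assoc]

theorem out_E7 [Fintype F] (p f : ℕ) [Fact p.Prime] [CharP F p] (hF : Fintype.card F = p ^ f) :
    Nat.card (Cfsg.Out ↥(chevE7.group F)) = Nat.gcd 2 (p ^ f - 1) * f := by
  have hc : (mHom F (cartanM chevE7 auxE7)).range.index = Nat.gcd 2 (p ^ f - 1) := by
    rw [cartan_index stdE7.good smithE7, ← hF]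
    show ∏ i : Fin 7, Nat.gcd ((![1, 1, 1, 1, 1, 1, 2] : Fin 7 → ℕ) i) (Fintype.card F - 1) = Nat.gcd 2 (Fintype.card F - 1)
    simp [Fin.prod_univ_succ]
  rw [card_out stdE7 autData_E7, card_aut_field p f hF, hc,
    range_eq_one stdE7 autData_E7 len_E7.le, one_mul]

theorem out_E8 [Fintype F] (p f : ℕ) [Fact p.Prime] [CharP F p] (hF : Fintype.card F = p ^ f) :
    Nat.card (Cfsg.Out ↥(chevE8.group F)) = f := by
  have hc : (mHom F (cartanM chevE8 auxE8)).range.index = 1 := by
    rw [cartan_index stdE8.good smithE8]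
    show ∏ i : Fin 8, Nat.gcd ((![1, 1, 1, 1, 1, 1, 1, 1] : Fin 8 → ℕ) i) (Fintype.card F - 1) = 1
    simp [Fin.prod_univ_succ]
  rw [card_out stdE8 autData_E8, card_aut_field p f hF, hc,
    range_eq_one stdE8 autData_E8 len_E8.le, one_mul, one_mul]

end CfsgLib.KnownB.ChevAutThm
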