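import Cfsg.Agent.Lib.KnownB.ChevAutChk

/-!
The checks behind the automorphism theorem for each type.
-/

set_option autoImplicit false

namespace CfsgLib.KnownB.ChevAutThm

open Cfsg.Lie CfsgLib.Chev CfsgLib.KnownB.ChevField

theorem autData_G2 : AutData chevG2 auxG2 :=
  ⟨by decide, addChk_G2, by decide +kernel, ⟨_, coxG2, by decide +kernel⟩, by decide +kernel⟩

theorem autData_B2 : AutData chevB2 auxB2 :=
  ⟨by decide, addChk_B2, by decide +kernel, ⟨_, coxB2, by decide +kernel⟩, by decide +kernel⟩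

theorem autData_D4 : AutData chevD4 auxD4 :=
  ⟨by decide, addChk_D4, by decide +kernel, ⟨_, coxD4, by decide +kernel⟩, by decide +kernel⟩

theorem autData_F4 : AutData chevF4 auxF4 :=
  ⟨by decide, addChk_F4, by decide +kernel, ⟨_, coxF4, by decide +kernel⟩, by decide +kernel⟩

theorem autData_E6 : AutData chevE6 auxE6 :=
  ⟨by decide, addChk_E6, by decide +kernel, ⟨_, coxE6, by decide +kernel⟩, by decide +kernel⟩

theorem autData_E7 : AutData chevE7 auxE7 :=
  ⟨by decide, addChk_E7, by decide +kernel, ⟨_, coxE7, by decide +kernel⟩, by decide +kernel⟩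

theorem autData_E8 : AutData chevE8 auxE8 :=
  ⟨by decide, addChk_E8, by decide +kernel, ⟨_, coxE8, by decide +kernel⟩, by decide +kernel⟩

theorem exists_autData {D : ChevalleyDatum}
    (hD : D ∈ [chevG2, chevB2, chevD4, chevF4, chevE6, chevE7, chevE8]) :
    ∃ A, Std D A ∧ AutData D A := by
  simp only [List.mem_cons, List.not_mem_nil, or_false] at hD
  rcases hD with rfl | rfl | rfl | rfl | rfl | rfl | rfl
  exacts [⟨_, stdG2, autData_G2⟩, ⟨_, stdB2, autData_B2⟩, ⟨_, stdD4, autData_D4⟩,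
    ⟨_, stdF4, autData_F4⟩, ⟨_, stdE6, autData_E6⟩, ⟨_, stdE7, autData_E7⟩, ⟨_, stdE8, autData_E8⟩]

end CfsgLib.KnownB.ChevAutThm
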