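import Cfsg.Agent.Lib.Chev.BN2
import Cfsg.Agent.Lib.Chev.Types
import Cfsg.Agent.Lib.KnownB.PSLAut.Descent
import Cfsg.Agent.Lib.KnownB.PSLAut.Out
import Cfsg.Prelude.Def_ChevAutomorphisms

/-!
Fixed points of field automorphisms of the Chevalley groups with unimodular Cartan matrix: by uniqueness
of the Bruhat normal form a fixed element has all its coordinates in the fixed field.
-/

set_option autoImplicit false

namespace CfsgLib.KnownB.ChevField

open Cfsg.Lie Matrix CfsgLib.Chev CfsgLib.KnownB.Descent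

variable {D : ChevalleyDatum} {A : Aux} {K L : Type*} [Field K] [Field L]

theorem xMat_map (f : K →+* L) (r : Fin D.nroots) (t : K) :
    (D.xMat K r t).map f = D.xMat L r (f t) := by
  ext row col
  rcases col with i | s <;> rcases row with i' | u <;>
    simp only [ChevalleyDatum.xMat, Matrix.map_apply, Matrix.of_apply] <;> split_ifs <;>
    simp [map_list_sum, Function.comp_def, *]

theorem map_xG (g : Good D A) (f : K →+* L) (r : ℕ) (t : K) :
    Matrix.GeneralLinearGroup.map f (xG g r t) = xG g r (f t) := by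
  apply Units.ext
  show ((xG g r t : GL D.Idx K) : Matrix D.Idx D.Idx K).map f = _
  rw [xG_val, xG_val]
  unfold ChevalleyDatum.x
  split_ifs with h
  · exact xMat_map f _ t
  · exact Matrix.map_one f f.map_zero f.map_one

theorem map_nG (g : Good D A) (f : K →+* L) (r : ℕ) (c : K) :
    Matrix.GeneralLinearGroup.map f (nG g r c) = nG g r (f c) := by
  simp [nG, map_xG, map_inv₀]

theorem map_nS (g : Good D A) (f : K →+* L) (i : ℕ) :
    Matrix.GeneralLinearGroup.map f (nS K g i) = nS L g i := by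
  rw [nS, nS, map_nG, map_one]

theorem map_chi (f : K →+* L) (c : Fin D.rank → Kˣ) (s : ℕ) :
    Units.map (f : K →* L) (chi D A c s) = chi D A (fun i => Units.map (f : K →* L) (c i)) s := by
  simp [chi, map_prod, map_zpow]

theorem map_tor (f : K →+* L) (c : Fin D.rank → Kˣ) :
    Matrix.GeneralLinearGroup.map f (tor D A c) =
      tor D A fun i => Units.map (f : K →* L) (c i) := by
  apply Units.ext
  show ((tor D A c : GL D.Idx K) : Matrix D.Idx D.Idx K).map f = _
  rw [tor_val, tor_val, dia, dia, Matrix.diagonal_map f.map_zero]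
  congr 1
  funext x
  rcases x with j | s
  · exact f.map_one
  · exact congrArg Units.val (map_chi f c s.val)

theorem map_pw (g : Good D A) (f : K →+* L) (M : List ℕ) (T : ℕ → K) :
    Matrix.GeneralLinearGroup.map f (pw g M T) = pw g M fun r => f (T r) := by
  simp [pw, map_list_prod, Function.comp_def, map_xG]

theorem group_map_le (g : Good D A) (f : K →+* L) :
    (D.group K).map (Matrix.GeneralLinearGroup.map f) ≤ D.group L := by
  rw [Subgroup.map_le_iff_le_comap, group_eq g]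
  refine (Subgroup.closure_le _).2 ?_
  rintro _ ⟨r, t, -, rfl⟩
  show Matrix.GeneralLinearGroup.map f (xG g r t) ∈ D.group L
  rw [map_xG]
  exact xG_mem_group g r _

theorem UP_map_le (g : Good D A) (f : K →+* L) (P : ℕ → Prop) :
    (UP K g P).map (Matrix.GeneralLinearGroup.map f) ≤ UP L g P := by
  rw [Subgroup.map_le_iff_le_comap]
  refine UP_le fun r t hr => ?_
  show Matrix.GeneralLinearGroup.map f (xG g r t) ∈ UP L g P
  rw [map_xG]
  exact xG_mem_UP g hr _

theorem pos_map_mem (g : Good D A) (f : K →+* L) {u : GL D.Idx K} (hu : u ∈ D.posUnipotent K) :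
    Matrix.GeneralLinearGroup.map f u ∈ D.posUnipotent L := by
  rw [posUnipotent_eq g] at hu ⊢
  exact UP_map_le g f _ ⟨u, hu, rfl⟩

theorem borel_map_mem (g : Good D A) (f : K →+* L) {b : GL D.Idx K} (hb : b ∈ D.borelSubgroup K) :
    Matrix.GeneralLinearGroup.map f b ∈ D.borelSubgroup L := by
  obtain ⟨v, hv, c, rfl⟩ := (mem_borel_iff g).1 hb
  rw [map_mul, map_tor]
  exact mul_mem (pos_le_borel (pos_map_mem g f hv)) (tor_mem_borel g _)

variable (K) in
/-- The subgroup generated by the standard Weyl representatives. -/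
def W (g : Good D A) : Subgroup (GL D.Idx K) :=
  Subgroup.closure {y | ∃ i < D.rank, y = nS K g i}

theorem W_le_monomial (g : Good D A) : W K g ≤ D.monomialSubgroup K := by
  rw [monomialSubgroup_eq g]
  exact le_sup_right

theorem monomial_split (g : Good D A) {n : GL D.Idx K} (hn : n ∈ D.monomialSubgroup K) :
    ∃ n₀ ∈ W K g, ∃ c, n = n₀ * tor D A c := by
  rw [monomialSubgroup_eq g, Subgroup.sup_eq_closure] at hn
  induction hn using Subgroup.closure_induction with
  | one => exact ⟨1, one_mem _, 1, by simp⟩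
  | mem x hx =>
    rcases hx with h | h
    · rw [diagonalSubgroup_eq g] at h
      obtain ⟨c, rfl⟩ := h
      exact ⟨1, one_mem _, c, (one_mul _).symm⟩
    · exact ⟨x, h, 1, by simp⟩
  | mul a b _ _ ha hb =>
    obtain ⟨p, hp, c, rfl⟩ := ha
    obtain ⟨p', hp', c', rfl⟩ := hb
    obtain ⟨d, hd⟩ := monomial_conj_tor g (inv_mem (W_le_monomial g hp')) c
    refine ⟨p * p', mul_mem hp hp', d * c', ?_⟩
    rw [map_mul, ← hd]
    group
  | inv a _ ha =>
    obtain ⟨p, hp, c, rfl⟩ := ha
    obtain ⟨d, hd⟩ := monomial_conj_tor g (W_le_monomial g hp) c⁻¹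
    refine ⟨p⁻¹, inv_mem hp, d, ?_⟩
    rw [← hd, map_inv]
    group

/-- The Cartan matrix has an integral inverse. -/
def Unimodular (D : ChevalleyDatum) : Prop :=
  ∃ N : Array (Array ℤ), ∀ i < D.rank, ∀ j < D.rank,
    ((List.range D.rank).map fun k => D.cartan i (D.simple k) * (N.getD k #[]).getD j 0).sum =
      if i = j then 1 else 0

theorem chi_inj (g : Good D A) (hU : Unimodular D) {c d : Fin D.rank → Kˣ}
    (h : ∀ s < D.nroots, chi D A c s = chi D A d s) : c = d := by
  obtain ⟨N, hN⟩ := hU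
  have key : ∀ (c : Fin D.rank → Kˣ) (j : Fin D.rank),
      ∏ k : Fin D.rank, chi D A c (D.simple k) ^ (N.getD k #[]).getD j 0 = c j := by
    intro c j
    simp only [chi, ← Finset.prod_zpow, ← _root_.zpow_mul]
    rw [Finset.prod_comm]
    have hz : ∀ (x : Kˣ) (f : Fin D.rank → ℤ) (s : Finset (Fin D.rank)),
        ∏ k ∈ s, x ^ f k = x ^ ∑ k ∈ s, f k := by
      intro x f s
      induction s using Finset.induction_on with
      | empty => simp
      | insert a S ha ih => rw [Finset.prod_insert ha, Finset.sum_insert ha, _root_.zpow_add, ih]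
    simp only [hz]
    rw [Finset.prod_eq_single j]
    · have := hN j j.isLt j j.isLt
      rw [sum_map_range, if_pos rfl, Finset.sum_range] at this
      rw [Finset.sum_congr rfl fun k _ => by
        rw [← g.cart_eq _ j.isLt _ (g.simple_lt k k.isLt)], this, zpow_one]
    · intro i _ hij
      have := hN i i.isLt j j.isLt
      rw [sum_map_range, if_neg (fun e => hij (Fin.ext e)), Finset.sum_range] at this
      rw [Finset.sum_congr rfl fun k _ => by
        rw [← g.cart_eq _ i.isLt _ (g.simple_lt k k.isLt)], this, zpow_zero]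
    · simp
  funext j
  rw [← key c j, ← key d j]
  exact Finset.prod_congr rfl fun k _ => by rw [h _ (g.simple_lt k k.isLt)]

theorem tor_eq_iff (g : Good D A) (hU : Unimodular D) {c d : Fin D.rank → Kˣ}
    (h : tor D A c = tor D A d) : c = d := by
  refine chi_inj g hU fun s hs => Units.ext ?_
  have h1 := congrArg (fun y : GL D.Idx K =>
    (y : Matrix D.Idx D.Idx K) (Sum.inr ⟨s, hs⟩) (Sum.inr ⟨s, hs⟩)) h
  simpa [tor_val, dia] using h1

variable {F F₀ : Type*} [Field F] [Field F₀] {σ : F ≃+* F} {ι : F₀ →+* F}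

theorem map_image_fixed (hι : ∀ x, σ x = x ↔ ∃ y, ι y = x) (x : GL D.Idx F₀) :
    Matrix.GeneralLinearGroup.map (σ : F →+* F) (Matrix.GeneralLinearGroup.map ι x) =
      Matrix.GeneralLinearGroup.map ι x := by
  apply Units.ext
  ext i j
  exact (hι _).2 ⟨_, rfl⟩

/-- A fixed element of the group is in the image of the group of the fixed field. -/
theorem fixed_mem_image (h : Std D A)
    (hT : ∀ c d : Fin D.rank → Fˣ, tor D A c = tor D A d → c = d) (hι : ∀ x, σ x = x ↔ ∃ y, ι y = x)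
    {y : GL D.Idx F} (hy : y ∈ D.group F)
    (hfix : Matrix.GeneralLinearGroup.map (σ : F →+* F) y = y) :
    y ∈ (D.group F₀).map (Matrix.GeneralLinearGroup.map ι) := by
  have g := h.good
  set m := Matrix.GeneralLinearGroup.map (n := D.Idx) (σ : F →+* F)
  set I := (D.group F₀).map (Matrix.GeneralLinearGroup.map ι)
  have hW : W F g ≤ I := by
    refine (Subgroup.closure_le _).2 ?_
    rintro _ ⟨i, hi, rfl⟩
    exact ⟨nS F₀ g i, nS_mem_group g i, map_nS g ι i⟩
  obtain ⟨b₁, hb₁, n, hn, τ, hτ, u, hu, e⟩ := normal_form_exists h hy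
  obtain ⟨n₀, hn₀, c, rfl⟩ := monomial_split g hn
  obtain ⟨d, hd⟩ := monomial_conj_tor g (W_le_monomial g hn₀) c
  set b := b₁ * tor D A d with hbdef
  have hb : b ∈ D.borelSubgroup F := mul_mem hb₁ (tor_mem_borel g d)
  have hτ₀ : Acts g n₀ τ := by
    have := hτ.mul (acts_tor g c⁻¹)
    rwa [map_inv, mul_inv_cancel_right] at this
  have e' : y = b * n₀ * u := by
    rw [e, hbdef, ← hd]
    group
  obtain ⟨x₀, hx₀, hx₀'⟩ := hW hn₀
  have hmn : m n₀ = n₀ := by
    rw [← hx₀']
    exact map_image_fixed hι x₀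
  have e2 : m b * n₀ * m u = b * n₀ * u := by
    rw [← e']
    conv_rhs => rw [← hfix, e', map_mul, map_mul, hmn]
  obtain ⟨hbfix, hufix⟩ := normal_form_unique h hτ₀ (borel_map_mem g _ hb) hb
    (UP_map_le g _ _ ⟨u, hu, rfl⟩) hu e2
  have hpos : ∀ v ∈ D.posUnipotent F, m v = v → v ∈ I := by
    intro v hv hmv
    rw [← UL_posRoots g] at hv
    obtain ⟨T, rfl⟩ := exists_pw h upList_posRoots hv
    rw [map_pw] at hmv
    have hT := pw_inj h upList_posRoots hmv
    choose! T₀ hT₀ using fun r (hr : r ∈ D.posRoots) => (hι (T r)).1 (hT r hr)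
    refine ⟨pw g D.posRoots T₀, posUnipotent_le_group g (UL_posRoots (F := F₀) g ▸ pw_mem_UL g _ T₀), ?_⟩
    rw [map_pw, pw, pw]
    exact congrArg List.prod (List.map_congr_left fun r hr => by rw [hT₀ r hr])
  obtain ⟨v, hv, a, hva⟩ := (mem_borel_iff g).1 hb
  set a' : Fin D.rank → Fˣ := fun i => Units.map (σ : F →* F) (a i)
  have e3 : m v * tor D A a' = v * tor D A a := by
    rw [← hva]
    conv_rhs => rw [← hbfix, hva, map_mul]
    congr 1
    exact (map_tor (σ : F →+* F) a).symm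
  have e4 : v⁻¹ * m v = 1 := by
    refine Subgroup.mem_bot.1 ((posUnipotent_inf_diagonal (F := F) h).le (Subgroup.mem_inf.2
      ⟨mul_mem (inv_mem hv) (pos_map_mem g (σ : F →+* F) hv), ?_⟩))
    rw [show v⁻¹ * m v = tor D A a * (tor D A a')⁻¹ by
      rw [eq_mul_inv_iff_mul_eq, mul_assoc, e3, inv_mul_cancel_left], diagonalSubgroup_eq g]
    exact mul_mem ⟨a, rfl⟩ (inv_mem ⟨a', rfl⟩)
  have hmv : m v = v := (inv_mul_eq_one.1 e4).symm
  rw [hmv] at e3
  have ha : a' = a := hT _ _ (mul_left_cancel e3)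
  have ha₀ : ∀ i, ∃ x : F₀ˣ, Units.map (ι : F₀ →* F) x = a i := fun i => by
    obtain ⟨x, hx⟩ := (hι (a i : F)).1 (congrArg Units.val (congrFun ha i))
    have hx0 : x ≠ 0 := fun h0 => (a i).ne_zero (by rw [← hx, h0, map_zero])
    exact ⟨Units.mk0 x hx0, Units.ext hx⟩
  choose a₀ ha₀ using ha₀
  rw [e', hva]
  refine mul_mem (mul_mem (mul_mem (hpos v hv hmv) ?_) (hW hn₀))
    (hpos u (UP_toNeg_le g τ hu) hufix)
  refine ⟨tor D A a₀, diagonalSubgroup_le_group g (by rw [diagonalSubgroup_eq g]; exact ⟨a₀, rfl⟩), ?_⟩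
  rw [map_tor, funext ha₀]

theorem xG_inj (h : Std D A) {r : ℕ} (hr : r < D.nroots) {t u : F}
    (e : xG h.good r t = xG h.good r u) : t = u := by
  refine sub_eq_zero.1 (xG_eq_one h hr ?_)
  rw [sub_eq_add_neg, ← xG_add, e, ← xG_inv, mul_inv_cancel]

/-- A field automorphism acts entrywise. -/
theorem fieldAut_eq_map (g : Good D A) (φ : MulAut ↥(D.group F))
    (hσ : ∀ (y : ↥(D.group F)) (r : ℕ) (t : F), r < D.nroots →
      ((y : GL D.Idx F) : Matrix D.Idx D.Idx F) = D.x F r t →
        ((φ y : GL D.Idx F) : Matrix D.Idx D.Idx F) = D.x F r (σ t)) (y : ↥(D.group F)) :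
    ((φ y : ↥(D.group F)) : GL D.Idx F) =
      Matrix.GeneralLinearGroup.map (σ : F →+* F) (y : GL D.Idx F) := by
  set m := Matrix.GeneralLinearGroup.map (n := D.Idx) (σ : F →+* F)
  let E := ((D.group F).subtype.comp φ.toMonoidHom).eqLocus (m.comp (D.group F).subtype)
  have hE : D.group F ≤ E.map (D.group F).subtype := by
    conv_lhs => rw [group_eq g]
    refine (Subgroup.closure_le _).2 ?_
    rintro _ ⟨s, t, hs, rfl⟩
    refine ⟨⟨xG g s t, xG_mem_group g s t⟩, ?_, rfl⟩
    show ((φ _ : ↥(D.group F)) : GL D.Idx F) = m (xG g s t)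
    rw [map_xG]
    exact (eq_xG_iff g).1 (hσ _ s t hs (xG_val g s t))
  obtain ⟨z, hz, hzy⟩ := hE y.2
  obtain rfl : z = y := Subtype.ext hzy
  exact hz

/-- Fixed points of a field automorphism of prime order, the torus being parametrised faithfully. -/
theorem field_fixed_of_inj [Fintype F] (h : Std D A)
    (hT : ∀ c d : Fin D.rank → Fˣ, tor D A c = tor D A d → c = d) (hrk : 0 < D.rank)
    (φ : MulAut ↥(D.group F)) (hφ : D.IsFieldAut φ) (r : ℕ) (hr : r.Prime) (ho : orderOf φ = r) :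
    ∃ (F₀ : Type) (_ : Field F₀) (_ : Fintype F₀), Fintype.card F = Fintype.card F₀ ^ r ∧
      Nonempty (↥((MulEquiv.toMonoidHom φ).eqLocus (MonoidHom.id ↥(D.group F))) ≃*
        ↥(D.group F₀)) := by
  obtain ⟨σ, hσ⟩ := hφ
  have g := h.good
  set m := Matrix.GeneralLinearGroup.map (n := D.Idx) (σ : F →+* F)
  have hm : ∀ y : ↥(D.group F), ((φ y : ↥(D.group F)) : GL D.Idx F) = m y :=
    fieldAut_eq_map g φ hσ
  have hk : ∀ (k : ℕ) (y : ↥(D.group F)), (((φ ^ k) y : ↥(D.group F)) : GL D.Idx F) =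
      Matrix.GeneralLinearGroup.map ((σ ^ k : F ≃+* F) : F →+* F) y := by
    intro k
    induction k with
    | zero => intro y; apply Units.ext; ext i j; rfl
    | succ k ih =>
      intro y
      rw [pow_succ', pow_succ']
      show ((φ ((φ ^ k) y) : ↥(D.group F)) : GL D.Idx F) = _
      rw [hm, ih]
      apply Units.ext; ext i j; rfl
  set s₀ := D.simple 0
  have hs₀ : s₀ < D.nroots := g.simple_lt 0 hrk
  have hσr : σ ^ r = 1 := by
    refine RingEquiv.ext fun t => ?_
    have h1 := hk r ⟨xG g s₀ t, xG_mem_group g s₀ t⟩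
    rw [← ho, pow_orderOf_eq_one, ho, map_xG] at h1
    exact (xG_inj h hs₀ h1).symm
  have hσ1 : σ ≠ 1 := by
    intro h0
    subst h0
    refine hr.one_lt.ne' (ho.symm.trans (orderOf_eq_one_iff.2 (MulEquiv.ext fun y => Subtype.ext ?_)))
    rw [hm]
    apply Units.ext; ext i j; rfl
  haveI := Fact.mk hr
  have hord : orderOf σ = r := orderOf_eq_prime hσr hσ1
  obtain ⟨p, hp⟩ := CharP.exists F
  haveI := Fact.mk (CharP.char_is_prime F p)
  obtain ⟨f, -, hf⟩ := FiniteField.card F p
  obtain ⟨hrf, hι⟩ := fixed_field (p := p) hf σ hr.pos hord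
  have hfr : (f : ℕ) / r ≠ 0 := (Nat.div_pos (Nat.le_of_dvd f.pos hrf) hr.pos).ne'
  haveI := Fintype.ofFinite (GaloisField p (f / r))
  have hc : Fintype.card (GaloisField p (f / r)) = p ^ ((f : ℕ) / r) := by
    rw [← Nat.card_eq_fintype_card, GaloisField.card p _ hfr]
  obtain ⟨ι, hfix⟩ := hι (GaloisField p (f / r)) hc
  refine ⟨GaloisField p (f / r), inferInstance, inferInstance, ?_, ?_⟩
  · rw [hc, hf, ← pow_mul, Nat.div_mul_cancel hrf]
  let j : ↥(D.group (GaloisField p (f / r))) →*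
      ↥((MulEquiv.toMonoidHom φ).eqLocus (MonoidHom.id ↥(D.group F))) :=
    { toFun := fun x => ⟨⟨Matrix.GeneralLinearGroup.map ι x.1, group_map_le g ι ⟨x.1, x.2, rfl⟩⟩,
        Subtype.ext (by
          show ((φ _ : ↥(D.group F)) : GL D.Idx F) = _
          rw [hm]
          exact map_image_fixed hfix x.1)⟩
      map_one' := Subtype.ext (Subtype.ext (map_one _))
      map_mul' := fun a b => Subtype.ext (Subtype.ext (map_mul _ a.1 b.1)) }
  refine ⟨(MulEquiv.ofBijective j ⟨fun a b hab => ?_, fun y => ?_⟩).symm⟩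
  · have hab' : Matrix.GeneralLinearGroup.map ι a.1 = Matrix.GeneralLinearGroup.map ι b.1 :=
      congrArg (fun z => z.1.1) hab
    refine Subtype.ext (Units.ext ?_)
    exact Matrix.map_injective ι.injective (congrArg Units.val hab')
  · obtain ⟨x, hx, e⟩ := fixed_mem_image h hT hfix y.1.2 (by
      rw [← hm]
      exact congrArg Subtype.val y.2)
    exact ⟨⟨x, hx⟩, Subtype.ext (Subtype.ext e)⟩

/-- Fixed points of a field automorphism of prime order. -/
theorem field_fixed [Fintype F] (h : Std D A) (hU : Unimodular D) (hrk : 0 < D.rank)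
    (φ : MulAut ↥(D.group F)) (hφ : D.IsFieldAut φ) (r : ℕ) (hr : r.Prime) (ho : orderOf φ = r) :
    ∃ (F₀ : Type) (_ : Field F₀) (_ : Fintype F₀), Fintype.card F = Fintype.card F₀ ^ r ∧
      Nonempty (↥((MulEquiv.toMonoidHom φ).eqLocus (MonoidHom.id ↥(D.group F))) ≃*
        ↥(D.group F₀)) :=
  field_fixed_of_inj h (fun _ _ e => tor_eq_iff h.good hU e) hrk φ hφ r hr ho

theorem unimodular_G2 : Unimodular chevG2 :=
  ⟨#[#[2, 3], #[1, 2]], by decide +kernel⟩

theorem unimodular_F4 : Unimodular chevF4 :=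
  ⟨#[#[2, 3, 4, 2], #[3, 6, 8, 4], #[2, 4, 6, 3], #[1, 2, 3, 2]], by decide +kernel⟩

theorem unimodular_E8 : Unimodular chevE8 :=
  ⟨#[#[4, 5, 7, 10, 8, 6, 4, 2], #[5, 8, 10, 15, 12, 9, 6, 3], #[7, 10, 14, 20, 16, 12, 8, 4],
      #[10, 15, 20, 30, 24, 18, 12, 6], #[8, 12, 16, 24, 20, 15, 10, 5], #[6, 9, 12, 18, 15, 12, 8, 4],
      #[4, 6, 8, 12, 10, 8, 6, 3], #[2, 3, 4, 6, 5, 4, 3, 2]], by decide +kernel⟩

end CfsgLib.KnownB.ChevField
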