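import Cfsg.Agent.Lib.Geometry.Symplectic
import Cfsg.Agent.Lib.Geometry.AltInvolutions
import Cfsg.Agent.Lib.Classical.UnitaryTransv

/-! Restriction of scalars for classical groups. -/

set_option autoImplicit false

namespace CfsgLib.KnownB.RestrictScalars

open Matrix CfsgLib.Geometry CfsgLib.Classical.Unitary

section transfer

variable {F : Type*} [Field F] {V : Type*} [AddCommGroup V] [Module F V] {G : Type*} [Group G]
  {κ : Type} [Fintype κ] [DecidableEq κ]

noncomputable def matHom (ρ : G →* (V ≃ₗ[F] V)) (E : (κ → F) ≃ₗ[F] V) : G →* Matrix κ κ F where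
  toFun g := LinearMap.toMatrix' (E.symm.toLinearMap ∘ₗ (ρ g).toLinearMap ∘ₗ E.toLinearMap)
  map_one' := by simp [← LinearMap.toMatrix'_id]
  map_mul' g h := by
    rw [← LinearMap.toMatrix'_comp, map_mul]
    congr 1
    ext v
    simp

theorem matHom_mulVec (ρ : G →* (V ≃ₗ[F] V)) (E : (κ → F) ≃ₗ[F] V) (g : G) (v : κ → F) :
    (matHom ρ E g).mulVec v = E.symm (ρ g (E v)) := by
  show (LinearMap.toMatrix' _).mulVec v = _
  rw [LinearMap.toMatrix'_mulVec]; rfl

theorem matHom_injective (ρ : G →* (V ≃ₗ[F] V)) (hρ : Function.Injective ρ) (E : (κ → F) ≃ₗ[F] V) :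
    Function.Injective (matHom ρ E) := fun g h e => hρ (LinearEquiv.ext fun x => by
  have := congrArg (fun M => E (M.mulVec (E.symm x))) e
  simpa [matHom_mulVec] using this)

theorem quad_embed (ρ : G →* (V ≃ₗ[F] V)) (hρ : Function.Injective ρ) (QV : V → F)
    (hQ : ∀ g x, QV (ρ g x) = QV x) (Q : (κ → F) → F) (E : (κ → F) ≃ₗ[F] V) (hE : ∀ v, QV (E v) = Q v) :
    ∃ φ : G →* ↥(Cfsg.isometryGroup F Q), Function.Injective φ := by
  refine ⟨(matHom ρ E).toHomUnits.codRestrict _ fun g => fun v w => ?_, fun g h e => matHom_injective ρ hρ E ?_⟩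
  · show Q ((matHom ρ E g).mulVec v) = Q v
    rw [matHom_mulVec, ← hE, LinearEquiv.apply_symm_apply, hQ, hE]
  · exact congrArg (fun z => Units.val (Subtype.val z)) e

theorem alt_coords [FiniteDimensional F V]
    (B : LinearMap.BilinForm F V) (hA : B.IsAlt) (hnd : ∀ x, (∀ y, B x y = 0) → x = 0)
    {m : ℕ} (hm : Module.finrank F V = 2 * m) :
    ∃ E : (Fin m ⊕ Fin m → F) ≃ₗ[F] V, ∀ u v, B (E u) (E v) = Cfsg.sympForm m F u v := by
  obtain ⟨k, b, b1, b2, b3⟩ := exists_sympBasis_of_nondeg hA ⊤ (fun x _ hx => hnd x fun y => hx y trivial)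
  obtain ⟨k', c, c1, c2, c3⟩ := exists_sympBasis_of_nondeg (sympBilin_isAlt m F) ⊤
    (fun x _ hx => (sympBilin_nondegenerate m F).1 x fun y => hx y trivial)
  obtain rfl : k = m := by
    have := Module.finrank_eq_card_basis b
    rw [finrank_top, hm] at this
    simp at this; omega
  obtain rfl : k' = k := by
    have := Module.finrank_eq_card_basis c
    rw [finrank_top, Module.finrank_fintype_fun_eq_card] at this
    simp at this; omega
  let E : (Fin k' ⊕ Fin k' → F) ≃ₗ[F] V :=
    LinearEquiv.ofTop ⊤ rfl |>.symm.trans ((c.equiv b (Equiv.refl _)).trans (LinearEquiv.ofTop ⊤ rfl))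
  have hE : ∀ u v, B (E u) (E v) = Cfsg.sympForm k' F u v := by
    have key : B.compl₁₂ E.toLinearMap E.toLinearMap = sympBilin k' F := by
      let c' := c.map (LinearEquiv.ofTop ⊤ rfl)
      refine LinearMap.ext_basis c' c' fun i j => ?_
      have hc : ∀ i, E (c' i) = (b i : V) := fun i => by
        show ((c.equiv b (Equiv.refl _)) ((LinearEquiv.ofTop ⊤ rfl).symm ((LinearEquiv.ofTop ⊤ rfl) (c i))) : V) = _
        rw [LinearEquiv.symm_apply_apply, Module.Basis.equiv_apply]; rfl
      rw [LinearMap.compl₁₂_apply, LinearEquiv.coe_coe, hc, hc]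
      simp only [c', Module.Basis.map_apply, LinearEquiv.ofTop_apply]
      have swB : ∀ u v : V, B u v = - B v u := fun u v => (LinearMap.IsAlt.neg hA v u).symm
      have swS : ∀ u v, sympBilin k' F u v = - sympBilin k' F v u := fun u v => (LinearMap.IsAlt.neg (sympBilin_isAlt k' F) v u).symm
      rcases i with i | i <;> rcases j with j | j
      · rw [b2, c2]
      · rw [b1, c1]
      · rw [swB, swS, b1, c1]
      · rw [b3, c3]
    exact fun u v => LinearMap.congr_fun₂ key u v
  exact ⟨E, hE⟩

theorem alt_embed [FiniteDimensional F V] (ρ : G →* (V ≃ₗ[F] V)) (hρ : Function.Injective ρ)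
    (B : LinearMap.BilinForm F V) (hA : B.IsAlt) (hnd : ∀ x, (∀ y, B x y = 0) → x = 0)
    (hB : ∀ g x y, B (ρ g x) (ρ g y) = B x y) {m : ℕ} (hm : Module.finrank F V = 2 * m) :
    ∃ φ : G →* ↥(Matrix.symplecticGroup (Fin m) F), Function.Injective φ := by
  obtain ⟨E, hE⟩ := alt_coords B hA hnd hm
  refine ⟨(matHom ρ E).codRestrict _ fun g => (mem_sp_iff m F _).2 fun u v => ?_, fun g h e => matHom_injective ρ hρ E (congrArg Subtype.val e)⟩
  rw [matHom_mulVec, matHom_mulVec, ← hE, LinearEquiv.apply_symm_apply, LinearEquiv.apply_symm_apply, hB, hE]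

end transfer

section field

variable {F K : Type*} [Field F] [Fintype F] [Field K] [Fintype K]

theorem exists_hom (hK : Fintype.card K = Fintype.card F ^ 2) : Nonempty (F →+* K) := by
  obtain ⟨p, hp⟩ := CharP.exists F
  have : Fact p.Prime := ⟨CharP.char_is_prime F p⟩
  obtain ⟨n, -, hn⟩ := FiniteField.card F p
  have : CharP K p := charP_of_card_eq_prime_pow (f := (n : ℕ) * 2) (by rw [hK, hn, ← pow_mul])
  let _ := ZMod.algebra F p
  let _ := ZMod.algebra K p
  have h1 := Module.card_eq_pow_finrank (K := ZMod p) (V := F)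
  have h2 := Module.card_eq_pow_finrank (K := ZMod p) (V := K)
  rw [ZMod.card] at h1 h2
  rw [hK, h1, ← pow_mul] at h2
  obtain ⟨f⟩ := FiniteField.nonempty_algHom_of_finrank_dvd (F := ZMod p) (K := F) (L := K)
    ⟨2, (Nat.pow_right_injective (Fact.out : p.Prime).two_le h2).symm⟩
  exact ⟨f.toRingHom⟩

variable [Algebra F K]

theorem finrank_two (hK : Fintype.card K = Fintype.card F ^ 2) : Module.finrank F K = 2 := by
  have h := Module.card_eq_pow_finrank (K := F) (V := K)
  rw [hK] at h
  exact (Nat.pow_right_injective (Fintype.one_lt_card) h).symm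

theorem finrank_fun (hK : Fintype.card K = Fintype.card F ^ 2) (κ : Type) [Fintype κ] :
    Module.finrank F (κ → K) = 2 * Fintype.card κ := by
  rw [← Module.finrank_mul_finrank F K (κ → K), finrank_two hK, Module.finrank_fintype_fun_eq_card]

theorem trace_separates {z : K} (h : ∀ c : K, Algebra.trace F K (c * z) = 0) : z = 0 :=
  (traceForm_nondegenerate F K).1 z fun c => by rw [Algebra.traceForm_apply, mul_comm, h]

theorem trace_eq (hK : Fintype.card K = Fintype.card F ^ 2) {σ : K →+* K} (hσ : ∀ x, σ x = x ^ Fintype.card F) (z : K) :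
    algebraMap F K (Algebra.trace F K z) = z + σ z := by
  rw [FiniteField.algebraMap_trace_eq_sum_pow, finrank_two hK, Finset.sum_range_succ, Finset.sum_range_one,
    Nat.card_eq_fintype_card]
  simp [hσ]

theorem sigma_linear {σ : K →+* K} (hσ : ∀ x, σ x = x ^ Fintype.card F) (a : F) (z : K) :
    σ (a • z) = a • σ z := by
  rw [Algebra.smul_def, map_mul, hσ (algebraMap F K a), ← map_pow, FiniteField.pow_card, Algebra.smul_def]

/-- restriction of scalars of a group acting `K`-linearly -/
noncomputable def resHom {W : Type*} [AddCommGroup W] [Module K W] [Module F W] [IsScalarTower F K W] :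
    (W ≃ₗ[K] W) →* (W ≃ₗ[F] W) where
  toFun g := g.restrictScalars F
  map_one' := rfl
  map_mul' _ _ := rfl

theorem resHom_injective {W : Type*} [AddCommGroup W] [Module K W] [Module F W] [IsScalarTower F K W] :
    Function.Injective (resHom (F := F) (K := K) (W := W)) := fun g h e =>
  LinearEquiv.ext fun x => LinearEquiv.congr_fun e x

theorem symplectic (hK : Fintype.card K = Fintype.card F ^ 2) (a : ℕ) :
    ∃ φ : ↥(Matrix.symplecticGroup (Fin a) K) →* ↥(Matrix.symplecticGroup (Fin (2 * a)) F), Function.Injective φ := by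
  let W := Fin a ⊕ Fin a → K
  let B : LinearMap.BilinForm F W := LinearMap.mk₂ F (fun x y => Algebra.trace F K (sympBilin a K x y))
    (fun x x' y => by rw [map_add, LinearMap.add_apply, map_add])
    (fun c x y => by
      rw [← algebraMap_smul K c x, map_smul, LinearMap.smul_apply, algebraMap_smul, map_smul])
    (fun x y y' => by rw [map_add, map_add])
    (fun c x y => by rw [← algebraMap_smul K c y, map_smul, algebraMap_smul, map_smul])
  refine alt_embed (resHom.comp (spEquiv a K)) (resHom_injective.comp (spEquiv_injective a K)) B (fun x => ?_) (fun x hx => ?_) (fun g x y => ?_) ?_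
  · show Algebra.trace F K _ = 0
    rw [(sympBilin_isAlt a K) x, map_zero]
  · refine (sympBilin_nondegenerate a K).1 x fun y => trace_separates (F := F) fun c => ?_
    have := hx (c • y)
    show Algebra.trace F K _ = 0
    have h2 : Algebra.trace F K (sympBilin a K x (c • y)) = 0 := this
    rwa [map_smul, smul_eq_mul] at h2
  · show Algebra.trace F K _ = Algebra.trace F K _
    exact congrArg _ (spEquiv_preserves a K g x y)
  · rw [finrank_fun hK]; simp; omega

variable {q m : ℕ} {σ : K →+* K}

/-- the action of the unitary group -/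
noncomputable def guHom (m : ℕ) (q : ℕ) : ↥(Cfsg.GU m K q) →* ((Fin m → K) ≃ₗ[F] (Fin m → K)) :=
  resHom.comp ((glEquiv (F := K) (ι := Fin m)).toMonoidHom.comp (Cfsg.GU m K q).subtype)

theorem guHom_injective : Function.Injective (guHom (F := F) (K := K) m q) :=
  resHom_injective.comp (glEquiv.injective.comp Subtype.val_injective)

theorem guHom_uh (h : UFrob σ q) (g : ↥(Cfsg.GU m K q)) (x y : Fin m → K) :
    uh σ (guHom (F := F) m q g x) (guHom (F := F) m q g y) = uh σ x y := by
  show uh σ (glEquiv (g : GL (Fin m) K) x) (glEquiv (g : GL (Fin m) K) y) = _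
  simpa using gu_uh h g.2 x y

theorem gu_coords (hK : Fintype.card K = Fintype.card F ^ 2) (h : UFrob σ (Fintype.card F)) :
    ∃ (θ : K) (E : (Fin m ⊕ Fin m → F) ≃ₗ[F] (Fin m → K)), θ ≠ 0 ∧
      ∀ u v, Algebra.trace F K (θ * uh σ (E u) (E v)) = Cfsg.sympForm m F u v := by
  obtain ⟨θ, hθ0, hθ⟩ : ∃ θ : K, θ ≠ 0 ∧ θ + σ θ = 0 := by
    obtain ⟨a, ha⟩ : ∃ a, σ a ≠ a := by
      by_contra hc
      exact h.ne (RingHom.ext fun a => not_not.1 fun h' => hc ⟨a, h'⟩)
    exact ⟨σ a - a, sub_ne_zero.2 ha, by rw [map_sub, h.invol]; ring⟩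
  let B : LinearMap.BilinForm F (Fin m → K) := LinearMap.mk₂ F (fun x y => Algebra.trace F K (θ * uh σ x y))
    (fun x x' y => by simp [uh_add_left, mul_add])
    (fun c x y => by
      rw [← algebraMap_smul K c x, uh_smul_left, mul_left_comm, ← Algebra.smul_def, map_smul])
    (fun x y y' => by simp [uh_add_right, mul_add])
    (fun c x y => by
      rw [← algebraMap_smul K c y, uh_smul_right, h.pow, ← map_pow, FiniteField.pow_card, mul_left_comm, ← Algebra.smul_def, map_smul])
  suffices hB : B.IsAlt ∧ (∀ x, (∀ y, B x y = 0) → x = 0) by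
    obtain ⟨E, hE⟩ := alt_coords B hB.1 hB.2 (m := m) (by rw [finrank_fun hK, Fintype.card_fin])
    exact ⟨θ, E, hθ0, hE⟩
  refine ⟨fun x => ?_, fun x hx => ?_⟩
  · apply (algebraMap F K).injective
    show algebraMap F K (Algebra.trace F K _) = _
    rw [trace_eq hK h.pow, map_mul, h.symm, ← add_mul, hθ, zero_mul, map_zero]
  · refine (uh_ext h (v := 0) fun y => ?_)
    rw [uh_zero_right, ← h.symm x y]
    have : uh σ x y = 0 := trace_separates (F := F) fun c => by
      have h2 : Algebra.trace F K (θ * uh σ x (σ (c / θ) • y)) = 0 := hx _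
      rw [uh_smul_right, h.invol, ← mul_assoc, mul_div_cancel₀ _ hθ0] at h2
      exact h2
    rw [this, map_zero]

theorem gu_symplectic (hK : Fintype.card K = Fintype.card F ^ 2) (h : UFrob σ (Fintype.card F)) :
    ∃ φ : ↥(Cfsg.GU m K (Fintype.card F)) →* ↥(Matrix.symplecticGroup (Fin m) F), Function.Injective φ := by
  obtain ⟨θ, E, -, hE⟩ := gu_coords (m := m) hK h
  refine ⟨(matHom (guHom m _) E).codRestrict _ fun g => (mem_sp_iff m F _).2 fun u v => ?_,
    fun g k e => matHom_injective _ guHom_injective E (congrArg Subtype.val e)⟩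
  rw [matHom_mulVec, matHom_mulVec, ← hE, LinearEquiv.apply_symm_apply, LinearEquiv.apply_symm_apply, guHom_uh h, hE]

theorem exists_two_roots (h : UFrob σ q) :
    ∃ ω ω' : K, ω * σ ω = -1 ∧ ω' * σ ω' = -1 ∧ ω ≠ ω' := by
  obtain ⟨ω, hω⟩ := exists_norm_eq h.ne h.invol (c := -1) (by simp)
  obtain ⟨a, ha⟩ : ∃ a, σ a ≠ a := by
    by_contra hc
    exact h.ne (RingHom.ext fun a => not_not.1 fun h' => hc ⟨a, h'⟩)
  have ha0 : a ≠ 0 := fun e => ha (by rw [e, map_zero])
  refine ⟨ω, ω * (σ a / a), hω, ?_, fun e => ha ?_⟩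
  · rw [map_mul, map_div₀, h.invol]
    have : σ a ≠ 0 := (map_ne_zero σ).2 ha0
    field_simp
    linear_combination hω
  · have hω0 : ω ≠ 0 := fun e0 => by rw [e0, zero_mul] at hω; exact one_ne_zero (neg_eq_zero.1 hω.symm)
    have := mul_left_cancel₀ hω0 ((mul_one ω).trans e)
    field_simp at this
    exact this.symm

/-- coordinates in which a sum of `2k` norms is hyperbolic -/
theorem exists_pairs_coords (hK : Fintype.card K = Fintype.card F ^ 2) (h : UFrob σ (Fintype.card F)) (k : ℕ) :
    ∃ E : ((Fin k × Fin 2) ⊕ (Fin k × Fin 2) → F) ≃ₗ[F] (Fin k ⊕ Fin k → K),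
      ∀ v, ∑ i, (E v i * σ (E v i)) = algebraMap F K (∑ p, v (.inl p) * v (.inr p)) := by
  classical
  obtain ⟨ω, ω', hω, hω', hne⟩ := exists_two_roots h
  set β := 1 + ω * σ ω' with hβdef
  have hω0 : ω ≠ 0 := fun e0 => by rw [e0, zero_mul] at hω; exact one_ne_zero (neg_eq_zero.1 hω.symm)
  have hβ : β ≠ 0 := by
    intro e
    apply hne
    have h2 : ω * σ ω = ω * σ ω' := by linear_combination hω - e + hβdef
    exact σ.injective (mul_left_cancel₀ hω0 h2)
  let b : Module.Basis (Fin 2) F K := (Module.finBasisOfFinrankEq F K (finrank_two hK))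
  let d := (Algebra.traceForm F K).dualBasis (traceForm_nondegenerate F K) b
  let σl : K →ₗ[F] K := { toFun := σ, map_add' := map_add σ, map_smul' := fun a z => sigma_linear h.pow a z }
  let S : ((Fin k × Fin 2) ⊕ (Fin k × Fin 2) → F) → Fin k → K := fun v j => ∑ i, v (.inl (j, i)) • b i
  let R : ((Fin k × Fin 2) ⊕ (Fin k × Fin 2) → F) → Fin k → K := fun v j => ∑ i, v (.inr (j, i)) • d i
  let L : ((Fin k × Fin 2) ⊕ (Fin k × Fin 2) → F) →ₗ[F] (Fin k ⊕ Fin k → K) :=
    { toFun := fun v => Sum.elim (fun j => S v j + σl (R v j / β)) (fun j => ω * S v j + ω' * σl (R v j / β))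
      map_add' := fun v w => by
        funext i
        rcases i with j | j <;>
          simp only [S, R, Pi.add_apply, Sum.elim_inl, Sum.elim_inr, add_smul, Finset.sum_add_distrib, add_div, map_add] <;> ring
      map_smul' := fun a v => by
        funext i
        rcases i with j | j <;>
          simp only [S, R, Pi.smul_apply, smul_eq_mul, mul_smul, ← Finset.smul_sum, RingHom.id_apply, Sum.elim_inl, Sum.elim_inr, smul_div_assoc, map_smul, mul_smul_comm, smul_add] }
  have hinj : Function.Injective L := by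
    rw [← LinearMap.ker_eq_bot, LinearMap.ker_eq_bot']
    intro v hv
    have hz : ∀ j, S v j = 0 ∧ R v j = 0 := fun j => by
      have h1 : S v j + σ (R v j / β) = 0 := congrFun hv (.inl j)
      have h2 : ω * S v j + ω' * σ (R v j / β) = 0 := congrFun hv (.inr j)
      have h3 : (ω' - ω) * σ (R v j / β) = 0 := by linear_combination h2 - ω * h1
      have h4 : σ (R v j / β) = 0 := (mul_eq_zero.1 h3).resolve_left (sub_ne_zero.2 hne.symm)
      rw [h4, add_zero] at h1
      exact ⟨h1, by simpa [hβ] using h4⟩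
    funext p
    rcases p with ⟨j, i⟩ | ⟨j, i⟩
    · exact Fintype.linearIndependent_iff.1 b.linearIndependent _ (hz j).1 i
    · exact Fintype.linearIndependent_iff.1 d.linearIndependent _ (hz j).2 i
  have hdim : Module.finrank F ((Fin k × Fin 2) ⊕ (Fin k × Fin 2) → F) = Module.finrank F (Fin k ⊕ Fin k → K) := by
    rw [finrank_fun hK, Module.finrank_fintype_fun_eq_card]; simp; omega
  refine ⟨LinearEquiv.ofBijective L ⟨hinj, (LinearMap.injective_iff_surjective_of_finrank_eq_finrank hdim).1 hinj⟩, fun v => ?_⟩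
  show ∑ i, L v i * σ (L v i) = _
  have htr : ∀ j, Algebra.trace F K (S v j * R v j) = ∑ i, v (.inl (j, i)) * v (.inr (j, i)) := by
    intro j
    show Algebra.traceForm F K (S v j) (R v j) = _
    simp only [S, R, map_sum, map_smul, LinearMap.sum_apply, LinearMap.smul_apply, smul_eq_mul]
    refine Finset.sum_congr rfl fun i _ => ?_
    have hd : ∀ i l, Algebra.traceForm F K (b i) (d l) = if i = l then 1 else 0 := fun i l => by
      rw [Algebra.traceForm_apply, mul_comm, ← Algebra.traceForm_apply]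
      exact LinearMap.BilinForm.apply_dualBasis_left _ _ _ _
    rw [Finset.sum_eq_single i (fun l _ hl => by rw [hd, if_neg hl]; ring) (by simp), hd, if_pos rfl]
    ring
  rw [Fintype.sum_sum_type, ← Finset.sum_add_distrib, Fintype.sum_prod_type, map_sum]
  refine Finset.sum_congr rfl fun j _ => ?_
  rw [← htr, trace_eq hK h.pow]
  show (S v j + σ (R v j / β)) * σ (S v j + σ (R v j / β)) + (ω * S v j + ω' * σ (R v j / β)) * σ (ω * S v j + ω' * σ (R v j / β)) = _
  have hR : R v j / β * β = R v j := div_mul_cancel₀ _ hβ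
  generalize hz : R v j / β = z at hR ⊢
  rw [← hR]
  simp only [map_add, map_mul, h.invol, hβdef, map_one]
  linear_combination (S v j * σ (S v j)) * hω + (σ z * z) * hω'

variable (F) in
theorem gu_plus (hK : Fintype.card K = Fintype.card F ^ 2) (h : UFrob σ (Fintype.card F)) (k : ℕ) :
    ∃ φ : ↥(Cfsg.GU (k + k) K (Fintype.card F)) →* ↥(Cfsg.isometryGroup F (Cfsg.quadFormPlus (k + k) F)), Function.Injective φ := by
  classical
  obtain ⟨E, hE⟩ := exists_pairs_coords hK h k
  let QV : (Fin (k + k) → K) → F := fun x => Function.invFun (algebraMap F K) (uh σ x x)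
  let e : Fin k × Fin 2 ≃ Fin (k + k) := finProdFinEquiv.trans (finCongr (by omega))
  refine quad_embed (guHom (k + k) _) guHom_injective QV (fun g x => by simp only [QV, guHom_uh h]) _
    ((LinearEquiv.funCongrLeft F F (Equiv.sumCongr e e)).trans (E.trans (LinearEquiv.funCongrLeft F K finSumFinEquiv.symm))) fun v => ?_
  have : uh σ ((LinearEquiv.funCongrLeft F K finSumFinEquiv.symm) (E ((LinearEquiv.funCongrLeft F F (Equiv.sumCongr e e)) v)))
      ((LinearEquiv.funCongrLeft F K finSumFinEquiv.symm) (E ((LinearEquiv.funCongrLeft F F (Equiv.sumCongr e e)) v))) = algebraMap F K (Cfsg.quadFormPlus (k + k) F v) := by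
    rw [uh, dotProduct, ← finSumFinEquiv.sum_comp]
    simp only [LinearEquiv.funCongrLeft_apply, LinearMap.funLeft_apply, Function.comp_apply, Equiv.symm_apply_apply]
    rw [hE]
    congr 1
    rw [Cfsg.quadFormPlus, ← e.sum_comp]
    rfl
  simp only [QV, LinearEquiv.trans_apply, this]
  exact Function.leftInverse_invFun (algebraMap F K).injective _

theorem gu_minus (hK : Fintype.card K = Fintype.card F ^ 2) (h : UFrob σ (Fintype.card F)) (k : ℕ) (a b : F)
    (hab : ∀ z₁ z₂ : F, z₁ ^ 2 + a * z₁ * z₂ + b * z₂ ^ 2 = 0 → z₁ = 0 ∧ z₂ = 0)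
    {t : K} (ht : t ^ 2 + algebraMap F K a * t + algebraMap F K b = 0) :
    ∃ φ : ↥(Cfsg.GU (k + k + 1) K (Fintype.card F)) →* ↥(Cfsg.isometryGroup F (Cfsg.quadFormMinus (k + k) F a b)), Function.Injective φ := by
  classical
  set ι := algebraMap F K with hι
  have hfix : ∀ z : F, σ (ι z) = ι z := fun z => by rw [h.pow, ← map_pow, FiniteField.pow_card]
  have htF : ∀ z : F, ι z ≠ t := fun z e => by
    refine one_ne_zero (hab z 1 (ι.injective ?_)).2
    simp only [map_add, map_mul, map_pow, map_one, map_zero, e]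
    linear_combination ht
  have hσt : σ t ≠ t := by
    intro e
    have : t ∈ Set.range ι := by
      obtain ⟨a', ha'⟩ : ∃ a', σ a' ≠ a' := by
        by_contra hc
        exact h.ne (RingHom.ext fun a => not_not.1 fun h' => hc ⟨a, h'⟩)
      obtain ⟨θ, hθ, -⟩ : ∃ θ : K, θ + σ θ = 1 ∧ True := by
        obtain ⟨θ, hθ⟩ := exists_trace h
        exact ⟨θ, hθ, trivial⟩
      exact ⟨Algebra.trace F K (θ * t), by rw [hι, trace_eq hK h.pow, map_mul, e, ← add_mul, hθ, one_mul]⟩
    obtain ⟨z, hz⟩ := this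
    exact htF z hz
  have hsum : t + σ t = -ι a ∧ t * σ t = ι b := by
    have h2 := congrArg σ ht
    simp only [map_add, map_mul, map_pow, hfix, map_zero] at h2
    have h3 : (σ t - t) * (σ t + t + ι a) = 0 := by linear_combination h2 - ht
    have h4 := (mul_eq_zero.1 h3).resolve_left (sub_ne_zero.2 hσt)
    exact ⟨by linear_combination h4, by linear_combination t * h4 - ht⟩
  let L2 : (Fin 2 → F) →ₗ[F] (Fin 1 → K) :=
    { toFun := fun z _ => ι (z 0) - t * ι (z 1)
      map_add' := fun z w => by funext; simp; ring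
      map_smul' := fun c z => by funext; simp [Algebra.smul_def, hι]; ring }
  have h2inj : Function.Injective L2 := by
    rw [← LinearMap.ker_eq_bot, LinearMap.ker_eq_bot']
    intro z hz
    have hz' : ι (z 0) - t * ι (z 1) = 0 := congrFun hz 0
    have h1 : z 1 = 0 := by
      by_contra hne
      exact htF (z 0 / z 1) (by rw [map_div₀, div_eq_iff ((map_ne_zero ι).2 hne)]; linear_combination hz')
    rw [h1, map_zero, mul_zero, sub_zero, map_eq_zero] at hz'
    funext i; fin_cases i <;> assumption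
  let E2 := LinearEquiv.ofBijective L2 ⟨h2inj, (LinearMap.injective_iff_surjective_of_finrank_eq_finrank (by
    rw [finrank_fun hK, Module.finrank_fin_fun]; simp)).1 h2inj⟩
  obtain ⟨E, hE⟩ := exists_pairs_coords hK h k
  let QV : (Fin (k + k + 1) → K) → F := fun x => Function.invFun ι (uh σ x x)
  let e : Fin k × Fin 2 ≃ Fin (k + k) := finProdFinEquiv.trans (finCongr (by omega))
  let e' : (Fin k ⊕ Fin k) ⊕ Fin 1 ≃ Fin (k + k + 1) := (Equiv.sumCongr finSumFinEquiv (Equiv.refl _)).trans finSumFinEquiv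
  let T : ((Fin (k + k) ⊕ Fin (k + k)) ⊕ Fin 2 → F) ≃ₗ[F] (Fin (k + k + 1) → K) :=
    ((LinearEquiv.sumArrowLequivProdArrow _ _ F F).trans
      (((LinearEquiv.funCongrLeft F F (Equiv.sumCongr e e)).trans E).prodCongr E2)).trans
        ((LinearEquiv.sumArrowLequivProdArrow _ _ F K).symm.trans (LinearEquiv.funCongrLeft F K e'.symm))
  refine quad_embed (guHom (k + k + 1) _) guHom_injective QV (fun g x => by simp only [QV, guHom_uh h]) _ T fun v => ?_
  have : uh σ (T v) (T v) = ι (Cfsg.quadFormMinus (k + k) F a b v) := by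
    rw [uh, dotProduct, ← e'.sum_comp, Fintype.sum_sum_type]
    simp only [T, LinearEquiv.trans_apply, LinearEquiv.funCongrLeft_apply, LinearMap.funLeft_apply, Function.comp_apply, Equiv.symm_apply_apply,
      LinearEquiv.sumArrowLequivProdArrow_symm_apply_inl, LinearEquiv.sumArrowLequivProdArrow_symm_apply_inr,
      LinearEquiv.prodCongr_apply]
    rw [hE, Fin.sum_univ_one, Cfsg.quadFormMinus, map_add ι]
    congr 1
    · congr 1
      rw [← e.sum_comp]
      rfl
    · show (ι (v (.inr 0)) - t * ι (v (.inr 1))) * σ (ι (v (.inr 0)) - t * ι (v (.inr 1))) = _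
      simp only [map_sub, map_mul, hfix, map_add, map_pow]
      linear_combination (-(ι (v (.inr 0)) * ι (v (.inr 1)))) * hsum.1 + (ι (v (.inr 1)) ^ 2) * hsum.2
  simp only [QV, this]
  exact Function.leftInverse_invFun ι.injective _

end field

end CfsgLib.KnownB.RestrictScalars
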