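import Mathlib
import Cfsg.Agent.Lib.KnownA.Unipotent

/-!
Element orders of `PSL n F`: upper bounds from the characteristic polynomial, and block constructions.
-/

set_option autoImplicit false

namespace CfsgLib.KnownB.ElementOrders

open Polynomial Matrix
open scoped MatrixGroups

universe u

section Powers

variable {M : Type*} [Group M] [Finite M]

theorem mem_range_orderOf_of_dvd {d : ℕ} {x : M} (h : d ∣ orderOf x) :
    d ∈ Set.range (orderOf : M → ℕ) := by
  obtain ⟨c, hc⟩ := h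
  have hc0 : c ≠ 0 := fun h0 => (orderOf_pos x).ne' (by rw [hc, h0, mul_zero])
  refine ⟨x ^ c, ?_⟩
  rw [orderOf_pow_of_dvd hc0 ⟨d, by rw [hc, mul_comm]⟩, hc, Nat.mul_div_cancel _ (Nat.pos_of_ne_zero hc0)]

/-- The element orders of a power of a group once the exponent is reached. -/
theorem range_orderOf_pi {L k₀ k : ℕ} (hk : k₀ ≤ k) (hL : ∀ x : M, orderOf x ∣ L)
    (h : Fin k₀ → M) (hh : L ∣ orderOf h) :
    Set.range (orderOf : (Fin k → M) → ℕ) = {d | d ∣ L} := by
  ext d
  constructor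
  · rintro ⟨f, rfl⟩
    rw [Pi.orderOf]
    exact Finset.lcm_dvd fun i _ => hL _
  · intro hd
    let f : Fin k → M := fun i => if hi : (i : ℕ) < k₀ then h ⟨i, hi⟩ else 1
    refine mem_range_orderOf_of_dvd (x := f) (dvd_trans (dvd_trans hd hh) ?_)
    rw [Pi.orderOf]
    refine Finset.lcm_dvd fun i _ => ?_
    have := orderOf_apply_dvd_orderOf (x := f) (Fin.castLE hk i)
    simpa [f] using this

end Powers

variable {F : Type u} [Field F] {ι : Type*} [Fintype ι] [DecidableEq ι]

section Bounds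

variable [Fintype F]

theorem irreducible_dvd_X_pow_sub_one {f : F[X]} (hf : Irreducible f) (hfX : ¬ f ∣ X) {M : ℕ}
    (hM : Fintype.card F ^ f.natDegree - 1 ∣ M) : f ∣ X ^ M - 1 := by
  have h := (hf.natDegree_dvd_iff_dvd_X_pow_card_pow_sub_X).1 dvd_rfl
  rw [Nat.card_eq_fintype_card] at h
  have h1 : 1 ≤ Fintype.card F ^ f.natDegree := Nat.one_le_pow _ _ Fintype.card_pos
  rw [show (X : F[X]) ^ Fintype.card F ^ f.natDegree - X
    = X * (X ^ (Fintype.card F ^ f.natDegree - 1) - 1) by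
      rw [mul_sub, mul_one, ← pow_succ', Nat.sub_add_cancel h1]] at h
  obtain ⟨c, rfl⟩ := hM
  refine dvd_trans ((hf.prime.dvd_or_dvd h).resolve_left hfX) ?_
  rw [pow_mul]
  exact sub_one_dvd_pow_sub_one _ c

/-- The exponent bound for invertible matrices. -/
theorem pow_eq_one_of_dvd (p : ℕ) [Fact p.Prime] [CharP F p] {e M : ℕ} (he : Fintype.card ι ≤ p ^ e)
    (hM : ∀ d, 1 ≤ d → d ≤ Fintype.card ι → Fintype.card F ^ d - 1 ∣ M) (A : GL ι F) :
    A ^ (M * p ^ e) = 1 := by
  classical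
  cases isEmpty_or_nonempty ι
  · exact Units.ext (Subsingleton.elim _ _)
  set n := Fintype.card ι
  set P := (A : Matrix ι ι F).charpoly with hP
  have hP0 : P ≠ 0 := (Matrix.charpoly_monic _).ne_zero
  have hcoeff : P.coeff 0 ≠ 0 := by
    intro h0
    have h := Matrix.det_eq_sign_charpoly_coeff (A : Matrix ι ι F)
    rw [← hP, h0, mul_zero] at h
    exact (Matrix.GeneralLinearGroup.det A).ne_zero h
  have hdvd : P ∣ (X ^ M - 1) ^ n := by
    refine (UniqueFactorizationMonoid.prod_normalizedFactors hP0).symm.dvd.trans ?_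
    have hle : ∀ s : Multiset F[X], (∀ f ∈ s, f ∣ X ^ M - 1) →
        s.prod ∣ (X ^ M - 1) ^ s.card := by
      intro s
      induction s using Multiset.induction_on with
      | empty => intro; simp
      | cons a s ih =>
        intro h
        rw [Multiset.prod_cons, Multiset.card_cons, pow_succ']
        exact mul_dvd_mul (h a (Multiset.mem_cons_self a s)) (ih fun f hf => h f (Multiset.mem_cons_of_mem hf))
    have hdeg : ∀ s : Multiset F[X], (∀ f ∈ s, Irreducible f) → s.card ≤ s.prod.natDegree := by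
      intro s
      induction s using Multiset.induction_on with
      | empty => intro; simp
      | cons a s ih =>
        intro h
        have ha := h a (Multiset.mem_cons_self a s)
        rw [Multiset.prod_cons, Multiset.card_cons, Polynomial.natDegree_mul ha.ne_zero
          (Multiset.prod_ne_zero fun h0 => (h 0 (Multiset.mem_cons_of_mem h0)).ne_zero rfl)]
        have := ha.natDegree_pos
        have := ih fun f hf => h f (Multiset.mem_cons_of_mem hf)
        omega
    set s := UniqueFactorizationMonoid.normalizedFactors P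
    have hs : ∀ f ∈ s, Irreducible f := fun f => UniqueFactorizationMonoid.irreducible_of_normalized_factor f
    have hnd : P.natDegree = n := Matrix.charpoly_natDegree_eq_dim _
    refine dvd_trans (hle s fun f hf => ?_) (pow_dvd_pow _ ?_)
    · have hfP : f ∣ P := UniqueFactorizationMonoid.dvd_of_mem_normalizedFactors hf
      refine irreducible_dvd_X_pow_sub_one (hs f hf) (fun hfX => hcoeff ?_) (hM _ (hs f hf).natDegree_pos ?_)
      · rw [← Polynomial.X_dvd_iff]
        exact ((hs f hf).associated_of_dvd irreducible_X hfX).symm.dvd.trans hfP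
      · exact hnd ▸ Polynomial.natDegree_le_of_dvd hfP hP0
    · calc s.card ≤ s.prod.natDegree := hdeg s hs
        _ = P.natDegree := Polynomial.natDegree_eq_of_degree_eq
              (Polynomial.degree_eq_degree_of_associated (UniqueFactorizationMonoid.prod_normalizedFactors hP0))
        _ = n := hnd
  have h1 : ((A : Matrix ι ι F) ^ M - 1) ^ n = 0 := by
    obtain ⟨c, hc⟩ := hdvd
    have h := congrArg (aeval (A : Matrix ι ι F)) hc
    rw [map_mul, hP, Matrix.aeval_self_charpoly, zero_mul] at h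
    simpa using h
  have h2 : ((A : Matrix ι ι F) ^ M - 1) ^ p ^ e = 0 := pow_eq_zero_of_le he h1
  rw [sub_pow_char_pow_of_commute p e (Commute.one_right _), one_pow, sub_eq_zero, ← pow_mul] at h2
  exact Units.ext (by simpa using h2)

/-- A matrix whose characteristic polynomial is a power of an irreducible of degree `d` is scalar after raising
to the power `p ^ k * (q ^ d - 1) / (q - 1)`. -/
theorem exists_scalar_of_primary (p : ℕ) [Fact p.Prime] [CharP F p] (A : Matrix ι ι F) {f : F[X]}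
    (hf : Irreducible f) {e k N : ℕ} (hA : aeval A (f ^ e) = 0) (hek : e ≤ p ^ k)
    (hN : ∃ c : F, (AdjoinRoot.root f) ^ N = algebraMap F (AdjoinRoot f) c) :
    ∃ c : F, A ^ (N * p ^ k) = algebraMap F (Matrix ι ι F) c := by
  obtain ⟨c, hc⟩ := hN
  have hdvd : f ∣ X ^ N - C c := AdjoinRoot.mk_eq_zero.1 (by
    rw [map_sub, map_pow, AdjoinRoot.mk_X, AdjoinRoot.mk_C, hc, AdjoinRoot.algebraMap_eq, sub_self])
  obtain ⟨g, hg⟩ := pow_dvd_pow_of_dvd hdvd e
  have h1 : (A ^ N - algebraMap F (Matrix ι ι F) c) ^ e = 0 := by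
    have h := congrArg (aeval A) hg
    rw [map_mul, hA, zero_mul] at h
    simpa using h
  have h2 := pow_eq_zero_of_le hek h1
  refine ⟨c ^ p ^ k, ?_⟩
  cases isEmpty_or_nonempty ι
  · exact Subsingleton.elim _ _
  rw [sub_pow_char_pow_of_commute p k (Algebra.commute_algebraMap_right c _), sub_eq_zero, ← pow_mul, ← map_pow] at h2
  exact h2

theorem pow_mem_range_algebraMap {K : Type*} [Field K] [Algebra F K] [Finite K] {d : ℕ}
    (hK : Nat.card K = Fintype.card F ^ d) (x : K) :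
    ∃ c : F, x ^ ((Fintype.card F ^ d - 1) / (Fintype.card F - 1)) = algebraMap F K c :=
  ⟨Algebra.norm F x, by rw [FiniteField.algebraMap_norm_eq_pow, hK, Nat.card_eq_fintype_card]⟩

theorem card_adjoinRoot {f : F[X]} (hf : f ≠ 0) :
    Nat.card (AdjoinRoot f) = Fintype.card F ^ f.natDegree := by
  haveI : Module.Finite F (AdjoinRoot f) := (AdjoinRoot.powerBasis hf).finite
  rw [Module.natCard_eq_pow_finrank (K := F), (AdjoinRoot.powerBasis hf).finrank, AdjoinRoot.powerBasis_dim,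
    Nat.card_eq_fintype_card]

end Bounds

theorem sl_pow_eq_one_iff (g : Matrix.SpecialLinearGroup ι F) (m : ℕ) :
    g ^ m = 1 ↔ (g : Matrix ι ι F) ^ m = 1 := by
  refine ⟨fun h => ?_, fun h => Subtype.ext ((Matrix.SpecialLinearGroup.coe_pow g m).trans h)⟩
  rw [← Matrix.SpecialLinearGroup.coe_pow, h, Matrix.SpecialLinearGroup.coe_one]

section PSL

variable {n : ℕ}

local notation "P" => Matrix.ProjectiveSpecialLinearGroup (Fin n) F
local notation "S" => Matrix.SpecialLinearGroup (Fin n) F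

theorem mk_eq_one_iff {g : S} :
    (QuotientGroup.mk g : P) = 1 ↔ ∃ c : F, (g : Matrix (Fin n) (Fin n) F) = algebraMap F _ c := by
  rw [QuotientGroup.eq_one_iff, Matrix.SpecialLinearGroup.mem_center_iff]
  constructor
  · rintro ⟨c, -, hc⟩
    exact ⟨c, hc.symm⟩
  · rintro ⟨c, hc⟩
    refine ⟨c, ?_, hc.symm⟩
    have hdet := g.det_coe
    rw [hc, Algebra.algebraMap_eq_smul_one, Matrix.det_smul, Matrix.det_one, mul_one] at hdet
    simpa using hdet

theorem mk_pow_eq_one_iff {g : S} {m : ℕ} :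
    (QuotientGroup.mk g : P) ^ m = 1 ↔ ∃ c : F, (g : Matrix (Fin n) (Fin n) F) ^ m = algebraMap F _ c := by
  rw [← QuotientGroup.mk_pow, mk_eq_one_iff, Matrix.SpecialLinearGroup.coe_pow]

/-- A block diagonal element, projectively. -/
theorem exists_blocks {a b : ℕ} (hab : a + b = n) (A : Matrix.SpecialLinearGroup (Fin a) F)
    (B : Matrix.SpecialLinearGroup (Fin b) F) :
    ∃ g : S, (∀ m : ℕ, (g ^ m = 1 ↔ A ^ m = 1 ∧ B ^ m = 1)) ∧
      ((∃ v : Fin b → F, v ≠ 0 ∧ (B : Matrix (Fin b) (Fin b) F) *ᵥ v = v) →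
        orderOf A ∣ orderOf (QuotientGroup.mk g : P) ∧ orderOf B ∣ orderOf (QuotientGroup.mk g : P) ∧
          ∃ v : Fin n → F, v ≠ 0 ∧ (g : Matrix (Fin n) (Fin n) F) *ᵥ v = v) ∧
      (0 < a → 0 < b → ∃ E : Matrix (Fin n) (Fin n) F,
        E * E = E ∧ E ≠ 0 ∧ E ≠ 1 ∧ Commute E (g : Matrix (Fin n) (Fin n) F)) := by
  let e : Fin a ⊕ Fin b ≃ Fin n := finSumFinEquiv.trans (finCongr hab)
  let R := Matrix.reindexAlgEquiv F F e
  refine ⟨⟨R (Matrix.fromBlocks A.1 0 0 B.1), ?_⟩, ?_, ?_, ?_⟩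
  · rw [Matrix.det_reindexAlgEquiv, Matrix.det_fromBlocks_zero₁₂, A.det_coe, B.det_coe, mul_one]
  rotate_left 1
  · rintro ⟨v, hv, hBv⟩
    have hfix : (R (Matrix.fromBlocks A.1 0 0 B.1)) *ᵥ (Sum.elim (0 : Fin a → F) v ∘ e.symm) = Sum.elim (0 : Fin a → F) v ∘ e.symm := by
      rw [show R (Matrix.fromBlocks A.1 0 0 B.1) = (Matrix.fromBlocks A.1 0 0 B.1).submatrix e.symm e.symm from rfl,
        Matrix.submatrix_mulVec_equiv, Matrix.fromBlocks_mulVec]
      simp [Function.comp_assoc, Matrix.mulVec_zero, hBv]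
    have hv' : Sum.elim (0 : Fin a → F) v ∘ e.symm ≠ 0 := fun h => hv (funext fun i => by
      simpa using congrFun h (e (Sum.inr i)))
    set g : S := ⟨R (Matrix.fromBlocks A.1 0 0 B.1), _⟩
    have key : ∀ m : ℕ, (QuotientGroup.mk g : P) ^ m = 1 → A ^ m = 1 ∧ B ^ m = 1 := by
      intro m hm
      obtain ⟨c, hc⟩ := mk_pow_eq_one_iff.1 hm
      have hgm : ∀ j : ℕ, (R (Matrix.fromBlocks A.1 0 0 B.1)) ^ j *ᵥ (Sum.elim (0 : Fin a → F) v ∘ e.symm)
          = Sum.elim (0 : Fin a → F) v ∘ e.symm := by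
        intro j
        induction j with
        | zero => rw [pow_zero, Matrix.one_mulVec]
        | succ j ih => rw [pow_succ, ← Matrix.mulVec_mulVec, hfix, ih]
      have hc1 : c = 1 := by
        have h := hgm m
        rw [show (R (Matrix.fromBlocks A.1 0 0 B.1)) ^ m = algebraMap F _ c from hc,
          Algebra.algebraMap_eq_smul_one, Matrix.smul_mulVec, Matrix.one_mulVec] at h
        obtain ⟨i, hi⟩ := Function.ne_iff.1 hv'
        exact mul_right_cancel₀ hi (by simpa using congrFun h i)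
      rw [hc1, map_one, show (g : Matrix (Fin n) (Fin n) F) ^ m = R ((Matrix.fromBlocks A.1 0 0 B.1) ^ m)
        from (map_pow R _ _).symm, map_eq_one_iff R R.injective, Matrix.fromBlocks_diagonal_pow,
        ← Matrix.fromBlocks_one, Matrix.fromBlocks_inj] at hc
      exact ⟨Subtype.ext (by simpa using hc.1), Subtype.ext (by simpa using hc.2.2.2)⟩
    exact ⟨orderOf_dvd_of_pow_eq_one (key _ (pow_orderOf_eq_one _)).1,
      orderOf_dvd_of_pow_eq_one (key _ (pow_orderOf_eq_one _)).2, _, hv', hfix⟩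
  · intro ha hb
    refine ⟨R (Matrix.fromBlocks 1 0 0 0), ?_, ?_, ?_, ?_⟩
    · rw [← map_mul, Matrix.fromBlocks_multiply]; simp
    · rw [Ne, map_eq_zero_iff R R.injective]
      intro h
      haveI : Nonempty (Fin a) := ⟨⟨0, ha⟩⟩
      have := congrFun (congrFun h (Sum.inl ⟨0, ha⟩)) (Sum.inl ⟨0, ha⟩)
      simp at this
    · rw [Ne, map_eq_one_iff R R.injective]
      intro h
      haveI : Nonempty (Fin b) := ⟨⟨0, hb⟩⟩
      have := congrFun (congrFun h (Sum.inr ⟨0, hb⟩)) (Sum.inr ⟨0, hb⟩)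
      simp at this
    · refine (Commute.map ?_ R)
      rw [Commute, SemiconjBy, Matrix.fromBlocks_multiply, Matrix.fromBlocks_multiply]
      simp
  · intro m
    refine (sl_pow_eq_one_iff _ m).trans ?_
    rw [sl_pow_eq_one_iff, sl_pow_eq_one_iff]
    change (R (Matrix.fromBlocks A.1 0 0 B.1)) ^ m = 1 ↔ _
    rw [← map_pow, map_eq_one_iff R R.injective, Matrix.fromBlocks_diagonal_pow, ← Matrix.fromBlocks_one,
      Matrix.fromBlocks_inj]
    simp

/-- An element of a commuting proper idempotent gives a projective multiple by any prime divisor of `q - 1`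
prime to `n`. -/
theorem exists_mul_prime [Fintype F] {r : ℕ} (hr : r.Prime) (hrq : r ∣ Fintype.card F - 1) (hrn : ¬ r ∣ n)
    {g : S} {E : Matrix (Fin n) (Fin n) F} (hE : E * E = E) (h0 : E ≠ 0) (h1 : E ≠ 1)
    (hc : Commute E (g : Matrix (Fin n) (Fin n) F)) :
    ∃ h : P, Nat.lcm (orderOf (QuotientGroup.mk g : P)) r ∣ orderOf h := by
  classical
  haveI := Fact.mk hr
  by_cases hdiv : r ∣ orderOf (QuotientGroup.mk g : P)
  · exact ⟨_, Nat.lcm_dvd dvd_rfl hdiv⟩
  obtain ⟨ζ, hζ⟩ := exists_prime_orderOf_dvd_card' r (G := Fˣ)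
    (by rwa [Nat.card_units, Nat.card_eq_fintype_card])
  have hζr : (ζ : F) ^ r = 1 := by rw [← Units.val_pow_eq_pow_val, ← hζ, pow_orderOf_eq_one, Units.val_one]
  have hζ1 : (ζ : F) ≠ 1 := fun h => hr.ne_one (by rw [← hζ, Units.val_eq_one.1 h, orderOf_one])
  let Z : Matrix (Fin n) (Fin n) F := 1 + ((ζ : F) - 1) • E
  have hmul : ∀ a b : F, (1 + a • E) * (1 + b • E) = 1 + (a + b + a * b) • E := by
    intro a b
    rw [add_mul, one_mul, mul_add, mul_one, smul_mul_smul_comm, hE, add_smul, add_smul]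
    abel
  have hpow : ∀ j : ℕ, Z ^ j = 1 + ((ζ : F) ^ j - 1) • E := by
    intro j
    induction j with
    | zero => simp
    | succ j ih => rw [pow_succ, ih, hmul]; congr 2; ring
  have hdet : Z.det ^ r = 1 := by rw [← Matrix.det_pow, hpow, hζr, sub_self, zero_smul, add_zero, Matrix.det_one]
  obtain ⟨k, hk⟩ := Nat.exists_mul_mod_eq_one_of_coprime ((hr.coprime_iff_not_dvd.2 hrn).symm) hr.one_lt
  set δ := Z.det
  let μ : F := δ ^ ((r - 1) * k)
  have hμ : μ ^ n * δ = 1 := by
    have h1 : (r - 1) * k * n + 1 = r * k * n - k * n + 1 := by rw [Nat.sub_mul, one_mul, Nat.sub_mul]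
    obtain ⟨t, ht⟩ : ∃ t, k * n = r * t + 1 := ⟨k * n / r, by
      have := Nat.div_add_mod (k * n) r; rw [mul_comm n k] at hk; omega⟩
    rw [← pow_mul, ← pow_succ, show (r - 1) * k * n + 1 = r * ((r - 1) * t + 1) by
      rw [mul_assoc, ht]; obtain ⟨s, rfl⟩ : ∃ s, r = s + 1 := ⟨r - 1, by have := hr.one_lt; omega⟩
      simp; ring, pow_mul, hdet, one_pow]
  let z : S := ⟨μ • Z, by rw [Matrix.det_smul, Fintype.card_fin, hμ]⟩
  have hcz : Commute z g := by
    refine Subtype.ext ?_
    change (μ • Z) * g.1 = g.1 * (μ • Z)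
    have : Commute Z g.1 := (Commute.one_left _).add_left (hc.smul_left _)
    rw [smul_mul_assoc, mul_smul_comm, this.eq]
  have hz : orderOf (QuotientGroup.mk z : P) = r := by
    refine orderOf_eq_prime (mk_pow_eq_one_iff.2 ⟨μ ^ r, ?_⟩) (fun h => ?_)
    · rw [show (z : Matrix (Fin n) (Fin n) F) = μ • Z from rfl, _root_.smul_pow, hpow, hζr, sub_self, zero_smul, add_zero,
        Algebra.algebraMap_eq_smul_one]
    · obtain ⟨c, hcc⟩ := mk_eq_one_iff.1 h
      rw [Algebra.algebraMap_eq_smul_one] at hcc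
      change μ • Z = c • 1 at hcc
      have hμ0 : μ ≠ 0 := fun h0 => by
        rw [h0, zero_pow (fun hn0 : n = 0 => hrn (hn0 ▸ dvd_zero r)), zero_mul] at hμ
        exact zero_ne_one hμ
      have hEc : ((ζ : F) - 1) • E = (μ⁻¹ * c - 1) • (1 : Matrix (Fin n) (Fin n) F) := by
        rw [sub_smul (μ⁻¹ * c), mul_smul, ← hcc, smul_smul, inv_mul_cancel₀ hμ0, one_smul, one_smul]
        simp [Z]
      have hz0 := sub_ne_zero.2 hζ1
      have hEd : E = (((ζ : F) - 1)⁻¹ * (μ⁻¹ * c - 1)) • (1 : Matrix (Fin n) (Fin n) F) := by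
        rw [mul_smul, ← hEc, smul_smul, inv_mul_cancel₀ hz0, one_smul]
      set d := ((ζ : F) - 1)⁻¹ * (μ⁻¹ * c - 1)
      rw [hEd, smul_mul_smul_comm, one_mul] at hE
      by_cases hd : d = 0
      · exact h0 (by rw [hEd, hd, zero_smul])
      · haveI : Nonempty (Fin n) := ⟨⟨0, Nat.pos_of_ne_zero fun hn0 : n = 0 => hrn (hn0 ▸ dvd_zero r)⟩⟩
        have : d * d = d := smul_left_injective F (one_ne_zero (α := Matrix (Fin n) (Fin n) F)) hE
        exact h1 (by rw [hEd, mul_right_cancel₀ hd (this.trans (one_mul d).symm), one_smul])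
  refine ⟨(QuotientGroup.mk z : P) * QuotientGroup.mk g, ?_⟩
  have hcomm : Commute (QuotientGroup.mk z : P) (QuotientGroup.mk g) := by
    exact hcz.map (QuotientGroup.mk' _)
  rw [hcomm.orderOf_mul_eq_mul_orderOf_of_coprime (hz ▸ hr.coprime_iff_not_dvd.2 hdiv), hz, Nat.lcm_comm]
  exact Nat.lcm_dvd_mul _ _

/-- Norm one elements of the extension of degree `d` as matrices. -/
theorem exists_singer [Fintype F] (d : ℕ) (hd : 0 < d) :
    ∃ A : Matrix.SpecialLinearGroup (Fin d) F,
      orderOf A = (Fintype.card F ^ d - 1) / (Fintype.card F - 1) ∧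
        ∀ m : ℕ, (∃ c : F, (A : Matrix (Fin d) (Fin d) F) ^ m = algebraMap F _ c) →
          (Fintype.card F ^ d - 1) / (Fintype.card F - 1) ∣ (Fintype.card F - 1) * m := by
  classical
  obtain ⟨p, hp⟩ := CharP.exists F
  haveI := Fact.mk (CharP.char_is_prime F p)
  haveI : NeZero d := ⟨hd.ne'⟩
  let K := FiniteField.Extension F p d
  let b := (Module.finBasis F K).reindex (finCongr (FiniteField.finrank_extension F p d))
  set q := Fintype.card F with hq
  have hK : Nat.card K = q ^ d := by rw [FiniteField.natCard_extension, Nat.card_eq_fintype_card]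
  obtain ⟨ω, hω⟩ := IsCyclic.exists_ofOrder_eq_natCard (α := Kˣ)
  rw [Nat.card_units, hK] at hω
  have hq2 : 1 < q := Fintype.one_lt_card
  have hN : (q - 1) * ((q ^ d - 1) / (q - 1)) = q ^ d - 1 :=
    Nat.mul_div_cancel' (by simpa using Nat.sub_dvd_pow_sub_pow q 1 d)
  set N := (q ^ d - 1) / (q - 1)
  set y : Kˣ := ω ^ (q - 1) with hy
  have hyN : orderOf y = N := by
    rw [hy, orderOf_pow_of_dvd (by omega) (hω ▸ hN ▸ dvd_mul_right _ _), hω, ← hN,
      Nat.mul_div_cancel_left _ (by omega)]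
  have hy1 : y ^ N = 1 := hyN ▸ pow_orderOf_eq_one y
  have hpowm : ∀ m : ℕ, ((Algebra.leftMulMatrix b (y : K)) ^ m = 1 ↔ y ^ m = 1) := by
    intro m
    rw [← map_pow, map_eq_one_iff _ (Algebra.leftMulMatrix_injective b), ← Units.val_pow_eq_pow_val,
      Units.val_eq_one]
  refine ⟨⟨Algebra.leftMulMatrix b (y : K), ?_⟩, ?_, ?_⟩
  · rw [← Algebra.norm_eq_matrix_det]
    refine (algebraMap F K).injective ?_
    rw [FiniteField.algebraMap_norm_eq_pow, hK, Nat.card_eq_fintype_card, map_one, ← Units.val_pow_eq_pow_val,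
      Units.val_eq_one]
    exact hy1
  · refine Nat.dvd_antisymm (orderOf_dvd_of_pow_eq_one ((sl_pow_eq_one_iff _ N).2 ?_)) ?_
    · exact (hpowm N).2 hy1
    · refine hyN.symm.dvd.trans (orderOf_dvd_of_pow_eq_one ?_)
      refine ((hpowm _).1 ?_)
      exact (sl_pow_eq_one_iff _ _).1 (pow_orderOf_eq_one _)
  · rintro m ⟨c, hc⟩
    change Algebra.leftMulMatrix b (y : K) ^ m = _ at hc
    rw [← map_pow, ← AlgHom.commutes (Algebra.leftMulMatrix b) c] at hc
    have hc' : ((y ^ m : Kˣ) : K) = algebraMap F K c := by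
      rw [Units.val_pow_eq_pow_val]; exact Algebra.leftMulMatrix_injective b hc
    have h1 : y ^ (m * (q - 1)) = 1 := by
      rw [pow_mul]
      refine Units.ext ?_
      rw [Units.val_pow_eq_pow_val, hc', ← map_pow, Units.val_one]
      rw [FiniteField.pow_card_sub_one_eq_one c (fun h0 => (y ^ m).ne_zero (by rw [hc', h0, map_zero])), map_one]
    rw [← hyN, mul_comm]
    exact orderOf_dvd_of_pow_eq_one h1

/-- A unipotent element of the largest `p`-power order. -/
theorem exists_unipotent (p : ℕ) [Fact p.Prime] [CharP F p] {d : ℕ} (hd : 0 < d) :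
    ∃ U : Matrix.SpecialLinearGroup (Fin d) F, orderOf U = p ^ Nat.clog p d ∧
      ∃ v : Fin d → F, v ≠ 0 ∧ (U : Matrix (Fin d) (Fin d) F) *ᵥ v = v := by
  haveI : Nonempty (Fin d) := ⟨⟨0, hd⟩⟩
  obtain ⟨u, hu, hne⟩ := CfsgLib.KnownA.exists_jordanBlock F d
  have hdet : (u : Matrix (Fin d) (Fin d) F).det = 1 := by
    refine iterateFrobenius_inj F p (Nat.clog p d) ?_
    rw [iterateFrobenius_def, iterateFrobenius_def, one_pow, ← Matrix.det_pow, ← Units.val_pow_eq_pow_val,
      orderOf_dvd_iff_pow_eq_one.1 (CfsgLib.KnownA.orderOf_unipotent_dvd p u hu), Units.val_one, Matrix.det_one]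
  refine ⟨⟨u, hdet⟩, ?_, ?_⟩
  · rw [← CfsgLib.KnownA.orderOf_unipotent_eq p u hu (hne hd)]
    exact orderOf_injective (Units.coeHom (Matrix (Fin d) (Fin d) F)) Units.val_injective u ▸
      (orderOf_injective (⟨⟨fun g : Matrix.SpecialLinearGroup (Fin d) F => (g : Matrix (Fin d) (Fin d) F), rfl⟩,
        fun _ _ => rfl⟩ : _ →* Matrix (Fin d) (Fin d) F) Subtype.val_injective ⟨u, hdet⟩).symm
  · obtain ⟨w, hw⟩ : ∃ w, ((u : Matrix (Fin d) (Fin d) F) - 1) ^ (d - 1) *ᵥ w ≠ 0 := by
      by_contra h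
      push Not at h
      exact hne hd (Matrix.ext_of_mulVec_single fun i => by rw [h, Matrix.zero_mulVec])
    refine ⟨_, hw, ?_⟩
    have : ((u : Matrix (Fin d) (Fin d) F) - 1) *ᵥ (((u : Matrix (Fin d) (Fin d) F) - 1) ^ (d - 1) *ᵥ w) = 0 := by
      rw [Matrix.mulVec_mulVec, ← pow_succ', Nat.sub_add_cancel hd, CfsgLib.KnownA.pow_eq_zero_of_nilpotent hu,
        Matrix.zero_mulVec]
    rw [Matrix.sub_mulVec, Matrix.one_mulVec, sub_eq_zero] at this
    exact this

end PSL

end CfsgLib.KnownB.ElementOrders
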