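import Cfsg.Agent.Lib.KnownB.SL2Products
import Cfsg.Agent.Lib.Classical.Order

/-!
Centraliser orders and class sizes in `SL₂` and `PSL₂`.
-/

set_option autoImplicit false

namespace CfsgLib.KnownB.SL2Sizes

open Matrix CfsgLib.GLTwo CfsgLib.KnownB.SL2Products

variable {F : Type*} [Field F]

local notation "SL2" => Matrix.SpecialLinearGroup (Fin 2) F
local notation "PSL2" => Matrix.ProjectiveSpecialLinearGroup (Fin 2) F

/-- The norm-one points of trace parameter `t`. -/
abbrev NormOne (t : F) : Type _ := {p : F × F // p.1 ^ 2 + p.1 * p.2 * t + p.2 ^ 2 = 1}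

/-- `t` is the trace of a split element: `X² - t X + 1` has a root. -/
def Split (t : F) : Prop := ∃ z : F, z ^ 2 - t * z + 1 = 0

theorem card_split {t : F} (h : Split t) (h4 : t ^ 2 ≠ 4) :
    Nat.card (NormOne t) = Nat.card Fˣ := by
  obtain ⟨z, hz⟩ := h
  have hz0 : z ≠ 0 := fun h0 => by simp [h0] at hz
  have ht : t = z + z⁻¹ := by field_simp; linear_combination -hz
  have hne : z - z⁻¹ ≠ 0 := fun h0 => h4 (by
    have : z⁻¹ = z := (sub_eq_zero.1 h0).symm
    rw [ht, this]
    have h1 : z * z = 1 := by nth_rw 2 [← this]; exact mul_inv_cancel₀ hz0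
    linear_combination 4 * h1)
  have hfac : ∀ a b : F, (a + b * z) * (a + b * z⁻¹) = a ^ 2 + a * b * t + b ^ 2 := fun a b => by
    rw [ht]
    linear_combination b ^ 2 * mul_inv_cancel₀ hz0
  refine Nat.card_congr (Equiv.ofBijective (fun p : NormOne t => Units.mk0 (p.1.1 + p.1.2 * z) (fun h0 => by
    have := hfac p.1.1 p.1.2
    rw [h0, zero_mul, p.2] at this
    exact zero_ne_one this)) ⟨?_, ?_⟩)
  · intro p p' hp
    have h1 : p.1.1 + p.1.2 * z = p'.1.1 + p'.1.2 * z := congrArg Units.val hp
    have hp0 : p'.1.1 + p'.1.2 * z ≠ 0 := fun h0 => by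
      have := hfac p'.1.1 p'.1.2
      rw [h0, zero_mul, p'.2] at this
      exact zero_ne_one this
    have h2 : p.1.1 + p.1.2 * z⁻¹ = p'.1.1 + p'.1.2 * z⁻¹ := by
      refine mul_left_cancel₀ hp0 ?_
      rw [hfac, p'.2, ← h1, hfac, p.2]
    have hb : p.1.2 = p'.1.2 := by
      refine mul_right_cancel₀ hne ?_
      linear_combination h1 - h2
    exact Subtype.ext (Prod.ext (by linear_combination h1 - z * hb) hb)
  · intro u
    set b := ((u : F) - ((u⁻¹ : Fˣ) : F)) / (z - z⁻¹)
    refine ⟨⟨((u : F) - b * z, b), ?_⟩, Units.ext (by simp)⟩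
    rw [← hfac]
    have hb : b * (z - z⁻¹) = (u : F) - ((u⁻¹ : Fˣ) : F) := div_mul_cancel₀ _ hne
    have e2 : (u : F) - b * z + b * z⁻¹ = ((u⁻¹ : Fˣ) : F) := by linear_combination -hb
    dsimp only
    rw [e2, sub_add_cancel, Units.mul_inv]

theorem card_nonsplit {t : F} [Finite F] (h : ¬ Split t) : Nat.card (NormOne t) = Nat.card F + 1 := by
  classical
  have hden : ∀ m : F, 1 + t * m + m ^ 2 ≠ 0 := fun m h0 => h ⟨-m, by linear_combination h0⟩
  let f : Option F → NormOne t := fun o => o.elim ⟨(1, -t), by ring⟩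
    fun m => ⟨(1 - (2 + t * m) / (1 + t * m + m ^ 2), -(m * ((2 + t * m) / (1 + t * m + m ^ 2)))), by
      have hd := hden m
      field_simp
      ring⟩
  rw [← Finite.card_option]
  refine (Nat.card_congr (Equiv.ofBijective f ⟨?_, ?_⟩)).symm
  · rintro (_ | m) (_ | m') hm
    · rfl
    · exfalso
      have h1 := congrArg (fun p : NormOne t => p.1.1) hm
      have h2 := congrArg (fun p : NormOne t => p.1.2) hm
      simp only [f, Option.elim_none, Option.elim_some] at h1 h2
      have h0 : (2 + t * m') / (1 + t * m' + m' ^ 2) = 0 := by linear_combination h1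
      rw [h0, mul_zero, neg_zero, neg_eq_zero] at h2
      rw [div_eq_zero_iff, or_iff_left (hden m'), h2, zero_mul, add_zero] at h0
      exact h ⟨1, by rw [h2]; linear_combination h0⟩
    · exfalso
      have h1 := congrArg (fun p : NormOne t => p.1.1) hm
      have h2 := congrArg (fun p : NormOne t => p.1.2) hm
      simp only [f, Option.elim_none, Option.elim_some] at h1 h2
      have h0 : (2 + t * m) / (1 + t * m + m ^ 2) = 0 := by linear_combination -h1
      rw [h0, mul_zero, neg_zero, eq_comm, neg_eq_zero] at h2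
      rw [div_eq_zero_iff, or_iff_left (hden m), h2, zero_mul, add_zero] at h0
      exact h ⟨1, by rw [h2]; linear_combination h0⟩
    · have h1 := congrArg (fun p : NormOne t => p.1.1) hm
      have h2 := congrArg (fun p : NormOne t => p.1.2) hm
      simp only [f, Option.elim_some, sub_right_inj, neg_inj] at h1 h2
      by_cases h0 : (2 + t * m) / (1 + t * m + m ^ 2) = 0
      · have h0' := h1 ▸ h0
        rw [div_eq_zero_iff, or_iff_left (hden _)] at h0 h0'
        by_cases ht : t = 0
        · exfalso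
          refine h ⟨1, ?_⟩
          rw [ht] at h0 ⊢
          linear_combination h0
        · rw [mul_left_cancel₀ ht (show t * m = t * m' by linear_combination h0 - h0')]
      · rw [← h1] at h2
        rw [mul_right_cancel₀ h0 h2]
  · rintro ⟨⟨a, b⟩, hab⟩
    dsimp only at hab
    by_cases h1 : a = 1
    · have hb : b * (b + t) = 0 := by rw [h1] at hab; linear_combination hab
      rcases mul_eq_zero.1 hb with hb | hb
      · by_cases ht : t = 0
        · refine ⟨none, Subtype.ext (Prod.ext h1.symm ?_)⟩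
          show -t = b
          linear_combination -hb - ht
        · refine ⟨some (-(2 / t)), Subtype.ext (Prod.ext ?_ ?_)⟩
          · have : 2 + t * -(2 / t) = 0 := by field_simp; ring
            show 1 - (2 + t * -(2 / t)) / _ = a
            rw [this, zero_div, sub_zero, h1]
          · have : 2 + t * -(2 / t) = 0 := by field_simp; ring
            show -(-(2 / t) * ((2 + t * -(2 / t)) / _)) = b
            rw [this, zero_div, mul_zero, neg_zero, hb]
      · refine ⟨none, Subtype.ext (Prod.ext h1.symm ?_)⟩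
        show -t = b
        linear_combination -hb
    · refine ⟨some (b / (a - 1)), Subtype.ext ?_⟩
      have ha : a - 1 ≠ 0 := sub_ne_zero.2 h1
      have hd := hden (b / (a - 1))
      have key : (2 + t * (b / (a - 1))) / (1 + t * (b / (a - 1)) + (b / (a - 1)) ^ 2) = 1 - a := by
        rw [div_eq_iff hd]
        field_simp
        linear_combination (a - 1) * hab
      simp only [f, Option.elim_some, key, sub_sub_cancel, Prod.mk.injEq, true_and]
      field_simp
      ring

theorem card_double [Finite F] {t s : F} (hs : s * s = 1) (ht : t = 2 * s) :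
    Nat.card (NormOne t) = Nat.card F * Nat.card {e : F // e ^ 2 = 1} := by
  subst ht
  rw [← Nat.card_prod]
  exact Nat.card_congr
    { toFun := fun p => (p.1.2, ⟨p.1.1 + s * p.1.2, by
        have h := p.2
        linear_combination h + p.1.2 ^ 2 * hs⟩)
      invFun := fun x => ⟨(x.2.1 - s * x.1, x.1), by
        linear_combination x.2.2 - x.1 ^ 2 * hs⟩
      left_inv := fun p => Subtype.ext (Prod.ext (by simp) rfl)
      right_inv := fun x => Prod.ext rfl (Subtype.ext (by simp)) }

/-- The elements commuting with `g` up to the centre. -/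
def projCent (g : SL2) : Subgroup SL2 := (Subgroup.centralizer ({pr g} : Set PSL2)).comap pr

theorem index_projCent (g : SL2) :
    (Subgroup.centralizer ({pr g} : Set PSL2)).index = (projCent g).index :=
  (Subgroup.index_comap_of_surjective _ pr_surjective).symm

theorem mem_projCent {g h : SL2} :
    h ∈ projCent g ↔ h * g * h⁻¹ = g ∨ h * g * h⁻¹ = -g := by
  rw [projCent, Subgroup.mem_comap, Subgroup.mem_centralizer_singleton_iff, ← mul_inv_eq_iff_eq_mul, ← map_inv,
    ← map_mul, ← map_mul]
  constructor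
  · intro he
    have h1 : pr ((h * g * h⁻¹) * g⁻¹) = 1 := by rw [map_mul, map_inv, he, mul_inv_cancel]
    have hs := pr_eq_one_iff.1 h1
    rcases scalar_sl hs with hc | hc
    · refine Or.inl (mul_inv_eq_one.1 (Subtype.ext ?_))
      rw [(isScalar2_iff _).1 hs, hc, one_smul, Matrix.SpecialLinearGroup.coe_one]
    · refine Or.inr ?_
      have h2 : (h * g * h⁻¹) * g⁻¹ = -1 := Subtype.ext (by
        rw [(isScalar2_iff _).1 hs, hc]
        simp)
      rw [mul_inv_eq_iff_eq_mul] at h2
      rw [h2]
      exact Subtype.ext (by simp)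
  · rintro (he | he)
    · rw [he]
    · rw [he, pr_neg]

theorem projCent_eq {g : SL2} (h : (g : Matrix (Fin 2) (Fin 2) F).trace ≠ -(g : Matrix (Fin 2) (Fin 2) F).trace) :
    projCent g = Subgroup.centralizer ({g} : Set SL2) := by
  ext x
  rw [mem_projCent, Subgroup.mem_centralizer_singleton_iff]
  constructor
  · rintro (he | he)
    · exact mul_inv_eq_iff_eq_mul.1 he
    · exact absurd (by
        rw [← Matrix.trace_neg, ← Matrix.SpecialLinearGroup.coe_neg]
        exact trace_eq_of_isConj_sl (isConj_iff.2 ⟨x, he⟩)) h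
  · exact fun he => Or.inl (mul_inv_eq_iff_eq_mul.2 he)

theorem card_projCent_of_trace_zero [Finite F] (hF : ringChar F ≠ 2) {g : SL2}
    (hg : ¬ IsScalar2 (g : Matrix (Fin 2) (Fin 2) F)) (h0 : (g : Matrix (Fin 2) (Fin 2) F).trace = 0) :
    Nat.card (projCent g) = 2 * Nat.card (Subgroup.centralizer ({g} : Set SL2)) := by
  classical
  have h2 : (2 : F) ≠ 0 := Ring.two_ne_zero hF
  have hng : ¬ IsScalar2 ((-g : SL2) : Matrix (Fin 2) (Fin 2) F) := fun h => hg (by
    obtain ⟨a, b, c⟩ := h
    simp at a b c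
    exact ⟨a, b, c⟩)
  have hgg : g ≠ -g := fun h => by
    refine hg ?_
    have h' : ∀ i j, (g : Matrix (Fin 2) (Fin 2) F) i j = 0 := fun i j => by
      have h'' := congrArg (fun x : SL2 => (x : Matrix (Fin 2) (Fin 2) F) i j) h
      simp at h''
      refine mul_left_cancel₀ h2 ?_
      linear_combination h''
    exact ⟨h' 0 1, h' 1 0, by rw [h' 0 0, h' 1 1]⟩
  obtain ⟨c, hc⟩ := isConj_iff.1 (sl_isConj_of_norm_surj hg hng
    (by rw [Matrix.SpecialLinearGroup.coe_neg, Matrix.trace_neg, h0, neg_zero])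
    (fun r => norm_surj_odd hF (by rw [h0, zero_pow two_ne_zero]; exact fun h4 => h2 (mul_self_eq_zero.1 (by linear_combination -h4))) r))
  have hmem : ∀ z : Subgroup.centralizer ({g} : Set SL2), (z : SL2) * g * (z : SL2)⁻¹ = g := fun z =>
    mul_inv_eq_iff_eq_mul.2 (Subgroup.mem_centralizer_singleton_iff.1 z.2)
  have hcz : ∀ z : Subgroup.centralizer ({g} : Set SL2), c * (z : SL2) * g * (c * (z : SL2))⁻¹ = -g := fun z => by
    calc c * (z : SL2) * g * (c * (z : SL2))⁻¹ = c * ((z : SL2) * g * (z : SL2)⁻¹) * c⁻¹ := by group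
      _ = -g := by rw [hmem, hc]
  let f : Bool × Subgroup.centralizer ({g} : Set SL2) → projCent g := fun x => if x.1
    then ⟨c * x.2, mem_projCent.2 (Or.inr (hcz x.2))⟩ else ⟨x.2, mem_projCent.2 (Or.inl (hmem x.2))⟩
  have hf : Function.Bijective f := by
    constructor
    · rintro ⟨b, z⟩ ⟨b', z'⟩ hh
      have hh' := congrArg Subtype.val hh
      rcases b <;> rcases b' <;> simp [f] at hh' ⊢
      · exact hh'
      · exact hgg ((hmem z).symm.trans (hh' ▸ hcz z'))
      · exact hgg ((hmem z').symm.trans (hh' ▸ hcz z))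
      · exact hh'
    · rintro ⟨x, hx⟩
      rcases mem_projCent.1 hx with he | he
      · exact ⟨(false, ⟨x, Subgroup.mem_centralizer_singleton_iff.2 (mul_inv_eq_iff_eq_mul.1 he)⟩), rfl⟩
      · refine ⟨(true, ⟨c⁻¹ * x, Subgroup.mem_centralizer_singleton_iff.2 (mul_inv_eq_iff_eq_mul.1 ?_)⟩), Subtype.ext ?_⟩
        · calc c⁻¹ * x * g * (c⁻¹ * x)⁻¹ = c⁻¹ * (x * g * x⁻¹) * c := by group
            _ = c⁻¹ * (c * g * c⁻¹) * c := by rw [he, hc]
            _ = g := by group
        · simp [f]
  rw [← Nat.card_eq_of_bijective f hf, Nat.card_prod, Nat.card_eq_fintype_card (α := Bool), Fintype.card_bool]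

variable [Fintype F]

theorem index_eq {H : Subgroup SL2} {k : ℕ} (hk : Nat.card H = k) {r : ℕ}
    (h : r * k = Fintype.card F * (Fintype.card F ^ 2 - 1)) : H.index = r := by
  have h1 := H.card_mul_index
  rw [hk, CfsgLib.Classical.card_SL_two, Nat.card_eq_fintype_card, ← h, mul_comm r] at h1
  refine Nat.eq_of_mul_eq_mul_left ?_ h1
  rw [← hk]
  exact Nat.card_pos

theorem exists_nonsplit (p : ℕ) [Fact p.Prime] [CharP F p] (h4 : 4 ≤ Fintype.card F)
    (h5 : Fintype.card F ≠ 5) :
    ∃ g : SL2, ¬ IsScalar2 (g : Matrix (Fin 2) (Fin 2) F) ∧ (g : Matrix (Fin 2) (Fin 2) F).trace ≠ 0 ∧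
      ¬ Split (g : Matrix (Fin 2) (Fin 2) F).trace := by
  classical
  obtain ⟨x, hx⟩ := CfsgLib.Recog.exists_orderOf_eq_card_add_one_PSL (F := F) p
  obtain ⟨g, rfl⟩ := pr_surjective x
  set q := Fintype.card F
  set t := (g : Matrix (Fin 2) (Fin 2) F).trace
  have hd : CfsgLib.Recog.dTwo F ≤ 2 := by unfold CfsgLib.Recog.dTwo; split <;> norm_num
  have h3 : 2 < orderOf (pr g) := by
    rw [hx]
    rcases Nat.even_or_odd q with he | ho
    · rw [CfsgLib.Recog.dTwo, if_pos he, Nat.div_one]
      omega
    · rw [CfsgLib.Recog.dTwo, if_neg (Nat.not_even_iff_odd.2 ho)]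
      obtain ⟨k, hk⟩ := ho
      omega
  have hns : ¬ IsScalar2 (g : Matrix (Fin 2) (Fin 2) F) := fun h => by
    rw [pr_eq_one_iff.2 h, orderOf_one] at h3
    omega
  refine ⟨g, hns, fun h0 => ?_, fun hsp => ?_⟩
  · have h1 : pr g ^ 2 = 1 := by
      rw [← map_pow, pr_eq_one_iff, Matrix.SpecialLinearGroup.coe_pow, pow_two, sq_eq, show (g : Matrix (Fin 2) (Fin 2) F).trace = 0 from h0, g.2,
        zero_smul, zero_sub, ← neg_smul]
      exact isScalar2_smul_one _
    exact absurd (Nat.le_of_dvd (by norm_num) (orderOf_dvd_of_pow_eq_one h1)) (not_le.2 h3)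
  · have hdvd : orderOf (pr g) ∣ q + 1 := hx ▸ Nat.div_dvd_of_dvd CfsgLib.Recog.dTwo_dvd_card_add_one
    have hC : orderOf (pr g) ∣ Nat.card (NormOne t) := by
      rw [← sl_card_centralizer hns]
      refine (orderOf_map_dvd pr g).trans ?_
      rw [← Subgroup.orderOf_mk g (Subgroup.mem_centralizer_singleton_iff.2 rfl : g ∈ Subgroup.centralizer ({g} : Set SL2))]
      exact orderOf_dvd_natCard _
    refine absurd (Nat.le_of_dvd (by norm_num) ?_) (not_le.2 h3)
    by_cases ht : t ^ 2 = 4
    · obtain ⟨z, hz⟩ := hsp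
      have hz2 : z * z = 1 := by
        have h5 : (2 * z - t) ^ 2 = 0 := by linear_combination 4 * hz + ht
        have h6 : 2 * z = t := sub_eq_zero.1 (pow_eq_zero_iff two_ne_zero |>.1 h5)
        linear_combination -hz - (-z) * h6
      have ht' : t = 2 * z := by
        have h5 : (2 * z - t) ^ 2 = 0 := by linear_combination 4 * hz + ht
        exact (sub_eq_zero.1 (pow_eq_zero_iff two_ne_zero |>.1 h5)).symm
      rw [card_double hz2 ht', Nat.card_eq_fintype_card (α := F)] at hC
      have hco : (orderOf (pr g)).Coprime q := Nat.Coprime.coprime_dvd_left hdvd (by simp)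
      have h7 : Nat.card {e : F // e ^ 2 = 1} ∈ ({1, 2} : Set ℕ) := by
        have : ∀ e : {e : F // e ^ 2 = 1}, (e : F) = 1 ∨ (e : F) = -1 := fun e => sq_eq_one_iff.1 e.2
        have hle : Nat.card {e : F // e ^ 2 = 1} ≤ 2 := by
          have hi : Function.Injective (fun e : {e : F // e ^ 2 = 1} => decide ((e : F) = 1)) := fun a b h => by
            rcases this a with ha | ha <;> rcases this b with hb | hb <;> simp [ha, hb] at h <;>
              exact Subtype.ext (by rw [ha, hb]; try first | exact h | exact h.symm)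
          simpa using Nat.card_le_card_of_injective _ hi
        have hpos : 0 < Nat.card {e : F // e ^ 2 = 1} := Nat.card_pos_iff.2 ⟨⟨⟨1, one_pow 2⟩⟩, inferInstance⟩
        rw [Set.mem_insert_iff, Set.mem_singleton_iff]
        omega
      rcases h7 with h7 | h7 <;> rw [h7] at hC
      · exact ((hco.dvd_of_dvd_mul_left hC).trans (by norm_num))
      · exact hco.dvd_of_dvd_mul_left hC
    · rw [card_split hsp ht, Nat.card_units, Nat.card_eq_fintype_card] at hC
      have h1 := Nat.dvd_sub hdvd hC
      rwa [show q + 1 - (q - 1) = 2 by omega] at h1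

end CfsgLib.KnownB.SL2Sizes
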