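import Cfsg.Agent.Lib.KnownB.ChevAut

/-!
Root subgroups of Chevalley groups: commuting root elements, centralizers of highest root involutions,
pairs of long root subgroups, and generation by the monomial subgroup with few root subgroups.
-/

set_option autoImplicit false

namespace CfsgLib.KnownB.ChevField

open Cfsg.Lie Matrix CfsgLib.Chev

variable {D : ChevalleyDatum} {A : Aux} {F : Type*} [Field F]

/-- The right-hand word of the commutator formula, in the group. -/
theorem comm_word (h : Std D A) {r s : ℕ} (hr : r < D.nroots) (hs : s < D.nroots) (hsr : s ≠ r)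
    (hsn : s ≠ A.neg r) (t u : F) :
    xG h.good s u * xG h.good r t = xG h.good r t * xG h.good s u *
      ((A.terms r s).map fun c =>
        xG h.good c.1 ((c.2.1 : F) * (-t) ^ c.2.2.1 * u ^ c.2.2.2)).prod := by
  have hval : ∀ w : List (ℕ × F),
      (((w.map fun p => xG h.good p.1 p.2).prod : GL D.Idx F) : Matrix D.Idx D.Idx F) =
        D.wordMat F w := by
    intro w
    induction w with
    | nil => simp [wordMat_nil]
    | cons p w ih => rw [List.map_cons, List.prod_cons, Units.val_mul, wordMat_cons, ih, xG_val]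
  apply Units.ext
  have hw := hval (tword A r s t u)
  simp only [tword, List.map_map, Function.comp_def] at hw
  rw [Units.val_mul, Units.val_mul, Units.val_mul, xG_val, xG_val, hw]
  exact commF_all h hr hs hsr hsn t u

/-- Root elements with vanishing commutator coefficients commute. -/
theorem commute_xG (h : Std D A) {r s : ℕ} (hr : r < D.nroots) (hs : s < D.nroots) (hsr : s ≠ r)
    (hsn : s ≠ A.neg r) (hz : ∀ c ∈ A.terms r s, ((c.2.1 : ℤ) : F) = 0) (t u : F) :
    xG h.good s u * xG h.good r t = xG h.good r t * xG h.good s u := by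
  rw [comm_word h hr hs hsr hsn t u, List.prod_eq_one, mul_one]
  intro z hm
  obtain ⟨c, hc, rfl⟩ := List.mem_map.1 hm
  rw [hz c hc, zero_mul, zero_mul, xG_zero]

theorem not_pos_and_neg (g : Good D A) {s : ℕ} (hp : D.IsPosRoot s) : ¬ D.IsNegRoot s :=
  fun hn => not_pos_of_isNeg g hn hp

theorem borel_conj_pos (g : Good D A) {z : GL D.Idx F} (hz : z ∈ D.borelSubgroup F) {v : GL D.Idx F}
    (hv : v ∈ D.posUnipotent F) : z * v * z⁻¹ ∈ D.posUnipotent F := by
  obtain ⟨w, hw, c, rfl⟩ := (mem_borel_iff g).1 hz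
  rw [show w * tor D A c * v * (w * tor D A c)⁻¹ = w * (tor D A c * v * (tor D A c)⁻¹) * w⁻¹ by
    group]
  exact mul_mem (mul_mem hw (tor_conj_posUnipotent g c hv)) (inv_mem hw)

/-- A monomial element keeping the fundamental roots positive is diagonal. -/
theorem diag_of_simple_pos (h : Std D A) {n : GL D.Idx F} (hn : n ∈ D.monomialSubgroup F)
    {τ : ℕ → ℕ} (hτ : Acts h.good n τ) (hp : ∀ i < D.rank, D.IsPosRoot (τ (D.simple i))) :
    n ∈ D.diagonalSubgroup F := by
  have g := h.good
  have hall : ∀ r, D.IsPosRoot r → D.IsPosRoot (τ r) := by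
    intro r hr
    refine (g.pos_iff _ (hτ.map.1 r hr.1)).2 fun j => ?_
    by_cases hj : j < D.rank
    · rw [simple_eq_sum g hτ.map hr.1 j hj]
      exact Finset.sum_nonneg fun k hk => mul_nonneg ((g.pos_iff r hr.1).1 hr k)
        ((g.pos_iff _ (hτ.map.1 _ (g.simple_lt k (Finset.mem_range.1 hk)))).1
          (hp k (Finset.mem_range.1 hk)) j)
    · rw [g.a_zero _ (hτ.map.1 r hr.1) j (not_lt.1 hj)]
  have hU : ∀ u ∈ D.posUnipotent F, n * u * n⁻¹ ∈ D.posUnipotent F := by
    intro u hu
    rw [show D.posUnipotent F = UP F g (fun r => D.IsPosRoot r) from posUnipotent_eq g] at hu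
    exact conj_UP_le hτ (fun r hr => hr.1) (fun r t hr => xG_mem_posUnipotent g (hall r hr) t) hu
  rw [← borel_inf_monomial h]
  exact Subgroup.mem_inf.2 ⟨mem_borel_of_conj_pos h (monomialSubgroup_le_group g hn) hU, hn⟩

/-- The induced maps on roots preserve every predicate stable under the fundamental reflections. -/
theorem acts_preserves (g : Good D A) {Q : ℕ → Prop}
    (hQ : ∀ i < D.rank, ∀ q < D.nroots, Q q → Q (A.refl i q)) {n : GL D.Idx F}
    (hn : n ∈ D.monomialSubgroup F) {τ : ℕ → ℕ} (hτ : Acts g n τ) {q : ℕ} (hq : q < D.nroots)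
    (hQq : Q q) : Q (τ q) := by
  obtain ⟨n₀, hn₀, c, rfl⟩ := monomial_split g hn
  suffices H : ∀ z, z ∈ W F g → ∃ σ, Acts g z σ ∧
      (∀ q < D.nroots, Q q → Q (σ q)) by
    obtain ⟨σ, hσ, hP⟩ := H n₀ hn₀
    have hτ' : Acts g (n₀ * tor D A c) σ := hσ.mul (acts_tor g c)
    rw [hτ.unique hτ' hq]
    exact hP q hq hQq
  intro z hz
  induction hz using Subgroup.closure_induction_left with
  | one => exact ⟨id, by simpa using acts_tor (F := F) g 1, fun q _ hq => hq⟩
  | mul_left a ha b _ ih =>
    obtain ⟨i, hi, rfl⟩ := ha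
    obtain ⟨σ, hσ, hP⟩ := ih
    exact ⟨_, (acts_nS g hi).mul hσ, fun q hq hQq => hQ i hi _ (hσ.map.1 q hq) (hP q hq hQq)⟩
  | inv_mul_cancel a ha b _ ih =>
    obtain ⟨i, hi, rfl⟩ := ha
    obtain ⟨σ, hσ, hP⟩ := ih
    have hmem : (nS F g i)⁻¹ ∈ D.monomialSubgroup F := inv_mem (nS_mem_monomial g hi)
    obtain ⟨ρ, hρ⟩ := exists_acts g hmem
    refine ⟨_, hρ.mul hσ, fun q hq hQq => ?_⟩
    have h1 : Acts g (nS F g i * (nS F g i)⁻¹) (A.refl i ∘ ρ) := (acts_nS g hi).mul hρ
    rw [mul_inv_cancel] at h1
    have h2 : Acts g (1 : GL D.Idx F) id := by simpa using acts_tor (F := F) g 1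
    have hs := hσ.map.1 q hq
    have e : A.refl i (ρ (σ q)) = σ q := h1.unique h2 hs
    have h3 := hQ i hi _ hs (hP q hq hQq)
    conv at h3 => arg 1; rw [← e]
    rwa [g.refl_refl i hi _ (hρ.map.1 _ hs)] at h3

/-! ### Centralizers of highest root elements -/

/-- All commutator coefficients of `r` with `s` are even. -/
noncomputable def evenTerms (A : Aux) (r s : ℕ) : Bool :=
  (A.terms r s).all fun c => decide ((2 : ℤ) ∣ c.2.1)

/-- The table conditions for a highest root `r`, orthogonal to all fundamental roots but the `i₀`-th. -/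
noncomputable def topChk (D : ChevalleyDatum) (A : Aux) (Q : ℕ → Bool) (r i₀ : ℕ) : Bool :=
  decide (D.IsPosRoot r) && decide (i₀ < D.rank) &&
  ((List.range D.rank).all fun i => decide (A.cart i r = if i = i₀ then 1 else 0) &&
    (i == i₀ || (A.refl i r == r && evenTerms A r (A.neg (D.simple i)) &&
      (A.neg (D.simple i) != A.neg r) && (A.neg (D.simple i) != r)))) &&
  (D.posRoots.all fun s => s == r || evenTerms A r s) &&
  Q r &&
  ((List.range D.rank).all fun i => (List.range D.nroots).all fun q => !Q q || Q (A.refl i q)) &&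
  ((List.range D.nroots).all fun q => !Q q || q == r ||
    !((List.range D.rank).all fun j => decide (A.a r j ≤ A.a q j)))

theorem evenTerms_zero [CharP F 2] {r s : ℕ} (he : evenTerms A r s = true) :
    ∀ c ∈ A.terms r s, ((c.2.1 : ℤ) : F) = 0 := fun c hc =>
  (CharP.intCast_eq_zero_iff F 2 _).2 (of_decide_eq_true (List.all_eq_true.1 he c hc))

theorem centralizer_top [CharP F 2] (h : Std D A) {Q : ℕ → Bool} {r i₀ : ℕ}
    (hchk : topChk D A Q r i₀ = true) {x : GL D.Idx F}
    (hx : (x : Matrix D.Idx D.Idx F) = D.x F r 1) :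
    D.group F ⊓ Subgroup.centralizer {x} = D.posUnipotent F ⊔
      Subgroup.closure {y | ∃ i < D.rank, i ≠ i₀ ∧ ∃ t : F,
        (y : Matrix D.Idx D.Idx F) = D.x F (D.neg (D.simple i)) t} := by
  classical
  have g := h.good
  obtain rfl : x = xG g r 1 := (eq_xG_iff g).1 hx
  simp only [topChk, Bool.and_eq_true, decide_eq_true_eq, List.all_eq_true, List.mem_range,
    Bool.or_eq_true, beq_iff_eq, bne_iff_ne, Bool.not_eq_true'] at hchk
  obtain ⟨⟨⟨⟨⟨⟨hr, hi₀⟩, hI⟩, hcen⟩, hQr⟩, hQ⟩, hmax⟩ := hchk
  have hcart : ∀ i < D.rank, A.cart i r = if i = i₀ then 1 else 0 := fun i hi => (hI i hi).1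
  have horth : ∀ i < D.rank, i ≠ i₀ → A.refl i r = r ∧ evenTerms A r (A.neg (D.simple i)) = true ∧
      A.neg (D.simple i) ≠ A.neg r ∧ A.neg (D.simple i) ≠ r := by
    intro i hi hne
    rcases (hI i hi).2 with e | ⟨⟨⟨a, b⟩, c⟩, d⟩
    · exact absurd e hne
    · exact ⟨a, b, c, d⟩
  set P := D.posUnipotent F ⊔ Subgroup.closure {y | ∃ i < D.rank, i ≠ i₀ ∧ ∃ t : F,
    (y : Matrix D.Idx D.Idx F) = D.x F (D.neg (D.simple i)) t} with hP
  have hUP : D.posUnipotent F ≤ P := le_sup_left
  have hneg : ∀ i < D.rank, i ≠ i₀ → ∀ t : F, xG g (D.neg (D.simple i)) t ∈ P := fun i hi hne t =>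
    (le_sup_right : _ ≤ P) (Subgroup.subset_closure ⟨i, hi, hne, t, xG_val g _ _⟩)
  have hnS : ∀ i < D.rank, i ≠ i₀ → ∀ c : F, nG g (D.simple i) c ∈ P := fun i hi hne c =>
    mul_mem (mul_mem (hUP (xG_mem_posUnipotent g (simple_pos g hi) _)) (hneg i hi hne _))
      (hUP (xG_mem_posUnipotent g (simple_pos g hi) _))
  have hcomU : ∀ t : F, ∀ v ∈ D.posUnipotent F, v * xG g r t = xG g r t * v := by
    intro t v hv
    rw [posUnipotent_eq g] at hv
    induction hv using Subgroup.closure_induction with
    | one => simp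
    | mul a b _ _ ha hb => rw [mul_assoc, hb, ← mul_assoc, ha, mul_assoc]
    | inv a _ ha => rw [inv_mul_eq_iff_eq_mul, ← mul_assoc, ha, mul_inv_cancel_right]
    | mem a ha =>
      obtain ⟨s, u, hs, rfl⟩ := ha
      rcases eq_or_ne s r with rfl | hne
      · rw [xG_add, xG_add, add_comm]
      · refine commute_xG h hr.1 hs.1 hne (fun e => not_pos_neg g hr (e ▸ hs))
          (evenTerms_zero ?_) t u
        exact (hcen s (posRoots_mem.2 hs)).resolve_left hne
  refine le_antisymm ?_ (sup_le (fun v hv => ?_) ((Subgroup.closure_le _).2 ?_))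
  · intro y hy
    obtain ⟨hyG, hyc⟩ := Subgroup.mem_inf.1 hy
    rw [Subgroup.mem_centralizer_singleton_iff] at hyc
    obtain ⟨b, hb, n, hn, τ, hτ, u, hu, rfl⟩ := normal_form_exists h hyG
    obtain ⟨v, hv, c, rfl⟩ := (mem_borel_iff g).1 hb
    have hu' : u ∈ D.posUnipotent F := UP_toNeg_le g τ hu
    obtain ⟨k, hk, e⟩ := hτ.conj r hr.1
    have h1 : xG g (τ r) (k * 1) = xG g r (((chi D A c r : Fˣ) : F)⁻¹ * 1) := by
      rw [← e 1]
      have h2 : tor D A c * xG g r (((chi D A c r : Fˣ) : F)⁻¹ * 1) * (tor D A c)⁻¹ = xG g r 1 := by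
        rw [tor_conj_xG g c hr.1, mul_one, mul_inv_cancel₀ (chi D A c r).ne_zero]
      calc n * xG g r 1 * n⁻¹
          = (tor D A c)⁻¹ * (v⁻¹ * (v * tor D A c * n * u * xG g r 1) * u⁻¹ * n⁻¹) := by
            have := hcomU 1 u hu'
            simp only [mul_assoc]
            rw [← mul_assoc u, this]
            group
        _ = (tor D A c)⁻¹ * (v⁻¹ * xG g r 1 * v) * tor D A c := by
            rw [hyc]; group
        _ = (tor D A c)⁻¹ * xG g r 1 * tor D A c := by
            rw [mul_assoc v⁻¹, ← hcomU 1 v hv, inv_mul_cancel_left]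
        _ = _ := by rw [← h2]; group
    have hτr : τ r = r := xG_inj_root g (hτ.map.1 r hr.1) hr.1 (mul_ne_zero hk one_ne_zero) h1
    have key : ∀ (N : ℕ) (n : GL D.Idx F) (τ : ℕ → ℕ), n ∈ D.monomialSubgroup F → Acts g n τ →
        τ r = r → D.posRoots.toFinset.card - posToPos D τ = N →
        ∃ z ∈ P, ∃ d, n = z * tor D A d := by
      intro N
      induction N using Nat.strong_induction_on with
      | _ N ih =>
        intro n τ hn hτ hτr hN
        by_cases hall : ∀ i < D.rank, D.IsPosRoot (τ (D.simple i))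
        · have hd := diag_of_simple_pos h hn hτ hall
          rw [diagonalSubgroup_eq g] at hd
          obtain ⟨d, rfl⟩ := hd
          exact ⟨1, one_mem _, d, (one_mul _).symm⟩
        push Not at hall
        obtain ⟨i, hi, hni⟩ := hall
        have hp := g.simple_lt i hi
        have hne : i ≠ i₀ := by
          rintro rfl
          have hq := g.refl_lt i hi r hr.1
          have hQ' : Q (τ (A.refl i r)) = true :=
            acts_preserves g (Q := fun q => Q q = true)
              (fun j hj q hq hQq => ((hQ j hj) q hq).resolve_left (by simp [hQq])) hn hτ hq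
              (((hQ i hi) r hr.1).resolve_left (by simp [hQr]))
          have hlt := hτ.map.1 _ hq
          have ha : ∀ j < D.rank, A.a (τ (A.refl i r)) j = A.a r j - A.a (τ (D.simple i)) j := by
            intro j hj
            have := hτ.map.lin (i := -1) (k := 1) hp hr.1 hq (fun l hl => by
              rw [g.a_refl i hi r hr.1 l hl, hcart i hi, if_pos rfl, g.a_simple i hi l hl]
              split_ifs <;> ring) j hj
            rw [this, hτr]; ring
          rcases (hmax _ hlt) with (h0 | h0) | h0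
          · rw [hQ'] at h0; exact absurd h0 (by simp)
          · have hzero : ∀ j < D.rank, A.a (τ (D.simple i)) j = 0 := fun j hj => by
              have := ha j hj
              rw [h0] at this
              linarith
            have hl := hτ.map.1 _ hp
            exact g.neg_ne _ hl (g.a_inj _ (g.neg_lt _ hl) _ hl fun j hj => by
              rw [g.a_neg _ hl, hzero j hj, neg_zero])
          · have hall' : (List.range D.rank).all
                (fun j => decide (A.a r j ≤ A.a (τ (A.refl i r)) j)) = true := by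
              simp only [List.all_eq_true, List.mem_range, decide_eq_true_eq]
              intro j hj
              have := (g.negRoot_iff _ (hτ.map.1 _ hp)).1
                (isNeg_of_not_pos g (hτ.map.1 _ hp) hni) j
              rw [ha j hj]; linarith
            rw [hall'] at h0
            exact absurd h0 (by simp)
        have hσ : Acts g (n * nS F g i) (τ ∘ A.refl i) := hτ.mul (acts_nS g hi)
        have hnP : nS F g i ∈ P := hnS i hi hne 1
        have hlt := posToPos_refl g hσ.map hi (show D.IsPosRoot ((τ ∘ A.refl i) (D.simple i)) by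
          rw [Function.comp_apply, refl_simple g hi, hτ.map.map_neg g hp]
          exact (pos_or_pos_neg g (hτ.map.1 _ hp)).resolve_left hni)
        have hcongr : posToPos D ((τ ∘ A.refl i) ∘ A.refl i) = posToPos D τ := by
          unfold posToPos
          refine congrArg Finset.card (Finset.filter_congr fun q hq => ?_)
          rw [Function.comp_apply, Function.comp_apply,
            g.refl_refl i hi q (posRoots_mem.1 (List.mem_toFinset.1 hq)).1]
        have hle : posToPos D (τ ∘ A.refl i) ≤ D.posRoots.toFinset.card := Finset.card_filter_le _ _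
        obtain ⟨z, hz, d, e⟩ := ih _ (by omega) _ _ (mul_mem hn (nS_mem_monomial g hi)) hσ
          (by rw [Function.comp_apply, (horth i hi hne).1, hτr]) rfl
        obtain ⟨d', hd'⟩ := monomial_conj_tor g (nS_mem_monomial g hi) d
        refine ⟨z * (nS F g i)⁻¹, mul_mem hz (inv_mem hnP), d', ?_⟩
        rw [← hd', eq_mul_inv_iff_mul_eq.2 e]
        group
    obtain ⟨z, hz, d, rfl⟩ := key _ n τ hn hτ hτr rfl
    have hPnorm : ∀ (d : Fin D.rank → Fˣ), ∀ w ∈ P, tor D A d * w * (tor D A d)⁻¹ ∈ P := by
      intro d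
      have : P ≤ P.comap (MulAut.conj (tor D A d)).toMonoidHom := by
        refine sup_le (fun w hw => hUP (tor_conj_posUnipotent g d hw)) ((Subgroup.closure_le _).2 ?_)
        rintro w ⟨i, hi, hne, t, hw⟩
        obtain rfl := (eq_xG_iff g).1 hw
        show tor D A d * _ * (tor D A d)⁻¹ ∈ P
        rw [tor_conj_xG g d (neg_lt' g (g.simple_lt i hi))]
        exact hneg i hi hne _
      exact fun w hw => this hw
    set z' := v * (tor D A c * z * (tor D A c)⁻¹) * (tor D A (c * d) * u * (tor D A (c * d))⁻¹)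
    have hz' : z' ∈ P :=
      mul_mem (mul_mem (hUP hv) (hPnorm c z hz)) (hUP (tor_conj_posUnipotent g _ hu'))
    have ey : v * tor D A c * (z * tor D A d) * u = z' * tor D A (c * d) := by
      simp only [z', map_mul]
      group
    rw [ey] at hyc ⊢
    have hzc : z' * xG g r 1 = xG g r 1 * z' := by
      have hmem : P ≤ Subgroup.centralizer {xG g r 1} := by
        refine sup_le (fun v hv => Subgroup.mem_centralizer_singleton_iff.2 (hcomU 1 v hv))
          ((Subgroup.closure_le _).2 ?_)
        rintro w ⟨i, hi, hne, t, hw⟩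
        obtain rfl := (eq_xG_iff g).1 hw
        obtain ⟨-, he, hn1, hn2⟩ := horth i hi hne
        rw [SetLike.mem_coe, Subgroup.mem_centralizer_singleton_iff, g.neg_eq _ (g.simple_lt i hi)]
        exact commute_xG h hr.1 (g.neg_lt _ (g.simple_lt i hi)) hn2 hn1 (evenTerms_zero he) 1 t
      exact Subgroup.mem_centralizer_singleton_iff.1 (hmem hz')
    have h3 : tor D A (c * d) * xG g r 1 * (tor D A (c * d))⁻¹ = xG g r 1 := by
      rw [mul_inv_eq_iff_eq_mul]
      refine mul_left_cancel (a := z') ?_
      rw [← mul_assoc, hyc, ← mul_assoc, ← hzc, mul_assoc]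
    rw [tor_conj_xG g _ hr.1, mul_one] at h3
    have hchi : chi D A (c * d) r = 1 := Units.ext (xG_inj h hr.1 h3)
    refine mul_mem hz' ?_
    set e := c * d
    have he0 : e ⟨i₀, hi₀⟩ = 1 := by
      rw [← hchi]
      simp only [chi]
      rw [Finset.prod_eq_single ⟨i₀, hi₀⟩]
      · rw [hcart i₀ hi₀, if_pos rfl, zpow_one]
      · intro j _ hj
        rw [hcart j j.isLt, if_neg (fun he => hj (Fin.ext he)), zpow_zero]
      · simp
    suffices ∀ S : Finset (Fin D.rank), tor D A (fun i => if i ∈ S then e i else 1) ∈ P by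
      simpa using this Finset.univ
    intro S
    induction S using Finset.induction_on with
    | empty =>
      rw [show (fun i : Fin D.rank => if i ∈ (∅ : Finset (Fin D.rank)) then e i else 1) =
        (1 : Fin D.rank → Fˣ) by funext i; simp, map_one]
      exact one_mem _
    | insert a S ha ih =>
      have hsplit : (fun i => if i ∈ insert a S then e i else 1) =
          Pi.mulSingle a (e a) * fun i => if i ∈ S then e i else 1 := by
        funext i
        by_cases h : i = a
        · subst h; simp [ha]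
        · simp [h]
      rw [hsplit, map_mul, ← hG_simple g]
      refine mul_mem ?_ ih
      by_cases hai : a.val = i₀
      · obtain rfl : a = ⟨i₀, hi₀⟩ := Fin.ext hai
        rw [hG_simple g, he0, Pi.mulSingle_one, map_one]
        exact one_mem _
      · exact mul_mem (hnS a a.isLt hai _) (hnS a a.isLt hai _)
  · exact Subgroup.mem_inf.2 ⟨posUnipotent_le_group g hv,
      Subgroup.mem_centralizer_singleton_iff.2 (hcomU 1 v hv)⟩
  · rintro w ⟨i, hi, hne, t, hw⟩
    obtain rfl := (eq_xG_iff g).1 hw
    obtain ⟨-, he, hn1, hn2⟩ := horth i hi hne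
    refine Subgroup.mem_inf.2 ⟨xG_mem_group g _ _, ?_⟩
    rw [Subgroup.mem_centralizer_singleton_iff, g.neg_eq _ (g.simple_lt i hi)]
    exact commute_xG h hr.1 (g.neg_lt _ (g.simple_lt i hi)) hn2 hn1 (evenTerms_zero he) 1 t

/-! ### Pairs of long root subgroups -/

/-- The table conditions for pairs of long root subgroups in characteristic two. -/
noncomputable def pairChk (D : ChevalleyDatum) (A : Aux) (Q : ℕ → Bool) : Bool :=
  let r := D.nroots - 1
  decide (D.IsPosRoot r) && (A.neg r == 0) && Q r &&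
  ((List.range D.rank).all fun i => (List.range D.nroots).all fun q => !Q q || Q (A.refl i q)) &&
  (D.posRoots.all fun s => s == r || evenTerms A r s) &&
  ((List.range D.nroots).all fun q => !Q q || q == r || q == A.neg r ||
    (match A.terms r q with
      | [] => true
      | [c] => (c.1 != r) && (c.1 != A.neg r) && (c.1 != q) && (c.1 != A.neg q) &&
          evenTerms A r c.1 && evenTerms A q c.1
      | _ => false))

theorem isPGroup_rootSubgroup [CharP F 2] (g : Good D A) (r : ℕ) :
    IsPGroup 2 ↥(D.rootSubgroup F r) := fun y => by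
  obtain ⟨t, ht⟩ := (mem_rootSubgroup_iff g).1 y.2
  refine ⟨1, Subtype.ext ?_⟩
  rw [SubmonoidClass.coe_pow, ht, pow_one, sq, xG_add, CharTwo.add_self_eq_zero, xG_zero,
    Subgroup.coe_one]

theorem rootSubgroup_le_centralizer (h : Std D A) {r s : ℕ}
    (hc : ∀ t u : F, xG h.good s u * xG h.good r t = xG h.good r t * xG h.good s u) :
    D.rootSubgroup F s ≤ Subgroup.centralizer (D.rootSubgroup F r : Set (GL D.Idx F)) := by
  intro y hy
  rw [Subgroup.mem_centralizer_iff]
  intro z hz
  obtain ⟨u, rfl⟩ := (mem_rootSubgroup_iff h.good).1 hy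
  obtain ⟨t, rfl⟩ := (mem_rootSubgroup_iff h.good).1 hz
  exact (hc t u).symm

theorem long_pair [CharP F 2] (h : Std D A) {Q : ℕ → Bool} (hchk : pairChk D A Q = true)
    {y : GL D.Idx F} (hy : y ∈ D.group F) :
    IsPGroup 2 ↥(D.rootSubgroup F (D.nroots - 1) ⊔
        (D.rootSubgroup F (D.nroots - 1)).map (MulAut.conj y).toMonoidHom) ∨
    ∃ z ∈ D.group F, (D.rootSubgroup F (D.nroots - 1) ⊔
        (D.rootSubgroup F (D.nroots - 1)).map (MulAut.conj y).toMonoidHom).map
          (MulAut.conj z).toMonoidHom =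
      D.rootSubgroup F (D.nroots - 1) ⊔ D.rootSubgroup F 0 := by
  have g := h.good
  set r := D.nroots - 1
  simp only [pairChk, Bool.and_eq_true, decide_eq_true_eq, List.all_eq_true, List.mem_range,
    Bool.or_eq_true, beq_iff_eq, Bool.not_eq_true'] at hchk
  obtain ⟨⟨⟨⟨⟨hr, hneg⟩, hQr⟩, hQ⟩, hcen⟩, hpair⟩ := hchk
  set X := D.rootSubgroup F r
  have hXU : ∀ v ∈ D.posUnipotent F, ∀ t : F, v * xG g r t = xG g r t * v := by
    intro v hv t
    rw [posUnipotent_eq g] at hv
    induction hv using Subgroup.closure_induction with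
    | one => simp
    | mul a b _ _ ha hb => rw [mul_assoc, hb, ← mul_assoc, ha, mul_assoc]
    | inv a _ ha => rw [inv_mul_eq_iff_eq_mul, ← mul_assoc, ha, mul_inv_cancel_right]
    | mem a ha =>
      obtain ⟨s, u, hs, rfl⟩ := ha
      rcases eq_or_ne s r with rfl | hne
      · rw [xG_add, xG_add, add_comm]
      · exact commute_xG h hr.1 hs.1 hne (fun e => not_pos_neg g hr (e ▸ hs))
          (evenTerms_zero ((hcen s (posRoots_mem.2 hs)).resolve_left hne)) t u
  have hroot : ∀ (m : GL D.Idx F) (q : ℕ) (k : F), k ≠ 0 →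
      (∀ t, m * xG g r t * m⁻¹ = xG g q (k * t)) →
      X.map (MulAut.conj m).toMonoidHom = D.rootSubgroup F q := by
    intro m q k hk e
    ext z
    rw [Subgroup.mem_map, mem_rootSubgroup_iff g]
    constructor
    · rintro ⟨w, hw, rfl⟩
      obtain ⟨t, rfl⟩ := (mem_rootSubgroup_iff g).1 hw
      exact ⟨k * t, e t⟩
    · rintro ⟨t, rfl⟩
      refine ⟨_, xG_mem_rootSubgroup g r (k⁻¹ * t), ?_⟩
      show m * _ * m⁻¹ = _
      rw [e, mul_inv_cancel_left₀ hk]
  have hBX : ∀ b ∈ D.borelSubgroup F, X.map (MulAut.conj b).toMonoidHom = X := by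
    intro b hb
    obtain ⟨v, hv, c, rfl⟩ := (mem_borel_iff g).1 hb
    refine hroot _ r _ (chi D A c r).ne_zero fun t => ?_
    rw [show v * tor D A c * xG g r t * (v * tor D A c)⁻¹ =
      v * (tor D A c * xG g r t * (tor D A c)⁻¹) * v⁻¹ by group, tor_conj_xG g c hr.1,
      hXU v hv, mul_inv_cancel_right]
  obtain ⟨b, hb, n, hn, b', hb', rfl⟩ := bruhat h hy
  obtain ⟨τ, hτ⟩ := exists_acts g hn
  have hs : τ r < D.nroots := hτ.map.1 r hr.1
  obtain ⟨k, hk, ek⟩ := hτ.conj r hr.1
  have hY : X.map (MulAut.conj (b * n * b')).toMonoidHom =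
      (D.rootSubgroup F (τ r)).map (MulAut.conj b).toMonoidHom := by
    conv_rhs => rw [← hroot n _ k hk ek, Subgroup.map_map]
    conv_rhs => rw [← hBX b' hb', Subgroup.map_map]
    congr 1
    refine MonoidHom.ext fun w => ?_
    simp [MulAut.conj_apply, mul_assoc]
  rw [hY]
  have hK : X ⊔ (D.rootSubgroup F (τ r)).map (MulAut.conj b).toMonoidHom =
      (X ⊔ D.rootSubgroup F (τ r)).map (MulAut.conj b).toMonoidHom := by
    rw [Subgroup.map_sup, hBX b hb]
  rw [hK]
  by_cases hneg' : τ r = A.neg r
  · right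
    refine ⟨b⁻¹, inv_mem (borel_le_group g hb), ?_⟩
    rw [Subgroup.map_map, hneg', hneg]
    convert Subgroup.map_id _ using 2
    refine MonoidHom.ext fun w => ?_
    simp [MulAut.conj_apply, mul_assoc]
  left
  refine IsPGroup.map ?_ _
  by_cases heq : τ r = r
  · rw [heq, sup_idem]
    exact isPGroup_rootSubgroup g r
  have hQs : Q (τ r) = true := acts_preserves g (Q := fun q => Q q = true)
    (fun j hj q hq hQq => ((hQ j hj) q hq).resolve_left (by simp [hQq])) hn hτ hr.1 hQr
  rcases hpair _ hs with ((h0 | h0) | h0) | h0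
  · rw [hQs] at h0; exact absurd h0 (by simp)
  · exact absurd h0 heq
  · exact absurd h0 hneg'
  split at h0
  · rename_i hterm
    have hc := rootSubgroup_le_centralizer h fun t u : F =>
      commute_xG h hr.1 hs heq hneg' (by rw [hterm]; simp) t u
    exact IsPGroup.to_sup_of_normal_left' (isPGroup_rootSubgroup g r) (isPGroup_rootSubgroup g _)
      (hc.trans (Subgroup.centralizer_le_normalizer _))
  · rename_i c hterm
    simp only [Bool.and_eq_true, bne_iff_ne] at h0
    obtain ⟨⟨⟨⟨⟨hcr, hcnr⟩, hcs⟩, hcns⟩, her⟩, hes⟩ := h0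
    have hcl : c.1 < D.nroots := (terms_mem g hr.1 hs (by rw [hterm]; simp)).1
    set Z := D.rootSubgroup F c.1
    have hZr := rootSubgroup_le_centralizer h fun t u : F =>
      commute_xG h hr.1 hcl hcr hcnr (evenTerms_zero her) t u
    have hZs := rootSubgroup_le_centralizer h fun t u : F =>
      commute_xG h hs hcl hcs hcns (evenTerms_zero hes) t u
    have hXZ : IsPGroup 2 ↥(X ⊔ Z) :=
      IsPGroup.to_sup_of_normal_left' (isPGroup_rootSubgroup g r) (isPGroup_rootSubgroup g _)
        (hZr.trans (Subgroup.centralizer_le_normalizer _))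
    have hnorm : D.rootSubgroup F (τ r) ≤ Subgroup.normalizer ((X ⊔ Z : Subgroup _) : Set (GL D.Idx F)) := by
      have hle : ∀ u : F, X ⊔ Z ≤ (X ⊔ Z).comap (MulAut.conj (xG g (τ r) u)).toMonoidHom := by
        intro u
        refine sup_le (fun w hw => ?_) (fun w hw => ?_)
        · obtain ⟨t, rfl⟩ := (mem_rootSubgroup_iff g).1 hw
          show xG g (τ r) u * xG g r t * (xG g (τ r) u)⁻¹ ∈ X ⊔ Z
          rw [comm_word h hr.1 hs heq hneg' t u, hterm, List.map_cons, List.map_nil, List.prod_cons,
            List.prod_nil, mul_one]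
          set z := xG g c.1 ((c.2.1 : F) * (-t) ^ c.2.2.1 * u ^ c.2.2.2)
          have hz : z ∈ Z := xG_mem_rootSubgroup g _ _
          have hcz : xG g (τ r) u * z = z * xG g (τ r) u :=
            Subgroup.mem_centralizer_iff.1 (hZs hz) _ (xG_mem_rootSubgroup g _ _)
          rw [mul_assoc (xG g r t), hcz, ← mul_assoc, mul_inv_cancel_right]
          exact Subgroup.mul_mem_sup (xG_mem_rootSubgroup g _ _) hz
        · show xG g (τ r) u * w * (xG g (τ r) u)⁻¹ ∈ X ⊔ Z
          rw [Subgroup.mem_centralizer_iff.1 (hZs hw) _ (xG_mem_rootSubgroup g _ u),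
            mul_inv_cancel_right]
          exact Subgroup.mem_sup_right hw
      intro w hw
      obtain ⟨u, rfl⟩ := (mem_rootSubgroup_iff g).1 hw
      rw [Subgroup.mem_normalizer_iff]
      intro z
      refine ⟨fun hz => hle u hz, fun hz => ?_⟩
      have := hle (-u) hz
      simp only [Subgroup.mem_comap, MulEquiv.coe_toMonoidHom, MulAut.conj_apply, ← xG_inv,
        inv_inv] at this
      simpa [mul_assoc] using this
    exact (IsPGroup.to_sup_of_normal_left' hXZ (isPGroup_rootSubgroup g _) hnorm).to_le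
      (sup_le (le_sup_left.trans le_sup_left) le_sup_right)
  · exact absurd h0 (by simp)

/-! ### Generation by `N` and few root subgroups -/

/-- One step of the spreading of fundamental roots: to neighbours of the same length, and to longer
neighbours when the commutator coefficient has absolute value 1 or `e`. -/
noncomputable def spread (D : ChevalleyDatum) (A : Aux) (e : ℕ) (ks : List ℕ) : List ℕ :=
  (List.range D.rank).filter fun j => ks.contains j || ks.any fun k =>
    (A.refl k (A.refl j (D.simple k)) == D.simple j) ||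
    ([A.refl j (D.simple k), A.refl k (A.refl j (D.simple k))].any fun q =>
      (q != D.simple k) && (q != A.neg (D.simple k)) &&
      (match A.terms (D.simple k) q with
        | [c] => (c.2.2.1 == 1) && (c.2.2.2 == 1) && (c.1 == A.refl k (D.simple j)) &&
            decide (c.2.1.natAbs = 1 ∨ c.2.1.natAbs = e)
        | _ => false))

/-- All fundamental roots are reached from those in `ks`. -/
noncomputable def reaches (D : ChevalleyDatum) (A : Aux) (e : ℕ) (ks : List ℕ) : Bool :=
  let res := (spread D A e)^[D.rank] ks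
  (List.range D.rank).all fun j => res.contains j

theorem group_le_of_reaches (h : Std D A) {e : ℕ}
    (he : (e : F) ≠ 0)
    {ks : List ℕ} (hks : ∀ k ∈ ks, k < D.rank) (hreach : reaches D A e ks = true)
    {M : Subgroup (GL D.Idx F)} (hN : D.monomialSubgroup F ≤ M)
    (hX : ∀ k ∈ ks, ∀ t : F, xG h.good (D.simple k) t ∈ M) : D.group F ≤ M := by
  have g := h.good
  let G : ℕ → Prop := fun q => ∀ t : F, xG g q t ∈ M
  have hG : ∀ i < D.rank, ∀ q < D.nroots, G q → G (A.refl i q) := by
    intro i hi q hq hGq t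
    have h1 := mul_mem (mul_mem (hN (nS_mem_monomial g hi)) (hGq ((A.eta i q : F) * t)))
      (inv_mem (hN (nS_mem_monomial g hi)))
    rw [nS_conj_xG g hi hq, ← mul_assoc] at h1
    rcases g.eta_sign i hi q hq with e | e <;> simpa [e] using h1
  have hstep : ∀ l : List ℕ, (∀ k ∈ l, k < D.rank ∧ G (D.simple k)) →
      ∀ j ∈ spread D A e l, j < D.rank ∧ G (D.simple j) := by
    intro l hl j hj
    simp only [spread, List.mem_filter, List.mem_range, Bool.or_eq_true, List.contains_iff_mem,
      List.any_eq_true, beq_iff_eq] at hj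
    obtain ⟨hjr, hj⟩ := hj
    refine ⟨hjr, ?_⟩
    rcases hj with hj | ⟨k, hk, hj⟩
    · exact (hl j hj).2
    obtain ⟨hkr, hGk⟩ := hl k hk
    have hp := g.simple_lt k hkr
    have h1 : G (A.refl j (D.simple k)) := hG j hjr _ hp hGk
    rcases hj with hj | ⟨q, hq, hqq⟩
    · rw [← hj]
      exact hG k hkr _ (g.refl_lt j hjr _ hp) h1
    have hqG : q < D.nroots ∧ G q := by
      simp only [List.mem_cons, List.not_mem_nil, or_false] at hq
      rcases hq with rfl | rfl
      · exact ⟨g.refl_lt j hjr _ hp, h1⟩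
      · exact ⟨g.refl_lt k hkr _ (g.refl_lt j hjr _ hp), hG k hkr _ (g.refl_lt j hjr _ hp) h1⟩
    simp only [Bool.and_eq_true, bne_iff_ne] at hqq
    obtain ⟨⟨hne, hnn⟩, hqq⟩ := hqq
    split at hqq
    · rename_i c hterm
      simp only [Bool.and_eq_true, beq_iff_eq, decide_eq_true_eq] at hqq
      obtain ⟨⟨⟨hc1, hc2⟩, hc⟩, habs⟩ := hqq
      have hC : ((c.2.1 : ℤ) : F) ≠ 0 := by
        rcases habs with e1 | e1 <;> rcases Int.natAbs_eq c.2.1 with e2 | e2 <;>
          rw [e2, e1] <;> simp [he]
      have hGc : G c.1 := by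
        intro w
        have h2 := comm_word h hp hqG.1 hne hnn (-(w * ((c.2.1 : ℤ) : F)⁻¹)) 1
        rw [hterm, List.map_cons, List.map_nil, List.prod_cons, List.prod_nil, mul_one, hc1, hc2,
          pow_one, pow_one, neg_neg, mul_one, mul_comm w, mul_inv_cancel_left₀ hC] at h2
        rw [← inv_mul_eq_iff_eq_mul] at h2
        rw [← h2]
        exact mul_mem (inv_mem (mul_mem (hGk _) (hqG.2 _))) (mul_mem (hqG.2 _) (hGk _))
      have h3 : G (A.refl k c.1) :=
        hG k hkr _ (by rw [hc]; exact g.refl_lt k hkr _ (g.simple_lt j hjr)) hGc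
      rwa [hc, g.refl_refl k hkr _ (g.simple_lt j hjr)] at h3
    · simp at hqq
  have hall : ∀ (N : ℕ) (l : List ℕ), (∀ k ∈ l, k < D.rank ∧ G (D.simple k)) →
      ∀ j ∈ (spread D A e)^[N] l, j < D.rank ∧ G (D.simple j) := by
    intro N
    induction N with
    | zero => intro l hl; exact hl
    | succ N ih =>
      intro l hl
      rw [Function.iterate_succ_apply]
      exact ih _ (hstep l hl)
  have hsimple : ∀ i < D.rank, G (D.simple i) := by
    intro i hi
    simp only [reaches, List.all_eq_true, List.mem_range, List.contains_iff_mem] at hreach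
    exact (hall _ ks (fun k hk => ⟨hks k hk, hX k hk⟩) i (hreach i hi)).2
  refine group_le_of_simple g (fun i hi => hsimple i hi) fun i hi => ?_
  have := hG i hi _ (g.simple_lt i hi) (hsimple i hi)
  rwa [refl_simple g hi, ← g.neg_eq _ (g.simple_lt i hi)] at this

end CfsgLib.KnownB.ChevField
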