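import Mathlib

/-!
Semisimple endomorphisms and matrices over finite fields: similarity is decided by the characteristic polynomial;
determinants of centralising elements.
-/

set_option autoImplicit false

namespace CfsgLib.KnownB.Semisimple

open Polynomial Module

universe u v

section End

variable {F : Type u} [Field F]

/-- An irreducible factor of the characteristic polynomial kills a non-zero vector. -/
theorem dvd_minpoly_of_dvd_charpoly {V : Type v} [AddCommGroup V] [Module F V] [FiniteDimensional F V]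
    (f : Module.End F V) {q : F[X]} (hq : Irreducible q) (h : q ∣ f.charpoly) : q ∣ minpoly F f := by
  classical
  haveI := Fact.mk hq
  let b := Module.finBasis F V
  let M := LinearMap.toMatrix b b f
  let K := AdjoinRoot q
  let φ : F →+* K := algebraMap F K
  let MK := M.map φ
  have hroot : (MK.charpoly).IsRoot (AdjoinRoot.root q) := by
    rw [Matrix.charpoly_map]
    obtain ⟨r, hr⟩ := h
    rw [← LinearMap.charpoly_toMatrix f b] at hr
    rw [IsRoot, eval_map_algebraMap, hr, map_mul, AdjoinRoot.aeval_eq, AdjoinRoot.mk_self, zero_mul]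
  have hroot2 : ((Matrix.toLin' MK).charpoly).IsRoot (AdjoinRoot.root q) := by rwa [Matrix.charpoly_toLin']
  have hmin := Module.End.hasEigenvalue_iff_isRoot.1
    ((Module.End.hasEigenvalue_iff_isRoot_charpoly _ _).2 hroot2)
  have hdvd : minpoly K (Matrix.toLin' MK) ∣ (minpoly F f).map φ := by
    refine minpoly.dvd K _ ?_
    rw [show Matrix.toLin' MK = Matrix.toLinAlgEquiv' MK from rfl, aeval_algHom_apply, aeval_map_algebraMap]
    have h0 : aeval M (minpoly F f) = 0 := by
      rw [show M = LinearMap.toMatrixAlgEquiv b f from rfl, aeval_algHom_apply, minpoly.aeval, map_zero]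
    rw [show MK = (Algebra.ofId F K).mapMatrix M from rfl, aeval_algHom_apply, h0, map_zero, map_zero]
  have := hmin.dvd hdvd
  rw [IsRoot, eval_map_algebraMap, AdjoinRoot.aeval_eq] at this
  exact AdjoinRoot.mk_eq_zero.1 this

theorem exists_ker_of_dvd_minpoly {V : Type v} [AddCommGroup V] [Module F V] [FiniteDimensional F V]
    (f : Module.End F V) {q : F[X]} (hq : Irreducible q) (h : q ∣ minpoly F f) :
    ∃ v : V, v ≠ 0 ∧ aeval f q v = 0 := by
  obtain ⟨r, hr⟩ := h
  have hm : minpoly F f ≠ 0 := minpoly.ne_zero (IsIntegral.of_finite F f)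
  have hr0 : aeval f r ≠ 0 := by
    intro h0
    have h1 := Polynomial.natDegree_le_of_dvd (minpoly.dvd F f h0) (right_ne_zero_of_mul (hr ▸ hm))
    rw [hr, natDegree_mul hq.ne_zero (right_ne_zero_of_mul (hr ▸ hm))] at h1
    have := hq.natDegree_pos
    omega
  obtain ⟨w, hw⟩ : ∃ w, aeval f r w ≠ 0 := by
    by_contra h0
    push Not at h0
    exact hr0 (LinearMap.ext h0)
  refine ⟨_, hw, ?_⟩
  rw [← Module.End.mul_apply, ← map_mul, ← hr, minpoly.aeval, LinearMap.zero_apply]

/-- The copy of the field `F[X]/(q)` generated by a vector killed by `q(f)`. -/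
theorem exists_cyclic {V : Type v} [AddCommGroup V] [Module F V]
    (f : Module.End F V) {q : F[X]} [Fact (Irreducible q)] {v : V} (hv : v ≠ 0) (hqv : aeval f q v = 0) :
    ∃ e : AdjoinRoot q →ₗ[F] V, Function.Injective e ∧ ∀ x, f (e x) = e (AdjoinRoot.root q * x) := by
  let P : Submodule F V := LinearMap.ker (aeval f q)
  have hP : ∀ w ∈ P, f w ∈ P := by
    intro w hw
    rw [LinearMap.mem_ker] at hw ⊢
    have hc : aeval f q * f = f * aeval f q := by
      conv_lhs => arg 2; rw [← aeval_X (R := F) f]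
      rw [← map_mul, mul_comm, map_mul, aeval_X]
    rw [← Module.End.mul_apply, hc, Module.End.mul_apply, hw, map_zero]
  let g : Module.End F P := f.restrict hP
  have hg : ∀ (r : F[X]) (w : P), ((aeval g r w : P) : V) = aeval f r (w : V) := by
    intro r
    induction r using Polynomial.induction_on' with
    | add a b ha hb => intro w; simp [ha, hb]
    | monomial k c =>
      intro w
      rw [aeval_monomial, aeval_monomial, Module.End.mul_apply, Module.End.mul_apply,
        Module.algebraMap_end_apply, Module.algebraMap_end_apply, Submodule.coe_smul]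
      congr 1
      induction k with
      | zero => rfl
      | succ k ih => rw [pow_succ', pow_succ', Module.End.mul_apply, Module.End.mul_apply, ← ih]; rfl
  have hgq : aeval g q = 0 := LinearMap.ext fun w => Subtype.ext (by
    rw [hg]; simpa using w.2)
  let φ : AdjoinRoot q →ₐ[F] Module.End F P := Ideal.Quotient.liftₐ (Ideal.span {q}) (aeval g) fun a ha => by
    obtain ⟨b, rfl⟩ := Ideal.mem_span_singleton.1 ha
    rw [map_mul, hgq, zero_mul]
  let e : AdjoinRoot q →ₗ[F] V :=
    P.subtype ∘ₗ (LinearMap.applyₗ (R := F) (⟨v, LinearMap.mem_ker.2 hqv⟩ : P)) ∘ₗ φ.toLinearMap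
  refine ⟨e, ?_, fun x => ?_⟩
  · rw [← LinearMap.ker_eq_bot, LinearMap.ker_eq_bot']
    intro x hx
    by_contra hx0
    refine hv ?_
    have h1 : φ x ⟨v, LinearMap.mem_ker.2 hqv⟩ = 0 := Subtype.ext hx
    have h2 := congrArg (φ x⁻¹) h1
    rw [map_zero, ← Module.End.mul_apply, ← map_mul, inv_mul_cancel₀ hx0, map_one, Module.End.one_apply] at h2
    exact congrArg Subtype.val h2
  · show f ((φ x _ : P) : V) = ((φ (AdjoinRoot.root q * x) _ : P) : V)
    rw [map_mul, Module.End.mul_apply, show φ (AdjoinRoot.root q) = g from aeval_X (R := F) g]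
    rfl

/-- Splitting off a cyclic summand from a semisimple endomorphism. -/
theorem exists_split {V : Type v} [AddCommGroup V] [Module F V] [FiniteDimensional F V]
    (f : Module.End F V) (hf : f.IsSemisimple) {q : F[X]} [Fact (Irreducible q)] (hdvd : q ∣ f.charpoly) :
    ∃ (W' : Submodule F V) (hW' : W' ∈ f.invtSubmodule) (E : (AdjoinRoot q × W') ≃ₗ[F] V),
      ∀ x, f (E x) = E (AdjoinRoot.root q * x.1, f.restrict hW' x.2) := by
  obtain ⟨v, hv, hqv⟩ := exists_ker_of_dvd_minpoly f Fact.out (dvd_minpoly_of_dvd_charpoly f Fact.out hdvd)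
  obtain ⟨e, he, hfe⟩ := exists_cyclic f hv hqv
  have hW : LinearMap.range e ∈ f.invtSubmodule := by
    rintro _ ⟨x, rfl⟩
    exact ⟨AdjoinRoot.root q * x, (hfe x).symm⟩
  obtain ⟨W', hW', hc⟩ := Module.End.isSemisimple_iff.1 hf _ hW
  refine ⟨W', hW', ((LinearEquiv.ofInjective e he).prodCongr (LinearEquiv.refl F W')).trans
    (Submodule.prodEquivOfIsCompl _ _ hc), fun x => ?_⟩
  simp only [LinearEquiv.trans_apply, LinearEquiv.prodCongr_apply, LinearEquiv.refl_apply,
    Submodule.coe_prodEquivOfIsCompl', map_add, LinearEquiv.ofInjective_apply]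
  rw [hfe]
  rfl

theorem charpoly_split {V : Type v} [AddCommGroup V] [Module F V] [FiniteDimensional F V]
    {f : Module.End F V} {q : F[X]} [Fact (Irreducible q)] {W' : Submodule F V} {hW' : W' ∈ f.invtSubmodule}
    (E : (AdjoinRoot q × W') ≃ₗ[F] V) (hE : ∀ x, f (E x) = E (AdjoinRoot.root q * x.1, f.restrict hW' x.2)) :
    haveI : Module.Finite F (AdjoinRoot q) := (AdjoinRoot.powerBasis (Fact.out : Irreducible q).ne_zero).finite
    f.charpoly = (LinearMap.mulLeft F (AdjoinRoot.root q)).charpoly * (f.restrict hW').charpoly := by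
  haveI : Module.Finite F (AdjoinRoot q) := (AdjoinRoot.powerBasis (Fact.out : Irreducible q).ne_zero).finite
  rw [← LinearMap.charpoly_prodMap, ← LinearEquiv.charpoly_conj E]
  congr 1
  refine LinearMap.ext fun y => ?_
  obtain ⟨x, rfl⟩ := E.surjective y
  rw [hE, LinearEquiv.conj_apply_apply, LinearEquiv.symm_apply_apply]
  rfl

/-- Semisimple endomorphisms with the same characteristic polynomial are conjugate. -/
theorem exists_conj {V W : Type v} [AddCommGroup V] [Module F V] [FiniteDimensional F V] [AddCommGroup W]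
    [Module F W] [FiniteDimensional F W] (f : Module.End F V) (g : Module.End F W) (hf : f.IsSemisimple)
    (hg : g.IsSemisimple) (h : f.charpoly = g.charpoly) : ∃ e : V ≃ₗ[F] W, ∀ x, e (f x) = g (e x) := by
  suffices key : ∀ (d : ℕ) (V W : Type v) [AddCommGroup V] [Module F V] [FiniteDimensional F V] [AddCommGroup W]
      [Module F W] [FiniteDimensional F W] (f : Module.End F V) (g : Module.End F W), finrank F V ≤ d →
      f.IsSemisimple → g.IsSemisimple → f.charpoly = g.charpoly → ∃ e : V ≃ₗ[F] W, ∀ x, e (f x) = g (e x) from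
    key _ V W f g le_rfl hf hg h
  intro d
  induction d using Nat.strong_induction_on with
  | _ d ih =>
    intro V W _ _ _ _ _ _ f g hd hf hg h
    have hdim : finrank F V = finrank F W := by
      rw [← f.charpoly_natDegree, h, g.charpoly_natDegree]
    rcases Nat.eq_zero_or_pos (finrank F V) with h0 | hpos
    · haveI := finrank_zero_iff.1 h0
      haveI := finrank_zero_iff.1 (hdim ▸ h0)
      exact ⟨LinearEquiv.ofSubsingleton V W, fun x => Subsingleton.elim _ _⟩
    obtain ⟨q, hq, hqd⟩ := Polynomial.exists_irreducible_of_natDegree_pos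
      (f := f.charpoly) (by rw [f.charpoly_natDegree]; exact hpos)
    haveI := Fact.mk hq
    obtain ⟨V', hV', E, hE⟩ := exists_split f hf hqd
    obtain ⟨W', hW', E', hE'⟩ := exists_split g hg (h ▸ hqd)
    haveI : Module.Finite F (AdjoinRoot q) := (AdjoinRoot.powerBasis hq.ne_zero).finite
    have hc := h
    rw [charpoly_split E hE, charpoly_split E' hE'] at hc
    have hc' := mul_left_cancel₀ (LinearMap.charpoly_monic _).ne_zero hc
    have hlt : finrank F V' < finrank F V := by
      rw [← E.finrank_eq, Module.finrank_prod]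
      have : 0 < finrank F (AdjoinRoot q) := Module.finrank_pos
      omega
    obtain ⟨e, he⟩ := ih (finrank F V') (by omega) V' W' (f.restrict hV') (g.restrict hW') le_rfl
      (hf.restrict hV') (hg.restrict hW') hc'
    refine ⟨(E.symm.trans ((LinearEquiv.refl F (AdjoinRoot q)).prodCongr e)).trans E', fun x => ?_⟩
    obtain ⟨y, rfl⟩ := E.surjective x
    simp only [hE, LinearEquiv.trans_apply, LinearEquiv.symm_apply_apply, LinearEquiv.prodCongr_apply,
      LinearEquiv.refl_apply, hE', he]

/-- The determinant is onto on the centraliser of a semisimple endomorphism over a finite field. -/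
theorem exists_comm_det [Finite F] {V : Type v} [AddCommGroup V] [Module F V] [FiniteDimensional F V]
    (hV : 0 < finrank F V) (f : Module.End F V) (hf : f.IsSemisimple) (u : Fˣ) :
    ∃ c : V ≃ₗ[F] V, (∀ x, c (f x) = f (c x)) ∧ LinearMap.det (c : V →ₗ[F] V) = (u : F) := by
  obtain ⟨q, hq, hqd⟩ := Polynomial.exists_irreducible_of_natDegree_pos
    (f := f.charpoly) (by rw [f.charpoly_natDegree]; exact hV)
  haveI := Fact.mk hq
  obtain ⟨W', hW', E, hE⟩ := exists_split f hf hqd
  haveI : Module.Finite F (AdjoinRoot q) := (AdjoinRoot.powerBasis hq.ne_zero).finite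
  haveI : Finite (AdjoinRoot q) := Module.finite_of_finite F
  obtain ⟨k, hk⟩ := FiniteField.norm_surjective F (AdjoinRoot q) (u : F)
  have hk0 : k ≠ 0 := fun h => u.ne_zero (by rw [← hk, h, Algebra.norm_zero])
  let mk : AdjoinRoot q ≃ₗ[F] AdjoinRoot q := LinearEquiv.ofBijective (LinearMap.mulLeft F k)
    ⟨mul_right_injective₀ hk0, fun y => ⟨k⁻¹ * y, by simp [← mul_assoc, mul_inv_cancel₀ hk0]⟩⟩
  refine ⟨(E.symm.trans (mk.prodCongr (LinearEquiv.refl F W'))).trans E, fun x => ?_, ?_⟩
  · obtain ⟨y, rfl⟩ := E.surjective x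
    simp only [hE, LinearEquiv.trans_apply, LinearEquiv.symm_apply_apply, LinearEquiv.prodCongr_apply,
      LinearEquiv.refl_apply]
    rw [show mk (AdjoinRoot.root q * y.1) = AdjoinRoot.root q * mk y.1 from mul_left_comm k _ _]
  · have e : ((E.symm.trans (mk.prodCongr (LinearEquiv.refl F W'))).trans E : V →ₗ[F] V) =
        (E : (AdjoinRoot q × W') →ₗ[F] V) ∘ₗ ((LinearMap.mulLeft F k).prodMap LinearMap.id) ∘ₗ
          (E.symm : V →ₗ[F] AdjoinRoot q × W') := rfl
    rw [e, LinearMap.det_conj, LinearMap.det_prodMap, LinearMap.det_id, mul_one, ← hk, Algebra.norm_apply]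
    rfl

end End

section Matrix

variable {F : Type u} [Field F] {n : Type v} [Fintype n] [DecidableEq n]

theorem isSemisimple_toLin'_of_pow_eq_one {M : Matrix n n F} {m : ℕ} (hm : (m : F) ≠ 0) (h : M ^ m = 1) :
    Module.End.IsSemisimple (Matrix.toLin' M) := by
  refine Module.End.isSemisimple_of_squarefree_aeval_eq_zero (p := X ^ m - C 1)
    (Polynomial.separable_X_pow_sub_C (1 : F) hm one_ne_zero).squarefree ?_
  rw [show Matrix.toLin' M = Matrix.toLinAlgEquiv' M from rfl, aeval_algHom_apply, map_sub, map_pow, aeval_X, aeval_C,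
    map_one, h, sub_self, map_zero]

/-- The unit group of an element of order prime to the characteristic is semisimple. -/
theorem isSemisimple_of_coprime (p : ℕ) [Fact p.Prime] [CharP F p] [Finite F] {g : GL n F}
    (hg : (orderOf g).Coprime p) : Module.End.IsSemisimple (Matrix.toLin' (g : Matrix n n F)) := by
  refine isSemisimple_toLin'_of_pow_eq_one (m := orderOf g) ?_ ?_
  · rw [Ne, CharP.cast_eq_zero_iff F p]
    exact (Fact.out : p.Prime).coprime_iff_not_dvd.1 hg.symm
  · rw [← Units.val_pow_eq_pow_val, pow_orderOf_eq_one, Units.val_one]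

theorem isConj_of_charpoly {A B : GL n F} (hA : Module.End.IsSemisimple (Matrix.toLin' (A : Matrix n n F)))
    (hB : Module.End.IsSemisimple (Matrix.toLin' (B : Matrix n n F)))
    (h : (A : Matrix n n F).charpoly = (B : Matrix n n F).charpoly) : IsConj A B := by
  obtain ⟨e, he⟩ := exists_conj _ _ hA hB (by rw [Matrix.charpoly_toLin', Matrix.charpoly_toLin', h])
  let P : GL n F :=
    { val := LinearMap.toMatrix' (e : (n → F) →ₗ[F] n → F)
      inv := LinearMap.toMatrix' (e.symm : (n → F) →ₗ[F] n → F)
      val_inv := by rw [← LinearMap.toMatrix'_comp, LinearEquiv.comp_coe, e.symm_trans_self]; simp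
      inv_val := by rw [← LinearMap.toMatrix'_comp, LinearEquiv.comp_coe, e.self_trans_symm]; simp }
  refine isConj_iff.2 ⟨P, ?_⟩
  rw [mul_inv_eq_iff_eq_mul]
  refine Units.ext ?_
  apply Matrix.toLin'.injective
  rw [Units.val_mul, Units.val_mul, Matrix.toLin'_mul, Matrix.toLin'_mul]
  refine LinearMap.ext fun x => ?_
  show Matrix.toLin' (LinearMap.toMatrix' (e : (n → F) →ₗ[F] n → F)) (Matrix.toLin' (A : Matrix n n F) x) =
    Matrix.toLin' (B : Matrix n n F) (Matrix.toLin' (LinearMap.toMatrix' (e : (n → F) →ₗ[F] n → F)) x)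
  rw [Matrix.toLin'_toMatrix']
  exact he x

theorem exists_det_commute [Finite F] [Nonempty n] {A : GL n F}
    (hA : Module.End.IsSemisimple (Matrix.toLin' (A : Matrix n n F))) (u : Fˣ) :
    ∃ c : GL n F, c * A = A * c ∧ Matrix.GeneralLinearGroup.det c = u := by
  obtain ⟨e, he, hdet⟩ := exists_comm_det (by rw [Module.finrank_pi]; exact Fintype.card_pos) _ hA u
  have hd : (LinearMap.toMatrix' (e : (n → F) →ₗ[F] n → F)).det = u := by
    rw [LinearMap.det_toMatrix', hdet]
  refine ⟨Matrix.GeneralLinearGroup.mkOfDetNeZero _ (hd ▸ u.ne_zero), Units.ext ?_, Units.ext hd⟩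
  apply Matrix.toLin'.injective
  rw [Units.val_mul, Units.val_mul, Matrix.toLin'_mul, Matrix.toLin'_mul]
  refine LinearMap.ext fun x => ?_
  show Matrix.toLin' (LinearMap.toMatrix' (e : (n → F) →ₗ[F] n → F)) (Matrix.toLin' (A : Matrix n n F) x) =
    Matrix.toLin' (A : Matrix n n F) (Matrix.toLin' (LinearMap.toMatrix' (e : (n → F) →ₗ[F] n → F)) x)
  rw [Matrix.toLin'_toMatrix']
  exact he x

/-- Monic polynomials are characteristic polynomials. -/
theorem exists_charpoly {k : ℕ} (f : F[X]) (hf : f.Monic) (hd : f.natDegree = k) :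
    ∃ M : Matrix (Fin k) (Fin k) F, M.charpoly = f := by
  let pb := AdjoinRoot.powerBasis' hf
  have hdim : pb.dim = k := by rw [AdjoinRoot.powerBasis'_dim, hd]
  refine ⟨(Algebra.leftMulMatrix pb.basis pb.gen).reindex (finCongr hdim) (finCongr hdim), ?_⟩
  rw [Matrix.charpoly_reindex, charpoly_leftMulMatrix, AdjoinRoot.powerBasis'_gen,
    AdjoinRoot.minpoly_root hf.ne_zero, hf.leadingCoeff, inv_one, C_1, mul_one]

/-- The `p'`-part of a matrix has the same characteristic polynomial. -/
theorem exists_coprime_part [Fintype F] (p : ℕ) [Fact p.Prime] [CharP F p] (g : GL n F) :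
    ∃ g' : GL n F, (orderOf g').Coprime p ∧ (g' : Matrix n n F).charpoly = (g : Matrix n n F).charpoly := by
  obtain ⟨e, m, hm, hpm⟩ := Nat.exists_eq_pow_mul_and_not_dvd (orderOf_pos g).ne' p (Fact.out : p.Prime).ne_one
  obtain ⟨f, hp, hcard⟩ := FiniteField.card F p
  refine ⟨g ^ (Fintype.card F) ^ e, ?_, ?_⟩
  · have h1 : (g ^ (Fintype.card F) ^ e) ^ m = 1 := by
      rw [← pow_mul, ← orderOf_dvd_iff_pow_eq_one, hpm, hcard]
      refine Nat.mul_dvd_mul_right ?_ _
      exact pow_dvd_pow_of_dvd (dvd_pow_self p f.ne_zero) e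
    exact ((Fact.out : p.Prime).coprime_iff_not_dvd.2 hm).symm.coprime_dvd_left (orderOf_dvd_of_pow_eq_one h1)
  · clear hm hpm
    induction e with
    | zero => simp
    | succ e ih =>
      rw [pow_succ, pow_mul, Units.val_pow_eq_pow_val, FiniteField.Matrix.charpoly_pow_card, ih]

end Matrix

end CfsgLib.KnownB.Semisimple
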