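import Cfsg.Agent.Lib.KnownB.ElementOrders
import Cfsg.Agent.Lib.KnownB.Semisimple

/-!
The three kinds of element orders of `PSL n F` relative to a prime divisor of `q - 1` prime to `n`, and
representatives covering them.
-/

set_option autoImplicit false

namespace CfsgLib.KnownB.PSLOrders

open Polynomial Matrix CfsgLib.KnownB.ElementOrders
open scoped MatrixGroups

universe u

variable {F : Type u} [Field F] [Fintype F] {n : ℕ}

/-- `(q ^ d - 1) / (q - 1)`. -/
noncomputable def geom (F : Type u) [Fintype F] (d : ℕ) : ℕ :=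
  (Fintype.card F ^ d - 1) / (Fintype.card F - 1)

theorem geom_mul (d : ℕ) : (Fintype.card F - 1) * geom F d = Fintype.card F ^ d - 1 :=
  Nat.mul_div_cancel' (by simpa using Nat.sub_dvd_pow_sub_pow (Fintype.card F) 1 d)

theorem coprime_geom (p : ℕ) [Fact p.Prime] [CharP F p] (d k : ℕ) (hd : 0 < d) :
    Nat.Coprime (p ^ k) (geom F d) := by
  refine Nat.Coprime.pow_left k ((Fact.out : p.Prime).coprime_iff_not_dvd.2 fun h => ?_)
  obtain ⟨f, -, hcard⟩ := FiniteField.card F p
  have h1 : p ∣ Fintype.card F ^ d - 1 := geom_mul (F := F) d ▸ h.mul_left _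
  have h2 : p ∣ Fintype.card F ^ d := dvd_pow (hcard ▸ dvd_pow_self p f.ne_zero) hd.ne'
  have h3 : 1 ≤ Fintype.card F ^ d := Nat.one_le_pow _ _ Fintype.card_pos
  have h4 := Nat.dvd_sub h2 h1
  rw [Nat.sub_sub_self h3] at h4
  exact (Fact.out : p.Prime).ne_one (Nat.dvd_one.1 h4)

local notation "P" => Matrix.ProjectiveSpecialLinearGroup (Fin n) F

/-- The projective order of a Singer element. -/
noncomputable def singer (F : Type u) [Fintype F] (n : ℕ) : ℕ :=
  geom F n / Nat.gcd (geom F n) (Fintype.card F - 1)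

theorem exists_singer_order (hn : 0 < n) : ∃ h : P, singer F n ∣ orderOf h := by
  obtain ⟨A, -, hA⟩ := exists_singer (F := F) n hn
  refine ⟨QuotientGroup.mk A, ?_⟩
  have h := hA _ (mk_pow_eq_one_iff.1 (pow_orderOf_eq_one (QuotientGroup.mk A : P)))
  have hq : 0 < Fintype.card F - 1 := Nat.sub_pos_of_lt Fintype.one_lt_card
  have hg : 0 < Nat.gcd (geom F n) (Fintype.card F - 1) := Nat.gcd_pos_of_pos_right _ hq
  have hco := Nat.coprime_div_gcd_div_gcd hg
  refine hco.dvd_of_dvd_mul_left ?_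
  obtain ⟨a, ha⟩ := Nat.gcd_dvd_left (geom F n) (Fintype.card F - 1)
  obtain ⟨b, hb⟩ := Nat.gcd_dvd_right (geom F n) (Fintype.card F - 1)
  set γ := Nat.gcd (geom F n) (Fintype.card F - 1) with hγ
  change geom F n ∣ _ at h
  rw [ha, hb] at *
  rw [Nat.mul_div_cancel_left _ hg, Nat.mul_div_cancel_left _ hg]
  rw [mul_assoc] at h
  exact Nat.dvd_of_mul_dvd_mul_left hg h

/-- Elements fall into three kinds. -/
theorem trichotomy (p : ℕ) [Fact p.Prime] [CharP F p] (hn : 0 < n) {r : ℕ} (hr : r.Prime)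
    (hrq : r ∣ Fintype.card F - 1) (hrn : ¬ r ∣ n) (x : P) :
    (∃ h : P, orderOf x ∣ orderOf h ∧ r ∣ orderOf h) ∨ orderOf x ∣ singer F n ∨
      ∃ d, 0 < d ∧ d ∣ n ∧ d < n ∧ orderOf x ∣ p ^ Nat.clog p (n / d) * geom F d := by
  classical
  obtain ⟨g, rfl⟩ := QuotientGroup.mk_surjective x
  set A : Matrix (Fin n) (Fin n) F := (g : Matrix (Fin n) (Fin n) F)
  set Q := A.charpoly
  have hQm : Q.Monic := Matrix.charpoly_monic _
  have hQd : Q.natDegree = n := by rw [Matrix.charpoly_natDegree_eq_dim, Fintype.card_fin]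
  have hQu : ¬ IsUnit Q := fun h => by
    have := Polynomial.natDegree_eq_zero_of_isUnit h
    omega
  obtain ⟨f, hfm, hfi, hfQ⟩ := Polynomial.exists_monic_irreducible_factor Q hQu
  obtain ⟨e, b, hfb, hQ⟩ := WfDvdMonoid.max_power_factor hQm.ne_zero hfi
  have he : 0 < e := by
    by_contra h
    rw [Nat.eq_zero_of_not_pos h, pow_zero, one_mul] at hQ
    exact hfb (hQ ▸ hfQ)
  by_cases hb : IsUnit b
  · right
    have hQf : Q = f ^ e := Polynomial.eq_of_monic_of_associated hQm (hfm.pow e)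
      ⟨hb.unit⁻¹, by rw [hQ, mul_assoc, IsUnit.mul_val_inv, mul_one]⟩
    set d := f.natDegree with hd
    have hde : e * d = n := by rw [← hQd, hQf, Polynomial.natDegree_pow]
    have hd0 : 0 < d := hfi.natDegree_pos
    have hA : aeval A (f ^ e) = 0 := hQf ▸ Matrix.aeval_self_charpoly A
    haveI := Fact.mk hfi
    haveI : Module.Finite F (AdjoinRoot f) := (AdjoinRoot.powerBasis hfi.ne_zero).finite
    haveI : Finite (AdjoinRoot f) := Module.finite_of_finite F
    have hcard := card_adjoinRoot (F := F) hfi.ne_zero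
    rcases (Nat.le_of_dvd hn (hde ▸ dvd_mul_left d e)).lt_or_eq with hdn | hdn
    · right
      refine ⟨d, hd0, hde ▸ dvd_mul_left d e, hdn, ?_⟩
      obtain ⟨c, hc⟩ := exists_scalar_of_primary p A hfi hA (k := Nat.clog p (n / d))
        (by rw [← hde, Nat.mul_div_cancel _ hd0]; exact Nat.le_pow_clog (Fact.out : p.Prime).one_lt e)
        (N := geom F d) (pow_mem_range_algebraMap hcard _)
      rw [mul_comm]
      exact orderOf_dvd_of_pow_eq_one (mk_pow_eq_one_iff.2 ⟨c, hc⟩)
    · left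
      have he1 : e = 1 := by rw [hdn] at hde; exact Nat.eq_of_mul_eq_mul_right hn (hde.trans (one_mul n).symm)
      set α := AdjoinRoot.root f with hα
      have hnorm : Algebra.norm F α = 1 := by
        have h1 := Algebra.PowerBasis.norm_gen_eq_coeff_zero_minpoly (AdjoinRoot.powerBasis hfi.ne_zero)
        rw [AdjoinRoot.powerBasis_gen, AdjoinRoot.powerBasis_dim, AdjoinRoot.minpoly_root hfi.ne_zero,
          hfm.leadingCoeff, inv_one, C_1, mul_one] at h1
        rw [hα, h1, show f.natDegree = n from hdn]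
        have h2 := Matrix.det_eq_sign_charpoly_coeff A
        rw [g.det_coe, Fintype.card_fin, show A.charpoly = f by rw [show A.charpoly = Q from rfl, hQf, he1, pow_one]]
          at h2
        exact h2.symm
      have hα1 : α ^ geom F d = 1 := by
        have h := FiniteField.algebraMap_norm_eq_pow (K := F) (K' := AdjoinRoot f) (x := α)
        rw [hnorm, map_one, hcard, Nat.card_eq_fintype_card] at h
        exact h.symm
      have hαsub : ∃ c : F, α ^ (singer F n) = algebraMap F (AdjoinRoot f) c := by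
        have hα0 : α ≠ 0 := fun h0 => by
          have hg0 : geom F d ≠ 0 := fun hh => by
            have := geom_mul (F := F) d
            rw [hh, mul_zero] at this
            have := Nat.one_lt_pow hd0.ne' (Fintype.one_lt_card (α := F))
            omega
          rw [h0, zero_pow hg0] at hα1
          exact zero_ne_one hα1
        obtain ⟨ω, hω⟩ := IsCyclic.exists_generator (α := (AdjoinRoot f)ˣ)
        have hord : orderOf ω = Fintype.card F ^ d - 1 := by
          rw [orderOf_eq_card_of_forall_mem_zpowers hω, Nat.card_units, hcard]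
        obtain ⟨j, hj⟩ := mem_powers_iff_mem_zpowers.2 (hω (Units.mk0 α hα0))
        change ω ^ j = Units.mk0 α hα0 at hj
        have hj1 : (Fintype.card F - 1) ∣ j := by
          have h : ω ^ (j * geom F d) = 1 := by
            rw [pow_mul, hj]
            exact Units.ext (by simpa using hα1)
          have h' := orderOf_dvd_of_pow_eq_one h
          rw [hord, ← geom_mul] at h'
          refine Nat.dvd_of_mul_dvd_mul_right (Nat.pos_of_ne_zero fun hh => ?_) h'
          have := geom_mul (F := F) d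
          rw [hh, mul_zero] at this
          have := Nat.one_lt_pow hd0.ne' (Fintype.one_lt_card (α := F))
          omega
        obtain ⟨i, rfl⟩ := hj1
        obtain ⟨c, hc⟩ := pow_mem_range_algebraMap hcard
          ((ω : AdjoinRoot f) ^ (i * ((Fintype.card F - 1) / Nat.gcd (geom F n) (Fintype.card F - 1))))
        refine ⟨c, ?_⟩
        rw [← hc, show α = ((ω ^ ((Fintype.card F - 1) * i) : (AdjoinRoot f)ˣ) : AdjoinRoot f) by rw [hj]; rfl,
          Units.val_pow_eq_pow_val, ← pow_mul, ← pow_mul]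
        congr 1
        change (Fintype.card F - 1) * i * (geom F n / _) = i * ((Fintype.card F - 1) / _) * geom F d
        rw [hdn, mul_comm (Fintype.card F - 1) i, mul_assoc, mul_assoc]
        congr 1
        rw [← Nat.mul_div_assoc _ (Nat.gcd_dvd_left _ _), ← Nat.div_mul_right_comm (Nat.gcd_dvd_right _ _)]
      obtain ⟨c, hc⟩ := exists_scalar_of_primary p A hfi hA (k := 0) (by rw [he1, pow_zero]) hαsub
      rw [pow_zero, mul_one] at hc
      exact orderOf_dvd_of_pow_eq_one (mk_pow_eq_one_iff.2 ⟨c, hc⟩)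
  · left
    obtain ⟨u, v, huv⟩ := (((hfi.coprime_iff_not_dvd).2 hfb).pow_left (m := e) : IsCoprime (f ^ e) b)
    let E := aeval A (v * b)
    have hE : E * E = E := by
      have h : v * b * (v * b) = v * b - u * v * (f ^ e * b) := by linear_combination (v * b) * huv
      change aeval A (v * b) * aeval A (v * b) = aeval A (v * b)
      rw [← map_mul (aeval A) (v * b) (v * b), h, map_sub, ← hQ, map_mul (aeval A) (u * v) Q,
        show aeval A Q = 0 from Matrix.aeval_self_charpoly A, mul_zero, sub_zero]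
    have key : ∀ a c w z : F[X], ¬ IsUnit a → a * c = Q → w * a + z * c = 1 → aeval A (z * c) ≠ 0 := by
      intro a c w z ha hac hwz h0
      obtain ⟨π, hπm, hπ, hπa⟩ := Polynomial.exists_monic_irreducible_factor a ha
      have h1 := Semisimple.dvd_minpoly_of_dvd_charpoly (Matrix.toLin' A) hπ
        (by rw [Matrix.charpoly_toLin', show A.charpoly = Q from rfl, ← hac]; exact hπa.mul_right c)
      have h2 : π ∣ z * c := h1.trans (by
        refine minpoly.dvd F _ ?_
        rw [show Matrix.toLin' A = Matrix.toLinAlgEquiv' A from rfl, aeval_algHom_apply, h0, map_zero])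
      exact hπ.not_dvd_one (hwz ▸ dvd_add (hπa.mul_left w) h2)
    have hE0 : E ≠ 0 := key (f ^ e) b u v (fun h => hfi.not_isUnit ((isUnit_pow_iff he.ne').1 h)) hQ.symm huv
    have hE1 : E ≠ 1 := by
      intro h1
      refine key b (f ^ e) v u hb (by rw [mul_comm, hQ]) (by rw [add_comm, huv]) ?_
      rw [show u * f ^ e = 1 - v * b by linear_combination huv, map_sub, map_one]
      exact sub_eq_zero.2 h1.symm
    have hc : Commute E A := by
      have := (Commute.all (v * b) X).map (aeval A)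
      rwa [aeval_X] at this
    obtain ⟨h, hh⟩ := exists_mul_prime hr hrq hrn hE hE0 hE1 (g := g) hc
    exact ⟨h, (Nat.dvd_lcm_left _ _).trans hh, (Nat.dvd_lcm_right _ _).trans hh⟩

theorem exists_unipotent_order (p : ℕ) [Fact p.Prime] [CharP F p] (hn : 0 < n) :
    ∃ h : P, p ^ Nat.clog p n ∣ orderOf h := by
  obtain ⟨U, hU, hv⟩ := exists_unipotent (F := F) p hn
  obtain ⟨g, -, hg, -⟩ := exists_blocks (zero_add n) (1 : Matrix.SpecialLinearGroup (Fin 0) F) U
  exact ⟨_, hU ▸ (hg hv).2.1⟩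

theorem exists_prime_order (hn : 2 ≤ n) {r : ℕ} (hr : r.Prime) (hrq : r ∣ Fintype.card F - 1) (hrn : ¬ r ∣ n) :
    ∃ h : P, r ∣ orderOf h := by
  obtain ⟨g, -, -, hg⟩ := exists_blocks (show 1 + (n - 1) = n by omega)
    (1 : Matrix.SpecialLinearGroup (Fin 1) F) (1 : Matrix.SpecialLinearGroup (Fin (n - 1)) F)
  obtain ⟨E, h1, h2, h3, h4⟩ := hg one_pos (by omega)
  obtain ⟨h, hh⟩ := exists_mul_prime hr hrq hrn h1 h2 h3 h4
  exact ⟨h, (Nat.dvd_lcm_right _ _).trans hh⟩

/-- Two semisimple parts in one element. -/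
theorem exists_two {d₁ d₂ : ℕ} (h₁ : 0 < d₁) (h₂ : 0 < d₂) (hd₁ : d₁ ∣ n) (hd₂ : d₂ ∣ n) (hl₁ : d₁ < n) (hl₂ : d₂ < n)
    {r : ℕ} (hr : r.Prime) (hrq : r ∣ Fintype.card F - 1) (hrn : ¬ r ∣ n) :
    ∃ h : P, geom F d₁ ∣ orderOf h ∧ geom F d₂ ∣ orderOf h ∧ r ∣ orderOf h := by
  have hfix : ∀ b : ℕ, 0 < b → ∃ v : Fin b → F, v ≠ 0 ∧
      ((1 : Matrix.SpecialLinearGroup (Fin b) F) : Matrix (Fin b) (Fin b) F) *ᵥ v = v :=
    fun b hb => ⟨fun _ => 1, fun h => one_ne_zero (congrFun h ⟨0, hb⟩), by rw [Matrix.SpecialLinearGroup.coe_one, Matrix.one_mulVec]⟩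
  obtain ⟨A₁, hA₁, -⟩ := exists_singer (F := F) d₁ h₁
  obtain ⟨A₂, hA₂, -⟩ := exists_singer (F := F) d₂ h₂
  obtain ⟨B, hB, hv⟩ : ∃ B : Matrix.SpecialLinearGroup (Fin (n - d₁)) F,
      (d₂ = d₁ ∨ geom F d₂ ∣ orderOf B) ∧
        ∃ v : Fin (n - d₁) → F, v ≠ 0 ∧ (B : Matrix (Fin (n - d₁)) (Fin (n - d₁)) F) *ᵥ v = v := by
    by_cases he : d₂ = d₁
    · exact ⟨1, Or.inl he, hfix _ (by omega)⟩
    have hlt : d₂ + d₁ < n := by
      obtain ⟨a, rfl⟩ := hd₁
      obtain ⟨c, hc⟩ := hd₂
      have ha : 2 ≤ a := by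
        by_contra h; interval_cases a <;> simp at hl₁
      have hc2 : 2 ≤ c := by
        by_contra h; interval_cases c <;> simp [hc] at hl₂
      have := Nat.mul_le_mul_left d₁ ha
      have := Nat.mul_le_mul_left d₂ hc2
      omega
    obtain ⟨g, -, hg, -⟩ := exists_blocks (show d₂ + (n - d₁ - d₂) = n - d₁ by omega) A₂ 1
    obtain ⟨ha, -, hv⟩ := hg (hfix _ (by omega))
    refine ⟨g, Or.inr ?_, hv⟩
    rw [geom, ← hA₂]
    exact ha.trans (orderOf_map_dvd (QuotientGroup.mk' _) g)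
  obtain ⟨g, -, hg, hidem⟩ := exists_blocks (show d₁ + (n - d₁) = n by omega) A₁ B
  obtain ⟨E, h1, h2, h3, h4⟩ := hidem h₁ (by omega)
  obtain ⟨h, hh⟩ := exists_mul_prime hr hrq hrn h1 h2 h3 h4
  obtain ⟨ha, hb, -⟩ := hg hv
  have hh1 := (Nat.dvd_lcm_left _ _).trans hh
  refine ⟨h, (hA₁ ▸ ha).trans hh1, ?_, (Nat.dvd_lcm_right _ _).trans hh⟩
  rcases hB with rfl | hB
  · exact (hA₁ ▸ ha).trans hh1
  · exact (hB.trans hb).trans hh1

/-- A semisimple and a unipotent part in one element. -/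
theorem exists_mixed (p : ℕ) [Fact p.Prime] [CharP F p] (hpow : ¬ ∃ j : ℕ, n - 1 = p ^ j) {d : ℕ} (h₁ : 0 < d)
    (hd : d ∣ n) (hl : d < n) {r : ℕ} (hr : r.Prime) (hrq : r ∣ Fintype.card F - 1) (hrn : ¬ r ∣ n) :
    ∃ h : P, p ^ Nat.clog p (n / d) * geom F d ∣ orderOf h ∧ r ∣ orderOf h := by
  obtain ⟨A, hA, -⟩ := exists_singer (F := F) d h₁
  obtain ⟨U, hU, hv⟩ := exists_unipotent (F := F) p (show 0 < n - d by omega)
  obtain ⟨g, -, hg, hidem⟩ := exists_blocks (show d + (n - d) = n by omega) A U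
  obtain ⟨E, h1, h2, h3, h4⟩ := hidem h₁ (by omega)
  obtain ⟨h, hh⟩ := exists_mul_prime hr hrq hrn h1 h2 h3 h4
  obtain ⟨ha, hb, -⟩ := hg hv
  have hh1 := (Nat.dvd_lcm_left _ _).trans hh
  refine ⟨h, (coprime_geom p d _ h₁).mul_dvd_of_dvd_of_dvd ?_ ((hA ▸ ha).trans hh1),
    (Nat.dvd_lcm_right _ _).trans hh⟩
  refine (pow_dvd_pow p ?_).trans ((hU ▸ hb).trans hh1)
  have hp := (Fact.out : p.Prime)
  obtain ⟨e, rfl⟩ := hd
  rw [Nat.mul_div_cancel_left _ h₁]
  by_cases hd1 : d = 1
  · subst hd1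
    rw [one_mul] at *
    refine (Nat.clog_le_iff_le_pow hp.one_lt).2 ?_
    have := Nat.le_pow_clog hp.one_lt (e - 1)
    rcases this.lt_or_eq with h | h
    · omega
    · exact absurd ⟨_, h⟩ hpow
  · refine Nat.clog_mono_right p (Nat.le_sub_of_add_le ?_)
    have : 2 ≤ e := by
      by_contra h; interval_cases e <;> simp at hl
    nlinarith [show 2 ≤ d by omega]

end CfsgLib.KnownB.PSLOrders
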