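import Cfsg.Agent.Lib.KnownB.PrimeGraphForm
import Cfsg.Agent.Lib.KnownB.RestrictScalars
import Cfsg.Agent.Lib.Geometry.UnSplit
import Cfsg.Agent.Lib.Classical.UnitarySU

/-!
Eigenvalue factors of unitary matrices, and the embedding of a general linear torus into a unitary group of
twice the dimension.
-/

set_option autoImplicit false
set_option linter.unusedSectionVars false

namespace CfsgLib.KnownB.UnitaryEigen

open Polynomial Matrix CfsgLib.Classical CfsgLib.Classical.Unitary CfsgLib.KnownB.PrimeGraph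

universe u

variable {F : Type u} [Field F] [Fintype F] {σ : F →+* F} {q n : ℕ}

/-- The factor paired with `f` under a unitary matrix. -/
noncomputable def dualM (σ : F →+* F) (f : F[X]) : F[X] := revM (f.map σ)

theorem map_coeff_zero_ne {f : F[X]} (hf : f.coeff 0 ≠ 0) : (f.map σ).coeff 0 ≠ 0 := by
  rw [coeff_map]; exact (map_ne_zero σ).2 hf

theorem su_mul (h : UFrob σ q) (g : Cfsg.SU n F q) :
    (g.1.1)ᵀ * g.1.1.map σ = 1 :=
  (CfsgLib.Geometry.UnSplit.mem_GU_iff_mul h (g := Matrix.SpecialLinearGroup.toGL g.1)).1 g.2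

theorem mem_SU_of_mul (h : UFrob σ q) {g : Matrix.SpecialLinearGroup (Fin n) F}
    (hg : g.1ᵀ * g.1.map σ = 1) : g ∈ Cfsg.SU n F q :=
  (CfsgLib.Geometry.UnSplit.mem_GU_iff_mul h (g := Matrix.SpecialLinearGroup.toGL g)).2 hg

theorem aeval_map (M : Matrix (Fin n) (Fin n) F) (P : F[X]) :
    aeval (M.map σ) (P.map σ) = (aeval M P).map σ := by
  show aeval (σ.mapMatrix M) (P.map σ) = σ.mapMatrix (aeval M P)
  induction P using Polynomial.induction_on' with
  | add a b ha hb => rw [Polynomial.map_add, map_add, map_add, map_add, ha, hb]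
  | monomial j c =>
    rw [map_monomial, aeval_monomial, aeval_monomial, map_mul, map_pow]
    congr 1
    ext a b
    by_cases hab : a = b <;> simp [Matrix.algebraMap_matrix_apply, hab]

theorem aeval_transpose (M : Matrix (Fin n) (Fin n) F) (P : F[X]) : aeval Mᵀ P = (aeval M P)ᵀ := by
  induction P using Polynomial.induction_on' with
  | add a b ha hb => rw [map_add, map_add, Matrix.transpose_add, ha, hb]
  | monomial j c =>
    rw [aeval_monomial, aeval_monomial, ← Algebra.smul_def, ← Algebra.smul_def, Matrix.transpose_smul,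
      Matrix.transpose_pow]

/-- The dual of a factor of the minimal polynomial is a factor. -/
theorem dualM_dvd_minpoly (h : UFrob σ q) {A : Matrix (Fin n) (Fin n) F} (hA : Aᵀ * A.map σ = 1)
    {f : F[X]} (hf0 : f.coeff 0 ≠ 0) (hd : f ∣ minpoly F A) : dualM σ f ∣ minpoly F A := by
  set μ := minpoly F A with hμ
  set B := (A.map σ)ᵀ with hB
  have hAB : A * B = 1 := by
    refine mul_eq_one_comm.1 ?_
    rw [hB]
    have e := congrArg (fun M => M.map σ) hA
    simp only [Matrix.map_mul, ← Matrix.transpose_map] at e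
    have hss : (A.map σ).map σ = A := by ext i j; simp [h.invol]
    rw [hss, Matrix.map_one σ (map_zero σ) (map_one σ)] at e
    exact e
  have hBμ : aeval B (μ.map σ) = 0 := by
    rw [hB, aeval_transpose, aeval_map, hμ, minpoly.aeval, Matrix.map_zero σ (map_zero σ), Matrix.transpose_zero]
  have hrev : μ ∣ (μ.map σ).reverse := minpoly.dvd F A (aeval_reverse_eq_zero A B hAB hBμ)
  have hμ0 : μ ≠ 0 := minpoly.ne_zero (Matrix.isIntegral A)
  have hassoc : Associated μ (μ.map σ).reverse := by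
    refine Polynomial.associated_of_dvd_of_natDegree_le hrev ?_
      ((reverse_natDegree_le _).trans (natDegree_map_eq_of_injective σ.injective μ).le)
    rw [Ne, reverse_eq_zero]
    exact (Polynomial.map_ne_zero_iff σ.injective).2 hμ0
  refine (associated_revM (map_coeff_zero_ne hf0)).dvd.trans (dvd_trans ?_ hassoc.symm.dvd)
  obtain ⟨c, hc⟩ := hd
  rw [hc, Polynomial.map_mul, reverse_mul_of_domain]
  exact dvd_mul_right _ _

theorem irreducible_dualM (h : UFrob σ q) {f : F[X]} (hf : Irreducible f) (hf0 : f.coeff 0 ≠ 0) :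
    Irreducible (dualM σ f) := by
  refine irreducible_revM ?_ (map_coeff_zero_ne hf0)
  let e : F ≃+* F := RingEquiv.ofBijective σ
    ⟨σ.injective, fun x => ⟨σ x, h.invol x⟩⟩
  rw [show f.map σ = Polynomial.mapEquiv e f from rfl]
  exact hf.map (Polynomial.mapEquiv e)

theorem natDegree_dualM {f : F[X]} (hf0 : f.coeff 0 ≠ 0) : (dualM σ f).natDegree = f.natDegree := by
  rw [dualM, natDegree_revM (map_coeff_zero_ne hf0), natDegree_map_eq_of_injective σ.injective]

theorem coeff_zero_dualM {f : F[X]} (hfm : f.Monic) : (dualM σ f).coeff 0 = (σ (f.coeff 0))⁻¹ := by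
  rw [dualM, revM, mul_coeff_zero, coeff_C_zero, coeff_zero_reverse, (hfm.map σ).leadingCoeff, mul_one, coeff_map]

/-- A self-paired factor has odd degree `D` and roots killed by `q ^ D + 1`. -/
theorem self_paired (h : UFrob σ q) (hF : Fintype.card F = q ^ 2) {f : F[X]} (hf : Irreducible f)
    (hf0 : f.coeff 0 ≠ 0) (hself : dualM σ f = f) :
    Odd f.natDegree ∧ f ∣ X ^ (q ^ f.natDegree + 1) - 1 := by
  classical
  haveI := Fact.mk hf
  haveI : Module.Finite F (AdjoinRoot f) := (AdjoinRoot.powerBasis hf.ne_zero).finite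
  haveI : Finite (AdjoinRoot f) := Module.finite_of_finite F
  obtain ⟨p, hp⟩ := CharP.exists F
  haveI := Fact.mk (CharP.char_is_prime F p)
  haveI : CharP (AdjoinRoot f) p := charP_of_injective_algebraMap (algebraMap F (AdjoinRoot f)).injective p
  obtain ⟨k, hk⟩ : ∃ k, q = p ^ k := by
    obtain ⟨e, -, he⟩ := FiniteField.card F p
    obtain ⟨k, -, hk⟩ := (Nat.dvd_prime_pow Fact.out).1 (he ▸ hF ▸ dvd_pow_self q two_ne_zero)
    exact ⟨k, hk⟩
  let φ : AdjoinRoot f →+* AdjoinRoot f := iterateFrobenius (AdjoinRoot f) p k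
  have hφ : ∀ x, φ x = x ^ q := fun x => by rw [hk]; exact iterateFrobenius_def ..
  have hφbij : Function.Bijective φ :=
    ⟨φ.injective, Finite.surjective_of_injective φ.injective⟩
  set α := AdjoinRoot.root f with hα
  have hα0 : α ≠ 0 := by
    intro h0
    have h1 : f ∣ X := AdjoinRoot.mk_eq_zero.1 (by rw [AdjoinRoot.mk_X]; exact h0)
    exact hf0 (X_dvd_iff.1 ((hf.associated_of_dvd irreducible_X h1).symm.dvd))
  have hroot : aeval α⁻¹ (f.map σ) = 0 := by
    have h1 : aeval α (f.map σ).reverse = 0 := by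
      obtain ⟨c, hc⟩ := (associated_revM (map_coeff_zero_ne (σ := σ) hf0)).dvd
      rw [show revM (f.map σ) = f from hself] at hc
      rw [hc, map_mul, AdjoinRoot.aeval_eq, AdjoinRoot.mk_self, zero_mul]
    haveI : Invertible α⁻¹ := invertibleOfNonzero (inv_ne_zero hα0)
    rw [aeval_def, ← eval₂_reverse_eq_zero_iff, invOf_eq_inv, inv_inv]
    exact h1
  obtain ⟨β, hβ⟩ := hφbij.2 α⁻¹
  have hβroot : aeval β f = 0 := by
    refine φ.injective ?_
    rw [map_zero, ← hroot, ← hβ, aeval_def, aeval_def, Polynomial.eval₂_map, Polynomial.hom_eval₂]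
    congr 1
    refine RingHom.ext fun x => ?_
    rw [RingHom.comp_apply, RingHom.comp_apply, hφ, h.pow, map_pow]
  set ρ : AdjoinRoot f →ₐ[F] AdjoinRoot f :=
    AdjoinRoot.liftAlgHom f (Algebra.ofId F _) β hβroot with hρ
  have hρα : ρ α = β := AdjoinRoot.liftAlgHom_root _ _ _ _
  have hbij : Function.Bijective ρ :=
    ⟨ρ.toRingHom.injective, Finite.surjective_of_injective ρ.toRingHom.injective⟩
  obtain ⟨⟨i, hi⟩, hiρ⟩ := (FiniteField.bijective_frobeniusAlgEquivOfAlgebraic_pow F (AdjoinRoot f)).2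
    (AlgEquiv.ofBijective ρ hbij)
  have hfr : α ^ (Fintype.card F ^ i) = β := by
    have h := AlgEquiv.congr_fun hiρ α
    dsimp only at h
    rw [AlgEquiv.coe_pow, FiniteField.coe_frobeniusAlgEquivOfAlgebraic, pow_iterate] at h
    simp only [AlgEquiv.coe_ofBijective, hρα] at h
    exact h
  have hD : Module.finrank F (AdjoinRoot f) = f.natDegree := by
    rw [(AdjoinRoot.powerBasis hf.ne_zero).finrank, AdjoinRoot.powerBasis_dim]
  rw [hD] at hi
  have hkey : α ^ (q ^ (2 * i + 1)) = α⁻¹ := by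
    rw [pow_succ, pow_mul α, pow_mul q, ← hF, hfr, ← hφ, hβ]
  have hdvd : f.natDegree ∣ 2 * i + 1 := by
    refine Irreducible.natDegree_dvd_of_dvd_X_pow_card_pow_sub_X hf ?_
    rw [← AdjoinRoot.mk_eq_zero, map_sub, map_pow, AdjoinRoot.mk_X, ← hα, Nat.card_eq_fintype_card, hF,
      ← pow_mul, two_mul (2 * i + 1), pow_add, pow_mul, hkey, inv_pow, hkey, inv_inv, sub_self]
  obtain ⟨c, hc⟩ := hdvd
  have hc1 : c = 1 := by
    match c, hc with
    | 0, hc => omega
    | 1, _ => rfl
    | c + 2, hc => nlinarith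
  rw [hc1, mul_one] at hc
  refine ⟨⟨i, hc.symm⟩, ?_⟩
  rw [← AdjoinRoot.mk_eq_zero, map_sub, map_pow, AdjoinRoot.mk_X, map_one, ← hα, ← hc, pow_succ α, hkey,
    inv_mul_cancel₀ hα0, sub_self]

/-- `diag (A, A^{-*})` in coordinates. -/
theorem exists_hyper (h : UFrob σ q) {m : ℕ} (A : Matrix (Fin m) (Fin m) F)
    (hA : IsUnit A.det) (hdet : σ A.det = A.det) :
    ∃ (g : Cfsg.SU (m + m) F q) (C C' : Matrix (Fin m ⊕ Fin m) (Fin m ⊕ Fin m) F), C' * C = 1 ∧
      g.1.1 = Matrix.reindexAlgEquiv F F (finSumFinEquiv (m := m) (n := m))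
        (C * fromBlocks A 0 0 (A⁻¹.map σ)ᵀ * C') := by
  classical
  obtain ⟨ω, ω', hω, hω', hne⟩ := CfsgLib.KnownB.RestrictScalars.exists_two_roots h
  have hω0 : ω ≠ 0 := fun e0 => by rw [e0, zero_mul] at hω; exact one_ne_zero (neg_eq_zero.1 hω.symm)
  set β := 1 + ω * σ ω' with hβdef
  have hβ : β ≠ 0 := fun e => hne (σ.injective (mul_left_cancel₀ hω0 (show ω * σ ω = ω * σ ω' by
    linear_combination hω - e + hβdef)))
  have hσβ : σ β ≠ 0 := (map_ne_zero σ).2 hβ
  set c := (σ β)⁻¹ with hc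
  have hcσ : σ c * β = 1 := by rw [hc, map_inv₀, h.invol, inv_mul_cancel₀ hβ]
  have hc' : c * (1 + ω' * σ ω) = 1 := by
    rw [show 1 + ω' * σ ω = σ β by rw [hβdef, map_add, map_one, map_mul, h.invol]; ring, hc,
      inv_mul_cancel₀ hσβ]
  let C : Matrix (Fin m ⊕ Fin m) (Fin m ⊕ Fin m) F := fromBlocks 1 (c • 1) (ω • 1) ((c * ω') • 1)
  set J : Matrix (Fin m ⊕ Fin m) (Fin m ⊕ Fin m) F := fromBlocks 0 1 1 0 with hJ
  have hmap : ∀ M N P R : Matrix (Fin m) (Fin m) F,
      (fromBlocks M N P R).map σ = fromBlocks (M.map σ) (N.map σ) (P.map σ) (R.map σ) :=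
    fun M N P R => Matrix.fromBlocks_map M N P R σ
  have hsc : ∀ a : F, (a • (1 : Matrix (Fin m) (Fin m) F)).map σ = σ a • 1 := fun a => by
    ext i j; by_cases e : i = j <;> simp [Matrix.one_apply, e]
  have hCJ : Cᵀ * C.map σ = J := by
    rw [hmap, fromBlocks_transpose, fromBlocks_multiply, hsc, hsc, hsc, Matrix.map_one σ (map_zero σ) (map_one σ),
      hJ]
    simp only [transpose_smul, transpose_one, smul_mul_assoc, mul_smul_comm, one_mul, mul_one, smul_smul]
    have h0 : ∀ a b : F, a • (1 : Matrix (Fin m) (Fin m) F) + b • 1 = (a + b) • 1 := fun a b =>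
      (add_smul a b _).symm
    rw [show (1 : Matrix (Fin m) (Fin m) F) = (1 : F) • 1 from (one_smul F _).symm]
    simp only [smul_smul, mul_one, one_mul, h0]
    congr 1
    · rw [show 1 + σ ω * ω = 0 by linear_combination hω, zero_smul]
    · congr 1; rw [map_mul]; linear_combination hcσ + σ c * hβdef
    · congr 1; linear_combination hc'
    · rw [show σ c * c + σ (c * ω') * (c * ω') = 0 by rw [map_mul]; linear_combination (c * σ c) * hω', zero_smul]
  have hJJ : J * J = 1 := by rw [hJ, fromBlocks_multiply]; simp [fromBlocks_one]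
  set C' := J * Cᵀ with hC'
  have hC'C : C' * C.map σ = 1 := by rw [hC', mul_assoc, hCJ, hJJ]
  set C'' := C'.map σ with hC''
  have hinv : C'' * C = 1 := by
    have e := congrArg (fun M => M.map σ) hC'C
    simp only [Matrix.map_mul, Matrix.map_one σ (map_zero σ) (map_one σ)] at e
    rwa [show (C.map σ).map σ = C by ext i j; simp [h.invol]] at e
  set D := (A⁻¹.map σ)ᵀ with hD
  set G₀ := fromBlocks A 0 0 D with hG₀
  set R := Matrix.reindexAlgEquiv F F (finSumFinEquiv (m := m) (n := m))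
  set G := C * G₀ * C'' with hG
  have hdetG : (R G).det = 1 := by
    rw [Matrix.det_reindexAlgEquiv, hG, Matrix.det_mul, Matrix.det_mul, mul_right_comm, ← Matrix.det_mul,
      mul_eq_one_comm.1 hinv, Matrix.det_one, one_mul, hG₀, det_fromBlocks_zero₁₂, hD, Matrix.det_transpose,
      show (A⁻¹.map σ).det = σ A⁻¹.det from (σ.map_det _).symm, Matrix.det_nonsing_inv, Ring.inverse_eq_inv',
      map_inv₀, hdet, mul_inv_cancel₀ hA.ne_zero]
  have hAA : A⁻¹ * A = 1 := Matrix.nonsing_inv_mul A hA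
  have hG₀J : G₀ᵀ * J * G₀.map σ = J := by
    rw [hG₀, hmap, hJ, fromBlocks_transpose, fromBlocks_multiply, fromBlocks_multiply]
    simp only [Matrix.map_zero σ (map_zero σ), transpose_zero, mul_zero, zero_mul, add_zero, zero_add, mul_one]
    have e1 : Aᵀ * D.map σ = 1 := by
      rw [hD, show ((A⁻¹.map σ)ᵀ).map σ = (A⁻¹)ᵀ by ext i j; simp [h.invol], ← transpose_mul, hAA, transpose_one]
    have e2 : Dᵀ * A.map σ = 1 := by
      rw [hD, transpose_transpose, ← Matrix.map_mul, hAA, Matrix.map_one σ (map_zero σ) (map_one σ)]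
    rw [e1, e2]
  have hGG : Gᵀ * G.map σ = 1 := by
    have hC''map : C''.map σ = C' := by ext i j; simp [hC'', h.invol]
    rw [hG, Matrix.map_mul, Matrix.map_mul, hC''map, transpose_mul, transpose_mul]
    calc C''ᵀ * (G₀ᵀ * Cᵀ) * (C.map σ * G₀.map σ * C')
        = C''ᵀ * (G₀ᵀ * (Cᵀ * C.map σ) * G₀.map σ) * C' := by simp only [mul_assoc]
      _ = C''ᵀ * J * C' := by rw [hCJ, hG₀J]
      _ = (C * C'')ᵀ := by rw [hC', mul_assoc, ← mul_assoc J J, hJJ, one_mul, transpose_mul]
      _ = 1 := by rw [mul_eq_one_comm.1 hinv, transpose_one]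
  refine ⟨⟨⟨R G, hdetG⟩, mem_SU_of_mul h ?_⟩, C, C'', hinv, rfl⟩
  show (R G)ᵀ * (R G).map σ = 1
  rw [show (R G)ᵀ = R Gᵀ from rfl, show (R G).map σ = R (G.map σ) from rfl, ← map_mul, hGG, map_one]

end CfsgLib.KnownB.UnitaryEigen
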