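import Mathlib

/-!
Nilpotent operators with a single Jordan block: cyclic vectors, invariant subspaces and commutants.
-/

set_option autoImplicit false

namespace CfsgLib.KnownB.Regular

open Module Matrix

variable {F : Type*} [Field F]

section End

variable {V : Type*} [AddCommGroup V] [Module F V] [FiniteDimensional F V] {f : Module.End F V} {n : ℕ}

theorem finrank_ker_succ_le (h1 : finrank F (LinearMap.ker f) ≤ 1) (k : ℕ) :
    finrank F (LinearMap.ker (f ^ (k + 1))) ≤ finrank F (LinearMap.ker (f ^ k)) + 1 := by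
  have hm : ∀ x ∈ LinearMap.ker (f ^ (k + 1)), f x ∈ LinearMap.ker (f ^ k) := fun x hx => by
    rw [LinearMap.mem_ker, pow_succ, Module.End.mul_apply] at hx
    exact hx
  have hrk := LinearMap.finrank_range_add_finrank_ker (f.restrict hm)
  have hr := Submodule.finrank_le (LinearMap.range (f.restrict hm))
  let ι : LinearMap.ker (f.restrict hm) →ₗ[F] LinearMap.ker f :=
    LinearMap.codRestrict _ ((LinearMap.ker (f ^ (k + 1))).subtype ∘ₗ (LinearMap.ker (f.restrict hm)).subtype)
      (fun x => by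
        have h := congrArg Subtype.val (LinearMap.mem_ker.1 x.2)
        exact h)
  have hι : Function.Injective ι := fun a b h => by
    have h' := congrArg Subtype.val h
    exact Subtype.ext (Subtype.ext h')
  have hk := LinearMap.finrank_le_finrank_of_injective hι
  omega

variable (hd : finrank F V = n) (hnil : f ^ n = 0) (h1 : finrank F (LinearMap.ker f) ≤ 1)

include h1 in
theorem finrank_ker_add_le (k : ℕ) : ∀ j, finrank F (LinearMap.ker (f ^ (k + j))) ≤ finrank F (LinearMap.ker (f ^ k)) + j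
  | 0 => le_rfl
  | j + 1 => (finrank_ker_succ_le h1 (k + j)).trans (by have := finrank_ker_add_le k j; omega)

include hd hnil h1 in
theorem finrank_ker_pow {k : ℕ} (hk : k ≤ n) : finrank F (LinearMap.ker (f ^ k)) = k := by
  have hu := finrank_ker_add_le h1 0 k
  have h0 : finrank F (LinearMap.ker (f ^ 0)) = 0 := by
    rw [pow_zero, Module.End.one_eq_id, LinearMap.ker_id, finrank_bot]
  rw [Nat.zero_add, h0, Nat.zero_add] at hu
  have hl := finrank_ker_add_le h1 k (n - k)
  rw [Nat.add_sub_cancel' hk, hnil, LinearMap.ker_zero, finrank_top, hd] at hl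
  omega

include hd hnil h1 in
theorem eq_ker_pow {W : Submodule F V} (hW : ∀ v ∈ W, f v ∈ W) : W = LinearMap.ker (f ^ finrank F W) := by
  have hg : IsNilpotent (f.restrict hW) := ⟨n, by
    refine LinearMap.ext fun x => Subtype.ext ?_
    rw [Module.End.pow_restrict n, LinearMap.restrict_apply]
    simp [hnil]⟩
  have h0 : (f.restrict hW) ^ finrank F W = 0 := by
    have := LinearMap.aeval_self_charpoly (f.restrict hW)
    rwa [(LinearMap.isNilpotent_iff_charpoly _).1 hg, map_pow, Polynomial.aeval_X] at this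
  have hle : W ≤ LinearMap.ker (f ^ finrank F W) := fun x hx => by
    have := congrArg Subtype.val (LinearMap.congr_fun h0 ⟨x, hx⟩)
    rw [Module.End.pow_restrict, LinearMap.restrict_apply] at this
    simpa using this
  exact Submodule.eq_of_le_of_finrank_eq hle (finrank_ker_pow hd hnil h1 (hd ▸ Submodule.finrank_le W)).symm

include hd hnil h1 in
theorem exists_cyclic (hn : 1 ≤ n) :
    ∃ (v : V) (b : Basis (Fin n) F V), (∀ i, b i = (f ^ (i : ℕ)) v) ∧ (f ^ (n - 1)) v ≠ 0 := by
  classical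
  obtain ⟨v, hv⟩ : ∃ v, (f ^ (n - 1)) v ≠ 0 := by
    by_contra hc
    push Not at hc
    have h := finrank_ker_pow hd hnil h1 (Nat.sub_le n 1)
    rw [show f ^ (n - 1) = 0 from LinearMap.ext hc, LinearMap.ker_zero, finrank_top, hd] at h
    omega
  have hzero : ∀ j, n ≤ j → (f ^ j) v = 0 := fun j hj => by rw [pow_eq_zero_of_le hj hnil]; rfl
  have hli : LinearIndependent F fun i : Fin n => (f ^ (i : ℕ)) v := by
    rw [Fintype.linearIndependent_iff]
    intro a ha
    by_contra hc
    push Not at hc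
    obtain ⟨i₀, hi₀⟩ := hc
    obtain ⟨i, hi, hmin⟩ := (Finset.univ.filter fun i : Fin n => a i ≠ 0).exists_min_image id
      ⟨i₀, by simp [hi₀]⟩
    have h := congrArg (f ^ (n - 1 - (i : ℕ))) ha
    rw [map_sum, map_zero, Finset.sum_eq_single i] at h
    · rw [map_smul, ← Module.End.mul_apply, ← pow_add, Nat.sub_add_cancel (by omega)] at h
      exact (smul_ne_zero (Finset.mem_filter.1 hi).2 hv) h
    · intro j _ hj
      by_cases hja : a j = 0
      · simp [hja]
      · have : i < j := lt_of_le_of_ne (hmin j (by simp [hja])) (Ne.symm hj)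
        rw [map_smul, ← Module.End.mul_apply, ← pow_add, hzero _ (by rw [Fin.lt_def] at this; omega), smul_zero]
    · simp
  haveI : Nonempty (Fin n) := ⟨⟨0, hn⟩⟩
  exact ⟨v, basisOfLinearIndependentOfCardEqFinrank hli (by rw [Fintype.card_fin, hd]),
    fun i => by rw [coe_basisOfLinearIndependentOfCardEqFinrank], hv⟩

end End

section Mat

variable {n : ℕ} (u : Matrix (Fin n) (Fin n) F)

/-- `u` is unipotent with a single Jordan block. -/
def IsRegularUnip : Prop := (u - 1) ^ n = 0 ∧ (u - 1).rank = n - 1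

variable {u}

theorem IsRegularUnip.finrank_ker (h : IsRegularUnip u) : finrank F (LinearMap.ker (Matrix.toLin' (u - 1))) ≤ 1 := by
  have h2 := LinearMap.finrank_range_add_finrank_ker (Matrix.toLin' (u - 1))
  rw [Module.finrank_fin_fun, show finrank F (LinearMap.range (Matrix.toLin' (u - 1))) = (u - 1).rank from rfl, h.2] at h2
  omega

theorem IsRegularUnip.toLin_pow (h : IsRegularUnip u) : Matrix.toLin' (u - 1) ^ n = 0 := by
  rw [← Matrix.toLin'_pow, h.1, map_zero]

theorem toLin_pow_apply (M : Matrix (Fin n) (Fin n) F) (k : ℕ) (v : Fin n → F) :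
    (Matrix.toLin' M ^ k) v = (M ^ k).mulVec v := by
  rw [← Matrix.toLin'_pow, Matrix.toLin'_apply]

theorem IsRegularUnip.exists_cyclic (h : IsRegularUnip u) (hn : 1 ≤ n) :
    ∃ (v : Fin n → F) (b : Basis (Fin n) F (Fin n → F)), (∀ i, b i = ((u - 1) ^ (i : ℕ)).mulVec v) ∧
      ((u - 1) ^ (n - 1)).mulVec v ≠ 0 := by
  obtain ⟨v, b, hb, hv⟩ := Regular.exists_cyclic (Module.finrank_fin_fun F) h.toLin_pow h.finrank_ker hn
  exact ⟨v, b, fun i => by rw [hb, toLin_pow_apply], by rwa [toLin_pow_apply] at hv⟩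

theorem commute_sub_one {C : Matrix (Fin n) (Fin n) F} (h : C * u = u * C) : C * (u - 1) = (u - 1) * C := by
  rw [mul_sub, sub_mul, h, mul_one, one_mul]

theorem IsRegularUnip.commutant_ext (h : IsRegularUnip u) (hn : 1 ≤ n) {v : Fin n → F}
    {b : Basis (Fin n) F (Fin n → F)} (hb : ∀ i, b i = ((u - 1) ^ (i : ℕ)).mulVec v)
    {C D : Matrix (Fin n) (Fin n) F} (hC : C * u = u * C) (hD : D * u = u * D) (hCD : C.mulVec v = D.mulVec v) :
    C = D := by
  refine Matrix.toLin'.injective (b.ext fun i => ?_)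
  rw [Matrix.toLin'_apply, Matrix.toLin'_apply, hb, Matrix.mulVec_mulVec, Matrix.mulVec_mulVec,
    (Commute.pow_right (commute_sub_one hC) (i : ℕ)).eq, (Commute.pow_right (commute_sub_one hD) (i : ℕ)).eq,
    ← Matrix.mulVec_mulVec, ← Matrix.mulVec_mulVec, hCD]

/-- The polynomial in `u - 1` with coefficients `a`. -/
def poly (u : Matrix (Fin n) (Fin n) F) (a : Fin n → F) : Matrix (Fin n) (Fin n) F :=
  ∑ i, a i • (u - 1) ^ (i : ℕ)

theorem poly_comm (a : Fin n → F) : poly u a * u = u * poly u a := by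
  have : Commute (poly u a) u := Commute.sum_left _ _ _ fun i _ =>
    (((Commute.refl u).sub_left (Commute.one_left u)).pow_left _).smul_left _
  exact this.eq

theorem poly_mulVec {v : Fin n → F} {b : Basis (Fin n) F (Fin n → F)}
    (hb : ∀ i, b i = ((u - 1) ^ (i : ℕ)).mulVec v) (a : Fin n → F) :
    (poly u a).mulVec v = b.equivFun.symm a := by
  rw [Basis.equivFun_symm_apply, poly, Matrix.sum_mulVec]
  exact Finset.sum_congr rfl fun i _ => by rw [Matrix.smul_mulVec, hb]

theorem IsRegularUnip.det_poly (h : IsRegularUnip u) (hn : 1 ≤ n) (a : Fin n → F) :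
    (poly u a).det = a ⟨0, hn⟩ ^ n := by
  set N := ∑ i ∈ Finset.univ.erase (⟨0, hn⟩ : Fin n), a i • (u - 1) ^ (i : ℕ)
  have hp : poly u a = Matrix.scalar (Fin n) (a ⟨0, hn⟩) - -N := by
    rw [poly, ← Finset.add_sum_erase _ _ (Finset.mem_univ (⟨0, hn⟩ : Fin n)), sub_neg_eq_add, pow_zero,
      Matrix.smul_one_eq_diagonal, Matrix.scalar_apply]
  have hN : IsNilpotent (-N) := by
    refine IsNilpotent.neg ⟨n, ?_⟩
    have hfac : N = (u - 1) * ∑ i ∈ Finset.univ.erase (⟨0, hn⟩ : Fin n), a i • (u - 1) ^ ((i : ℕ) - 1) := by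
      rw [Finset.mul_sum]
      refine Finset.sum_congr rfl fun i hi => ?_
      have : (i : ℕ) ≠ 0 := fun h0 => (Finset.mem_erase.1 hi).1 (Fin.ext h0)
      rw [mul_smul_comm, ← pow_succ', Nat.sub_add_cancel (by omega)]
    rw [hfac, Commute.mul_pow (Commute.sum_right _ _ _ fun i _ => ((Commute.refl _).pow_right _).smul_right _), h.1,
      zero_mul]
  have hc : (-N).charpoly = Polynomial.X ^ n := by
    simpa [Fintype.card_fin, sub_eq_zero] using (Matrix.isNilpotent_charpoly_sub_pow_of_isNilpotent hN).eq_zero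
  rw [hp, ← Matrix.eval_charpoly, hc, Polynomial.eval_pow, Polynomial.eval_X]

theorem IsRegularUnip.eq_poly (h : IsRegularUnip u) (hn : 1 ≤ n) {v : Fin n → F}
    {b : Basis (Fin n) F (Fin n → F)} (hb : ∀ i, b i = ((u - 1) ^ (i : ℕ)).mulVec v)
    {C : Matrix (Fin n) (Fin n) F} (hC : C * u = u * C) : C = poly u (b.equivFun (C.mulVec v)) :=
  h.commutant_ext hn hb hC (poly_comm _) (by rw [poly_mulVec hb, LinearEquiv.symm_apply_apply])

theorem card_centralizer [Fintype F] {u : GL (Fin n) F} (h : IsRegularUnip (u : Matrix (Fin n) (Fin n) F))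
    (hn : 1 ≤ n) : Nat.card (Subgroup.centralizer ({u} : Set (GL (Fin n) F))) =
      (Fintype.card F - 1) * Fintype.card F ^ (n - 1) := by
  classical
  obtain ⟨v, b, hb, -⟩ := h.exists_cyclic hn
  have hcomm : ∀ g : Subgroup.centralizer ({u} : Set (GL (Fin n) F)),
      ((g : GL (Fin n) F) : Matrix (Fin n) (Fin n) F) * (u : Matrix (Fin n) (Fin n) F) =
        (u : Matrix (Fin n) (Fin n) F) * ((g : GL (Fin n) F) : Matrix (Fin n) (Fin n) F) := fun g =>
    congrArg Units.val (Subgroup.mem_centralizer_singleton_iff.1 g.2)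
  have hdet : ∀ a : Fin n → F, a ⟨0, hn⟩ ≠ 0 → (poly (u : Matrix (Fin n) (Fin n) F) a).det ≠ 0 := fun a ha => by
    rw [h.det_poly hn]
    exact pow_ne_zero _ ha
  let e : Subgroup.centralizer ({u} : Set (GL (Fin n) F)) ≃ {a : Fin n → F // a ⟨0, hn⟩ ≠ 0} :=
    { toFun := fun g => ⟨b.equivFun (((g : GL (Fin n) F) : Matrix (Fin n) (Fin n) F).mulVec v), fun h0 => by
        have h1 := h.det_poly hn (b.equivFun (((g : GL (Fin n) F) : Matrix (Fin n) (Fin n) F).mulVec v))
        rw [← h.eq_poly hn hb (hcomm g), h0, zero_pow (by omega)] at h1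
        exact (Matrix.GeneralLinearGroup.det (g : GL (Fin n) F)).ne_zero h1⟩
      invFun := fun a => ⟨Matrix.GeneralLinearGroup.mkOfDetNeZero (poly _ a.1) (hdet a.1 a.2),
        Subgroup.mem_centralizer_singleton_iff.2 (Units.ext (poly_comm a.1))⟩
      left_inv := fun g => Subtype.ext (Units.ext (h.eq_poly hn hb (hcomm g)).symm)
      right_inv := fun a => Subtype.ext (by
        change b.equivFun ((poly _ a.1).mulVec v) = a.1
        rw [poly_mulVec hb, LinearEquiv.apply_symm_apply]) }
  rw [Nat.card_congr e]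
  let e2 : {a : Fin n → F // a ⟨0, hn⟩ ≠ 0} ≃ {x : F // x ≠ 0} × ({j : Fin n // j ≠ ⟨0, hn⟩} → F) :=
    { toFun := fun a => (⟨a.1 ⟨0, hn⟩, a.2⟩, fun j => a.1 j)
      invFun := fun x => ⟨fun j => if hj : j = ⟨0, hn⟩ then x.1.1 else x.2 ⟨j, hj⟩, by simpa using x.1.2⟩
      left_inv := fun a => by
        ext j
        dsimp only
        split_ifs with hj
        · rw [hj]
        · rfl
      right_inv := fun x => by
        refine Prod.ext (Subtype.ext (by simp)) (funext fun j => ?_)
        simp [j.2] }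
  rw [Nat.card_congr e2, Nat.card_prod, Nat.card_fun, Nat.card_eq_fintype_card, Nat.card_eq_fintype_card,
    Nat.card_eq_fintype_card, Fintype.card_subtype_compl, Fintype.card_subtype_compl, Fintype.card_subtype_eq,
    Fintype.card_subtype_eq, Fintype.card_fin]

theorem exists_conj {u u' : Matrix (Fin n) (Fin n) F} (h : IsRegularUnip u) (h' : IsRegularUnip u') (hn : 1 ≤ n) :
    ∃ g : GL (Fin n) F, (g : Matrix (Fin n) (Fin n) F) * u = u' * (g : Matrix (Fin n) (Fin n) F) := by
  obtain ⟨v, b, hb, -⟩ := h.exists_cyclic hn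
  obtain ⟨v', b', hb', -⟩ := h'.exists_cyclic hn
  let T := b.equiv b' (Equiv.refl _)
  let M := LinearMap.toMatrix' (T : (Fin n → F) →ₗ[F] (Fin n → F))
  have hM : ∀ x, M.mulVec x = T x := fun x => by
    rw [← Matrix.toLin'_apply, Matrix.toLin'_toMatrix']
    rfl
  refine ⟨Matrix.GeneralLinearGroup.mkOfDetNeZero M (by
    rw [LinearMap.det_toMatrix']
    exact (LinearEquiv.isUnit_det' T).ne_zero), ?_⟩
  change M * u = u' * M
  have key : M * (u - 1) = (u' - 1) * M := by
    refine Matrix.toLin'.injective (b.ext fun i => ?_)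
    rw [Matrix.toLin'_apply, Matrix.toLin'_apply, ← Matrix.mulVec_mulVec, ← Matrix.mulVec_mulVec, hM, hM, hb,
      Matrix.mulVec_mulVec, ← pow_succ']
    have hTb : ∀ j, T (((u - 1) ^ (j : Fin n).val).mulVec v) = ((u' - 1) ^ (j : Fin n).val).mulVec v' := fun j => by
      rw [← hb, Basis.equiv_apply, Equiv.refl_apply, hb']
    rw [hTb i, Matrix.mulVec_mulVec, ← pow_succ']
    rcases Nat.lt_or_ge ((i : ℕ) + 1) n with hi | hi
    · exact hTb ⟨(i : ℕ) + 1, hi⟩
    · rw [pow_eq_zero_of_le hi h.1, pow_eq_zero_of_le hi h'.1, Matrix.zero_mulVec, Matrix.zero_mulVec, map_zero]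
  rw [mul_sub, sub_mul, mul_one, one_mul] at key
  exact sub_left_injective key

end Mat

end CfsgLib.KnownB.Regular
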