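import Cfsg.Agent.Lib.KnownB.Semisimple
import Mathlib.LinearAlgebra.SymplecticGroup
import Mathlib.FieldTheory.IsAlgClosed.AlgebraicClosure

/-!
Tools for counting semisimple classes by characteristic polynomials.
-/

set_option autoImplicit false

namespace CfsgLib.KnownB.ClassCount

open Matrix Polynomial

universe u v

variable {F : Type u} [Field F] {n : Type v} [Fintype n] [DecidableEq n]

/-- Some power of `g` has order prime to `p` and the same characteristic polynomial. -/
theorem exists_pow_coprime [Fintype F] (p : ℕ) [Fact p.Prime] [CharP F p] (g : GL n F) :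
    ∃ k : ℕ, (orderOf (g ^ k)).Coprime p ∧
      ((g ^ k : GL n F) : Matrix n n F).charpoly = (g : Matrix n n F).charpoly := by
  obtain ⟨e, m, hm, hpm⟩ := Nat.exists_eq_pow_mul_and_not_dvd (orderOf_pos g).ne' p (Fact.out : p.Prime).ne_one
  obtain ⟨f, hp, hcard⟩ := FiniteField.card F p
  refine ⟨(Fintype.card F) ^ e, ?_, ?_⟩
  · have h1 : (g ^ (Fintype.card F) ^ e) ^ m = 1 := by
      rw [← pow_mul, ← orderOf_dvd_iff_pow_eq_one, hpm, hcard]
      refine Nat.mul_dvd_mul_right ?_ _
      exact pow_dvd_pow_of_dvd (dvd_pow_self p f.ne_zero) e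
    exact ((Fact.out : p.Prime).coprime_iff_not_dvd.2 hm).symm.coprime_dvd_left (orderOf_dvd_of_pow_eq_one h1)
  · clear hm hpm
    induction e with
    | zero => simp
    | succ e ih =>
      rw [pow_succ, pow_mul, Units.val_pow_eq_pow_val, FiniteField.Matrix.charpoly_pow_card, ih]

variable {m : ℕ}

local notation "I2" => Fin m ⊕ Fin m

theorem det_symplectic (M : Matrix.symplecticGroup (Fin m) F) : (M : Matrix I2 I2 F).det = 1 :=
  SymplecticGroup.det_eq_one M.2

theorem charpolyRev_symplectic (M : Matrix.symplecticGroup (Fin m) F) :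
    (M : Matrix I2 I2 F).charpolyRev = (M : Matrix I2 I2 F).charpoly := by
  set A : Matrix I2 I2 F[X] := (M : Matrix I2 I2 F).map C with hA
  set J' : Matrix I2 I2 F[X] := (Matrix.J (Fin m) F).map C with hJ
  have hM : Aᵀ * J' * A = J' := by
    rw [hA, hJ, ← Matrix.transpose_map, ← Matrix.map_mul, ← Matrix.map_mul,
      SymplecticGroup.mem_iff'.1 M.2]
  have h1 : (charmatrix (M : Matrix I2 I2 F))ᵀ * J' * A = J' * ((X : F[X]) • A - 1) := by
    rw [charmatrix, RingHom.mapMatrix_apply, ← hA, Matrix.transpose_sub]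
    rw [show (Matrix.scalar I2 (X : F[X]))ᵀ = (X : F[X]) • (1 : Matrix I2 I2 F[X]) by
      rw [Matrix.scalar_apply, Matrix.diagonal_transpose, Matrix.smul_one_eq_diagonal]]
    rw [sub_mul, sub_mul, hM, smul_mul_assoc, one_mul, smul_mul_assoc, mul_sub, mul_one, mul_smul_comm]
  have h2 := congrArg Matrix.det h1
  rw [Matrix.det_mul, Matrix.det_mul, Matrix.det_mul, Matrix.det_transpose,
    show A.det = 1 by rw [hA, ← RingHom.mapMatrix_apply, ← RingHom.map_det, det_symplectic, map_one], mul_one,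
    mul_comm] at h2
  have hJu : J'.det ≠ 0 := by
    rw [hJ, ← RingHom.mapMatrix_apply, ← RingHom.map_det]
    exact (Polynomial.C_ne_zero).2 (Matrix.isUnit_det_J (Fin m) F).ne_zero
  have h3 := mul_left_cancel₀ hJu h2
  rw [Matrix.charpoly, h3, Matrix.charpolyRev, ← neg_sub (1 : Matrix I2 I2 F[X]), Matrix.det_neg,
    Fintype.card_sum, Even.neg_one_pow ⟨_, rfl⟩, one_mul]

theorem coeff_symm (M : Matrix.symplecticGroup (Fin m) F) {k : ℕ} (hk : k ≤ m + m) :
    (M : Matrix I2 I2 F).charpoly.coeff k = (M : Matrix I2 I2 F).charpoly.coeff (m + m - k) := by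
  conv_lhs => rw [← charpolyRev_symplectic, ← Matrix.reverse_charpoly]
  rw [Polynomial.coeff_reverse, Matrix.charpoly_natDegree_eq_dim, Fintype.card_sum, Fintype.card_fin,
    Polynomial.revAt_le hk]

/-- The polynomial of a symplectic matrix is determined by half of its coefficients. -/
theorem charpoly_eq_of_coeff (M N : Matrix.symplecticGroup (Fin m) F)
    (h : ∀ i : Fin m, (M : Matrix I2 I2 F).charpoly.coeff (i + 1) = (N : Matrix I2 I2 F).charpoly.coeff (i + 1)) :
    (M : Matrix I2 I2 F).charpoly = (N : Matrix I2 I2 F).charpoly := by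
  have h0 : ∀ M : Matrix.symplecticGroup (Fin m) F, (M : Matrix I2 I2 F).charpoly.coeff 0 = 1 := fun M => by
    have h1 := det_symplectic M
    rwa [Matrix.det_eq_sign_charpoly_coeff, Fintype.card_sum, Even.neg_one_pow ⟨_, rfl⟩, one_mul] at h1
  have hlo : ∀ k, k ≤ m → (M : Matrix I2 I2 F).charpoly.coeff k = (N : Matrix I2 I2 F).charpoly.coeff k := by
    intro k hk
    rcases k with _ | k
    · rw [h0, h0]
    · exact h ⟨k, hk⟩
  refine Polynomial.ext fun k => ?_
  rcases le_or_gt k m with hk | hk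
  · exact hlo k hk
  rcases le_or_gt k (m + m) with hk2 | hk2
  · rw [coeff_symm M hk2, coeff_symm N hk2]
    exact hlo _ (by omega)
  · rw [Polynomial.coeff_eq_zero_of_natDegree_lt, Polynomial.coeff_eq_zero_of_natDegree_lt] <;>
      rw [Matrix.charpoly_natDegree_eq_dim, Fintype.card_sum, Fintype.card_fin] <;> exact hk2

/-- Every monic polynomial is the characteristic polynomial of a product of two symmetric matrices. -/
theorem exists_symm_pair (g : F[X]) (hg : g.Monic) (hd : g.natDegree = m) :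
    ∃ W G : Matrix (Fin m) (Fin m) F, IsUnit W.det ∧ Wᵀ = W ∧ (W * G)ᵀ = W * G ∧ G.charpoly = g := by
  classical
  let pb := AdjoinRoot.powerBasis' hg
  have hdim : pb.dim = m := by rw [AdjoinRoot.powerBasis'_dim, hd]
  let b := pb.basis.reindex (finCongr hdim)
  have hb : ∀ i, b i = pb.gen ^ (i : ℕ) := fun i => by simp [b]
  rcases Nat.eq_zero_or_pos m with rfl | hm
  · exact ⟨1, 1, by simp, by simp, by simp, Polynomial.eq_one_of_monic_natDegree_zero (Matrix.charpoly_monic _)
      (by simp) |>.trans (Polynomial.eq_one_of_monic_natDegree_zero hg hd).symm⟩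
  let l : Fin m := ⟨m - 1, by omega⟩
  let φ : AdjoinRoot g →ₗ[F] F := b.coord l
  obtain ⟨W, hW⟩ : ∃ W : Matrix (Fin m) (Fin m) F, ∀ i j, W i j = φ (b i * b j) :=
    ⟨fun i j => φ (b i * b j), fun _ _ => rfl⟩
  let G := Algebra.leftMulMatrix b pb.gen
  have hWG : ∀ i j, (W * G) i j = φ (b i * (pb.gen * b j)) := by
    intro i j
    conv_rhs => rw [← b.sum_repr (pb.gen * b j), Finset.mul_sum, map_sum]
    rw [Matrix.mul_apply]
    refine Finset.sum_congr rfl fun k _ => ?_
    rw [hW, mul_smul_comm, map_smul, smul_eq_mul, mul_comm]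
    exact congrArg (· * _) (Algebra.leftMulMatrix_eq_repr_mul b pb.gen k j)
  refine ⟨W, G, ?_, ?_, ?_, ?_⟩
  · rw [← Matrix.isUnit_iff_isUnit_det, ← Matrix.mulVec_injective_iff_isUnit]
    refine (injective_iff_map_eq_zero (Matrix.mulVecLin W)).2 fun v hv => ?_
    by_contra h0
    obtain ⟨j, hj, hmax⟩ : ∃ j, v j ≠ 0 ∧ ∀ k, j < k → v k = 0 := by
      obtain ⟨j0, hj0⟩ := Function.ne_iff.1 h0
      obtain ⟨j, hj, hmax⟩ := (Finset.univ.filter fun j => v j ≠ 0).exists_max_image id ⟨j0, by simpa using hj0⟩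
      refine ⟨j, (Finset.mem_filter.1 hj).2, fun k hk => ?_⟩
      by_contra hvk
      exact absurd (hmax k (Finset.mem_filter.2 ⟨Finset.mem_univ _, hvk⟩)) (not_le.2 hk)
    refine hj ?_
    let i : Fin m := ⟨m - 1 - (j : ℕ), by omega⟩
    have hi := congrFun hv i
    rw [Matrix.mulVecLin_apply, Matrix.mulVec, dotProduct, Pi.zero_apply, Finset.sum_eq_single j] at hi
    · have hij : W i j = 1 := by
        rw [hW, hb, hb, ← pow_add, show (i : ℕ) + j = l from (by show m - 1 - (j : ℕ) + j = m - 1; omega), ← hb]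
        simp [φ]
      rwa [hij, one_mul] at hi
    · intro k _ hk
      rcases lt_or_gt_of_ne hk with hlt | hgt
      · have hki : W i k = 0 := by
          have hlt' : (i : ℕ) + k < m := by
            have : (k : ℕ) < j := hlt
            show m - 1 - (j : ℕ) + k < m
            omega
          rw [hW, hb, hb, ← pow_add, show (i : ℕ) + k = ((⟨_, hlt'⟩ : Fin m) : ℕ) from rfl, ← hb]
          have hne : (⟨(i : ℕ) + k, hlt'⟩ : Fin m) ≠ l := fun e => by
            have e' : m - 1 - (j : ℕ) + k = m - 1 := congrArg Fin.val e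
            have : (k : ℕ) < j := hlt
            omega
          simp [φ, hne.symm]
        rw [hki, zero_mul]
      · rw [hmax k hgt, mul_zero]
    · simp
  · ext i j
    rw [Matrix.transpose_apply, hW, hW, mul_comm]
  · ext i j
    rw [Matrix.transpose_apply, hWG, hWG, mul_left_comm, mul_left_comm (b i), mul_comm (b j)]
  · have hG : G = (Algebra.leftMulMatrix pb.basis pb.gen).reindex (finCongr hdim) (finCongr hdim) := by
      ext i j
      simp [G, b, Algebra.leftMulMatrix_eq_repr_mul]
    rw [hG, Matrix.charpoly_reindex, charpoly_leftMulMatrix, AdjoinRoot.powerBasis'_gen,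
      AdjoinRoot.minpoly_root hg.ne_zero, hg.leadingCoeff, inv_one, C_1, mul_one]

/-- A symplectic matrix whose characteristic polynomial at `t` is `t ^ m * g (t + t⁻¹)`. -/
theorem exists_symplectic (g : F[X]) (hg : g.Monic) (hd : g.natDegree = m) :
    ∃ M : Matrix.symplecticGroup (Fin m) F, ∀ (L : Type u) [Field L] [Algebra F L] (t : L), t ≠ 0 →
      aeval t (M : Matrix I2 I2 F).charpoly = t ^ m * aeval (t + t⁻¹) g := by
  obtain ⟨W, G, hW, hWs, hWG, hG⟩ := exists_symm_pair g hg hd
  have hWG' : Gᵀ * W = W * G := by rw [← hWG, Matrix.transpose_mul, hWs]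
  have hWi : (W⁻¹)ᵀ = W⁻¹ := by rw [Matrix.transpose_nonsing_inv, hWs]
  refine ⟨⟨fromBlocks 0 (-W) W⁻¹ G, ?_⟩, fun L _ _ t ht => ?_⟩
  · rw [SymplecticGroup.mem_iff', Matrix.J, fromBlocks_transpose, fromBlocks_multiply, fromBlocks_multiply]
    simp [hWs, hWi, hWG', Matrix.nonsing_inv_mul W hW, Matrix.mul_nonsing_inv W hW]
  · rw [show aeval t (fromBlocks 0 (-W) W⁻¹ G).charpoly =
        ((fromBlocks 0 (-W) W⁻¹ G).map (algebraMap F L)).charpoly.eval t by
      rw [Matrix.charpoly_map, Polynomial.eval_map, Polynomial.aeval_def]]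
    have hsc : Matrix.scalar I2 t - (fromBlocks 0 (-W) W⁻¹ G).map (algebraMap F L) =
        fromBlocks (t • (1 : Matrix (Fin m) (Fin m) L)) (W.map (algebraMap F L))
          (-(W⁻¹.map (algebraMap F L))) (t • 1 - G.map (algebraMap F L)) := by
      rw [Matrix.fromBlocks_map, Matrix.scalar_apply, ← Matrix.smul_one_eq_diagonal, ← Matrix.fromBlocks_one,
        Matrix.fromBlocks_smul, sub_eq_add_neg,
        Matrix.fromBlocks_neg, Matrix.fromBlocks_add]
      simp [sub_eq_add_neg, Matrix.map_neg]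
    letI : Invertible (t • (1 : Matrix (Fin m) (Fin m) L)) :=
      ⟨t⁻¹ • 1, by rw [smul_mul_smul_comm, inv_mul_cancel₀ ht, one_mul, one_smul],
        by rw [smul_mul_smul_comm, mul_inv_cancel₀ ht, one_mul, one_smul]⟩
    rw [Matrix.eval_charpoly, hsc, Matrix.det_fromBlocks₁₁,
      show ⅟(t • (1 : Matrix (Fin m) (Fin m) L)) = t⁻¹ • 1 from rfl, Matrix.det_smul, Matrix.det_one, mul_one,
      Fintype.card_fin]
    congr 1
    rw [mul_smul_comm, mul_one, smul_mul_assoc, neg_mul, ← Matrix.map_mul, Matrix.nonsing_inv_mul W hW,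
      Matrix.map_one _ (map_zero _) (map_one _), smul_neg, sub_neg_eq_add, sub_add_eq_add_sub, ← add_smul,
      Matrix.smul_one_eq_diagonal, ← Matrix.scalar_apply, ← Matrix.eval_charpoly, Matrix.charpoly_map,
      Polynomial.eval_map, hG, Polynomial.aeval_def]

theorem eq_of_aeval_eq (g g' : F[X])
    (h : ∀ t : AlgebraicClosure F, t ≠ 0 → aeval (t + t⁻¹) g = aeval (t + t⁻¹) g') : g = g' := by
  refine Polynomial.map_injective (algebraMap F (AlgebraicClosure F)) (RingHom.injective _)
    (Polynomial.funext fun y => ?_)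
  obtain ⟨t, ht⟩ := IsAlgClosed.exists_root (X ^ 2 - C y * X + 1 : (AlgebraicClosure F)[X])
    (by
      have : (X ^ 2 - C y * X + 1 : (AlgebraicClosure F)[X]).degree = 2 := by compute_degree!
      rw [this]; decide)
  simp only [IsRoot, eval_add, eval_sub, eval_pow, eval_X, eval_mul, eval_C, eval_one] at ht
  have ht0 : t ≠ 0 := by rintro rfl; simp at ht
  have hy : t + t⁻¹ = y := by
    field_simp
    linear_combination ht
  have := h t ht0
  rw [hy] at this
  rwa [Polynomial.eval_map, Polynomial.eval_map, ← Polynomial.aeval_def, ← Polynomial.aeval_def]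

end CfsgLib.KnownB.ClassCount
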