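import Cfsg.Agent.Lib.KnownB.UnitaryConj
import Cfsg.Agent.Lib.KnownB.ClassCount

/-!
Characteristic polynomials of semisimple unitary matrices, and conjugacy in the special unitary group.
-/

set_option autoImplicit false
set_option linter.style.haveILetI false

namespace CfsgLib.KnownB.UnitaryCharpoly

open Matrix Polynomial CfsgLib.KnownB.UnitaryConj

universe u

variable {K : Type u} [Field K] {n : ℕ}

local notation "Mn" => Matrix (Fin n) (Fin n) K

/-- The polynomial is fixed by reversing and twisting by `σ`. -/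
def SelfDual (σ : K →+* K) (f : K[X]) : Prop :=
  f.reverse = C (f.coeff 0) * f.map σ

variable {σ : K →+* K}

theorem reverse_map (f : K[X]) : (f.map σ).reverse = f.reverse.map σ := by
  ext k
  rw [coeff_reverse, coeff_map, coeff_map, coeff_reverse,
    natDegree_map_eq_of_injective σ.injective]

theorem reverse_reverse {f : K[X]} (hf : f.coeff 0 ≠ 0) : f.reverse.reverse = f := by
  ext k
  rw [coeff_reverse, coeff_reverse, reverse_natDegree,
    natTrailingDegree_eq_zero.2 (Or.inr hf), Nat.sub_zero, revAt_invol]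

theorem map_map (hσ2 : ∀ a, σ (σ a) = a) (f : K[X]) : (f.map σ).map σ = f := by
  ext k
  rw [coeff_map, coeff_map, hσ2]

theorem selfDual_mul {f g : K[X]} (hf : SelfDual σ f) (hg : SelfDual σ g) : SelfDual σ (f * g) := by
  unfold SelfDual at hf hg ⊢
  rw [reverse_mul_of_domain, hf, hg, mul_coeff_zero, map_mul, Polynomial.map_mul]
  ring

theorem selfDual_of_mul {f g : K[X]} (hfg : SelfDual σ (f * g)) (hf : SelfDual σ f) (hf0 : f.coeff 0 ≠ 0) :
    SelfDual σ g := by
  unfold SelfDual at hf hfg ⊢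
  rw [reverse_mul_of_domain, hf, mul_coeff_zero, map_mul, Polynomial.map_mul] at hfg
  refine mul_left_cancel₀ (a := C (f.coeff 0) * f.map σ) (mul_ne_zero (C_ne_zero.2 hf0)
    ((Polynomial.map_ne_zero_iff σ.injective).2 fun h => hf0 (by rw [h, coeff_zero]))) ?_
  rw [hfg]
  ring

/-- A self dual polynomial has a small self dual factor with a simple irreducible factor. -/
theorem exists_factor_dual (hσ2 : ∀ a, σ (σ a) = a) {f : K[X]} (hf : f.Monic) (hd : SelfDual σ f)
    (h0 : f.coeff 0 ≠ 0) (hn : 0 < f.natDegree) :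
    ∃ P Q f2 : K[X], Irreducible P ∧ P.Monic ∧ Q.Monic ∧ f2.Monic ∧ IsCoprime P Q ∧ f = P * Q * f2 ∧
      SelfDual σ (P * Q) ∧ SelfDual σ f2 := by
  classical
  obtain ⟨P', hP', hPf'⟩ := exists_irreducible_of_natDegree_pos (f := f) hn
  obtain ⟨P, hP, hPm, hPf⟩ : ∃ P : K[X], Irreducible P ∧ P.Monic ∧ P ∣ f :=
    ⟨normalize P', (associated_normalize P').irreducible hP', monic_normalize hP'.ne_zero,
      normalize_dvd_iff.2 hPf'⟩
  obtain ⟨h, hh⟩ := hPf
  have hc : P.coeff 0 ≠ 0 := fun e => h0 (by rw [hh, mul_coeff_zero, e, zero_mul])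
  obtain ⟨c, hcdef⟩ : ∃ c, c = σ (P.coeff 0) := ⟨_, rfl⟩
  have hc0 : c ≠ 0 := hcdef ▸ (map_ne_zero σ).2 hc
  obtain ⟨Q0, hQ0⟩ : ∃ Q : K[X], Q = C c⁻¹ * P.reverse.map σ := ⟨_, rfl⟩
  have hQm : Q0.Monic := by
    rw [hQ0]
    refine monic_C_mul_of_mul_leadingCoeff_eq_one ?_
    rw [leadingCoeff_map_of_injective σ.injective, reverse_leadingCoeff, trailingCoeff,
      natTrailingDegree_eq_zero.2 (Or.inr hc), ← hcdef, inv_mul_cancel₀ hc0]
  have hQd : Q0.natDegree = P.natDegree := by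
    rw [hQ0, natDegree_C_mul (inv_ne_zero hc0), natDegree_map_eq_of_injective σ.injective, reverse_natDegree,
      natTrailingDegree_eq_zero.2 (Or.inr hc), Nat.sub_zero]
  have hQdvd : Q0 ∣ f := by
    have h1 : f.reverse = P.reverse * h.reverse := by rw [hh, reverse_mul_of_domain]
    rw [show f.reverse = C (f.coeff 0) * f.map σ from hd] at h1
    have h2 := congrArg (Polynomial.map σ) h1
    rw [Polynomial.map_mul, Polynomial.map_C, map_map hσ2, Polynomial.map_mul] at h2
    have h3 : Q0 ∣ C (σ (f.coeff 0)) * f :=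
      ⟨C c * h.reverse.map σ, by rw [h2, hQ0, mul_mul_mul_comm, ← C_mul, inv_mul_cancel₀ hc0, C_1, one_mul]⟩
    exact (isUnit_C.2 (isUnit_iff_ne_zero.2 ((map_ne_zero σ).2 h0))).dvd_mul_left.1 h3
  by_cases hPQ : P ∣ Q0
  · -- `P` itself is self dual
    have he : Q0 = P := eq_of_monic_of_dvd_of_natDegree_le hPm hQm hPQ hQd.le
    have hPd : SelfDual σ P := by
      show P.reverse = _
      have h4 : P.reverse.map σ = C c * P := by
        conv_rhs => rw [← he]
        rw [hQ0, ← mul_assoc, ← C_mul, mul_inv_cancel₀ hc0, C_1, one_mul]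
      have h5 := congrArg (Polynomial.map σ) h4
      rw [map_map hσ2, Polynomial.map_mul, Polynomial.map_C, hcdef, hσ2] at h5
      exact h5
    refine ⟨P, 1, h, hP, hPm, monic_one, hPm.of_mul_monic_left (hh ▸ hf), isCoprime_one_right, by rw [mul_one]; exact hh,
      by rw [mul_one]; exact hPd, ?_⟩
    exact selfDual_of_mul (hh ▸ hd) hPd hc
  · have hcop : IsCoprime P Q0 := hP.coprime_iff_not_dvd.2 hPQ
    obtain ⟨f2, hf2⟩ := hcop.mul_dvd ⟨h, hh⟩ hQdvd
    have hdd : SelfDual σ (P * Q0) := by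
      show (P * Q0).reverse = _
      have hQ00 : Q0.coeff 0 = c⁻¹ := by
        rw [hQ0, coeff_C_mul, coeff_map, coeff_zero_reverse, hPm.leadingCoeff, map_one, mul_one]
      have hQr : Q0.reverse = C c⁻¹ * P.map σ := by
        rw [hQ0, reverse_mul_of_domain, reverse_C, reverse_map, reverse_reverse hc]
      have hQs : Q0.map σ = C (P.coeff 0)⁻¹ * P.reverse := by
        rw [hQ0, Polynomial.map_mul, Polynomial.map_C, map_map hσ2, map_inv₀, hcdef, hσ2]
      rw [reverse_mul_of_domain, hQr, Polynomial.map_mul, hQs, mul_coeff_zero, hQ00, C_mul]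
      have : C (P.coeff 0) * C (P.coeff 0)⁻¹ = (1 : K[X]) := by rw [← C_mul, mul_inv_cancel₀ hc, C_1]
      linear_combination (-(P.reverse * C c⁻¹ * P.map σ)) * this
    refine ⟨P, Q0, f2, hP, hPm, hQm, (hPm.mul hQm).of_mul_monic_left (hf2 ▸ hf), hcop, hf2, hdd, ?_⟩
    refine selfDual_of_mul (hf2 ▸ hd) hdd ?_
    rw [mul_coeff_zero, hQ0, coeff_C_mul, coeff_map, coeff_zero_reverse, hPm.leadingCoeff, map_one, mul_one]
    exact mul_ne_zero hc (inv_ne_zero hc0)

/-- The relation between the characteristic polynomials of `B` and `A` if `A⋆ B = 1`. -/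
theorem reverse_charpoly_of_adj {A B : Mn} (h : adj σ A * B = 1) :
    B.charpoly.reverse = C (B.charpoly.coeff 0) * A.charpoly.map σ := by
  have hc : A.charpoly.map σ = (adj σ A).charpoly := by
    rw [adj, Matrix.charpoly_transpose, Matrix.charpoly_map]
  have h1 : charmatrix (adj σ A) * B.map C = -(1 - (X : K[X]) • B.map C) := by
    rw [charmatrix, RingHom.mapMatrix_apply, sub_mul, ← Matrix.map_mul, h, Matrix.map_one _ C_0 C_1,
      Matrix.scalar_apply, ← Matrix.smul_one_eq_diagonal, smul_mul_assoc, one_mul, neg_sub]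
  have h2 := congrArg Matrix.det h1
  rw [Matrix.det_mul, Matrix.det_neg, show (B.map C).det = C B.det by
    rw [← RingHom.mapMatrix_apply, ← RingHom.map_det]] at h2
  rw [Matrix.reverse_charpoly, Matrix.charpolyRev, hc,
    show B.charpoly.coeff 0 = (-1) ^ n * B.det by
      rw [Matrix.det_eq_sign_charpoly_coeff, Fintype.card_fin, ← mul_assoc, ← mul_pow, neg_mul_neg, one_mul, one_pow,
        one_mul], show (adj σ A).charpoly = (charmatrix (adj σ A)).det from rfl]
  rw [C_mul, mul_assoc, mul_comm (C B.det), h2, ← mul_assoc, map_pow, map_neg, map_one, Fintype.card_fin, ← mul_pow,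
    neg_mul_neg, one_mul, one_pow, one_mul]

theorem selfDual_charpoly {g : GL (Fin n) K} (hg : adj σ (g : Mn) * g = 1) :
    SelfDual σ (g : Mn).charpoly :=
  reverse_charpoly_of_adj hg

theorem coeff_zero_charpoly_ne (g : GL (Fin n) K) : (g : Mn).charpoly.coeff 0 ≠ 0 := fun h => by
  have h1 := (Matrix.isUnit_iff_isUnit_det _).1 g.isUnit
  rw [Matrix.det_eq_sign_charpoly_coeff, h, mul_zero] at h1
  exact h1.ne_zero rfl

theorem aeval_comm {A : Type*} [Ring A] [Algebra K A] {x y : A} (h : Commute x y) (r : K[X]) :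
    Commute (aeval x r) y := by
  induction r using Polynomial.induction_on with
  | C c => rw [aeval_C]; exact Algebra.commutes c y
  | add a b ha hb => rw [map_add]; exact ha.add_left hb
  | monomial k c _ => rw [map_mul, aeval_C, map_pow, aeval_X]
                      exact (show Commute _ y from Algebra.commutes c y).mul_left (h.pow_left _)

variable [Fintype K] (p : ℕ) [Fact p.Prime] [CharP K p]

/-- A self dual polynomial is the characteristic polynomial of a unitary matrix of order prime to `p`. -/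
theorem exists_unitary (hσ : σ ≠ RingHom.id K) (hσ2 : ∀ a, σ (σ a) = a) {f : K[X]} (hf : f.Monic)
    (hd : f.natDegree = n) (h0 : f.coeff 0 ≠ 0) (hsd : SelfDual σ f) :
    ∃ g : GL (Fin n) K, adj σ (g : Mn) * g = 1 ∧ (orderOf g).Coprime p ∧ (g : Mn).charpoly = f := by
  obtain ⟨M, hM⟩ := Semisimple.exists_charpoly (k := n) f hf hd
  have hMd : M.det ≠ 0 := by
    rw [Matrix.det_eq_sign_charpoly_coeff, hM]
    exact mul_ne_zero (pow_ne_zero _ (neg_ne_zero.2 one_ne_zero)) h0
  obtain ⟨A, hA, hAc⟩ := Semisimple.exists_coprime_part p (Matrix.GeneralLinearGroup.mkOfDetNeZero M hMd)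
  have hAf : (A : Mn).charpoly = f := hAc.trans hM
  have hI := isInvol_adj (n := n) hσ2
  let S : GL (Fin n) K →* (GL (Fin n) K)ᵐᵒᵖ :=
    MonoidHom.mk' (fun X => MulOpposite.op
      { val := adj σ (X : Mn)
        inv := adj σ ((X⁻¹ : GL (Fin n) K) : Mn)
        val_inv := by rw [← hI.map_mul, X.inv_mul, hI.map_one]
        inv_val := by rw [← hI.map_mul, X.mul_inv, hI.map_one] })
      fun a b => congrArg MulOpposite.op (Units.ext (hI.map_mul (a : Mn) b))
  obtain ⟨B, hB⟩ : ∃ B : GL (Fin n) K, B = (MulOpposite.unop (S A))⁻¹ := ⟨_, rfl⟩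
  have hBA : adj σ (A : Mn) * B = 1 := by
    rw [hB]
    exact (MulOpposite.unop (S A)).mul_inv
  have hBo : (orderOf B).Coprime p := by
    refine hA.coprime_dvd_left (orderOf_dvd_of_pow_eq_one ?_)
    rw [hB, inv_pow, ← MulOpposite.unop_pow, ← map_pow, pow_orderOf_eq_one, map_one, MulOpposite.unop_one, inv_one]
  have hBf : (B : Mn).charpoly = f := by
    have h1 := reverse_charpoly_of_adj hBA
    rw [hAf] at h1
    obtain ⟨b, hb⟩ : ∃ b, b = (B : Mn).charpoly.coeff 0 := ⟨_, rfl⟩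
    rw [← hb] at h1
    have h2 : (B : Mn).charpoly.reverse = C (b / f.coeff 0) * f.reverse := by
      rw [hsd, h1, ← mul_assoc, ← C_mul, div_mul_cancel₀ _ h0]
    have h3 := congrArg Polynomial.reverse h2
    rw [reverse_reverse (coeff_zero_charpoly_ne B), reverse_mul_of_domain, reverse_C, reverse_reverse h0] at h3
    have h4 := congrArg leadingCoeff h3
    rw [(Matrix.charpoly_monic _).leadingCoeff, leadingCoeff_mul, leadingCoeff_C, hf.leadingCoeff, mul_one] at h4
    rw [h3, ← h4, C_1, one_mul]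
  obtain ⟨P, hP⟩ := isConj_iff.1 (Semisimple.isConj_of_charpoly (Semisimple.isSemisimple_of_coprime p hA)
    (Semisimple.isSemisimple_of_coprime p hBo) (hAf.trans hBf.symm))
  have hP' : adj σ (A : Mn) * P * A = P := by
    rw [mul_assoc, ← Units.val_mul, show P * A = B * P by rw [← hP]; group, Units.val_mul, ← mul_assoc, hBA, one_mul]
  obtain ⟨D, hD⟩ := exists_unitary_conj hσ hσ2 hP'
  refine ⟨_, hD, ?_, ?_⟩
  · rwa [← MulAut.conj_apply, MulEquiv.orderOf_eq]
  · rw [Units.val_mul, Units.val_mul, Matrix.coe_units_inv, Matrix.charpoly_units_conj, hAf]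

/-- A polynomial in a semisimple matrix with a simple irreducible factor has any determinant. -/
theorem exists_aeval_det {d : ℕ} {B : GL (Fin d) K}
    (hB : Module.End.IsSemisimple (Matrix.toLin' (B : Matrix (Fin d) (Fin d) K)))
    {P Q : K[X]} (hP : Irreducible P) (hPm : P.Monic) (hcop : IsCoprime P Q)
    (h : (B : Matrix (Fin d) (Fin d) K).charpoly = P * Q) (u : Kˣ) :
    ∃ r : K[X], (aeval (B : Matrix (Fin d) (Fin d) K) r).det = (u : K) := by
  haveI := Fact.mk hP
  obtain ⟨f, hf⟩ : ∃ f : Module.End K (Fin d → K), f = Matrix.toLinAlgEquiv' (B : Matrix (Fin d) (Fin d) K) := ⟨_, rfl⟩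
  have hfss : f.IsSemisimple := hf ▸ hB
  have hfc : f.charpoly = P * Q := by
    rw [hf, show Matrix.toLinAlgEquiv' (B : Matrix (Fin d) (Fin d) K) = Matrix.toLin' (B : Matrix (Fin d) (Fin d) K) from rfl,
      Matrix.charpoly_toLin', h]
  obtain ⟨W', hW', E, hE⟩ := Semisimple.exists_split f hfss (q := P) (hfc ▸ dvd_mul_right P Q)
  let pb := AdjoinRoot.powerBasis' hPm
  haveI : Module.Finite K (AdjoinRoot P) := pb.finite
  haveI : Finite (AdjoinRoot P) := Module.finite_of_finite K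
  have hW : (f.restrict hW').charpoly = Q := by
    have h1 := Semisimple.charpoly_split E hE
    rw [hfc, show (LinearMap.mulLeft K (AdjoinRoot.root P)).charpoly = P from ?_] at h1
    · exact (mul_left_cancel₀ hP.ne_zero h1).symm
    · rw [← LinearMap.charpoly_toMatrix _ pb.basis,
        show LinearMap.toMatrix pb.basis pb.basis (LinearMap.mulLeft K (AdjoinRoot.root P)) =
          Algebra.leftMulMatrix pb.basis pb.gen by rw [AdjoinRoot.powerBasis'_gen]; rfl,
        charpoly_leftMulMatrix, AdjoinRoot.powerBasis'_gen,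
        AdjoinRoot.minpoly_root hP.ne_zero, hPm.leadingCoeff, inv_one, C_1, mul_one]
  obtain ⟨k, hk⟩ := FiniteField.norm_surjective K (AdjoinRoot P) (u : K)
  obtain ⟨s, rfl⟩ := AdjoinRoot.mk_surjective k
  obtain ⟨a, b, hab⟩ := hcop
  obtain ⟨r, hr⟩ : ∃ r : K[X], r = s * (b * Q) + a * P := ⟨_, rfl⟩
  refine ⟨r, ?_⟩
  have hr1 : AdjoinRoot.mk P r = AdjoinRoot.mk P s := by
    rw [AdjoinRoot.mk_eq_mk]
    exact ⟨a * (1 - s), by rw [hr]; linear_combination s * hab⟩
  have hr2 : aeval (f.restrict hW') r = 1 := by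
    have hQ : aeval (f.restrict hW') Q = 0 := hW ▸ LinearMap.aeval_self_charpoly _
    have e : r = 1 + (s * b - b) * Q := by rw [hr]; linear_combination hab
    rw [e, map_add, map_one, map_mul, hQ, mul_zero, add_zero]
  have key : ∀ (r : K[X]) x, aeval f r (E x) = E (AdjoinRoot.mk P r * x.1, aeval (f.restrict hW') r x.2) := by
    intro r
    induction r using Polynomial.induction_on with
    | C c =>
      intro x
      rw [aeval_C, aeval_C, AdjoinRoot.mk_C, Module.algebraMap_end_apply, Module.algebraMap_end_apply, ← map_smul,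
        Prod.smul_def, Algebra.smul_def, AdjoinRoot.algebraMap_eq]
    | add p q hp hq =>
      intro x
      rw [map_add (aeval f), map_add (aeval (f.restrict hW')), map_add (AdjoinRoot.mk P), LinearMap.add_apply, hp, hq,
        ← map_add, add_mul]
      rfl
    | monomial k c ih =>
      intro x
      rw [show C c * X ^ (k + 1) = C c * X ^ k * X by ring, map_mul (aeval f), map_mul (aeval (f.restrict hW')),
        map_mul (AdjoinRoot.mk P), aeval_X, aeval_X, AdjoinRoot.mk_X, Module.End.mul_apply, Module.End.mul_apply,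
        hE, ih, mul_assoc]
  have hdet : LinearMap.det (aeval f r) = (u : K) := by
    have e : aeval f r = (E : (AdjoinRoot P × W') →ₗ[K] (Fin d → K)) ∘ₗ
        ((LinearMap.mulLeft K (AdjoinRoot.mk P s)).prodMap LinearMap.id) ∘ₗ
          (E.symm : (Fin d → K) →ₗ[K] AdjoinRoot P × W') := by
      refine LinearMap.ext fun x => ?_
      obtain ⟨y, rfl⟩ := E.surjective x
      rw [key, hr1, hr2]
      simp
    rw [e, LinearMap.det_conj, LinearMap.det_prodMap, LinearMap.det_id, mul_one, ← hk, Algebra.norm_apply]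
    rfl
  rw [hf, aeval_algHom_apply] at hdet
  rw [← hdet]
  exact (LinearMap.det_toLin' _).symm

/-- The unitary centraliser of a semisimple unitary matrix has all possible determinants. -/
theorem exists_unitary_det (hσ : σ ≠ RingHom.id K) (hσ2 : ∀ a, σ (σ a) = a) (hn : 0 < n) {g : GL (Fin n) K}
    (hg : adj σ (g : Mn) * g = 1) (hgp : (orderOf g).Coprime p) (v : Kˣ) :
    ∃ u : GL (Fin n) K, adj σ (u : Mn) * u = 1 ∧ u * g = g * u ∧ (u : Mn).det = v / σ v := by
  classical
  obtain ⟨P, Q, f2, hP, hPm, hQm, hf2m, hcop, hfac, hd1, hd2⟩ :=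
    exists_factor_dual hσ2 (Matrix.charpoly_monic (g : Mn)) (selfDual_charpoly hg) (coeff_zero_charpoly_ne g)
      (by rw [Matrix.charpoly_natDegree_eq_dim, Fintype.card_fin]; exact hn)
  have hc0 := coeff_zero_charpoly_ne g
  rw [hfac, mul_coeff_zero, mul_ne_zero_iff] at hc0
  obtain ⟨d, hd⟩ : ∃ d, d = (P * Q).natDegree := ⟨_, rfl⟩
  obtain ⟨e, he⟩ : ∃ e, e = f2.natDegree := ⟨_, rfl⟩
  have hde : n = d + e := by
    rw [hd, he, ← (hPm.mul hQm).natDegree_mul hf2m, ← hfac, Matrix.charpoly_natDegree_eq_dim, Fintype.card_fin]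
  subst hde
  obtain ⟨B1, hB1, hB1p, hB1c⟩ := exists_unitary p hσ hσ2 (hPm.mul hQm) hd.symm hc0.1 hd1
  obtain ⟨B2, hB2, hB2p, hB2c⟩ := exists_unitary p hσ hσ2 hf2m he.symm hc0.2 hd2
  let em : GL (Fin d) K × GL (Fin e) K →* GL (Fin (d + e)) K := MonoidHom.toHomUnits
    { toFun := fun x => Matrix.reindex finSumFinEquiv finSumFinEquiv (fromBlocks (x.1 : Matrix (Fin d) (Fin d) K) 0 0 x.2)
      map_one' := by simp
      map_mul' := fun x y => by
        simp [Matrix.fromBlocks_multiply, Matrix.submatrix_mul_equiv] }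
  have hem : ∀ x, ((em x : GL (Fin (d + e)) K) : Matrix (Fin (d + e)) (Fin (d + e)) K) =
      Matrix.reindex finSumFinEquiv finSumFinEquiv (fromBlocks (x.1 : Matrix (Fin d) (Fin d) K) 0 0 x.2) := fun x => rfl
  have hadj : ∀ x : GL (Fin d) K × GL (Fin e) K, adj σ (x.1 : Matrix (Fin d) (Fin d) K) * x.1 = 1 →
      adj σ (x.2 : Matrix (Fin e) (Fin e) K) * x.2 = 1 →
      adj σ ((em x : GL (Fin (d + e)) K) : Matrix (Fin (d + e)) (Fin (d + e)) K) * em x = 1 := by
    intro x h1 h2
    rw [hem]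
    unfold adj at h1 h2 ⊢
    rw [Matrix.reindex_apply, ← Matrix.submatrix_map, Matrix.transpose_submatrix, Matrix.submatrix_mul_equiv,
      Matrix.fromBlocks_map, Matrix.fromBlocks_transpose, Matrix.fromBlocks_multiply]
    simp [h1, h2, Matrix.map_zero]
  obtain ⟨B, hBdef⟩ : ∃ B, B = em (B1, B2) := ⟨_, rfl⟩
  have hB : adj σ (B : Matrix (Fin (d + e)) (Fin (d + e)) K) * B = 1 := hBdef ▸ hadj (B1, B2) hB1 hB2
  have hBp : (orderOf B).Coprime p := by
    rw [hBdef]
    refine Nat.Coprime.coprime_dvd_left (orderOf_map_dvd em (B1, B2)) ?_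
    rw [Prod.orderOf]
    exact (hB1p.mul_left hB2p).coprime_dvd_left (Nat.lcm_dvd (dvd_mul_right _ _) (dvd_mul_left _ _))
  have hBc : (g : Matrix (Fin (d + e)) (Fin (d + e)) K).charpoly = (B : Matrix (Fin (d + e)) (Fin (d + e)) K).charpoly := by
    rw [hBdef, hem, Matrix.charpoly_reindex, Matrix.charpoly_fromBlocks_zero₁₂, hB1c, hB2c, hfac]
  obtain ⟨h, hh⟩ := isConj_iff.1 (Semisimple.isConj_of_charpoly (Semisimple.isSemisimple_of_coprime p hgp)
    (Semisimple.isSemisimple_of_coprime p hBp) hBc)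
  obtain ⟨D, hD, hDg⟩ := exists_unitary_conjugator hσ hσ2 hg hB (h := h) (by rw [← hh]; group)
  obtain ⟨r, hr⟩ := exists_aeval_det (Semisimple.isSemisimple_of_coprime p hB1p) hP hPm hcop hB1c v
  have hI1 := isInvol_adj (n := d) hσ2
  obtain ⟨V, hV⟩ : ∃ V : GL (Fin d) K, (V : Matrix (Fin d) (Fin d) K) = aeval (B1 : Matrix (Fin d) (Fin d) K) r :=
    ⟨((Matrix.isUnit_iff_isUnit_det _).2 (hr ▸ v.isUnit)).unit, rfl⟩
  obtain ⟨S, hS⟩ : ∃ S : GL (Fin d) K, (S : Matrix (Fin d) (Fin d) K) = adj σ (V : Matrix (Fin d) (Fin d) K) :=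
    ⟨(isUnit_adj V).unit, rfl⟩
  have hB1' : (B1 : Matrix (Fin d) (Fin d) K) * adj σ (B1 : Matrix (Fin d) (Fin d) K) = 1 := mul_eq_one_comm.1 hB1
  have hVB : Commute (V : Matrix (Fin d) (Fin d) K) B1 := hV ▸ aeval_comm (Commute.refl _) r
  have hVBs : Commute (V : Matrix (Fin d) (Fin d) K) (adj σ (B1 : Matrix (Fin d) (Fin d) K)) :=
    hV ▸ aeval_comm (show Commute (B1 : Matrix (Fin d) (Fin d) K) _ from hB1'.trans hB1.symm) r
  have hSB : Commute (S : Matrix (Fin d) (Fin d) K) B1 := by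
    show (S : Matrix (Fin d) (Fin d) K) * B1 = B1 * S
    rw [hS]
    conv_lhs => rw [← hI1.invol (B1 : Matrix (Fin d) (Fin d) K), ← hI1.map_mul, ← hVBs.eq, hI1.map_mul, hI1.invol]
  have hVS : Commute (V : Matrix (Fin d) (Fin d) K) S :=
    hV ▸ aeval_comm hSB.symm r
  have hVS' : V * S = S * V := Units.ext hVS.eq
  have hu1 : adj σ ((V * S⁻¹ : GL (Fin d) K) : Matrix (Fin d) (Fin d) K) * (V * S⁻¹ : GL (Fin d) K) = 1 := by
    obtain ⟨T, hT⟩ : ∃ T, T = adj σ ((S⁻¹ : GL (Fin d) K) : Matrix (Fin d) (Fin d) K) := ⟨_, rfl⟩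
    have hTV : T * (V : Matrix (Fin d) (Fin d) K) = 1 := by
      rw [hT, ← hI1.invol (V : Matrix (Fin d) (Fin d) K), ← hS, ← hI1.map_mul, S.mul_inv, hI1.map_one]
    rw [Units.val_mul, hI1.map_mul, ← hS, ← hT, mul_assoc, ← mul_assoc (S : Matrix (Fin d) (Fin d) K), ← hVS.eq,
      mul_assoc (V : Matrix (Fin d) (Fin d) K), S.mul_inv, mul_one, hTV]
  have hz : adj σ ((em (V * S⁻¹, 1) : GL (Fin (d + e)) K) : Matrix (Fin (d + e)) (Fin (d + e)) K) * em (V * S⁻¹, 1) = 1 :=
    hadj (V * S⁻¹, 1) hu1 (by rw [Units.val_one, mul_one]; exact (isInvol_adj (n := e) hσ2).map_one)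
  have hzB : em (V * S⁻¹, 1) * B = B * em (V * S⁻¹, 1) := by
    have h1 : V * B1 = B1 * V := Units.ext hVB.eq
    have h2 : S * B1 = B1 * S := Units.ext hSB.eq
    rw [hBdef, ← map_mul, ← map_mul, Prod.mk_mul_mk, Prod.mk_mul_mk, one_mul, mul_one,
      show V * S⁻¹ * B1 = B1 * (V * S⁻¹) from
        ((show Commute V B1 from h1).mul_left (show Commute S B1 from h2).inv_left).eq]
  have hI := isInvol_adj (n := d + e) hσ2
  have hDi : adj σ ((D⁻¹ : GL (Fin (d + e)) K) : Matrix (Fin (d + e)) (Fin (d + e)) K) = D := by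
    have h1 : (D : Matrix (Fin (d + e)) (Fin (d + e)) K) * adj σ (D : Matrix (Fin (d + e)) (Fin (d + e)) K) = 1 :=
      mul_eq_one_comm.1 hD
    rw [show adj σ ((D⁻¹ : GL (Fin (d + e)) K) : Matrix (Fin (d + e)) (Fin (d + e)) K) =
      adj σ ((D⁻¹ : GL (Fin (d + e)) K) : Matrix (Fin (d + e)) (Fin (d + e)) K) *
        (adj σ (D : Matrix (Fin (d + e)) (Fin (d + e)) K) * D) by rw [hD, mul_one], ← mul_assoc, ← hI.map_mul,
      D.mul_inv, hI.map_one, one_mul]
  refine ⟨D⁻¹ * em (V * S⁻¹, 1) * D, ?_, ?_, ?_⟩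
  · obtain ⟨Z, hZ⟩ : ∃ Z, Z = em (V * S⁻¹, 1) := ⟨_, rfl⟩
    rw [← hZ] at hz ⊢
    rw [Units.val_mul, Units.val_mul, hI.map_mul, hI.map_mul, hDi]
    calc adj σ (D : Matrix (Fin (d + e)) (Fin (d + e)) K) * (adj σ (Z : Matrix (Fin (d + e)) (Fin (d + e)) K) * D) *
          (((D⁻¹ : GL (Fin (d + e)) K) : Matrix (Fin (d + e)) (Fin (d + e)) K) * Z * D)
        = adj σ (D : Matrix (Fin (d + e)) (Fin (d + e)) K) * adj σ (Z : Matrix (Fin (d + e)) (Fin (d + e)) K) *
            ((D : Matrix (Fin (d + e)) (Fin (d + e)) K) * ((D⁻¹ : GL (Fin (d + e)) K) : Matrix (Fin (d + e)) (Fin (d + e)) K)) * Z * D := by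
          noncomm_ring
      _ = 1 := by rw [D.mul_inv, mul_one, mul_assoc (adj σ _) (adj σ _), hz, mul_one, hD]
  · have hgD : g = D⁻¹ * B * D := by rw [mul_assoc, ← hDg, inv_mul_cancel_left]
    rw [hgD]
    calc D⁻¹ * em (V * S⁻¹, 1) * D * (D⁻¹ * B * D) = D⁻¹ * (em (V * S⁻¹, 1) * B) * D := by group
      _ = _ := by rw [hzB]; group
  · rw [Units.val_mul, Units.val_mul, Matrix.coe_units_inv, Matrix.det_conj' D.isUnit, hem,
      Matrix.det_reindex_self, Matrix.det_fromBlocks_zero₁₂, Units.val_one, Matrix.det_one, mul_one,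
      Units.val_mul, Matrix.det_mul, Matrix.coe_units_inv, Matrix.det_nonsing_inv, Ring.inverse_eq_inv', hS, adj,
      Matrix.det_transpose, ← RingHom.mapMatrix_apply, ← RingHom.map_det, hV, hr, ← div_eq_mul_inv]

end CfsgLib.KnownB.UnitaryCharpoly
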