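import Cfsg.Agent.Lib.KnownB.ElementOrders
import Cfsg.Agent.Lib.KnownB.Semisimple
import Cfsg.Agent.Lib.Classical.Order

/-!
Commuting elements of coprime prime orders in `SL n F`: degrees of the eigenvalue fields.
-/

set_option autoImplicit false
set_option linter.unusedSectionVars false

namespace CfsgLib.KnownB.PrimeGraph

open Polynomial Matrix CfsgLib.KnownB.ElementOrders
open scoped MatrixGroups

universe u

variable {F : Type u} [Field F] [Fintype F]

section Degrees

variable (F)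

/-- The multiplicative order of the field size modulo `r`. -/
noncomputable def ordQ (r : ℕ) : ℕ := orderOf ((Fintype.card F : ℕ) : ZMod r)

variable {F}

theorem dvd_pow_sub_one_iff {r : ℕ} (d : ℕ) : r ∣ Fintype.card F ^ d - 1 ↔ ordQ F r ∣ d := by
  rw [← ZMod.natCast_eq_zero_iff, Nat.cast_sub (Nat.one_le_pow _ _ Fintype.card_pos), Nat.cast_pow,
    Nat.cast_one, sub_eq_zero, ordQ]
  exact orderOf_dvd_iff_pow_eq_one.symm

theorem natCast_ne_zero (p : ℕ) [Fact p.Prime] [CharP F p] {r : ℕ} (hr : r.Prime) (hrp : r ≠ p) :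
    (r : F) ≠ 0 := fun h => by
  rw [CharP.cast_eq_zero_iff F p] at h
  exact hrp ((Nat.prime_dvd_prime_iff_eq Fact.out hr).1 h).symm

theorem cast_card_ne_zero (p : ℕ) [Fact p.Prime] [CharP F p] {r : ℕ} (hr : r.Prime) (hrp : r ≠ p) :
    ((Fintype.card F : ℕ) : ZMod r) ≠ 0 := fun h => by
  obtain ⟨f, -, hf⟩ := FiniteField.card F p
  rw [ZMod.natCast_eq_zero_iff, hf] at h
  exact hrp ((Nat.prime_dvd_prime_iff_eq hr Fact.out).1 (hr.dvd_of_dvd_pow h))

theorem ordQ_dvd_pred (p : ℕ) [Fact p.Prime] [CharP F p] {r : ℕ} (hr : r.Prime) (hrp : r ≠ p) :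
    ordQ F r ∣ r - 1 :=
  haveI := Fact.mk hr
  orderOf_dvd_of_pow_eq_one (ZMod.pow_card_sub_one_eq_one (cast_card_ne_zero p hr hrp))

theorem ordQ_pos (p : ℕ) [Fact p.Prime] [CharP F p] {r : ℕ} (hr : r.Prime) (hrp : r ≠ p) :
    0 < ordQ F r :=
  Nat.pos_of_dvd_of_pos (ordQ_dvd_pred p hr hrp) (Nat.sub_pos_of_lt hr.one_lt)

theorem not_dvd_card_sub_one {r : ℕ} (h : 2 ≤ ordQ F r) : ¬ r ∣ Fintype.card F - 1 := fun hd => by
  have := (dvd_pow_sub_one_iff (F := F) (r := r) 1).1 (by rwa [pow_one])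
  have := Nat.le_of_dvd one_pos this
  omega

theorem dvd_card_SL {r a j : ℕ} (hj : 2 ≤ j) (hja : j ≤ a) (hr : r ∣ Fintype.card F ^ j - 1) :
    r ∣ Nat.card (Matrix.SpecialLinearGroup (Fin a) F) := by
  rw [CfsgLib.Classical.card_SL_fin', Nat.card_eq_fintype_card]
  refine Dvd.dvd.mul_left (hr.trans ?_) _
  have h := Finset.dvd_prod_of_mem (fun i => Fintype.card F ^ (i + 2) - 1)
    (Finset.mem_range.2 (show j - 2 < a - 1 by omega))
  rwa [show j - 2 + 2 = j by omega] at h

/-- Eigenvalues of order divisible by `r` generate extensions of degree divisible by `ordQ F r`. -/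
theorem ordQ_dvd_natDegree {r t : ℕ} (hr : r.Prime) {f : F[X]} (hf : Irreducible f)
    (h1 : f ∣ X ^ (r * t) - 1) (h2 : ¬ f ∣ X ^ t - 1) : ordQ F r ∣ f.natDegree := by
  classical
  haveI := Fact.mk hf
  haveI := Fact.mk hr
  haveI : Module.Finite F (AdjoinRoot f) := (AdjoinRoot.powerBasis hf.ne_zero).finite
  haveI : Finite (AdjoinRoot f) := Module.finite_of_finite F
  set β := AdjoinRoot.root f ^ t with hβ
  have hβr : β ^ r = 1 := by
    have h := AdjoinRoot.mk_eq_zero.2 h1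
    rw [map_sub, map_pow, AdjoinRoot.mk_X, map_one, sub_eq_zero] at h
    rw [hβ, ← pow_mul, mul_comm, h]
  have hβ1 : β ≠ 1 := fun h => h2 (AdjoinRoot.mk_eq_zero.1
    (by rw [map_sub, map_pow, AdjoinRoot.mk_X, map_one, ← hβ, h, sub_self]))
  have hβ0 : β ≠ 0 := fun h0 => by
    rw [h0, zero_pow hr.ne_zero] at hβr
    exact zero_ne_one hβr
  have hw : orderOf (Units.mk0 β hβ0) = r :=
    orderOf_eq_prime (Units.ext (by simpa using hβr)) fun h => hβ1 (congrArg Units.val h)
  refine (dvd_pow_sub_one_iff _).1 ?_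
  rw [← card_adjoinRoot hf.ne_zero, ← Nat.card_units, ← hw]
  exact orderOf_dvd_natCard _

/-- An element with an eigenvalue of order divisible by `r`. -/
theorem exists_factor {n r t : ℕ} (hrt : ((r * t : ℕ) : F) ≠ 0) {A : Matrix (Fin n) (Fin n) F}
    (h1 : A ^ (r * t) = 1) (h2 : A ^ t ≠ 1) :
    ∃ f : F[X], Irreducible f ∧ f.Monic ∧ f ∣ minpoly F A ∧ f ∣ X ^ (r * t) - 1 ∧ ¬ f ∣ X ^ t - 1 := by
  classical
  set m := minpoly F A with hm
  have hmdvd : m ∣ X ^ (r * t) - 1 := minpoly.dvd F A (by simp [h1])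
  have hsep : (X ^ (r * t) - 1 : F[X]).Separable := X_pow_sub_one_separable_iff.2 hrt
  have hsq : Squarefree m := Squarefree.squarefree_of_dvd hmdvd hsep.squarefree
  set d := gcd m (X ^ t - 1) with hd
  obtain ⟨c, hc⟩ := gcd_dvd_left m (X ^ t - 1)
  rw [← hd] at hc
  have hcu : ¬ IsUnit c := fun hu => by
    have hmt : m ∣ X ^ t - 1 := by
      rw [hc]
      exact (associated_mul_unit_left d c hu).dvd.trans (gcd_dvd_right _ _)
    obtain ⟨e, he⟩ := hmt
    have h := congrArg (aeval A) he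
    rw [map_mul, hm, minpoly.aeval, zero_mul, map_sub, map_pow, aeval_X, map_one, sub_eq_zero] at h
    exact h2 h
  obtain ⟨f, hfm, hf, hfc⟩ := Polynomial.exists_monic_irreducible_factor c hcu
  have hfM : f ∣ m := hc ▸ hfc.mul_left d
  refine ⟨f, hf, hfm, hfM, hfM.trans hmdvd, fun h => hf.not_isUnit (hsq f ?_)⟩
  rw [hc]
  exact mul_dvd_mul (dvd_gcd hfM h) hfc

theorem natDegree_le_of_dvd_minpoly {n : ℕ} {A : Matrix (Fin n) (Fin n) F} {f : F[X]}
    (h : f ∣ minpoly F A) : f.natDegree ≤ n := by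
  have h' := Polynomial.natDegree_le_of_dvd (h.trans (Matrix.minpoly_dvd_charpoly A))
    (Matrix.charpoly_monic A).ne_zero
  rwa [Matrix.charpoly_natDegree_eq_dim, Fintype.card_fin] at h'

theorem ordQ_le (p : ℕ) [Fact p.Prime] [CharP F p] {n r : ℕ} (hr : r.Prime) (hrp : r ≠ p)
    (hdvd : r ∣ Nat.card (Matrix.SpecialLinearGroup (Fin n) F)) : ordQ F r ≤ n := by
  haveI := Fact.mk hr
  obtain ⟨g, hg⟩ := exists_prime_orderOf_dvd_card' r hdvd
  have h1 : (g : Matrix (Fin n) (Fin n) F) ^ (r * 1) = 1 := by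
    rw [mul_one, ← sl_pow_eq_one_iff, ← hg, pow_orderOf_eq_one]
  have h2 : (g : Matrix (Fin n) (Fin n) F) ^ 1 ≠ 1 := fun h => hr.ne_one (by
    rw [← hg, orderOf_eq_one_iff, ← pow_one g, sl_pow_eq_one_iff, h])
  obtain ⟨f, hf, -, hfm, hfd, hfn⟩ :=
    exists_factor (by rw [mul_one]; exact natCast_ne_zero p hr hrp) h1 h2
  exact (Nat.le_of_dvd hf.natDegree_pos (ordQ_dvd_natDegree hr hf hfd hfn)).trans
    (natDegree_le_of_dvd_minpoly hfm)

/-- Two irreducible factors of the minimal polynomial. -/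
theorem natDegree_add_le {n : ℕ} {A : Matrix (Fin n) (Fin n) F} {f g : F[X]} (hf : Irreducible f)
    (hfm : f.Monic) (hg : Irreducible g) (hgm : g.Monic) (hne : f ≠ g) (h1 : f ∣ minpoly F A)
    (h2 : g ∣ minpoly F A) : f.natDegree + g.natDegree ≤ n := by
  have hco : IsCoprime f g := hf.coprime_iff_not_dvd.2 fun h =>
    hne (eq_of_monic_of_associated hfm hgm (hf.associated_of_dvd hg h))
  have := natDegree_le_of_dvd_minpoly (hco.mul_dvd h1 h2)
  rwa [hfm.natDegree_mul hgm] at this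

end Degrees

section Lift

variable {n : ℕ}

local notation "P" => Matrix.ProjectiveSpecialLinearGroup (Fin n) F
local notation "S" => Matrix.SpecialLinearGroup (Fin n) F

theorem scalar_pow_eq_one {g : S} {m : ℕ} (h : (QuotientGroup.mk g : P) ^ m = 1) :
    g ^ (m * (Fintype.card F - 1)) = 1 := by
  obtain ⟨c, hc⟩ := mk_pow_eq_one_iff.1 h
  rw [sl_pow_eq_one_iff, pow_mul, hc, ← map_pow]
  rcases eq_or_ne c 0 with rfl | hc0
  · have hdet := g.det_coe
    have h0 := congrArg Matrix.det hc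
    rw [Matrix.det_pow, hdet, one_pow, map_zero] at h0
    rcases isEmpty_or_nonempty (Fin n) with he | he
    · exact Subsingleton.elim _ _
    · rw [Matrix.det_zero] at h0
      exact absurd h0 one_ne_zero
  · rw [FiniteField.pow_card_sub_one_eq_one c hc0, map_one]

/-- Projective orders prime to `q - 1` are linear orders. -/
theorem mem_range_iff {m : ℕ} (hm : m.Coprime (Fintype.card F - 1)) :
    m ∈ Set.range (orderOf : P → ℕ) ↔ ∃ g : S, orderOf g = m := by
  constructor
  · rintro ⟨x, rfl⟩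
    obtain ⟨g, rfl⟩ := QuotientGroup.mk_surjective x
    refine ⟨g ^ (Fintype.card F - 1), Nat.dvd_antisymm (orderOf_dvd_of_pow_eq_one ?_) ?_⟩
    · rw [← pow_mul, mul_comm]
      exact scalar_pow_eq_one (pow_orderOf_eq_one _)
    · have h := orderOf_map_dvd (QuotientGroup.mk' (Subgroup.center S)) (g ^ (Fintype.card F - 1))
      rwa [map_pow, QuotientGroup.mk'_apply, hm.orderOf_pow] at h
  · rintro ⟨g, rfl⟩
    refine ⟨QuotientGroup.mk g, Nat.dvd_antisymm
      (orderOf_map_dvd (QuotientGroup.mk' (Subgroup.center S)) g) ?_⟩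
    exact hm.dvd_of_dvd_mul_right (orderOf_dvd_of_pow_eq_one (scalar_pow_eq_one (pow_orderOf_eq_one _)))

end Lift

section Vectors

variable {n : ℕ}

theorem eq_zero_of_aeval_mulVec {h : Matrix (Fin n) (Fin n) F} {f q : F[X]} (hf : Irreducible f)
    (hq : q.degree < f.degree) {w : Fin n → F} (hw : w ≠ 0) (hfw : aeval h f *ᵥ w = 0)
    (hqw : aeval h q *ᵥ w = 0) : q = 0 := by
  by_contra hq0
  obtain ⟨a, b, hab⟩ := hf.coprime_iff_not_dvd.2 fun hd =>
    absurd (Polynomial.degree_le_of_dvd hd hq0) (not_le.2 hq)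
  refine hw ?_
  have h1 := congrArg (fun P => aeval h P *ᵥ w) hab
  simp only [map_add, map_mul, map_one, Matrix.add_mulVec, ← Matrix.mulVec_mulVec, hfw, hqw,
    Matrix.mulVec_zero, add_zero, Matrix.one_mulVec] at h1
  exact h1.symm

/-- A nilpotent moving a vector inside an irreducible eigenvalue piece doubles it. -/
theorem two_mul_natDegree_le {h N : Matrix (Fin n) (Fin n) F} (hc : Commute N h) {f : F[X]}
    (hf : Irreducible f) {v : Fin n → F} (hv : N *ᵥ v ≠ 0) (hv2 : N *ᵥ (N *ᵥ v) = 0)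
    (hfv : aeval h f *ᵥ (N *ᵥ v) = 0) : 2 * f.natDegree ≤ n := by
  have hdeg : ∀ q : Polynomial.degreeLT F f.natDegree, (q : F[X]).degree < f.degree := fun q => by
    rw [Polynomial.degree_eq_natDegree hf.ne_zero]
    exact Polynomial.mem_degreeLT.1 q.2
  have hN : ∀ q : F[X], Commute N (aeval h q) := fun q => by
    induction q using Polynomial.induction_on' with
    | add a b ha hb => rw [map_add]; exact ha.add_right hb
    | monomial j c =>
      rw [aeval_monomial]
      exact (Algebra.commute_algebraMap_right c N).mul_right (hc.pow_right j)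
  let L : Polynomial.degreeLT F f.natDegree × Polynomial.degreeLT F f.natDegree →ₗ[F] (Fin n → F) :=
    { toFun := fun q => aeval h (q.1 : F[X]) *ᵥ v + aeval h (q.2 : F[X]) *ᵥ (N *ᵥ v)
      map_add' := fun a b => by simp [Matrix.add_mulVec, add_mul]; abel
      map_smul' := fun c a => by simp [Matrix.smul_mulVec] }
  have hL : Function.Injective L := by
    rw [injective_iff_map_eq_zero]
    rintro ⟨a, b⟩ hab
    change aeval h (a : F[X]) *ᵥ v + aeval h (b : F[X]) *ᵥ (N *ᵥ v) = 0 at hab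
    have h1 := congrArg (N *ᵥ ·) hab
    have hswap : ∀ q x, N *ᵥ (aeval h q *ᵥ x) = aeval h q *ᵥ (N *ᵥ x) := fun q x => by
      rw [Matrix.mulVec_mulVec, (hN q).eq, ← Matrix.mulVec_mulVec]
    simp only [Matrix.mulVec_add, hswap, hv2, Matrix.mulVec_zero, add_zero] at h1
    have ha : (a : F[X]) = 0 := eq_zero_of_aeval_mulVec hf (hdeg a) hv hfv h1
    rw [ha, map_zero, Matrix.zero_mulVec, zero_add] at hab
    have hb : (b : F[X]) = 0 := eq_zero_of_aeval_mulVec hf (hdeg b) hv hfv hab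
    exact Prod.ext (Subtype.ext ha) (Subtype.ext hb)
  have h2 := LinearMap.finrank_le_finrank_of_injective hL
  rw [Module.finrank_prod, LinearEquiv.finrank_eq (Polynomial.degreeLTEquiv F f.natDegree),
    Module.finrank_fin_fun, Module.finrank_fin_fun] at h2
  omega

/-- A nilpotent outside an irreducible eigenvalue piece needs two more dimensions. -/
theorem natDegree_add_two_le {h N : Matrix (Fin n) (Fin n) F} (hc : Commute N h) {f : F[X]}
    (hf : Irreducible f) {w : Fin n → F} (hw : w ≠ 0) (hfw : aeval h f *ᵥ w = 0) {v : Fin n → F}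
    (hv : N *ᵥ v ≠ 0) (hv2 : N *ᵥ (N *ᵥ v) = 0) :
    f.natDegree + 2 ≤ n ∨ 2 * f.natDegree ≤ n := by
  by_cases hfv : aeval h f *ᵥ (N *ᵥ v) = 0
  · exact Or.inr (two_mul_natDegree_le hc hf hv hv2 hfv)
  refine Or.inl ?_
  have hN : ∀ q : F[X], Commute N (aeval h q) := fun q => by
    induction q using Polynomial.induction_on' with
    | add a b ha hb => rw [map_add]; exact ha.add_right hb
    | monomial j c =>
      rw [aeval_monomial]
      exact (Algebra.commute_algebraMap_right c N).mul_right (hc.pow_right j)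
  let L : Polynomial.degreeLT F f.natDegree × (F × F) →ₗ[F] (Fin n → F) :=
    { toFun := fun q => aeval h (q.1 : F[X]) *ᵥ w + (q.2.1 • v + q.2.2 • (N *ᵥ v))
      map_add' := fun a b => by simp [Matrix.add_mulVec, add_smul]; abel
      map_smul' := fun c a => by simp [Matrix.smul_mulVec, smul_smul] }
  have hL : Function.Injective L := by
    rw [injective_iff_map_eq_zero]
    rintro ⟨q, a, b⟩ hab
    change aeval h (q : F[X]) *ᵥ w + (a • v + b • (N *ᵥ v)) = 0 at hab
    have hfq : aeval h f *ᵥ (aeval h (q : F[X]) *ᵥ w) = 0 := by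
      rw [Matrix.mulVec_mulVec, ← map_mul, mul_comm, map_mul, ← Matrix.mulVec_mulVec, hfw,
        Matrix.mulVec_zero]
    have h1 := congrArg (aeval h f *ᵥ ·) hab
    simp only [Matrix.mulVec_add, hfq, zero_add, Matrix.mulVec_smul, Matrix.mulVec_zero] at h1
    have h2 := congrArg (N *ᵥ ·) h1
    have hswap : ∀ x, N *ᵥ (aeval h f *ᵥ x) = aeval h f *ᵥ (N *ᵥ x) := fun x => by
      rw [Matrix.mulVec_mulVec, (hN f).eq, ← Matrix.mulVec_mulVec]
    simp only [Matrix.mulVec_add, Matrix.mulVec_smul, hswap, hv2, Matrix.mulVec_zero, smul_zero,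
      add_zero] at h2
    have ha : a = 0 := (smul_eq_zero.1 h2).resolve_right hfv
    rw [ha, zero_smul, zero_add] at h1
    have hb : b = 0 := (smul_eq_zero.1 h1).resolve_right hfv
    rw [ha, hb, zero_smul, zero_smul, add_zero, add_zero] at hab
    have hq : (q : F[X]) = 0 := eq_zero_of_aeval_mulVec hf
      (by rw [Polynomial.degree_eq_natDegree hf.ne_zero]; exact Polynomial.mem_degreeLT.1 q.2) hw hfw hab
    exact Prod.ext (Subtype.ext hq) (Prod.ext ha hb)
  have h2 := LinearMap.finrank_le_finrank_of_injective hL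
  rw [Module.finrank_prod, Module.finrank_prod, LinearEquiv.finrank_eq (Polynomial.degreeLTEquiv F f.natDegree),
    Module.finrank_fin_fun, Module.finrank_fin_fun, Module.finrank_self] at h2
  omega

theorem exists_vec {N : Matrix (Fin n) (Fin n) F} (h0 : N ≠ 0) (hnil : IsNilpotent N) :
    ∃ v, N *ᵥ v ≠ 0 ∧ N *ᵥ (N *ᵥ v) = 0 := by
  classical
  obtain ⟨m, hm⟩ := hnil
  have hex : ∃ j, N ^ (j + 2) = 0 := ⟨m, by rw [pow_add, hm, zero_mul]⟩
  set j := Nat.find hex with hj
  have hj1 : N ^ (j + 1) ≠ 0 := by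
    rcases Nat.eq_zero_or_pos j with h | h
    · rw [h]; simpa using h0
    · have := Nat.find_min hex (show j - 1 < j by omega)
      rwa [show j - 1 + 2 = j + 1 by omega] at this
  obtain ⟨v, hv⟩ : ∃ v, N ^ (j + 1) *ᵥ v ≠ 0 := by
    by_contra hcon
    push Not at hcon
    exact hj1 (Matrix.ext_of_mulVec_single fun i => by rw [hcon, Matrix.zero_mulVec])
  refine ⟨N ^ j *ᵥ v, ?_, ?_⟩
  · rwa [Matrix.mulVec_mulVec, ← pow_succ']
  · rw [Matrix.mulVec_mulVec, Matrix.mulVec_mulVec,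
      show N * N * N ^ j = N ^ (j + 2) by rw [← pow_two, ← pow_add, add_comm], Nat.find_spec hex,
      Matrix.zero_mulVec]

theorem exists_ker_vec {A : Matrix (Fin n) (Fin n) F} {f : F[X]} (hf : Irreducible f)
    (h : f ∣ minpoly F A) : ∃ w, w ≠ 0 ∧ aeval A f *ᵥ w = 0 := by
  classical
  by_contra hcon
  push Not at hcon
  have hu : IsUnit (aeval A f) := by
    rw [← Matrix.mulVec_injective_iff_isUnit]
    intro x y hxy
    by_contra hne
    exact hcon (x - y) (sub_ne_zero.2 hne) (by rw [Matrix.mulVec_sub, hxy, sub_self])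
  obtain ⟨c, hc⟩ := h
  have h1 : aeval A c = 0 := by
    refine hu.mul_left_cancel ?_
    rw [← map_mul, ← hc, minpoly.aeval, mul_zero]
  have hint : IsIntegral F A := Matrix.isIntegral A
  have hc0 : c ≠ 0 := fun h0 => minpoly.ne_zero hint (by rw [hc, h0, mul_zero])
  have h2 := minpoly.degree_le_of_ne_zero F A hc0 h1
  rw [hc, Polynomial.degree_mul, Polynomial.degree_eq_natDegree hf.ne_zero,
    Polynomial.degree_eq_natDegree hc0] at h2
  have h3 : f.natDegree + c.natDegree ≤ c.natDegree := by exact_mod_cast h2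
  have := hf.natDegree_pos
  omega

/-- An element of order `r` commuting with one of order `p` forces `ordQ F r + 2 ≤ n`. -/
theorem ordQ_add_two_le (p : ℕ) [Fact p.Prime] [CharP F p] {r : ℕ} (hr : r.Prime) (hrp : r ≠ p)
    (h2 : 2 ≤ ordQ F r) {a b : Matrix.SpecialLinearGroup (Fin n) F} (ha : orderOf a = r)
    (hb : orderOf b = p) (hab : Commute a b) : ordQ F r + 2 ≤ n := by
  rcases isEmpty_or_nonempty (Fin n) with he | he
  · exact absurd (orderOf_eq_one_iff.2 (Subtype.ext (Subsingleton.elim _ _) : a = 1)) (ha ▸ hr.ne_one)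
  set N : Matrix (Fin n) (Fin n) F := (b : Matrix (Fin n) (Fin n) F) - 1 with hN
  have hN0 : N ≠ 0 := fun h => (Fact.out : p.Prime).ne_one (by
    rw [← hb, orderOf_eq_one_iff]; exact Subtype.ext (sub_eq_zero.1 h))
  have hnil : IsNilpotent N := ⟨p, by
    rw [hN, sub_pow_char_of_commute p (Commute.one_right _), one_pow, sub_eq_zero,
      ← sl_pow_eq_one_iff, ← hb, pow_orderOf_eq_one]⟩
  have hc : Commute N (a : Matrix (Fin n) (Fin n) F) :=
    (show Commute (b : Matrix (Fin n) (Fin n) F) a from congrArg Subtype.val hab.symm.eq).sub_left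
      (Commute.one_left _)
  have h1 : (a : Matrix (Fin n) (Fin n) F) ^ (r * 1) = 1 := by
    rw [mul_one, ← sl_pow_eq_one_iff, ← ha, pow_orderOf_eq_one]
  have h1' : (a : Matrix (Fin n) (Fin n) F) ^ 1 ≠ 1 := fun h => hr.ne_one (by
    rw [← ha, orderOf_eq_one_iff, ← pow_one a, sl_pow_eq_one_iff, h])
  obtain ⟨f, hf, -, hfm, hfd, hfn⟩ :=
    exists_factor (by rw [mul_one]; exact natCast_ne_zero p hr hrp) h1 h1'
  have hk := Nat.le_of_dvd hf.natDegree_pos (ordQ_dvd_natDegree hr hf hfd hfn)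
  obtain ⟨w, hw, hfw⟩ := exists_ker_vec hf hfm
  obtain ⟨v, hv, hv2⟩ := exists_vec hN0 hnil
  rcases natDegree_add_two_le hc hf hw hfw hv hv2 with h | h <;> omega

/-- A projective element of order `r * p`. -/
theorem ordQ_add_two_le_of_mem (p : ℕ) [Fact p.Prime] [CharP F p] {r : ℕ} (hr : r.Prime) (hrp : r ≠ p)
    (h2 : 2 ≤ ordQ F r)
    (h : r * p ∈ Set.range (orderOf : Matrix.ProjectiveSpecialLinearGroup (Fin n) F → ℕ)) :
    ordQ F r + 2 ≤ n := by
  have hcop : (r * p).Coprime (Fintype.card F - 1) := by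
    refine Nat.Coprime.mul_left (hr.coprime_iff_not_dvd.2 (not_dvd_card_sub_one h2)) ?_
    refine (Fact.out : p.Prime).coprime_iff_not_dvd.2 fun hd => ?_
    obtain ⟨f, -, hf⟩ := FiniteField.card F p
    have h3 := Nat.dvd_sub (hf ▸ dvd_pow_self p f.ne_zero : p ∣ Fintype.card F) hd
    rw [Nat.sub_sub_self Fintype.card_pos] at h3
    exact (Fact.out : p.Prime).ne_one (Nat.dvd_one.1 h3)
  obtain ⟨g, hg⟩ := (mem_range_iff hcop).1 h
  have hp0 : 0 < p := (Fact.out : p.Prime).pos
  refine ordQ_add_two_le p hr hrp h2 (a := g ^ p) (b := g ^ r) ?_ ?_ (Commute.pow_pow_self g p r)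
  · rw [orderOf_pow_of_dvd hp0.ne' (hg ▸ dvd_mul_left p r), hg, Nat.mul_div_cancel _ hp0]
  · rw [orderOf_pow_of_dvd hr.ne_zero (hg ▸ dvd_mul_right r p), hg, Nat.mul_div_cancel_left _ hr.pos]

end Vectors

section Construct

variable {n : ℕ}

/-- Elements from two blocks. -/
theorem exists_orderOf_blocks {a b : ℕ} (hab : a + b = n) (A : Matrix.SpecialLinearGroup (Fin a) F)
    (B : Matrix.SpecialLinearGroup (Fin b) F) :
    ∃ g : Matrix.SpecialLinearGroup (Fin n) F, orderOf g = Nat.lcm (orderOf A) (orderOf B) := by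
  obtain ⟨g, hg, -, -⟩ := exists_blocks hab A B
  refine ⟨g, Nat.dvd_antisymm (orderOf_dvd_of_pow_eq_one ((hg _).2 ⟨?_, ?_⟩))
    (Nat.lcm_dvd (orderOf_dvd_of_pow_eq_one ((hg _).1 (pow_orderOf_eq_one g)).1)
      (orderOf_dvd_of_pow_eq_one ((hg _).1 (pow_orderOf_eq_one g)).2))⟩
  · exact orderOf_dvd_iff_pow_eq_one.1 (Nat.dvd_lcm_left _ _)
  · exact orderOf_dvd_iff_pow_eq_one.1 (Nat.dvd_lcm_right _ _)

end Construct

end CfsgLib.KnownB.PrimeGraph
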