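import Cfsg.Agent.Lib.KnownB.PrimeGraphForm
import Cfsg.Agent.Lib.KnownB.RestrictScalars
import Cfsg.Agent.Lib.Geometry.SpSplit
import Cfsg.Agent.Lib.Classical.SympOrder
import Cfsg.Agent.Lib.Classical.SympSimple
import Cfsg.Prelude.Def_Classical

/-!
Elements of coprime prime orders in symplectic groups: the cyclic tori and the block subgroups.
-/

set_option autoImplicit false
set_option linter.unusedSectionVars false

namespace CfsgLib.KnownB.PrimeGraph

open Polynomial Matrix CfsgLib.Geometry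

universe u

variable {F : Type u} [Field F] [Fintype F]

/-- Orders prime to a central kernel are the same upstairs and downstairs. -/
theorem mem_range_quotient_iff {G : Type*} [Group G] [Finite G] (Z : Subgroup G) [Z.Normal] {m : ℕ}
    (hm : m.Coprime (Nat.card Z)) :
    m ∈ Set.range (orderOf : G ⧸ Z → ℕ) ↔ ∃ g : G, orderOf g = m := by
  constructor
  · rintro ⟨x, rfl⟩
    obtain ⟨g, rfl⟩ := QuotientGroup.mk_surjective x
    refine ⟨g ^ Nat.card Z, Nat.dvd_antisymm (orderOf_dvd_of_pow_eq_one ?_) ?_⟩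
    · rw [← pow_mul, mul_comm, pow_mul]
      have hmem : g ^ orderOf (QuotientGroup.mk g : G ⧸ Z) ∈ Z :=
        (QuotientGroup.eq_one_iff _).1 (pow_orderOf_eq_one (QuotientGroup.mk g : G ⧸ Z))
      exact congrArg Subtype.val (pow_card_eq_one' (x := (⟨_, hmem⟩ : Z)))
    · have h := orderOf_map_dvd (QuotientGroup.mk' Z) (g ^ Nat.card Z)
      rwa [map_pow, QuotientGroup.mk'_apply, hm.orderOf_pow] at h
  · rintro ⟨g, rfl⟩
    refine ⟨QuotientGroup.mk g, Nat.dvd_antisymm (orderOf_map_dvd (QuotientGroup.mk' Z) g) ?_⟩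
    refine hm.dvd_of_dvd_mul_right (orderOf_dvd_of_pow_eq_one ?_)
    have hmem : g ^ orderOf (QuotientGroup.mk g : G ⧸ Z) ∈ Z :=
      (QuotientGroup.eq_one_iff _).1 (pow_orderOf_eq_one (QuotientGroup.mk g : G ⧸ Z))
    rw [pow_mul]
    exact congrArg Subtype.val (pow_card_eq_one' (x := (⟨_, hmem⟩ : Z)))

theorem card_center_dvd_two (n : ℕ) (hn : 0 < n) :
    Nat.card (Subgroup.center (Matrix.symplecticGroup (Fin n) F)) ∣ Nat.gcd 2 (Fintype.card F - 1) := by
  haveI : Nonempty (Fin n) := ⟨⟨0, hn⟩⟩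
  rw [CfsgLib.Classical.card_center_sp, Nat.card_eq_fintype_card]

section Matrices

/-- The matrices of symplectic elements on `Fin (n + n)`. -/
noncomputable def spMat (n : ℕ) :
    Matrix.symplecticGroup (Fin n) F →* Matrix (Fin (n + n)) (Fin (n + n)) F :=
  (Matrix.reindexAlgEquiv F F (finSumFinEquiv (m := n) (n := n))).toRingEquiv.toRingHom.toMonoidHom.comp
    (Matrix.symplecticGroup (Fin n) F).subtype

theorem spMat_injective (n : ℕ) : Function.Injective (spMat (F := F) n) := fun a b h =>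
  Subtype.ext ((Matrix.reindexAlgEquiv F F (finSumFinEquiv (m := n) (n := n))).injective h)

theorem spMat_isometry (n : ℕ) :
    ∃ Jm : Matrix (Fin (n + n)) (Fin (n + n)) F, IsUnit Jm ∧
      ∀ g, (spMat n g)ᵀ * Jm * spMat n g = Jm := by
  refine ⟨Matrix.reindexAlgEquiv F F (finSumFinEquiv (m := n) (n := n)) (Matrix.J (Fin n) F),
    ((Matrix.isUnit_iff_isUnit_det _).2 (Matrix.isUnit_det_J _ _)).map _, fun g => ?_⟩
  have h := SymplecticGroup.mem_iff'.1 g.2
  set R := Matrix.reindexAlgEquiv F F (finSumFinEquiv (m := n) (n := n))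
  show (R g.1)ᵀ * R _ * R g.1 = R _
  rw [show (R g.1)ᵀ = R (g.1ᵀ) from rfl, ← map_mul, ← map_mul, h]

theorem spMat_pow_eq_one (n : ℕ) (g : Matrix.symplecticGroup (Fin n) F) (m : ℕ) :
    spMat n g ^ m = 1 ↔ orderOf g ∣ m := by
  rw [← map_pow, ← map_one (spMat (F := F) n), (spMat_injective n).eq_iff, orderOf_dvd_iff_pow_eq_one]

end Matrices

section Construct

theorem dvd_card_Sp {r a j : ℕ} (hj : 1 ≤ j) (hja : j ≤ a) (hr : r ∣ Fintype.card F ^ (2 * j) - 1) :
    r ∣ Nat.card (Matrix.symplecticGroup (Fin a) F) := by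
  rw [CfsgLib.Classical.card_symplecticGroup, Nat.card_eq_fintype_card, Fintype.card_fin]
  refine Dvd.dvd.mul_left (hr.trans ?_) _
  have h := Finset.dvd_prod_of_mem (fun i => Fintype.card F ^ (2 * (i + 1)) - 1)
    (Finset.mem_range.2 (show j - 1 < a by omega))
  rwa [show j - 1 + 1 = j by omega] at h

theorem ordQ_dvd_two_mul_etaQ (r : ℕ) : ordQ F r ∣ 2 * etaQ F r := by
  rw [etaQ]
  split
  · exact dvd_mul_left _ _
  · rename_i h
    rw [Nat.mul_div_cancel' (Nat.not_odd_iff_even.1 h).two_dvd]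

theorem dvd_card_Sp_eta (p : ℕ) [Fact p.Prime] [CharP F p] {r a : ℕ} (hr : r.Prime) (hrp : r ≠ p)
    (ha : etaQ F r ≤ a) : r ∣ Nat.card (Matrix.symplecticGroup (Fin a) F) := by
  refine dvd_card_Sp ?_ ha ((dvd_pow_sub_one_iff _).2 (ordQ_dvd_two_mul_etaQ r))
  have := ordQ_pos (F := F) p hr hrp
  have := le_two_mul_etaQ (F := F) r
  omega

/-- Two symplectic blocks. -/
theorem exists_sp_blocks {a b n : ℕ} (h : a + b = n) :
    ∃ φ : Matrix.symplecticGroup (Fin a) F × Matrix.symplecticGroup (Fin b) F →*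
      Matrix.symplecticGroup (Fin n) F, Function.Injective φ := by
  obtain ⟨e⟩ := SpSplit.coord_equiv (F := F) (finSumFinEquiv.trans (finCongr h))
  exact ⟨(Subgroup.subtype _).comp e.symm.toMonoidHom, Subtype.val_injective.comp e.symm.injective⟩

theorem exists_sp_pair {a b n : ℕ} (h : a + b ≤ n) (x : Matrix.symplecticGroup (Fin a) F)
    (y : Matrix.symplecticGroup (Fin b) F) :
    ∃ g : Matrix.symplecticGroup (Fin n) F, orderOf g = Nat.lcm (orderOf x) (orderOf y) := by
  obtain ⟨φ, hφ⟩ := exists_sp_blocks (F := F) (show a + b + (n - (a + b)) = n by omega)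
  obtain ⟨ψ, hψ⟩ := exists_sp_blocks (F := F) (show a + b = a + b from rfl)
  exact ⟨φ (ψ (x, y), 1), by
    rw [orderOf_injective φ hφ, Prod.orderOf, orderOf_one, Nat.lcm_one_right, orderOf_injective ψ hψ,
      Prod.orderOf]⟩

/-- The Levi torus. -/
theorem exists_sp_split {d : ℕ} (hd : 0 < d) :
    ∃ g : Matrix.symplecticGroup (Fin d) F, Fintype.card F ^ d - 1 ∣ orderOf g := by
  classical
  obtain ⟨p, hp⟩ := CharP.exists F
  haveI := Fact.mk (CharP.char_is_prime F p)
  haveI : NeZero d := ⟨hd.ne'⟩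
  let K := FiniteField.Extension F p d
  let b := (Module.finBasis F K).reindex (finCongr (FiniteField.finrank_extension F p d))
  obtain ⟨ω, hω⟩ := IsCyclic.exists_ofOrder_eq_natCard (α := Kˣ)
  rw [Nat.card_units, FiniteField.natCard_extension, Nat.card_eq_fintype_card] at hω
  set A := Algebra.leftMulMatrix b (ω : K) with hA
  set A' := Algebra.leftMulMatrix b ((ω⁻¹ : Kˣ) : K) with hA'
  have hAA : A' * A = 1 := by rw [hA, hA', ← map_mul, Units.inv_mul, map_one]
  have hmem : fromBlocks A 0 0 A'ᵀ ∈ Matrix.symplecticGroup (Fin d) F := by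
    rw [SymplecticGroup.mem_iff, Matrix.J, fromBlocks_transpose, fromBlocks_multiply, fromBlocks_multiply]
    have h1 : A * A' = 1 := mul_eq_one_comm.1 hAA
    simp [h1, ← Matrix.transpose_mul]
  refine ⟨⟨_, hmem⟩, ?_⟩
  rw [← hω]
  refine orderOf_dvd_of_pow_eq_one (Units.ext ?_)
  set g : Matrix.symplecticGroup (Fin d) F := ⟨_, hmem⟩
  have h : (fromBlocks A 0 0 A'ᵀ) ^ orderOf g = 1 := congrArg Subtype.val (pow_orderOf_eq_one g)
  rw [fromBlocks_diagonal_pow, ← fromBlocks_one, fromBlocks_inj, hA, ← map_pow,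
    map_eq_one_iff _ (Algebra.leftMulMatrix_injective b)] at h
  rw [Units.val_pow_eq_pow_val, Units.val_one]
  exact h.1

/-- The anisotropic torus. -/
theorem exists_sp_twisted {h : ℕ} (hh : 0 < h) :
    ∃ g : Matrix.symplecticGroup (Fin h) F, orderOf g = Fintype.card F ^ h + 1 := by
  classical
  obtain ⟨p, hp⟩ := CharP.exists F
  haveI := Fact.mk (CharP.char_is_prime F p)
  haveI : NeZero (2 * h) := ⟨by omega⟩
  let L := FiniteField.Extension F p (2 * h)
  set Q := Fintype.card F with hQ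
  have hL : Nat.card L = Q ^ (2 * h) := by rw [FiniteField.natCard_extension, Nat.card_eq_fintype_card]
  let σ : L ≃ₐ[F] L := (FiniteField.frobeniusAlgEquivOfAlgebraic F L) ^ h
  have hσ : ∀ x : L, σ x = x ^ Q ^ h := fun x => by
    show ((FiniteField.frobeniusAlgEquivOfAlgebraic F L) ^ h) x = _
    rw [AlgEquiv.coe_pow, FiniteField.coe_frobeniusAlgEquivOfAlgebraic, pow_iterate]
  have hσσ : ∀ x : L, σ (σ x) = x := fun x => by
    haveI := Fintype.ofFinite L
    rw [hσ, hσ, ← pow_mul, ← pow_add, ← two_mul, ← hL, Nat.card_eq_fintype_card, FiniteField.pow_card]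
  obtain ⟨ω, hω⟩ := IsCyclic.exists_ofOrder_eq_natCard (α := Lˣ)
  rw [Nat.card_units, hL] at hω
  have hQh : 1 < Q ^ h := Nat.one_lt_pow hh.ne' Fintype.one_lt_card
  have hfac : Q ^ (2 * h) - 1 = (Q ^ h + 1) * (Q ^ h - 1) := by
    rw [mul_comm 2, pow_mul]; simpa using Nat.sq_sub_sq (Q ^ h) 1
  set w := ω ^ (Q ^ h - 1) with hw
  have hword : orderOf w = Q ^ h + 1 := by
    rw [hw, orderOf_pow_of_dvd (by omega) (by rw [hω, hfac]; exact dvd_mul_left _ _), hω, hfac,
      Nat.mul_div_cancel _ (by omega)]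
  have hwσ : ∀ u ∈ Subgroup.zpowers w, (u : L) * σ (u : L) = 1 := by
    intro u hu
    obtain ⟨i, rfl⟩ := (mem_powers_iff_mem_zpowers.2 hu : u ∈ Submonoid.powers w)
    rw [hσ, ← Units.val_pow_eq_pow_val, ← Units.val_mul, ← pow_succ', ← pow_mul, mul_comm i, pow_mul,
      orderOf_dvd_iff_pow_eq_one.1 (dvd_of_eq hword), one_pow, Units.val_one]
  obtain ⟨θ, hθ⟩ : ∃ θ : L, θ - σ θ ≠ 0 := by
    refine ⟨(ω : L), fun h0 => ?_⟩
    rw [sub_eq_zero, hσ, ← Units.val_pow_eq_pow_val, Units.val_inj] at h0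
    have h1 : ω ^ (Q ^ h - 1) = 1 := by
      refine mul_right_cancel (b := ω) ?_
      rw [← pow_succ, Nat.sub_add_cancel hQh.le, one_mul, ← h0]
    have h2 := orderOf_dvd_of_pow_eq_one h1
    rw [hω, hfac] at h2
    have h3 := Nat.le_of_dvd (by omega) h2
    have h4 : 2 * (Q ^ h - 1) ≤ (Q ^ h + 1) * (Q ^ h - 1) := Nat.mul_le_mul_right _ (by omega)
    omega
  set c := θ - σ θ
  let B : LinearMap.BilinForm F L := LinearMap.mk₂ F (fun x y => Algebra.trace F L (c * (x * σ y)))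
    (fun x x' y => by rw [add_mul, mul_add, map_add])
    (fun a x y => by rw [smul_mul_assoc, mul_smul_comm, map_smul])
    (fun x y y' => by rw [map_add, mul_add, mul_add, map_add])
    (fun a x y => by rw [map_smul, mul_smul_comm, mul_smul_comm, map_smul])
  let ρ : Subgroup.zpowers w →* (L ≃ₗ[F] L) :=
    { toFun := fun u => LinearEquiv.ofLinear (LinearMap.mulLeft F ((u : Lˣ) : L))
        (LinearMap.mulLeft F (((u : Lˣ)⁻¹ : Lˣ) : L))
        (LinearMap.ext fun x => by simp [← mul_assoc]) (LinearMap.ext fun x => by simp [← mul_assoc])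
      map_one' := LinearEquiv.ext fun x => by simp
      map_mul' := fun u v => LinearEquiv.ext fun x => by simp [mul_assoc] }
  have hρ : Function.Injective ρ := fun u v e => Subtype.ext (Units.ext (by
    simpa [ρ] using LinearEquiv.congr_fun e 1))
  have hBA : ∀ x, B x x = 0 := fun x => by
    show Algebra.trace F L (c * (x * σ x)) = 0
    have hfix : σ (x * σ x) = x * σ x := by rw [map_mul, hσσ, mul_comm]
    rw [show c * (x * σ x) = θ * (x * σ x) - σ (θ * (x * σ x)) by rw [map_mul, hfix, sub_mul], map_sub,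
      Algebra.trace_eq_of_algEquiv σ, sub_self]
  have hBn : ∀ x, (∀ y, B x y = 0) → x = 0 := fun x hx => by
    refine (traceForm_nondegenerate F L).1 x fun z => ?_
    have h1 : Algebra.trace F L (c * (x * σ (σ (c⁻¹ * z)))) = 0 := hx (σ (c⁻¹ * z))
    rw [hσσ, mul_left_comm, ← mul_assoc c, mul_inv_cancel₀ hθ, one_mul] at h1
    rw [Algebra.traceForm_apply, h1]
  have hBi : ∀ u x y, B (ρ u x) (ρ u y) = B x y := fun u x y => by
    show Algebra.trace F L (c * (((u : Lˣ) : L) * x * σ (((u : Lˣ) : L) * y))) = Algebra.trace F L (c * (x * σ y))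
    rw [map_mul σ, show ((u : Lˣ) : L) * x * (σ ((u : Lˣ) : L) * σ y) =
      ((u : Lˣ) : L) * σ ((u : Lˣ) : L) * (x * σ y) by ring, hwσ _ u.2, one_mul]
  obtain ⟨φ, hφ⟩ := CfsgLib.KnownB.RestrictScalars.alt_embed ρ hρ B hBA hBn hBi (m := h)
    (FiniteField.finrank_extension F p (2 * h))
  exact ⟨φ ⟨w, Subgroup.mem_zpowers w⟩, by rw [orderOf_injective φ hφ, Subgroup.orderOf_mk, hword]⟩

/-- A cyclic torus containing both primes. -/
theorem exists_sp_common {r s : ℕ} (hr : r.Prime) (hs : s.Prime) (hr2 : r ≠ 2) (hs2 : s ≠ 2) (hrs : r ≠ s)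
    (hs0 : 0 < ordQ F s) {t : ℕ} (ht : Odd t) (hl : ordQ F s = ordQ F r * t) :
    ∃ g : Matrix.symplecticGroup (Fin (etaQ F s)) F, r * s ∣ orderOf g := by
  have hco := (Nat.coprime_primes hr hs).2 hrs
  by_cases ho : Odd (ordQ F s)
  · rw [etaQ, if_pos ho]
    obtain ⟨g, hg⟩ := exists_sp_split (F := F) hs0
    exact ⟨g, (hco.mul_dvd_of_dvd_of_dvd ((dvd_pow_sub_one_iff _).2 (hl ▸ dvd_mul_right _ _))
      ((dvd_pow_sub_one_iff _).2 dvd_rfl)).trans hg⟩
  · have hev := Nat.not_odd_iff_even.1 ho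
    have h2 := two_mul_etaQ_dvd_of_even (F := F) hev
    obtain ⟨g, hg⟩ := exists_sp_twisted (F := F) (h := etaQ F s) (by omega)
    rw [hl] at h2
    refine ⟨g, hg ▸ hco.mul_dvd_of_dvd_of_dvd (dvd_succ_pow hr ⟨t, h2⟩ fun ⟨e, he⟩ => ?_)
      (dvd_succ_pow hs ⟨1, by rw [h2, hl, mul_one]⟩ fun hd => ?_)⟩
    · have h4 : ordQ F r * t = ordQ F r * (2 * e) := by rw [← h2, he]; ring
      have h5 : t = 2 * e := Nat.eq_of_mul_eq_mul_left (Nat.pos_of_ne_zero fun h0 => by
        rw [h0, zero_mul] at hl; omega) h4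
      obtain ⟨d, hd2⟩ := ht
      omega
    · have h3 : ordQ F s ≤ etaQ F s := Nat.le_of_dvd (by omega) hd
      omega
where
  dvd_succ_pow {r h : ℕ} (hr : r.Prime) (h1 : ordQ F r ∣ 2 * h) (h2 : ¬ ordQ F r ∣ h) :
      r ∣ Fintype.card F ^ h + 1 := by
    refine ((Nat.Prime.dvd_mul hr).1 ?_).resolve_right fun hd => h2 ((dvd_pow_sub_one_iff _).1 hd)
    rw [show (Fintype.card F ^ h + 1) * (Fintype.card F ^ h - 1) = Fintype.card F ^ (2 * h) - 1 by
      rw [mul_comm 2, pow_mul]; simpa using (Nat.sq_sub_sq (Fintype.card F ^ h) 1).symm]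
    exact (dvd_pow_sub_one_iff _).2 h1

end Construct

end CfsgLib.KnownB.PrimeGraph
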