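import Cfsg.Agent.Lib.KnownB.SpRegular

/-!
Regular unipotents in the standard symplectic group: transfer, and an example.
-/

set_option autoImplicit false

namespace CfsgLib.KnownB.SpRegular

open Matrix CfsgLib.KnownB.Regular

variable {F : Type*} [Field F] (m : ℕ)

/-- The reindexing of `Fin m ⊕ Fin m` by `Fin (2 * m)`. -/
def sumIdx : Fin m ⊕ Fin m ≃ Fin (2 * m) := finSumFinEquiv.trans (finCongr (two_mul m).symm)

/-- The transfer of matrices. -/
def toFinMat : Matrix (Fin m ⊕ Fin m) (Fin m ⊕ Fin m) F ≃ₐ[F] Matrix (Fin (2 * m)) (Fin (2 * m)) F :=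
  Matrix.reindexAlgEquiv F F (sumIdx m)

/-- The standard form on `Fin (2 * m)`. -/
def stdJ (F : Type*) [Field F] : Matrix (Fin (2 * m)) (Fin (2 * m)) F := toFinMat m (Matrix.J (Fin m) F)

theorem toFinMat_transpose (X : Matrix (Fin m ⊕ Fin m) (Fin m ⊕ Fin m) F) : toFinMat m Xᵀ = (toFinMat m X)ᵀ := by
  simp [toFinMat, Matrix.transpose_submatrix]

theorem sympl_stdJ : Sympl (stdJ m F) := ⟨by
  rw [stdJ, ← toFinMat_transpose, Matrix.J_transpose, map_neg], by
  rw [stdJ, ← map_mul, Matrix.J_squared, map_neg, map_one]⟩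

theorem mem_iff (X : Matrix (Fin m ⊕ Fin m) (Fin m ⊕ Fin m) F) :
    X ∈ Matrix.symplecticGroup (Fin m) F ↔ jAdj (stdJ m F) (toFinMat m X) * toFinMat m X = 1 := by
  rw [SymplecticGroup.mem_iff', jAdj, stdJ, ← toFinMat_transpose, ← map_mul, ← map_mul, ← map_neg, ← map_mul]
  constructor
  · intro h
    rw [show -(Matrix.J (Fin m) F * Xᵀ * Matrix.J (Fin m) F) * X = -(Matrix.J (Fin m) F * (Xᵀ * Matrix.J (Fin m) F * X)) by
      noncomm_ring, h, Matrix.J_squared, neg_neg, map_one]
  · intro h
    rw [← map_one (toFinMat (F := F) m)] at h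
    have h' := (toFinMat (F := F) m).injective h
    calc Xᵀ * Matrix.J (Fin m) F * X = -(Matrix.J (Fin m) F * Matrix.J (Fin m) F) * (Xᵀ * Matrix.J (Fin m) F * X) := by
          rw [Matrix.J_squared, neg_neg, one_mul]
      _ = Matrix.J (Fin m) F * (-(Matrix.J (Fin m) F * Xᵀ * Matrix.J (Fin m) F) * X) := by noncomm_ring
      _ = _ := by rw [h', mul_one]

theorem regular_iff (X : Matrix (Fin m ⊕ Fin m) (Fin m ⊕ Fin m) F) :
    ((X - 1) ^ (2 * m) = 0 ∧ (X - 1).rank = 2 * m - 1) ↔ IsRegularUnip (toFinMat m X) := by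
  rw [IsRegularUnip, ← map_one (toFinMat (F := F) m), ← map_sub, ← map_pow,
    map_eq_zero_iff _ (toFinMat (F := F) m).injective]
  refine and_congr_right fun _ => ?_
  show _ ↔ (Matrix.reindex (sumIdx m) (sumIdx m) (X - 1)).rank = _
  rw [Matrix.rank_reindex]

/-- An element of `GL` preserving the form, as a symplectic matrix. -/
theorem exists_sp (Z : GL (Fin (2 * m)) F) (h : jAdj (stdJ m F) (Z : Matrix _ _ F) * (Z : Matrix _ _ F) = 1) :
    ∃ z : Matrix.symplecticGroup (Fin m) F, toFinMat m z.1 = (Z : Matrix _ _ F) :=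
  ⟨⟨(toFinMat m).symm Z, (mem_iff m _).2 (by rw [AlgEquiv.apply_symm_apply]; exact h)⟩, AlgEquiv.apply_symm_apply _ _⟩

/-- The element of `GL` of a symplectic matrix. -/
def spGL : Matrix.symplecticGroup (Fin m) F →* GL (Fin (2 * m)) F :=
  ((toFinMat m).toAlgHom.toMonoidHom.comp (Matrix.symplecticGroup (Fin m) F).subtype).toHomUnits

theorem spGL_val (z : Matrix.symplecticGroup (Fin m) F) : (spGL m z : Matrix _ _ F) = toFinMat m z.1 := rfl

theorem spGL_injective : Function.Injective (spGL (F := F) m) := fun a b h =>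
  Subtype.ext ((toFinMat m).injective (congrArg Units.val h))

/-- A regular unipotent symplectic matrix exists. -/
theorem exists_regular (hm : 1 ≤ m) :
    ∃ u : Matrix.symplecticGroup (Fin m) F, IsRegularUnip (toFinMat m u.1) := by
  classical
  let N : Matrix (Fin m) (Fin m) F := Matrix.of fun i j => if (j : ℕ) = i + 1 then 1 else 0
  have hpow : ∀ (k : ℕ) (i j : Fin m), (j : ℕ) < i + k → (N ^ k) i j = 0 := by
    intro k
    induction k with
    | zero => intro i j h; rw [pow_zero, Matrix.one_apply_ne]; rintro rfl; omega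
    | succ k ih =>
      intro i j h
      rw [pow_succ, Matrix.mul_apply]
      refine Finset.sum_eq_zero fun l _ => ?_
      by_cases hl : (l : ℕ) < i + k
      · rw [ih i l hl, zero_mul]
      · rw [show N l j = 0 from if_neg (by omega), mul_zero]
  have hN : N ^ m = 0 := by
    ext i j; exact hpow m i j (by omega)
  set A := 1 + N with hA
  have hnil : IsNilpotent N := ⟨m, hN⟩
  have hAu : IsUnit A.det := (Matrix.isUnit_iff_isUnit_det A).1 hnil.isUnit_one_add
  set last : Fin m := ⟨m - 1, by omega⟩
  set S : Matrix (Fin m) (Fin m) F := Matrix.single last last 1 with hS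
  set B : Matrix (Fin m) (Fin m) F := A⁻¹ᵀ with hB
  set U : Matrix (Fin m ⊕ Fin m) (Fin m ⊕ Fin m) F := Matrix.fromBlocks A (A * S) 0 B with hU
  have hAB : Aᵀ * B = 1 := by rw [hB, ← Matrix.transpose_mul, Matrix.nonsing_inv_mul _ hAu, Matrix.transpose_one]
  have hBA : Bᵀ * A = 1 := by rw [hB, Matrix.transpose_transpose, Matrix.nonsing_inv_mul _ hAu]
  have hSt : Sᵀ = S := by rw [hS, Matrix.transpose_single]
  have hUsp : U ∈ Matrix.symplecticGroup (Fin m) F := by
    rw [SymplecticGroup.mem_iff', hU, Matrix.J, Matrix.fromBlocks_transpose, Matrix.fromBlocks_multiply, Matrix.fromBlocks_multiply,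
      Matrix.transpose_mul, Matrix.transpose_zero, hSt]
    congr 1
    · simp
    · simp [hAB]
    · simp [hBA]
    · simp only [mul_zero, add_zero, zero_add, mul_one, mul_neg, neg_mul]
      rw [← mul_assoc Bᵀ, hBA, one_mul, mul_assoc S, hAB, mul_one, add_neg_cancel]
  refine ⟨⟨U, hUsp⟩, (regular_iff m U).1 ⟨?_, ?_⟩⟩
  · have hsub : U - 1 = Matrix.fromBlocks N (A * S) 0 (B - 1) := by
      rw [hU, ← Matrix.fromBlocks_one, sub_eq_add_neg, Matrix.fromBlocks_neg, Matrix.fromBlocks_add]
      congr 1 <;> simp [hA, sub_eq_add_neg]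
    have hB1 : (B - 1) ^ m = 0 := by
      have e : B - 1 = -(Nᵀ * B) := by
        have this := hAB
        rw [hA, Matrix.transpose_add, Matrix.transpose_one, add_mul, one_mul] at this
        rw [← this]; abel
      have hc : Commute Nᵀ B := by
        have h1 : A⁻¹ * N = N * A⁻¹ := by
          have hAN : A * N = N * A := by rw [hA, add_mul, mul_add, one_mul, mul_one]
          calc A⁻¹ * N = A⁻¹ * (N * A) * A⁻¹ := by rw [mul_assoc, mul_assoc, Matrix.mul_nonsing_inv _ hAu, mul_one]
            _ = N * A⁻¹ := by rw [← hAN, ← mul_assoc, Matrix.nonsing_inv_mul _ hAu, one_mul]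
        show Nᵀ * B = B * Nᵀ
        rw [hB, ← Matrix.transpose_mul, ← Matrix.transpose_mul, h1]
      rw [e, neg_pow, hc.mul_pow, ← Matrix.transpose_pow, hN, Matrix.transpose_zero, zero_mul, mul_zero]
    have hblock : ∀ k : ℕ, ∃ C, (U - 1) ^ k = Matrix.fromBlocks (N ^ k) C 0 ((B - 1) ^ k) := by
      intro k
      induction k with
      | zero => exact ⟨0, by simp [Matrix.fromBlocks_one]⟩
      | succ k ih =>
        obtain ⟨C, hC⟩ := ih
        exact ⟨N ^ k * (A * S) + C * (B - 1), by rw [pow_succ, hC, hsub, Matrix.fromBlocks_multiply]; simp [pow_succ]⟩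
    obtain ⟨C, hC⟩ := hblock m
    rw [pow_mul', hC, pow_two, Matrix.fromBlocks_multiply, hN, hB1]
    simp [Matrix.fromBlocks_zero]
  · -- the kernel is a line
    have hker : ∀ v, (U - 1).mulVec v = 0 → v = v (Sum.inl ⟨0, by omega⟩) • Pi.single (Sum.inl ⟨0, by omega⟩) 1 := by
      intro v hv
      rw [Matrix.sub_mulVec, Matrix.one_mulVec, sub_eq_zero] at hv
      set x := v ∘ Sum.inl with hx
      set y := v ∘ Sum.inr with hy
      have hvxy : v = Sum.elim x y := (Sum.elim_comp_inl_inr v).symm
      rw [hvxy, hU, Matrix.fromBlocks_mulVec] at hv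
      have hl : ∀ i, (A.mulVec x + (A * S).mulVec y) i = x i := fun i => congrFun hv (Sum.inl i)
      have hr : (0 : Matrix (Fin m) (Fin m) F).mulVec x + B.mulVec y = y := funext fun i => congrFun hv (Sum.inr i)
      rw [Matrix.zero_mulVec, zero_add] at hr
      have hy0 : Nᵀ.mulVec y = 0 := by
        have e : Aᵀ.mulVec (B.mulVec y) = y := by rw [Matrix.mulVec_mulVec, hAB, Matrix.one_mulVec]
        rw [hr, hA, Matrix.transpose_add, Matrix.transpose_one, Matrix.add_mulVec, Matrix.one_mulVec] at e
        simpa using e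
      have hy1 : ∀ i : Fin m, (i : ℕ) + 1 < m → y i = 0 := by
        intro i hi
        have := congrFun hy0 ⟨(i : ℕ) + 1, hi⟩
        simp only [Matrix.mulVec, dotProduct, Matrix.transpose_apply, N, Matrix.of_apply, Pi.zero_apply] at this
        rw [Finset.sum_eq_single i (fun b _ hb => by rw [if_neg (fun h' => hb (Fin.ext (by simp at h'; omega))), zero_mul]) (by simp)] at this
        simpa using this
      have hNx : ∀ i, (N.mulVec x) i = if h : (i : ℕ) + 1 < m then x ⟨(i : ℕ) + 1, h⟩ else 0 := by
        intro i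
        simp only [Matrix.mulVec, dotProduct, N, Matrix.of_apply]
        split_ifs with h
        · rw [Finset.sum_eq_single (⟨(i : ℕ) + 1, h⟩ : Fin m) (fun b _ hb => by rw [if_neg (fun h' => hb (Fin.ext h')), zero_mul]) (by simp)]
          simp
        · exact Finset.sum_eq_zero fun b _ => by rw [if_neg (by omega), zero_mul]
      have hSy : S.mulVec y = y last • Pi.single last 1 := by
        funext i
        by_cases hi : i = last <;> simp [hS, Matrix.single, Matrix.mulVec, dotProduct, hi, eq_comm]
      have hl' : ∀ i, (N.mulVec x) i + y last * ((Pi.single last (1 : F) : Fin m → F) i + N i last) = 0 := by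
        intro i
        have := hl i
        rw [← Matrix.mulVec_mulVec, hSy, Matrix.mulVec_smul, hA, Matrix.add_mulVec, Matrix.one_mulVec, Matrix.add_mulVec,
          Matrix.one_mulVec, Matrix.mulVec_single_one] at this
        simp only [Pi.add_apply, Pi.smul_apply, smul_eq_mul, Matrix.col_apply] at this
        linear_combination this
      have hlast : y last = 0 := by
        have := hl' last
        rw [hNx, dif_neg (by simp [last]; omega), show N last last = 0 from if_neg (by omega)] at this
        simpa using this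
      have hx1 : ∀ i : Fin m, (i : ℕ) ≠ 0 → x i = 0 := by
        intro i hi
        have := hl' ⟨(i : ℕ) - 1, by omega⟩
        rw [hNx, dif_pos (by simp; omega), hlast, zero_mul, add_zero] at this
        rw [← this]; congr 1; apply Fin.ext; simp; omega
      funext s
      rcases s with i | i
      · by_cases hi : (i : ℕ) = 0
        · have : i = ⟨0, by omega⟩ := Fin.ext hi
          rw [this]; simp
        · have h1 : v (Sum.inl i) = 0 := hx1 i hi
          rw [h1]
          simp [Fin.ext_iff, hi]
      · have h1 : v (Sum.inr i) = 0 := by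
          by_cases hi : (i : ℕ) + 1 < m
          · exact hy1 i hi
          · rw [show i = last from Fin.ext (by simp [last]; omega)]; exact hlast
        rw [h1]; simp
    have hle : Module.finrank F (LinearMap.ker (U - 1).mulVecLin) ≤ 1 := by
      refine le_trans (Submodule.finrank_mono (t := Submodule.span F {Pi.single (Sum.inl (⟨0, by omega⟩ : Fin m)) (1 : F)}) fun v hv => ?_) (finrank_span_singleton (by simp)).le
      exact Submodule.mem_span_singleton.2 ⟨_, (hker v hv).symm⟩
    have hpos : 1 ≤ Module.finrank F (LinearMap.ker (U - 1).mulVecLin) := by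
      have hmem : Pi.single (Sum.inl (⟨0, by omega⟩ : Fin m)) (1 : F) ∈ LinearMap.ker (U - 1).mulVecLin := by
        rw [LinearMap.mem_ker, Matrix.mulVecLin_apply, Matrix.mulVec_single_one]
        funext s
        rcases s with i | i
        · simp [hU, hA, N, Matrix.one_apply]
        · simp [hU]
      exact Submodule.one_le_finrank_iff.2 (Submodule.ne_bot_iff _ |>.2 ⟨_, hmem, by simp⟩)
    have h2 := LinearMap.finrank_range_add_finrank_ker (U - 1).mulVecLin
    rw [Module.finrank_fintype_fun_eq_card, Fintype.card_sum, Fintype.card_fin] at h2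
    show Module.finrank F (LinearMap.range (U - 1).mulVecLin) = _
    omega

end CfsgLib.KnownB.SpRegular
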