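import Cfsg.Agent.Lib.KnownB.IsometryShape
import Cfsg.Agent.Lib.KnownB.PrimeGraphSp
import Cfsg.Agent.Lib.KnownB.SpRegularStd

/-!
Element orders of `PSp(2n, q)`, `q` odd, relative to the prime `2`.
-/

set_option autoImplicit false
set_option linter.unusedSectionVars false

namespace CfsgLib.KnownB.SpSpectrum

open Matrix CfsgLib.KnownB.PrimeGraph

universe u

variable {F : Type u} [Field F] [Fintype F] {n : ℕ}

/-- The odd half of `q ^ n ± 1`. -/
def oddTorus (q n : ℕ) : ℕ := if Odd ((q ^ n - 1) / 2) then (q ^ n - 1) / 2 else (q ^ n + 1) / 2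

theorem exists_tori (T₁ T₂ : Finset ℕ) (h₁ : ∀ a ∈ T₁, 0 < a) (h₂ : ∀ b ∈ T₂, 0 < b) :
    ∀ R, ∑ a ∈ T₁, a + ∑ b ∈ T₂, b ≤ R → ∃ g : Matrix.symplecticGroup (Fin R) F,
      (∀ a ∈ T₁, Fintype.card F ^ a + 1 ∣ orderOf g) ∧ ∀ b ∈ T₂, Fintype.card F ^ b - 1 ∣ orderOf g := by
  classical
  induction T₁ using Finset.induction_on with
  | empty =>
    induction T₂ using Finset.induction_on with
    | empty => exact fun R _ => ⟨1, by simp, by simp⟩
    | insert b T hb ih =>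
      intro R hR
      rw [Finset.sum_insert hb, Finset.sum_empty] at hR
      obtain ⟨x, hx⟩ := exists_sp_split (F := F) (h₂ b (Finset.mem_insert_self b T))
      obtain ⟨y, -, hy⟩ := ih (fun c hc => h₂ c (Finset.mem_insert_of_mem hc)) (R - b)
        (by rw [Finset.sum_empty]; omega)
      obtain ⟨g, hg⟩ := exists_sp_pair (show b + (R - b) ≤ R by omega) x y
      refine ⟨g, by simp, fun c hc => ?_⟩
      rcases Finset.mem_insert.1 hc with rfl | hc
      · exact hx.trans (hg ▸ Nat.dvd_lcm_left _ _)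
      · exact (hy c hc).trans (hg ▸ Nat.dvd_lcm_right _ _)
  | insert a T ha ih =>
    intro R hR
    rw [Finset.sum_insert ha] at hR
    obtain ⟨x, hx⟩ := exists_sp_twisted (F := F) (h₁ a (Finset.mem_insert_self a T))
    obtain ⟨y, hy₁, hy₂⟩ := ih (fun c hc => h₁ c (Finset.mem_insert_of_mem hc)) (R - a) (by omega)
    obtain ⟨g, hg⟩ := exists_sp_pair (show a + (R - a) ≤ R by omega) x y
    refine ⟨g, fun c hc => ?_, fun b hb => (hy₂ b hb).trans (hg ▸ Nat.dvd_lcm_right _ _)⟩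
    rcases Finset.mem_insert.1 hc with rfl | hc
    · exact (dvd_of_eq hx.symm).trans (hg ▸ Nat.dvd_lcm_left _ _)
    · exact (hy₁ c hc).trans (hg ▸ Nat.dvd_lcm_right _ _)

theorem exists_sp_unip (p : ℕ) [Fact p.Prime] [CharP F p] {R : ℕ} (hR : 0 < R) :
    ∃ g : Matrix.symplecticGroup (Fin R) F, p ^ Nat.clog p (2 * R) ∣ orderOf g := by
  obtain ⟨u, hu⟩ := SpRegular.exists_regular (F := F) R hR
  refine ⟨u, ?_⟩
  have hp := (Fact.out : p.Prime)
  obtain ⟨v, B, hB, hv⟩ := hu.exists_cyclic (show 1 ≤ 2 * R by omega)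
  set M := SpRegular.toFinMat (F := F) R u.1 with hM
  have hpow : ∀ k, M ^ p ^ k = 1 ↔ (M - 1) ^ p ^ k = 0 := fun k => by
    haveI : Nonempty (Fin (2 * R)) := ⟨⟨0, by omega⟩⟩
    rw [sub_pow_char_pow_of_commute p k (Commute.one_right M), one_pow, sub_eq_zero]
  have hiff : ∀ k, u ^ k = 1 ↔ M ^ k = 1 := fun k => by
    rw [hM, ← map_pow, ← map_one (SpRegular.toFinMat (F := F) R),
      (SpRegular.toFinMat (F := F) R).injective.eq_iff]
    exact ⟨fun h => congrArg Subtype.val h, fun h => Subtype.ext h⟩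
  have hdvd : orderOf u ∣ p ^ Nat.clog p (2 * R) := orderOf_dvd_of_pow_eq_one ((hiff _).2 ((hpow _).2
    (by rw [← Nat.sub_add_cancel (Nat.le_pow_clog hp.one_lt (2 * R)), pow_add, hu.1, mul_zero])))
  obtain ⟨j, hj, hje⟩ := (Nat.dvd_prime_pow hp).1 hdvd
  rcases hj.lt_or_eq with hlt | rfl
  · exfalso
    have h1 := (hpow j).1 ((hiff _).1 (hje ▸ pow_orderOf_eq_one u))
    have h2 : p ^ j < 2 * R := (Nat.lt_clog_iff_pow_lt hp.one_lt).1 hlt
    refine hv ?_
    rw [show 2 * R - 1 = p ^ j + (2 * R - 1 - p ^ j) by omega, pow_add, h1, zero_mul, Matrix.zero_mulVec]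
  · exact hje ▸ dvd_rfl

theorem central_sq (hn : 0 < n) {g : Matrix.symplecticGroup (Fin n) F}
    (hg : g ∈ Subgroup.center (Matrix.symplecticGroup (Fin n) F)) : g ^ 2 = 1 := by
  haveI : Nonempty (Fin n) := ⟨⟨0, hn⟩⟩
  refine Subtype.ext ?_
  show g.1 ^ 2 = 1
  rcases (CfsgLib.Classical.mem_center_sp_iff).1 hg with h | h <;> rw [h] <;> simp

theorem exists_neg_one (h2 : (2 : F) ≠ 0) {a : ℕ} (ha : 0 < a) :
    ∃ z : Matrix.symplecticGroup (Fin a) F, z ^ 2 = 1 ∧ z ≠ 1 := by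
  refine ⟨⟨-1, SymplecticGroup.neg_mem (one_mem _)⟩, Subtype.ext (by show (-1 : Matrix _ _ F) ^ 2 = 1; simp), fun h => ?_⟩
  have h3 := congrFun (congrFun (congrArg Subtype.val h) (.inl ⟨0, ha⟩)) (.inl ⟨0, ha⟩)
  simp at h3
  exact h2 (by linear_combination -h3)

/-- An odd order is kept in the quotient by the centre. -/
theorem orderOf_mk_odd (hn : 0 < n) {g : Matrix.symplecticGroup (Fin n) F} (hg : Odd (orderOf g)) :
    orderOf (QuotientGroup.mk g : Cfsg.PSp n F) = orderOf g := by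
  refine Nat.dvd_antisymm (orderOf_map_dvd (QuotientGroup.mk' _) g) ?_
  have h := central_sq hn ((QuotientGroup.eq_one_iff _).1
    (pow_orderOf_eq_one (QuotientGroup.mk g : Cfsg.PSp n F)))
  rw [← pow_mul] at h
  exact (Nat.coprime_two_right.2 hg).dvd_of_dvd_mul_right (orderOf_dvd_of_pow_eq_one h)

/-- A central factor is one at most: two blocks give an even order. -/
theorem exists_even (h2 : (2 : F) ≠ 0) {a b : ℕ} (ha : 0 < a) (hb : 0 < b) (hab : a + b = n)
    (x : Matrix.symplecticGroup (Fin a) F) (y : Matrix.symplecticGroup (Fin b) F) {k : ℕ} (hk : Odd k)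
    (hdvd : k ∣ Nat.lcm (orderOf x) (orderOf y)) :
    ∃ h : Cfsg.PSp n F, k ∣ orderOf h ∧ 2 ∣ orderOf h := by
  obtain ⟨φ, hφ⟩ := exists_sp_blocks (F := F) hab
  haveI : Nonempty (Fin n) := ⟨⟨0, by omega⟩⟩
  obtain ⟨za, hza, hza1⟩ := exists_neg_one (F := F) h2 ha
  obtain ⟨zb, hzb, hzb1⟩ := exists_neg_one (F := F) h2 hb
  have hzx : ∀ {c : ℕ} {z t : Matrix.symplecticGroup (Fin c) F}, z.1 = -1 → z * t = t * z := fun hz =>
    Subtype.ext (by simp [hz])
  set g := φ (x, y)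
  obtain ⟨w, hw2, hwc, hwg⟩ : ∃ w, w ^ 2 = 1 ∧ w ∉ Subgroup.center (Matrix.symplecticGroup (Fin n) F) ∧
      Commute w g := by
    let ua : Matrix.symplecticGroup (Fin a) F := ⟨-1, SymplecticGroup.neg_mem (one_mem _)⟩
    let ub : Matrix.symplecticGroup (Fin b) F := ⟨-1, SymplecticGroup.neg_mem (one_mem _)⟩
    have hua : ua ≠ 1 := fun h => by
      have h3 := congrFun (congrFun (congrArg Subtype.val h) (.inl ⟨0, ha⟩)) (.inl ⟨0, ha⟩)
      simp [ua] at h3
      exact h2 (by linear_combination -h3)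
    have hub : ub ≠ 1 := fun h => by
      have h3 := congrFun (congrFun (congrArg Subtype.val h) (.inl ⟨0, hb⟩)) (.inl ⟨0, hb⟩)
      simp [ub] at h3
      exact h2 (by linear_combination -h3)
    have hsq : ∀ {c : ℕ} (z : Matrix.symplecticGroup (Fin c) F), z.1 = -1 → z ^ 2 = 1 := fun z hz =>
      Subtype.ext (by show z.1 ^ 2 = 1; simp [hz])
    by_cases hc : φ (ua, 1) ∈ Subgroup.center (Matrix.symplecticGroup (Fin n) F)
    · refine ⟨φ (1, ub), by rw [← map_pow, Prod.pow_mk, one_pow, hsq ub rfl, ← Prod.one_eq_mk, map_one],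
        fun hc' => ?_, (show Commute ((1 : Matrix.symplecticGroup (Fin a) F), ub) (x, y) from
          Commute.prod (Commute.one_left x) (hzx rfl)).map φ⟩
      have hne1 : φ (ua, 1) ≠ 1 := fun e => hua (congrArg Prod.fst (hφ (e.trans (map_one φ).symm)))
      have hne2 : φ (1, ub) ≠ 1 := fun e => hub (congrArg Prod.snd (hφ (e.trans (map_one φ).symm)))
      have hval : ∀ t, t ∈ Subgroup.center (Matrix.symplecticGroup (Fin n) F) → t ≠ 1 → t.1 = -1 :=
        fun t ht hne => ((CfsgLib.Classical.mem_center_sp_iff).1 ht).resolve_left fun e => hne (Subtype.ext e)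
      exact hua (congrArg Prod.fst (hφ (Subtype.ext ((hval _ hc hne1).trans (hval _ hc' hne2).symm))))
    · exact ⟨φ (ua, 1), by rw [← map_pow, Prod.pow_mk, one_pow, hsq ua rfl, ← Prod.one_eq_mk, map_one], hc,
        (show Commute (ua, (1 : Matrix.symplecticGroup (Fin b) F)) (x, y) from
          Commute.prod (hzx rfl) (Commute.one_left y)).map φ⟩
  have hkg : k ∣ orderOf g := by rwa [orderOf_injective φ hφ, Prod.orderOf]
  obtain ⟨j, hj⟩ := hkg
  have hj0 : j ≠ 0 := fun h0 => (orderOf_pos g).ne' (by rw [hj, h0, mul_zero])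
  have hgk : orderOf (g ^ j) = k := by
    rw [orderOf_pow_of_dvd hj0 (hj ▸ dvd_mul_left j k), hj, Nat.mul_div_cancel _ (Nat.pos_of_ne_zero hj0)]
  have hmw : orderOf (QuotientGroup.mk w : Cfsg.PSp n F) = 2 :=
    orderOf_eq_prime (by rw [← QuotientGroup.mk_pow, hw2, QuotientGroup.mk_one])
      fun e => hwc ((QuotientGroup.eq_one_iff _).1 e)
  have hmg : orderOf (QuotientGroup.mk (g ^ j) : Cfsg.PSp n F) = k :=
    (orderOf_mk_odd (by omega) (hgk ▸ hk)).trans hgk
  refine ⟨(QuotientGroup.mk (g ^ j) : Cfsg.PSp n F) * QuotientGroup.mk w, ?_⟩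
  have hcm : Commute (QuotientGroup.mk (g ^ j) : Cfsg.PSp n F) (QuotientGroup.mk w) :=
    (hwg.symm.pow_left j).map (QuotientGroup.mk' _)
  rw [hcm.orderOf_mul_eq_mul_orderOf_of_coprime (by rw [hmw, hmg]; exact Nat.coprime_two_right.2 hk), hmw, hmg]
  exact ⟨dvd_mul_right _ _, dvd_mul_left _ _⟩

theorem oddTorus_cases (hq : Odd (Fintype.card F)) (hn : 0 < n) :
    let q := Fintype.card F
    (Odd ((q ^ n - 1) / 2) ∧ Even ((q ^ n + 1) / 2)) ∨ (Even ((q ^ n - 1) / 2) ∧ Odd ((q ^ n + 1) / 2)) := by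
  intro q
  obtain ⟨i, hi⟩ := (hq.pow : Odd (q ^ n))
  rw [hi, show (2 * i + 1 - 1) / 2 = i by omega, show (2 * i + 1 + 1) / 2 = i + 1 by omega]
  rcases Nat.even_or_odd i with h | h
  · exact Or.inr ⟨h, h.add_one⟩
  · exact Or.inl ⟨h, h.add_one⟩

theorem oddTorus_odd (hq : Odd (Fintype.card F)) (hn : 0 < n) : Odd (oddTorus (Fintype.card F) n) := by
  rw [oddTorus]
  split
  · assumption
  · rcases oddTorus_cases (F := F) hq hn with ⟨h, -⟩ | ⟨-, h⟩
    · rename_i h'; exact absurd h h'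
    · exact h

/-- Both halves are realised. -/
theorem exists_half (hq : Odd (Fintype.card F)) (hn : 0 < n) (twisted : Bool) :
    ∃ h : Cfsg.PSp n F, (if twisted then (Fintype.card F ^ n + 1) / 2 else (Fintype.card F ^ n - 1) / 2) ∣
      orderOf h := by
  obtain ⟨g, hg, hev⟩ : ∃ g : Matrix.symplecticGroup (Fin n) F,
      (if twisted then Fintype.card F ^ n + 1 else Fintype.card F ^ n - 1) ∣ orderOf g ∧
        2 ∣ (if twisted then Fintype.card F ^ n + 1 else Fintype.card F ^ n - 1) := by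
    cases twisted
    · obtain ⟨g, hg⟩ := exists_sp_split (F := F) hn
      exact ⟨g, hg, (Nat.Odd.sub_odd hq.pow odd_one).two_dvd⟩
    · obtain ⟨g, hg⟩ := exists_sp_twisted (F := F) hn
      exact ⟨g, dvd_of_eq hg.symm, hq.pow.add_one.two_dvd⟩
  refine ⟨QuotientGroup.mk g, Nat.dvd_of_mul_dvd_mul_right two_pos ?_⟩
  have hdvd : orderOf g ∣ orderOf (QuotientGroup.mk g : Cfsg.PSp n F) * 2 := orderOf_dvd_of_pow_eq_one (by
    rw [pow_mul]
    exact central_sq hn ((QuotientGroup.eq_one_iff _).1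
      (pow_orderOf_eq_one (QuotientGroup.mk g : Cfsg.PSp n F))))
  cases twisted <;> simp only [Bool.false_eq_true, if_false, if_true] at hg hev ⊢ <;>
    rw [Nat.div_mul_cancel hev] <;> exact hg.trans hdvd

/-- The three kinds of element orders. -/
theorem trichotomy (p : ℕ) [Fact p.Prime] [CharP F p] (hq : Odd (Fintype.card F)) (h2 : (2 : F) ≠ 0)
    (hp2 : p ≠ 2) (hn : 2 ≤ n) (x : Cfsg.PSp n F) :
    (∃ h : Cfsg.PSp n F, orderOf x ∣ orderOf h ∧ 2 ∣ orderOf h) ∨ orderOf x ∣ oddTorus (Fintype.card F) n ∨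
      (orderOf x ∣ p ^ Nat.clog p (2 * n) ∧ ((¬ ∃ j : ℕ, 2 * n - 1 = p ^ j) →
        ∃ h : Cfsg.PSp n F, orderOf x ∣ orderOf h ∧ 2 ∣ orderOf h)) := by
  classical
  have hp := (Fact.out : p.Prime)
  haveI : Nonempty (Fin n) := ⟨⟨0, by omega⟩⟩
  by_cases hev : 2 ∣ orderOf x
  · exact Or.inl ⟨x, dvd_rfl, hev⟩
  have hodd : Odd (orderOf x) := Nat.not_even_iff_odd.1 fun h => hev h.two_dvd
  obtain ⟨g, rfl⟩ := QuotientGroup.mk_surjective x
  set k := orderOf (QuotientGroup.mk g : Cfsg.PSp n F) with hk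
  have hg2 : (g ^ 2) ^ k = 1 := by
    rw [← pow_mul, mul_comm, pow_mul]
    exact central_sq (by omega) ((QuotientGroup.eq_one_iff _).1
      (pow_orderOf_eq_one (QuotientGroup.mk g : Cfsg.PSp n F)))
  have hkA : k ∣ orderOf (g ^ 2) := by
    have h := orderOf_map_dvd (QuotientGroup.mk' (Subgroup.center (Matrix.symplecticGroup (Fin n) F))) (g ^ 2)
    rwa [map_pow, QuotientGroup.mk'_apply, (Nat.coprime_two_right.2 hodd).orderOf_pow] at h
  obtain ⟨Jm, hJ, hiso⟩ := spMat_isometry (F := F) n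
  obtain ⟨T₁, T₂, s, M, h₁, h₂, hsum, hsM, hs0, hone⟩ :=
    IsometryOrder.exists_shape p hJ (hiso (g ^ 2)) (m := n) (by rw [Fintype.card_fin]; omega)
  set L := Nat.lcm (T₁.lcm fun a => Fintype.card F ^ a + 1) (T₂.lcm fun b => Fintype.card F ^ b - 1) with hL
  have hdvd : k ∣ L * p ^ s := by
    have h := hkA.trans ((spMat_pow_eq_one n (g ^ 2) _).1 hone)
    rw [mul_assoc] at h
    exact (Nat.coprime_two_right.2 hodd).dvd_of_dvd_mul_left h
  -- the element of each block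
  set R := ∑ a ∈ T₁, a + ∑ b ∈ T₂, b with hR
  have hsclog : ∀ {M' : ℕ}, M ≤ M' → s ≤ Nat.clog p (2 * M') := by
    intro M' hM'
    rcases Nat.eq_zero_or_pos s with h0 | h0
    · omega
    have := hsM h0
    have h3 : s - 1 < Nat.clog p (2 * M') := (Nat.lt_clog_iff_pow_lt hp.one_lt).2 (by omega)
    omega
  have hnR : R = 0 → k ∣ p ^ s := fun h0 => by
    have hT₁ : T₁ = ∅ := Finset.eq_empty_of_forall_notMem fun a ha => by
      have := Finset.single_le_sum (f := fun a => a) (fun _ _ => Nat.zero_le _) ha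
      have := h₁ a ha
      omega
    have hT₂ : T₂ = ∅ := Finset.eq_empty_of_forall_notMem fun a ha => by
      have := Finset.single_le_sum (f := fun a => a) (fun _ _ => Nat.zero_le _) ha
      have := h₂ a ha
      omega
    rw [hL, hT₁, hT₂] at hdvd
    simpa using hdvd
  have hblocks : ∀ a b, 0 < a → 0 < b → a + b = n →
      (∃ x' : Matrix.symplecticGroup (Fin a) F, ∃ y' : Matrix.symplecticGroup (Fin b) F,
        k ∣ Nat.lcm (orderOf x') (orderOf y')) →
      ∃ h : Cfsg.PSp n F, k ∣ orderOf h ∧ 2 ∣ orderOf h := by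
    rintro a b ha hb hab ⟨x', y', hd⟩
    exact exists_even h2 ha hb hab x' y' hodd hd
  rcases Nat.eq_zero_or_pos R with hR0 | hR0
  · refine Or.inr (Or.inr ⟨(hnR hR0).trans (pow_dvd_pow p (hsclog (by omega))), fun hpow => ?_⟩)
    obtain ⟨u, hu⟩ := exists_sp_unip (F := F) p (show 0 < n - 1 by omega)
    refine hblocks 1 (n - 1) one_pos (by omega) (by omega) ⟨1, u, ((hnR hR0).trans ?_).trans
      (Nat.dvd_lcm_right _ _)⟩
    refine (pow_dvd_pow p ?_).trans hu
    refine (hsclog (M' := n) (by omega)).trans ?_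
    by_contra hlt
    have h3 : Nat.clog p (2 * (n - 1)) < Nat.clog p (2 * n) := Nat.lt_of_not_le hlt
    have h4 := (Nat.lt_clog_iff_pow_lt hp.one_lt).1 h3
    have h5 := Nat.le_pow_clog hp.one_lt (2 * (n - 1))
    obtain ⟨i, hi⟩ := (hp.odd_of_ne_two hp2).pow (n := Nat.clog p (2 * (n - 1)))
    exact hpow ⟨_, (show 2 * n - 1 = p ^ Nat.clog p (2 * (n - 1)) by omega)⟩
  -- semisimple parts
  obtain ⟨f, -, hf⟩ := FiniteField.card F p
  have hcop : L.Coprime (p ^ s) := by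
    refine Nat.Coprime.pow_right s ?_
    have hd : L ∣ (∏ a ∈ T₁, (Fintype.card F ^ a + 1)) * ∏ b ∈ T₂, (Fintype.card F ^ b - 1) :=
      Nat.lcm_dvd ((Finset.lcm_dvd fun a ha =>
          Finset.dvd_prod_of_mem (fun a => Fintype.card F ^ a + 1) ha).trans (dvd_mul_right _ _))
        ((Finset.lcm_dvd fun a ha =>
          Finset.dvd_prod_of_mem (fun a => Fintype.card F ^ a - 1) ha).trans (dvd_mul_left _ _))
    refine Nat.Coprime.coprime_dvd_left hd (Nat.Coprime.mul_left ?_ ?_)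
    all_goals
      refine Nat.Coprime.prod_left fun a ha => ((hp.coprime_iff_not_dvd).2 fun hdp => ?_).symm
    · have hpq : p ∣ Fintype.card F ^ a :=
        (hf ▸ dvd_pow_self p f.ne_zero : p ∣ Fintype.card F).trans (dvd_pow_self _ (h₁ a ha).ne')
      exact hp.ne_one (Nat.dvd_one.1 ((Nat.dvd_add_right hpq).1 hdp))
    · have hpq : p ∣ Fintype.card F ^ a :=
        (hf ▸ dvd_pow_self p f.ne_zero : p ∣ Fintype.card F).trans (dvd_pow_self _ (h₂ a ha).ne')
      have h3 := Nat.dvd_sub hpq hdp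
      rw [Nat.sub_sub_self (Nat.one_le_pow _ _ Fintype.card_pos)] at h3
      exact hp.ne_one (Nat.dvd_one.1 h3)
  have hLdvd : ∀ {d : ℕ}, (∀ a ∈ T₁, Fintype.card F ^ a + 1 ∣ d) → (∀ b ∈ T₂, Fintype.card F ^ b - 1 ∣ d) →
      L ∣ d := fun e1 e2 => Nat.lcm_dvd (Finset.lcm_dvd e1) (Finset.lcm_dvd e2)
  rcases Nat.eq_zero_or_pos s with hs | hs
  swap
  · -- a torus and a unipotent block
    have hM0 : 0 < M := by have := hsM hs; omega
    obtain ⟨x', e1, e2⟩ := exists_tori (F := F) T₁ T₂ h₁ h₂ R le_rfl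
    obtain ⟨y', hy'⟩ := exists_sp_unip (F := F) p (show 0 < n - R by omega)
    exact Or.inl (hblocks R (n - R) hR0 (by omega) (by omega) ⟨x', y', hdvd.trans (hcop.mul_dvd_of_dvd_of_dvd
      ((hLdvd e1 e2).trans (Nat.dvd_lcm_left _ _))
      (((pow_dvd_pow p (hsclog (by omega))).trans hy').trans (Nat.dvd_lcm_right _ _)))⟩)
  rw [hs, pow_zero, mul_one] at hdvd
  rcases lt_or_eq_of_le (show R ≤ n by omega) with hlt | hRn
  · obtain ⟨x', e1, e2⟩ := exists_tori (F := F) T₁ T₂ h₁ h₂ R le_rfl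
    exact Or.inl (hblocks R (n - R) hR0 (by omega) (by omega)
      ⟨x', 1, hdvd.trans ((hLdvd e1 e2).trans (Nat.dvd_lcm_left _ _))⟩)
  -- split off one torus
  by_cases hfull₁ : ∃ a ∈ T₁, a < n
  · obtain ⟨a, ha, han⟩ := hfull₁
    obtain ⟨x', hx'⟩ := exists_sp_twisted (F := F) (h₁ a ha)
    have hs' : ∑ c ∈ T₁.erase a, c + ∑ c ∈ T₂, c ≤ n - a := by
      have := Finset.sum_erase_add T₁ (fun c => c) ha
      omega
    obtain ⟨y', e1, e2⟩ := exists_tori (F := F) (T₁.erase a) T₂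
      (fun c hc => h₁ c (Finset.mem_of_mem_erase hc)) h₂ (n - a) hs'
    refine Or.inl (hblocks a (n - a) (h₁ a ha) (by omega) (by omega) ⟨x', y', hdvd.trans (hLdvd (fun c hc => ?_)
      fun c hc => (e2 c hc).trans (Nat.dvd_lcm_right _ _))⟩)
    by_cases hca : c = a
    · subst hca; exact hx' ▸ Nat.dvd_lcm_left _ _
    · exact (e1 c (Finset.mem_erase.2 ⟨hca, hc⟩)).trans (Nat.dvd_lcm_right _ _)
  by_cases hfull₂ : ∃ a ∈ T₂, a < n
  · obtain ⟨a, ha, han⟩ := hfull₂
    obtain ⟨x', hx'⟩ := exists_sp_split (F := F) (h₂ a ha)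
    have hs' : ∑ c ∈ T₁, c + ∑ c ∈ T₂.erase a, c ≤ n - a := by
      have := Finset.sum_erase_add T₂ (fun c => c) ha
      omega
    obtain ⟨y', e1, e2⟩ := exists_tori (F := F) T₁ (T₂.erase a)
      h₁ (fun c hc => h₂ c (Finset.mem_of_mem_erase hc)) (n - a) hs'
    refine Or.inl (hblocks a (n - a) (h₂ a ha) (by omega) (by omega) ⟨x', y', hdvd.trans (hLdvd
      (fun c hc => (e1 c hc).trans (Nat.dvd_lcm_right _ _)) fun c hc => ?_)⟩)
    by_cases hca : c = a
    · subst hca; exact hx'.trans (Nat.dvd_lcm_left _ _)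
    · exact (e2 c (Finset.mem_erase.2 ⟨hca, hc⟩)).trans (Nat.dvd_lcm_right _ _)
  -- one torus of full rank
  push Not at hfull₁ hfull₂
  have hone' : k ∣ Fintype.card F ^ n + 1 ∨ k ∣ Fintype.card F ^ n - 1 := by
    rcases T₁.eq_empty_or_nonempty with h0 | ⟨a, ha⟩
    · right
      refine hdvd.trans (hLdvd (by simp [h0]) fun b hb => ?_)
      have := Finset.single_le_sum (f := fun a => a) (fun _ _ => Nat.zero_le _) hb
      have := hfull₂ b hb
      rw [show b = n by omega]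
    · left
      have h1 := Finset.single_le_sum (f := fun a => a) (fun _ _ => Nat.zero_le _) ha
      have h1' := hfull₁ a ha
      refine hdvd.trans (hLdvd (fun b hb => ?_) fun b hb => ?_)
      · have := Finset.single_le_sum (f := fun a => a) (fun _ _ => Nat.zero_le _) hb
        have := hfull₁ b hb
        rw [show b = n by omega]
      · exfalso
        have := Finset.single_le_sum (f := fun a => a) (fun _ _ => Nat.zero_le _) hb
        have := hfull₂ b hb
        omega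
  have hev₁ : 2 ∣ Fintype.card F ^ n + 1 := hq.pow.add_one.two_dvd
  have hev₂ : 2 ∣ Fintype.card F ^ n - 1 := (Nat.Odd.sub_odd hq.pow odd_one).two_dvd
  have hhalf : ∀ {t}, 2 ∣ t → k ∣ t → k ∣ t / 2 := fun ht hkt =>
    (Nat.coprime_two_right.2 hodd).dvd_of_dvd_mul_right (by rwa [Nat.div_mul_cancel ht])
  rcases oddTorus_cases (F := F) (n := n) hq (by omega) with ⟨ho, he⟩ | ⟨he, ho⟩
  · rcases hone' with h | h
    · obtain ⟨t, ht⟩ := exists_half (F := F) hq (show 0 < n by omega) true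
      exact Or.inl ⟨t, (hhalf hev₁ h).trans (by simpa using ht), (even_iff_two_dvd.1 he).trans (by simpa using ht)⟩
    · exact Or.inr (Or.inl (by rw [oddTorus, if_pos ho]; exact hhalf hev₂ h))
  · rcases hone' with h | h
    · refine Or.inr (Or.inl ?_)
      rw [oddTorus, if_neg (fun h' => Nat.not_even_iff_odd.2 h' he)]
      exact hhalf hev₁ h
    · obtain ⟨t, ht⟩ := exists_half (F := F) hq (show 0 < n by omega) false
      exact Or.inl ⟨t, (hhalf hev₂ h).trans (by simpa using ht), (even_iff_two_dvd.1 he).trans (by simpa using ht)⟩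

end CfsgLib.KnownB.SpSpectrum
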