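import Cfsg.Agent.Lib.KnownB.ChevRoots

/-!
The table checks behind `ChevRoots` for the seven types, and the forms used by the statements.
-/

set_option autoImplicit false

namespace CfsgLib.KnownB.ChevField

open Cfsg.Lie Matrix CfsgLib.Chev

variable {D : ChevalleyDatum} {A : Aux} {F : Type*} [Field F]

theorem topG2 : topChk chevG2 auxG2 (fun _ => true) 11 1 = true := by decide +kernel
theorem topF4 : topChk chevF4 auxF4 (fun _ => true) 47 3 = true := by decide +kernel
theorem topF4' : topChk chevF4 auxF4 (fun q => !chevF4.isLong q) 44 0 = true := by decide +kernel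
theorem topE6 : topChk chevE6 auxE6 (fun _ => true) 71 1 = true := by decide +kernel
theorem topE7 : topChk chevE7 auxE7 (fun _ => true) 125 0 = true := by decide +kernel
theorem topE8 : topChk chevE8 auxE8 (fun _ => true) 239 7 = true := by decide +kernel

/-- The centralizer with the negative fundamental roots given as a list. -/
theorem centralizer_top_list [CharP F 2] (h : Std D A) {Q : ℕ → Bool} {r i₀ : ℕ}
    (hchk : topChk D A Q r i₀ = true) {L : List ℕ}
    (hL : L = ((List.range D.rank).filter fun i => i != i₀).map fun i => D.neg (D.simple i))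
    {x : GL D.Idx F} (hx : (x : Matrix D.Idx D.Idx F) = D.x F r 1) :
    D.group F ⊓ Subgroup.centralizer {x} = D.posUnipotent F ⊔
      Subgroup.closure {y | ∃ s ∈ L, ∃ t : F, (y : Matrix D.Idx D.Idx F) = D.x F s t} := by
  rw [centralizer_top h hchk hx]
  congr 2
  ext y
  subst hL
  simp only [Set.mem_setOf_eq, List.mem_map, List.mem_filter, List.mem_range, bne_iff_ne]
  constructor
  · rintro ⟨i, hi, hne, t, ht⟩
    exact ⟨_, ⟨i, ⟨hi, hne⟩, rfl⟩, t, ht⟩
  · rintro ⟨_, ⟨i, ⟨hi, hne⟩, rfl⟩, t, ht⟩
    exact ⟨i, hi, hne, t, ht⟩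

theorem closure_cons_roots (g : Good D A) (r : ℕ) (L : List ℕ) :
    Subgroup.closure {y : GL D.Idx F | ∃ s ∈ r :: L, ∃ t : F, (y : Matrix D.Idx D.Idx F) = D.x F s t} =
      D.rootSubgroup F r ⊔ Subgroup.closure {y : GL D.Idx F | ∃ s ∈ L, ∃ t : F,
        (y : Matrix D.Idx D.Idx F) = D.x F s t} := by
  rw [ChevalleyDatum.rootSubgroup, ← Subgroup.closure_union]
  congr 1
  ext y
  simp [List.mem_cons, or_and_right, exists_or]

theorem closure_nil_roots :
    Subgroup.closure {y : GL D.Idx F | ∃ s ∈ ([] : List ℕ), ∃ t : F,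
      (y : Matrix D.Idx D.Idx F) = D.x F s t} = ⊥ := by
  simp

theorem exists_top {d : ChevalleyDatum × List ℕ}
    (hd : d ∈ [(chevE6, [15, 29, 32, 34, 35]), (chevE7, [47, 52, 56, 59, 61, 62]),
      (chevE8, [77, 98, 104, 109, 113, 116, 118])]) :
    ∃ A Q i₀, Std d.1 A ∧ topChk d.1 A Q (d.1.nroots - 1) i₀ = true ∧
      ∀ s, s ∈ d.2 ↔
        s ∈ ((List.range d.1.rank).filter fun i => i != i₀).map fun i => d.1.neg (d.1.simple i) := by
  simp only [List.mem_cons, List.not_mem_nil, or_false] at hd
  rcases hd with rfl | rfl | rfl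
  · exact ⟨_, _, _, stdE6, topE6, fun s => List.Perm.mem_iff (by decide +kernel)⟩
  · exact ⟨_, _, _, stdE7, topE7, fun s => List.Perm.mem_iff (by decide +kernel)⟩
  · exact ⟨_, _, _, stdE8, topE8, fun s => List.Perm.mem_iff (by decide +kernel)⟩

theorem exists_pair {D : ChevalleyDatum} (hD : D ∈ [chevG2, chevD4, chevE6, chevE7, chevE8]) :
    ∃ A Q, Std D A ∧ pairChk D A Q = true := by
  simp only [List.mem_cons, List.not_mem_nil, or_false] at hD
  rcases hD with rfl | rfl | rfl | rfl | rfl
  exacts [⟨_, fun q => chevG2.isLong q, stdG2, by decide +kernel⟩,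
    ⟨_, fun _ => true, stdD4, by decide +kernel⟩, ⟨_, fun _ => true, stdE6, by decide +kernel⟩,
    ⟨_, fun _ => true, stdE7, by decide +kernel⟩, ⟨_, fun _ => true, stdE8, by decide +kernel⟩]

/-- Every short fundamental root spreads to all. -/
noncomputable def shortChk (D : ChevalleyDatum) (A : Aux) (e : ℕ) : Bool :=
  (List.range D.rank).all fun i => D.isLong (D.simple i) || reaches D A e [i]

/-- Every adjacent short and long pair spreads to all. -/
noncomputable def mixedChk (D : ChevalleyDatum) (A : Aux) : Bool :=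
  (List.range D.rank).all fun i => (List.range D.rank).all fun j =>
    D.isLong (D.simple i) || !D.isLong (D.simple j) || decide (D.bonds i j = 0) || reaches D A 1 [i, j]

theorem exists_short {F : Type*} [Field F] {D : ChevalleyDatum}
    (hD : D ∈ [chevG2, chevB2, chevD4, chevF4, chevE6, chevE7, chevE8])
    (h2 : D ∈ [chevB2, chevF4] → ringChar F ≠ 2) (h3 : D = chevG2 → ringChar F ≠ 3) :
    ∃ (A : Aux) (e : ℕ), Std D A ∧ (e : F) ≠ 0 ∧ shortChk D A e = true := by
  have hp : ∀ p : ℕ, p.Prime → ringChar F ≠ p → (p : F) ≠ 0 := fun p hp hne h0 => by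
    have hdvd := (ringChar.spec F p).1 h0
    rcases (Nat.dvd_prime hp).1 hdvd with e1 | e1
    · exact (CharP.ringChar_ne_one (R := F)) e1
    · exact hne e1
  simp only [List.mem_cons, List.not_mem_nil, or_false] at hD
  rcases hD with rfl | rfl | rfl | rfl | rfl | rfl | rfl
  · exact ⟨_, 3, stdG2, hp 3 Nat.prime_three (h3 rfl), by decide +kernel⟩
  · exact ⟨_, 2, stdB2, hp 2 Nat.prime_two (h2 (by simp)), by decide +kernel⟩
  · exact ⟨_, 1, stdD4, by simp, by decide +kernel⟩
  · exact ⟨_, 2, stdF4, hp 2 Nat.prime_two (h2 (by simp)), by decide +kernel⟩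
  · exact ⟨_, 1, stdE6, by simp, by decide +kernel⟩
  · exact ⟨_, 1, stdE7, by simp, by decide +kernel⟩
  · exact ⟨_, 1, stdE8, by simp, by decide +kernel⟩

theorem exists_mixed {e : ChevalleyDatum × ℕ}
    (he : e ∈ [(chevB2, 2), (chevF4, 2), (chevG2, 3)]) :
    ∃ A, Std e.1 A ∧ mixedChk e.1 A = true := by
  simp only [List.mem_cons, List.not_mem_nil, or_false] at he
  rcases he with rfl | rfl | rfl
  exacts [⟨_, stdB2, by decide +kernel⟩, ⟨_, stdF4, by decide +kernel⟩, ⟨_, stdG2, by decide +kernel⟩]

theorem group_le_short (h : Std D A) {e : ℕ} (he : (e : F) ≠ 0) (hchk : shortChk D A e = true) {i : ℕ}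
    (hi : i < D.rank) (hshort : D.isLong (D.simple i) = false) :
    D.group F ≤ D.monomialSubgroup F ⊔ D.rootSubgroup F (D.simple i) := by
  have hr := List.all_eq_true.1 hchk i (List.mem_range.2 hi)
  rw [hshort, Bool.false_or] at hr
  refine group_le_of_reaches h he (ks := [i]) (by simpa using hi) hr le_sup_left ?_
  intro k hk t
  rw [List.mem_singleton] at hk
  subst hk
  exact Subgroup.mem_sup_right (xG_mem_rootSubgroup h.good _ t)

theorem group_le_mixed (h : Std D A) (hchk : mixedChk D A = true) {i j : ℕ} (hi : i < D.rank)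
    (hj : j < D.rank) (hshort : D.isLong (D.simple i) = false)
    (hlong : D.isLong (D.simple j) = true) (hbond : D.bonds i j ≠ 0) :
    D.group F ≤ D.monomialSubgroup F ⊔ D.rootSubgroup F (D.simple i) ⊔
      D.rootSubgroup F (D.simple j) := by
  have hr := List.all_eq_true.1 (List.all_eq_true.1 hchk i (List.mem_range.2 hi)) j (List.mem_range.2 hj)
  rw [hshort, hlong, decide_eq_false hbond] at hr
  simp only [Bool.not_true, Bool.false_or] at hr
  refine group_le_of_reaches h (e := 1) (by simp) (ks := [i, j]) (by simp [hi, hj]) hr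
    (le_sup_left.trans le_sup_left) ?_
  intro k hk t
  simp only [List.mem_cons, List.not_mem_nil, or_false] at hk
  rcases hk with rfl | rfl
  · exact Subgroup.mem_sup_left (Subgroup.mem_sup_right (xG_mem_rootSubgroup h.good _ t))
  · exact Subgroup.mem_sup_right (xG_mem_rootSubgroup h.good _ t)

end CfsgLib.KnownB.ChevField
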