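import Cfsg.Agent.Lib.KnownB.ChevAutShapeExists
import Cfsg.Agent.Lib.Chev.WeylTypes

/-!
Diagonal and field automorphisms as elements of the automorphism group, and the parameter maps of a
shape: a scale factor, one field automorphism and the exponents of a diagram symmetry.
-/

set_option autoImplicit false

namespace CfsgLib.KnownB.ChevAutThm

open Cfsg.Lie Matrix CfsgLib.Chev CfsgLib.KnownB.ChevField

variable {D : ChevalleyDatum} {A : Aux} {F : Type*} [Field F]

/-! ### Diagonal and field automorphisms -/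

theorem isRootCharacter_wt (g : Good D A) (ξ : ℕ → Fˣ) : D.IsRootCharacter (wt D A ξ) := by
  refine ⟨fun r hr => ?_, fun r s k hr hs hk => ?_⟩
  · rw [g.neg_eq r hr, wt, wt, ← Finset.prod_inv_distrib]
    exact Finset.prod_congr rfl fun j _ => by rw [g.a_neg r hr, _root_.zpow_neg]
  · rw [ChevalleyDatum.chainRoot, g.chain_eq r hr s hs, Option.map_eq_some_iff] at hk
    obtain ⟨⟨u, m⟩, hum, rfl⟩ := hk
    obtain ⟨-, -, -, ha⟩ := g.chain_mem r hr s hs 0 u m hum
    rw [wt, wt, wt, ← Finset.prod_mul_distrib]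
    refine Finset.prod_congr rfl fun j hj => ?_
    rw [← _root_.zpow_add, ha j (Finset.mem_range.1 hj)]
    congr 1
    push_cast
    ring

theorem wt_simple (g : Good D A) (ξ : ℕ → Fˣ) {i : ℕ} (hi : i < D.rank) :
    wt D A ξ (D.simple i) = ξ i := by
  rw [wt, Finset.prod_eq_single i]
  · rw [g.a_simple i hi i hi, if_pos rfl, zpow_one]
  · intro j hj hji
    rw [g.a_simple i hi j (Finset.mem_range.1 hj), if_neg hji, zpow_zero]
  · intro h; exact absurd (Finset.mem_range.2 hi) h

theorem isRootCharacter_inv {χ : ℕ → Fˣ} (hχ : D.IsRootCharacter χ) :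
    D.IsRootCharacter fun r => (χ r)⁻¹ :=
  ⟨fun r hr => by simp [hχ.1 r hr], fun r s k hr hs hk => by simp [hχ.2 r s k hr hs hk, mul_comm]⟩

/-- The diagonal matrix of a function on the roots as a unit. -/
noncomputable def cdU (D : ChevalleyDatum) (χ : ℕ → Fˣ) : GL D.Idx F :=
  ⟨D.charDiag F χ, D.charDiag F fun s => (χ s)⁻¹, charDiag_mul_inv χ,
    by simpa using charDiag_mul_inv (D := D) fun s => (χ s)⁻¹⟩

theorem cdU_inv (χ : ℕ → Fˣ) : (cdU D χ)⁻¹ = cdU D fun s => (χ s)⁻¹ := by
  ext1
  rfl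

theorem cdU_conj_xG (g : Good D A) (hadd : addChk D A = true) {χ : ℕ → Fˣ}
    (hχ : D.IsRootCharacter χ) {r : ℕ} (hr : r < D.nroots) (t : F) :
    cdU D χ * xG g r t * (cdU D χ)⁻¹ = xG g r ((χ r : F) * t) := by
  apply Units.ext
  simp only [Units.val_mul, cdU_inv, xG_val]
  exact charDiag_conj g hadd hχ hr t

theorem cdU_normalizes (g : Good D A) (hadd : addChk D A = true) {χ : ℕ → Fˣ}
    (hχ : D.IsRootCharacter χ) {y : GL D.Idx F} (hy : y ∈ D.group F) :
    cdU D χ * y * (cdU D χ)⁻¹ ∈ D.group F := by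
  have : D.group F ≤ (D.group F).comap (MulAut.conj (cdU D χ)).toMonoidHom := by
    conv_lhs => rw [group_eq g]
    refine (Subgroup.closure_le _).2 ?_
    rintro _ ⟨r, t, hr, rfl⟩
    show cdU D χ * xG g r t * (cdU D χ)⁻¹ ∈ D.group F
    rw [cdU_conj_xG g hadd hχ hr]
    exact xG_mem_group g _ _
  exact this hy

/-- The diagonal automorphism of a root character. -/
noncomputable def dAut (g : Good D A) (hadd : addChk D A = true) {χ : ℕ → Fˣ}
    (hχ : D.IsRootCharacter χ) : MulAut ↥(D.group F) where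
  toFun y := ⟨cdU D χ * (y : GL D.Idx F) * (cdU D χ)⁻¹, cdU_normalizes g hadd hχ y.2⟩
  invFun y := ⟨(cdU D χ)⁻¹ * (y : GL D.Idx F) * cdU D χ, by
    have := cdU_normalizes g hadd (isRootCharacter_inv hχ) y.2
    rwa [← cdU_inv, inv_inv] at this⟩
  left_inv y := Subtype.ext (by simp [mul_assoc])
  right_inv y := Subtype.ext (by simp [mul_assoc])
  map_mul' a b := Subtype.ext (by simp [mul_assoc])

theorem dAut_apply (g : Good D A) (hadd : addChk D A = true) {χ : ℕ → Fˣ}
    (hχ : D.IsRootCharacter χ) (y : ↥(D.group F)) :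
    (dAut g hadd hχ y : GL D.Idx F) = cdU D χ * (y : GL D.Idx F) * (cdU D χ)⁻¹ := rfl

theorem dAut_isDiagonal (g : Good D A) (hadd : addChk D A = true) {χ : ℕ → Fˣ}
    (hχ : D.IsRootCharacter χ) : D.IsDiagonalAut (dAut g hadd hχ) :=
  ⟨χ, hχ, fun y => by rw [dAut_apply, Units.val_mul, Units.val_mul, cdU_inv]; rfl⟩

theorem dAut_xS (g : Good D A) (hadd : addChk D A = true) {χ : ℕ → Fˣ}
    (hχ : D.IsRootCharacter χ) {r : ℕ} (hr : r < D.nroots) (t : F) :
    dAut g hadd hχ (xS g r t) = xS g r ((χ r : F) * t) :=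
  Subtype.ext (cdU_conj_xG g hadd hχ hr t)

/-- The field automorphism of an automorphism of the field. -/
noncomputable def fAut (g : Good D A) (σ : F ≃+* F) : MulAut ↥(D.group F) where
  toFun y := ⟨Matrix.GeneralLinearGroup.map (σ : F →+* F) (y : GL D.Idx F),
    group_map_le g _ (Subgroup.mem_map_of_mem _ y.2)⟩
  invFun y := ⟨Matrix.GeneralLinearGroup.map (σ.symm : F →+* F) (y : GL D.Idx F),
    group_map_le g _ (Subgroup.mem_map_of_mem _ y.2)⟩
  left_inv y := Subtype.ext (Units.ext (Matrix.ext fun a b => σ.symm_apply_apply _))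
  right_inv y := Subtype.ext (Units.ext (Matrix.ext fun a b => σ.apply_symm_apply _))
  map_mul' a b := Subtype.ext (map_mul _ _ _)

theorem fAut_xS (g : Good D A) (σ : F ≃+* F) (r : ℕ) (t : F) :
    fAut g σ (xS g r t) = xS g r (σ t) :=
  Subtype.ext (map_xG g (σ : F →+* F) r t)

theorem fAut_isField (g : Good D A) (σ : F ≃+* F) : D.IsFieldAut (fAut g σ) := by
  refine ⟨σ, fun y r t hr he => ?_⟩
  obtain rfl : y = xS g r t := Subtype.ext (Units.ext (he.trans (xG_val g _ _).symm))
  rw [fAut_xS, xS_val, xG_val]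

theorem fAut_mul (g : Good D A) (σ τ : F ≃+* F) : fAut g (σ * τ) = fAut g σ * fAut g τ := by
  refine MulEquiv.ext fun y => Subtype.ext (Units.ext (Matrix.ext fun a b => ?_))
  rfl

/-- Automorphisms agreeing on the fundamental root elements and their opposites are equal. -/
theorem aut_ext (g : Good D A) {φ ψ : MulAut ↥(D.group F)}
    (hp : ∀ (i : Fin D.rank) (t : F), φ (xS g (D.simple i) t) = ψ (xS g (D.simple i) t))
    (hn : ∀ (i : Fin D.rank) (t : F),
      φ (xS g (A.neg (D.simple i)) t) = ψ (xS g (A.neg (D.simple i)) t)) : φ = ψ := by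
  refine MulEquiv.ext fun y => ?_
  let E := φ.toMonoidHom.eqLocus ψ.toMonoidHom
  have hE : D.group F ≤ E.map (D.group F).subtype := by
    refine group_le_of_simple g (fun i hi t => ⟨xS g (D.simple i) t, hp ⟨i, hi⟩ t, rfl⟩)
      fun i hi t => ?_
    rw [g.neg_eq _ (g.simple_lt i hi)]
    exact ⟨xS g (A.neg (D.simple i)) t, hn ⟨i, hi⟩ t, rfl⟩
  obtain ⟨z, hz, hzy⟩ := hE y.2
  obtain rfl : z = y := Subtype.ext hzy
  exact hz

/-! ### One field automorphism for each node -/

theorem exists_ringEquiv [Finite F] {s : F → F} (hadd : ∀ t u, s (t + u) = s t + s u) (h1 : s 1 = 1)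
    (hinj : Function.Injective s) (hsq : ∀ t u, s (t * t * u) = s t * s t * s u) :
    ∃ σ : F ≃+* F, ∀ t, σ t = s t := by
  have hmul : ∀ t u, s (t * u) = s t * s u := by
    by_cases h2 : (2 : F) = 0
    · intro t u
      have hc : ringChar F = 2 := by
        haveI : CharP F (ringChar F) := ringChar.charP F
        rcases (Nat.dvd_prime Nat.prime_two).1 ((CharP.cast_eq_zero_iff F (ringChar F) 2).1
          (by exact_mod_cast h2)) with h | h
        · exact absurd h CharP.ringChar_ne_one
        · exact h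
      obtain ⟨w, rfl⟩ := FiniteField.isSquare_of_char_two hc t
      have := hsq w 1
      rw [h1, mul_one, mul_one] at this
      rw [hsq, this]
    · intro t u
      have h := hsq (t + 1) u
      rw [show (t + 1) * (t + 1) * u = t * t * u + t * u + t * u + u by ring, hadd, hadd, hadd,
        hsq, hadd t 1, h1] at h
      exact mul_left_cancel₀ h2 (by linear_combination h)
  have h0 : s 0 = 0 := by simpa using hadd 0 0
  let f : F →+* F := ⟨⟨⟨s, h1⟩, hmul⟩, h0, hadd⟩
  exact ⟨RingEquiv.ofBijective f (Finite.injective_iff_bijective.1 hinj), fun t => rfl⟩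

theorem dia_le_mono (g : Good D A) {y : GL D.Idx F} (hy : y ∈ D.diagonalSubgroup F) :
    y ∈ D.monomialSubgroup F := by
  rw [diagonalSubgroup_eq g] at hy
  obtain ⟨c, rfl⟩ := hy
  exact tor_mem_monomial g c

theorem chi_single (g : Good D A) (i : Fin D.rank) (c : Fˣ) (s : ℕ) :
    chi D A (Pi.mulSingle i c) s = c ^ A.cart i s := by
  rw [chi, Finset.prod_eq_single i]
  · simp
  · intro j _ hj; simp [hj]
  · simp

section

variable (h : Std D A) {φ : MulAut ↥(D.group F)} {π : Equiv.Perm (Fin D.rank)}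
  {f f' : Fin D.rank → F → F}

/-- The torus relation between two nodes. -/
theorem Shape.torus (hS : Shape h.good φ π f f') (i j : Fin D.rank) {t : F} (ht : t ≠ 0) (u : F) :
    f j (t ^ A.cart i (D.simple j) * u) =
      (f i t / f i 1) ^ A.cart (π i) (D.simple (π j)) * f j u := by
  have g := h.good
  have hpi := hS.f_ne h i ht
  have hp1 := hS.f_ne h i (one_ne_zero (α := F))
  set z : ↥(D.group F) := ⟨hG g (D.simple i) t,
    diagonalSubgroup_le_group g (hG_mem_diag g i.isLt ht)⟩
  have h1 : z * xS g (D.simple j) u * z⁻¹ = xS g (D.simple j) (t ^ A.cart i (D.simple j) * u) := by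
    refine Subtype.ext ?_
    show hG g (D.simple i) (Units.mk0 t ht : F) * xG g (D.simple j) u *
      (hG g (D.simple i) (Units.mk0 t ht : F))⁻¹ = _
    rw [hG_simple g, tor_conj_xG g _ (g.simple_lt j j.isLt), chi_single g, Units.val_zpow_eq_zpow_val]
    rfl
  have h2 := congrArg (fun y => (φ y : GL D.Idx F)) h1
  simp only [map_mul, map_inv, Subgroup.coe_mul, Subgroup.coe_inv, hS.pos] at h2
  rw [show (φ z : GL D.Idx F) = hG g (D.simple (π i)) (f i t) * (hG g (D.simple (π i)) (f i 1))⁻¹
    from hS.map_hG h i ht, show hG g (D.simple (π i)) (f i t) =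
      hG g (D.simple (π i)) (Units.mk0 _ hpi : F) from rfl, show hG g (D.simple (π i)) (f i 1) =
      hG g (D.simple (π i)) (Units.mk0 _ hp1 : F) from rfl, hG_simple g, hG_simple g, ← map_inv,
    ← map_mul, ← Pi.mulSingle_inv, ← Pi.mulSingle_mul,
    tor_conj_xG g _ (g.simple_lt _ (π j).isLt), chi_single g] at h2
  rw [← ChevField.xG_inj h (g.simple_lt _ (π j).isLt) h2, Units.val_zpow_eq_zpow_val,
    Units.val_mul, Units.val_inv_eq_inv_val, div_eq_mul_inv]
  rfl

/-- The parameters at one node are a multiple of a field automorphism. -/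
theorem Shape.node_aut [Finite F] (hS : Shape h.good φ π f f') (i : Fin D.rank) :
    ∃ σ : F ≃+* F, ∀ t, f i t = f i 1 * σ t := by
  have g := h.good
  have ha := hS.f_ne h i (one_ne_zero (α := F))
  obtain ⟨σ, hσ⟩ := exists_ringEquiv (s := fun t => f i t / f i 1)
    (fun t u => by simp only [hS.f_add h, add_div]) (div_self ha)
    (fun t u e => hS.f_inj h i ((div_left_inj' ha).1 e)) (fun t u => by
      rcases eq_or_ne t 0 with rfl | ht
      · simp [hS.f_zero h]
      have := hS.torus h i i ht u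
      rw [g.cart_simple i i.isLt, g.cart_simple _ (π i).isLt, zpow_ofNat, zpow_ofNat, sq, sq] at this
      rw [this]
      ring)
  exact ⟨σ, fun t => by rw [hσ, mul_div_cancel₀ _ ha]⟩

/-- An edge of the diagram relates the field automorphisms. -/
theorem Shape.edge (hS : Shape h.good φ π f f') {i j : Fin D.rank} {σi σj : F ≃+* F}
    (hi : ∀ t, f i t = f i 1 * σi t) (hj : ∀ t, f j t = f j 1 * σj t) {k : ℕ} (hk : k ≠ 0)
    (hA : A.cart i (D.simple j) = -1) (hA' : A.cart (π i) (D.simple (π j)) = -(k : ℤ)) (t : F) :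
    σj t = σi t ^ k := by
  rcases eq_or_ne t 0 with rfl | ht
  · simp [zero_pow hk]
  have := hS.torus h i j ht 1
  rw [mul_one, hA, hA', hj, hi t, mul_div_cancel_left₀ _ (hS.f_ne h i one_ne_zero), _root_.zpow_neg_one,
    map_inv₀, _root_.zpow_neg, zpow_natCast] at this
  exact inv_injective (mul_left_cancel₀ (hS.f_ne h j (one_ne_zero (α := F)))
    (this.trans (mul_comm _ _)))

/-- A shape respects the orders of products of two fundamental reflections. -/
theorem Shape.cox_eq (hS : Shape h.good φ π f f') {M : Fin D.rank → Fin D.rank → ℕ}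
    (hc : coxCheck D A M = true) (i j : Fin D.rank) : M (π i) (π j) = M i j := by
  have g := h.good
  have hdvd : ∀ i j : Fin D.rank, M (π i) (π j) ∣ M i j := by
    intro i j
    rw [← orderOf_of_check g hc i j, ← orderOf_of_check g hc]
    refine orderOf_dvd_of_pow_eq_one ?_
    set k := orderOf (wS g i * wS g j)
    let n : Fin D.rank → ↥(D.monomialSubgroup F) := fun a => ⟨nS F g a, nS_mem_monomial g a.isLt⟩
    have hle : D.monomialSubgroup F ≤ D.group F := monomialSubgroup_le_group g
    have h1 : (((n i * n j) ^ k : ↥(D.monomialSubgroup F)) : GL D.Idx F) ∈ D.diagonalSubgroup F := by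
      rw [← Subgroup.mem_subgroupOf, ← weylHom_ker h, MonoidHom.mem_ker, map_pow, map_mul,
        weylHom_nS, weylHom_nS]
      exact pow_orderOf_eq_one _
    set m : Fin D.rank → ↥(D.monomialSubgroup F) := fun a =>
      ⟨(φ ⟨nS F g a, hle (nS_mem_monomial g a.isLt)⟩ : GL D.Idx F), by
        have := hS.map_nG h a (one_ne_zero (α := F)) (hm := hle (nS_mem_monomial g a.isLt))
        rw [show (φ ⟨nS F g a, hle (nS_mem_monomial g a.isLt)⟩ : GL D.Idx F) =
          nG g (D.simple (π a)) (f a 1) from this, nG_eq_hG g (g.simple_lt _ (π a).isLt)]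
        exact mul_mem (dia_le_mono g (hG_mem_diag g (π a).isLt (hS.f_ne h a one_ne_zero)))
          (nS_mem_monomial g (π a).isLt)⟩
    have hm : ∀ a, weylHom F g (m a) = wS g (π a) := by
      intro a
      have e : m a = ⟨hG g (D.simple (π a)) (f a 1), dia_le_mono g
          (hG_mem_diag g (π a).isLt (hS.f_ne h a one_ne_zero))⟩ * n (π a) := Subtype.ext (by
        show (φ ⟨nS F g a, _⟩ : GL D.Idx F) = hG g _ _ * nS F g (π a)
        rw [show nS F g (π a) = nG g (D.simple (π a)) 1 from rfl, ← nG_eq_hG g (g.simple_lt _ (π a).isLt)]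
        exact hS.map_nG h a (one_ne_zero (α := F)) (hm := hle (nS_mem_monomial g a.isLt)))
      have hk : (⟨hG g (D.simple (π a)) (f a 1), dia_le_mono g (hG_mem_diag g (π a).isLt
          (hS.f_ne h a one_ne_zero))⟩ : ↥(D.monomialSubgroup F)) ∈ (weylHom F g).ker := by
        rw [weylHom_ker h]
        exact Subgroup.mem_subgroupOf.2 (hG_mem_diag g (π a).isLt (hS.f_ne h a one_ne_zero))
      rw [e, map_mul, weylHom_nS, MonoidHom.mem_ker.1 hk, one_mul]
    rw [← hm, ← hm, ← map_mul, ← map_pow, ← MonoidHom.mem_ker, weylHom_ker h,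
      Subgroup.mem_subgroupOf]
    have h2 := hS.map_diag h (y := ⟨_, hle ((n i * n j) ^ k).2⟩) h1
    rw [show (⟨_, hle ((n i * n j) ^ k).2⟩ : ↥(D.group F)) =
      (⟨nS F g i, hle (n i).2⟩ * ⟨nS F g j, hle (n j).2⟩) ^ k from Subtype.ext (by simp [n]),
      map_pow, map_mul] at h2
    simpa [m] using h2
  have hpos : ∀ a b, 0 < M a b := fun a b => by
    simp only [coxCheck, List.all_eq_true, List.mem_finRange, forall_const, Bool.and_eq_true,
      decide_eq_true_eq] at hc
    exact (hc a b).1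
  have hle : ∀ p ∈ (Finset.univ : Finset (Fin D.rank × Fin D.rank)),
      M (π p.1) (π p.2) ≤ M p.1 p.2 := fun p _ => Nat.le_of_dvd (hpos _ _) (hdvd _ _)
  exact (Finset.sum_eq_sum_iff_of_le hle).1
    ((Equiv.prodCongr π π).sum_comp fun p => M p.1 p.2) (i, j) (Finset.mem_univ _)

end

end CfsgLib.KnownB.ChevAutThm
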