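import Mathlib

/-!
Self-adjoint units are norms: in a finite ring with an involutive anti-automorphism and an element `θ` with
`θ + θ* = 1` and `θ - θ*` invertible, every commuting self-adjoint unit has the form `c* c`.
-/

set_option autoImplicit false

namespace CfsgLib.KnownB.NormTrick

universe u

theorem field_step {E : Type u} [Field E] [Finite E] {ν e : E} (hd : 1 - 4 * ν ≠ 0) (he : e ≠ 0) :
    ∃ a b : E, a ^ 2 + a * b + ν * b ^ 2 = e := by
  classical
  rcases eq_or_ne (2 : E) 0 with h2 | h2
  · have : CharP E 2 := CharTwo.of_one_ne_zero_of_two_eq_zero one_ne_zero h2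
    have := Fintype.ofFinite E
    obtain ⟨r, rfl⟩ := FiniteField.isSquare_of_char_two (ringChar.eq E 2) e
    exact ⟨r, 0, by ring⟩
  · let := Fintype.ofFinite E
    have hodd : Fintype.card E % 2 = 1 := by
      refine FiniteField.odd_card_of_char_ne_two fun hc => h2 ?_
      have := ringChar.Nat.cast_ringChar (R := E)
      rw [hc] at this
      exact_mod_cast this
    have h4 : (4 : E) ≠ 0 := by
      rw [show (4 : E) = 2 * 2 by norm_num]
      exact mul_ne_zero h2 h2
    obtain ⟨x, y, hxy⟩ := FiniteField.exists_root_sum_quadratic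
      (f := (Polynomial.X ^ 2 - Polynomial.C (4 * e) : Polynomial E))
      (g := Polynomial.C (-(1 - 4 * ν)) * Polynomial.X ^ 2)
      (Polynomial.degree_X_pow_sub_C two_pos _) (Polynomial.degree_C_mul_X_pow 2 (neg_ne_zero.2 hd)) hodd
    simp only [Polynomial.eval_sub, Polynomial.eval_pow, Polynomial.eval_X, Polynomial.eval_C,
      Polynomial.eval_mul] at hxy
    refine ⟨(x - y) / 2, y, ?_⟩
    field_simp
    linear_combination hxy

theorem nil_step {R : Type u} [CommRing R] (ν : R) {e : R} (he : IsNilpotent e) :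
    ∃ k : R, k + ν * k ^ 2 = e := by
  obtain ⟨N, hN⟩ := he
  let K : ℕ → R := Nat.rec 0 fun _ k => e - ν * k ^ 2
  have hs : ∀ n, K (n + 1) = e - ν * K n ^ 2 := fun n => rfl
  have hdiv : ∀ n, e ∣ K n := fun n => by
    induction n with
    | zero => exact dvd_zero e
    | succ n ih =>
      rw [hs]
      exact dvd_sub dvd_rfl (dvd_mul_of_dvd_right (dvd_pow ih two_ne_zero) ν)
  have hd : ∀ n, e ^ (n + 1) ∣ K (n + 1) - K n := fun n => by
    induction n with
    | zero => exact ⟨1, by simp [K]⟩
    | succ n ih =>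
      rw [hs (n + 1), hs n, show e - ν * K (n + 1) ^ 2 - (e - ν * K n ^ 2) =
        -ν * ((K (n + 1) + K n) * (K (n + 1) - K n)) by ring, pow_succ']
      exact Dvd.dvd.mul_left (mul_dvd_mul (dvd_add (hdiv (n + 1)) (hdiv n)) ih) (-ν)
  refine ⟨K N, ?_⟩
  obtain ⟨c, hc⟩ := hd N
  rw [hs, show e ^ (N + 1) = 0 by rw [pow_succ', hN, mul_zero], zero_mul] at hc
  linear_combination -hc

theorem ring_step {R : Type u} [CommRing R] [Finite R] {ν u : R} (hd : IsUnit (1 - 4 * ν)) (hu : IsUnit u) :
    ∃ x y : R, x ^ 2 + x * y + ν * y ^ 2 = u := by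
  classical
  let I := {J : Ideal R // J.IsMaximal}
  haveI : Finite (Ideal R) := Finite.of_injective (fun J : Ideal R => (J : Set R)) SetLike.coe_injective
  have hcop : Pairwise (Function.onFun IsCoprime fun i : I => i.1) := fun i j hij =>
    Ideal.isCoprime_iff_sup_eq.2 (i.2.coprime_of_ne j.2 fun h => hij (Subtype.ext h))
  have hres : ∀ i : I, ∃ a b : R, a ^ 2 + a * b + ν * b ^ 2 - u ∈ i.1 := by
    intro i
    haveI := i.2
    haveI : Finite (R ⧸ i.1) := Finite.of_surjective _ Ideal.Quotient.mk_surjective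
    let := Ideal.Quotient.field i.1
    obtain ⟨a, b, hab⟩ := field_step (E := R ⧸ i.1) (ν := Ideal.Quotient.mk _ ν) (e := Ideal.Quotient.mk _ u)
      (by
        have := (hd.map (Ideal.Quotient.mk i.1)).ne_zero
        rwa [map_sub, map_one, map_mul, map_ofNat] at this)
      (hu.map _).ne_zero
    obtain ⟨a, rfl⟩ := Ideal.Quotient.mk_surjective a
    obtain ⟨b, rfl⟩ := Ideal.Quotient.mk_surjective b
    refine ⟨a, b, Ideal.Quotient.eq.1 ?_⟩
    simpa using hab
  choose A B hAB using hres
  obtain ⟨x, hx⟩ := Ideal.exists_forall_sub_mem_ideal hcop A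
  obtain ⟨y, hy⟩ := Ideal.exists_forall_sub_mem_ideal hcop B
  set z := x ^ 2 + x * y + ν * y ^ 2 with hz
  have hnil : IsNilpotent (z - u) := by
    refine nilpotent_iff_mem_prime.2 fun J hJ => ?_
    haveI := hJ
    have hmax : J.IsMaximal := IsArtinianRing.isMaximal_of_isPrime J
    let i : I := ⟨J, hmax⟩
    have h1 : Ideal.Quotient.mk J x = Ideal.Quotient.mk J (A i) := Ideal.Quotient.eq.2 (hx i)
    have h2 : Ideal.Quotient.mk J y = Ideal.Quotient.mk J (B i) := Ideal.Quotient.eq.2 (hy i)
    have h3 : Ideal.Quotient.mk J (A i ^ 2 + A i * B i + ν * B i ^ 2) = Ideal.Quotient.mk J u :=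
      Ideal.Quotient.eq.2 (hAB i)
    refine Ideal.Quotient.eq.1 ?_
    rw [← h3, hz]
    simp only [map_add, map_mul, map_pow, h1, h2]
  have hzu : IsUnit z := by
    rw [show z = u + (z - u) by ring]
    exact IsNilpotent.isUnit_add_left_of_commute hnil hu (Commute.all _ _)
  obtain ⟨k, hk⟩ := nil_step ν (e := -((z - u) * ((hzu.unit⁻¹ : Rˣ) : R)))
    ((Commute.all _ _).isNilpotent_mul_right hnil).neg
  refine ⟨x - ν * y * k, y + x * k + y * k, ?_⟩
  have hinv : ((hzu.unit⁻¹ : Rˣ) : R) * z = 1 := hzu.val_inv_mul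
  have hzk : z * (1 + k + ν * k ^ 2) = u := by
    linear_combination z * hk - (z - u) * hinv
  rw [← hzk, hz]
  ring

/-- An anti-automorphism of order at most two. -/
structure IsInvol {S : Type u} [Ring S] (st : S → S) : Prop where
  map_add : ∀ x y, st (x + y) = st x + st y
  map_mul : ∀ x y, st (x * y) = st y * st x
  map_one : st 1 = 1
  invol : ∀ x, st (st x) = x

/-- A commuting self-adjoint unit is `c* c`, with `c` commuting with everything that commutes with the data. -/
theorem exists_factor {S : Type u} [Ring S] [Finite S] {st : S → S} (h : IsInvol st) {a θ : S} (ha : st a = a)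
    (hau : IsUnit a) (hθa : Commute θ a) (hθθ : Commute θ (st θ))
    (hθ1 : θ + st θ = 1) (hθd : IsUnit (θ - st θ)) :
    ∃ c : S, IsUnit c ∧ st c * c = a ∧ ∀ g, Commute g a → Commute g θ → Commute g (st θ) → Commute g c := by
  have hz : st 0 = 0 := by
    have := h.map_add 0 0
    rw [add_zero] at this
    exact left_eq_add.1 this
  have hneg : ∀ x, st (-x) = - st x := fun x => by
    have := h.map_add x (-x)
    rw [add_neg_cancel, hz] at this
    exact eq_neg_of_add_eq_zero_right this.symm
  set ν := θ * st θ with hν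
  have hθa' : Commute (st θ) a := by
    have := congrArg st hθa.eq
    rw [h.map_mul, h.map_mul, ha] at this
    exact this.symm
  have haν : Commute a ν := hθa.symm.mul_right hθa'.symm
  have hθν : Commute θ ν := (Commute.refl θ).mul_right hθθ
  set R := Subring.closure ({a, ν} : Set S) with hR
  have hcomm : ∀ x ∈ R, ∀ y ∈ R, x * y = y * x := by
    have hgen : ∀ g, Commute g a → Commute g ν → ∀ y ∈ R, Commute g y := fun g h1 h2 y hy => by
      induction hy using Subring.closure_induction with
      | mem z hz =>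
        rcases hz with rfl | hz
        · exact h1
        · rw [Set.mem_singleton_iff.1 hz]; exact h2
      | zero => exact Commute.zero_right g
      | one => exact Commute.one_right g
      | add x y _ _ hx hy => exact hx.add_right hy
      | neg x _ hx => exact hx.neg_right
      | mul x y _ _ hx hy => exact hx.mul_right hy
    intro x hx y hy
    exact (hgen x (hgen a (Commute.refl a) haν x hx).symm (hgen ν haν.symm (Commute.refl ν) x hx).symm y hy).eq
  have hcent : ∀ g, Commute g a → Commute g ν → ∀ y ∈ R, Commute g y := fun g h1 h2 y hy => by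
    induction hy using Subring.closure_induction with
    | mem z hz =>
      rcases hz with rfl | hz
      · exact h1
      · rw [Set.mem_singleton_iff.1 hz]; exact h2
    | zero => exact Commute.zero_right g
    | one => exact Commute.one_right g
    | add x y _ _ hx hy => exact hx.add_right hy
    | neg x _ hx => exact hx.neg_right
    | mul x y _ _ hx hy => exact hx.mul_right hy
  have hst : ∀ x ∈ R, st x = x := by
    intro x hx
    induction hx using Subring.closure_induction with
    | mem z hz' =>
      rcases hz' with rfl | hz'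
      · exact ha
      · rw [Set.mem_singleton_iff.1 hz', hν, h.map_mul, h.invol]
    | zero => exact hz
    | one => exact h.map_one
    | add x y _ _ hx hy => rw [h.map_add, hx, hy]
    | neg x _ hx => rw [hneg, hx]
    | mul x y hxR hyR hx hy => rw [h.map_mul, hx, hy, hcomm y hyR x hxR]
  let : CommRing R := { (inferInstance : Ring R) with mul_comm := fun x y => Subtype.ext (hcomm x x.2 y y.2) }
  have hunit : ∀ (x : S) (hx : x ∈ R), IsUnit x → IsUnit (⟨x, hx⟩ : R) := fun x hx hxu => by
    have hinj : Function.Injective fun y : R => (⟨x, hx⟩ : R) * y := fun y z hyz =>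
      Subtype.ext (hxu.mul_left_cancel (congrArg Subtype.val hyz))
    obtain ⟨y, hy⟩ := (Finite.injective_iff_surjective.1 hinj) 1
    exact IsUnit.of_mul_eq_one y hy
  have haR : a ∈ R := Subring.subset_closure (Or.inl rfl)
  have hνR : ν ∈ R := Subring.subset_closure (Or.inr rfl)
  have hd : IsUnit (1 - 4 * (⟨ν, hνR⟩ : R)) := by
    refine hunit _ (1 - 4 * (⟨ν, hνR⟩ : R)).2 ?_
    show IsUnit ((1 - 4 * (⟨ν, hνR⟩ : R) : R) : S)
    have e : ((1 - 4 * (⟨ν, hνR⟩ : R) : R) : S) = (θ - st θ) * (θ - st θ) := by
      have e1 : st θ = 1 - θ := eq_sub_of_add_eq' hθ1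
      rw [show (4 : R) = 1 + 1 + 1 + 1 by norm_num]
      simp only [AddSubgroupClass.coe_sub, Subring.coe_mul, Subring.coe_add, Subring.coe_one]
      rw [hν, e1]
      noncomm_ring
    rw [e]
    exact hθd.mul hθd
  obtain ⟨x, y, hxy⟩ := ring_step hd (hunit a haR hau)
  have hxy' : (x : S) * x + (x : S) * y + ν * ((y : S) * y) = a := by
    have := congrArg Subtype.val hxy
    simpa [sq] using this
  have hθR : ∀ z ∈ R, Commute θ z := hcent θ hθa hθν
  have e : st (x + θ * y) * ((x : S) + θ * y) = a := by
    rw [h.map_add, h.map_mul, hst x x.2, hst y y.2, add_mul, mul_add, mul_add, ← hxy']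
    have cx : θ * (x : S) = x * θ := (hθR x x.2).eq
    have cy : θ * (y : S) = y * θ := (hθR y y.2).eq
    have cs : ∀ z ∈ R, st θ * z = z * st θ := fun z hz => by
      rw [eq_sub_of_add_eq' hθ1, sub_mul, mul_sub, one_mul, mul_one, (hθR z hz).eq]
    have cxy : (y : S) * x = x * y := hcomm y y.2 x x.2
    have q1 : (x : S) * (θ * y) = θ * (x * y) := by rw [← mul_assoc, ← cx, mul_assoc]
    have q2 : (y : S) * st θ * x = st θ * (x * y) := by rw [← cs y y.2, mul_assoc, cxy]
    have q3 : (y : S) * st θ * (θ * y) = ν * (y * y) := by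
      rw [← cs y y.2, mul_assoc (st θ), ← mul_assoc (y : S) θ, ← cy, mul_assoc θ, ← mul_assoc, ← hθθ.eq, ← hν]
    rw [q1, q2, q3]
    have e2 : θ * ((x : S) * y) + st θ * (x * y) = x * y := by rw [← add_mul, hθ1, one_mul]
    linear_combination (norm := abel) e2
  refine ⟨x + θ * y, ?_, e, fun g h1 h2 h3 => ?_⟩
  · obtain ⟨b, hb⟩ := hau.exists_left_inv
    exact IsUnit.of_mul_eq_one_right (b * st (x + θ * y)) (by rw [mul_assoc, e, hb])
  · exact (hcent g h1 (h2.mul_right h3) x x.2).add_right (h2.mul_right (hcent g h1 (h2.mul_right h3) y y.2))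

end CfsgLib.KnownB.NormTrick
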