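import Cfsg.Agent.Lib.KnownB.NormTrick
import Cfsg.Agent.Lib.KnownB.PSLAut.Unitary
import Cfsg.Agent.Lib.Classical.UnitaryOrder

/-!
Conjugacy in unitary groups is controlled by the general linear group.
-/

set_option autoImplicit false

namespace CfsgLib.KnownB.UnitaryConj

open Matrix CfsgLib.KnownB.NormTrick

universe u

variable {K : Type u} [Field K] {n : ℕ}

local notation "Mn" => Matrix (Fin n) (Fin n) K

/-- The hermitian adjoint. -/
def adj (σ : K →+* K) (X : Mn) : Mn := (X.map σ)ᵀ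

variable {σ : K →+* K} (hσ2 : ∀ a, σ (σ a) = a)

include hσ2 in
theorem isInvol_adj : IsInvol (adj (n := n) σ) where
  map_add X Y := by ext i j; simp [adj]
  map_mul X Y := by rw [adj, Matrix.map_mul, Matrix.transpose_mul]; rfl
  map_one := by rw [adj, Matrix.map_one σ σ.map_zero σ.map_one, Matrix.transpose_one]
  invol X := by ext i j; simp [adj, hσ2]

theorem adj_scalar (a : K) : adj σ (Matrix.scalar (Fin n) a : Mn) = Matrix.scalar (Fin n) (σ a) := by
  ext i j
  rcases eq_or_ne i j with rfl | h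
  · simp [adj]
  · simp [adj, h, Ne.symm h]

theorem adj_smul (a : K) (X : Mn) : adj σ (a • X) = σ a • adj σ X := by
  ext i j
  simp [adj]

theorem isUnit_adj (g : GL (Fin n) K) : IsUnit (adj σ (g : Mn)) :=
  Matrix.isUnit_transpose _ |>.2 (g.isUnit.map (RingHom.mapMatrix σ))

theorem exists_theta (hσ : σ ≠ RingHom.id K) (hσ2 : ∀ a, σ (σ a) = a) :
    ∃ θ : K, θ + σ θ = 1 ∧ θ - σ θ ≠ 0 := by
  obtain ⟨θ, hθ⟩ := CfsgLib.Geometry.exists_trace_one hσ hσ2
  by_cases h : θ - σ θ ≠ 0
  · exact ⟨θ, hθ, h⟩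
  push Not at h
  obtain ⟨a, ha⟩ : ∃ a, σ a ≠ a := by
    by_contra hc
    exact hσ (RingHom.ext fun a => not_not.1 fun h' => hc ⟨a, h'⟩)
  have hθ2 : σ θ = θ := (sub_eq_zero.1 h).symm
  have h2 : (2 : K) ≠ 0 := fun h2 => one_ne_zero (α := K) (by linear_combination (-hθ) + θ * h2 + hθ2)
  refine ⟨θ + (a - σ a), ?_, ?_⟩
  · rw [map_add, map_sub, hσ2]
    linear_combination hθ
  · rw [map_add, map_sub, hσ2]
    intro h'
    refine mul_ne_zero h2 (sub_ne_zero.2 ha) ?_
    linear_combination h - h'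

/-- A self-adjoint unit is `c* c`, with `c` commuting with the commutant. -/
theorem factor [Finite K] (hσ : σ ≠ RingHom.id K) (hσ2 : ∀ a, σ (σ a) = a) {a : Mn}
    (ha : adj σ a = a) (hau : IsUnit a) :
    ∃ c : Mn, IsUnit c ∧ adj σ c * c = a ∧ ∀ g : Mn, Commute g a → Commute g c := by
  obtain ⟨θ, hθ1, hθd⟩ := exists_theta hσ hσ2
  have hc : ∀ (t : K) (g : Mn), Commute (Matrix.scalar (Fin n) t) g := fun t g =>
    Matrix.scalar_commute t (fun r => mul_comm _ r) g
  obtain ⟨c, h1, h2, h3⟩ := exists_factor (isInvol_adj (n := n) hσ2) (θ := Matrix.scalar (Fin n) θ) ha hau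
    (hc θ a) (by rw [adj_scalar]; exact hc θ _)
    (by rw [adj_scalar, ← map_add, hθ1, map_one])
    (by rw [adj_scalar, ← map_sub]; exact (isUnit_iff_ne_zero.2 hθd).map _)
  refine ⟨c, h1, h2, fun g hg => h3 g hg (hc θ g).symm ?_⟩
  rw [adj_scalar]
  exact (hc _ g).symm

theorem mem_GU_iff_adj (hσ2 : ∀ a, σ (σ a) = a) {q : ℕ} (hq : ∀ x, σ x = x ^ q) (g : GL (Fin n) K) :
    g ∈ Cfsg.GU n K q ↔ adj σ (g : Mn) * g = 1 := by
  let τ : K ≃+* K :=
    { toFun := σ
      invFun := σ
      left_inv := hσ2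
      right_inv := hσ2
      map_mul' := map_mul σ
      map_add' := map_add σ }
  rw [CfsgLib.KnownB.PSLAut.mem_GU_iff (σ := τ) (fun x => hq x)]
  constructor
  · intro h
    have h2 := congrArg (fun X : Mn => X.map σ) h
    simp only [Matrix.map_mul, Matrix.map_one σ σ.map_zero σ.map_one] at h2
    rw [show ((g : Mn).map τ).map σ = (g : Mn) by ext i j; exact hσ2 _, Matrix.transpose_map] at h2
    exact h2
  · intro h
    have h2 := congrArg (fun X : Mn => X.map σ) h
    simp only [adj, Matrix.map_mul, Matrix.map_one σ σ.map_zero σ.map_one] at h2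
    rw [Matrix.transpose_map, show ((g : Mn).map σ).map σ = (g : Mn) by ext i j; exact hσ2 _] at h2
    exact h2

/-- Elements of `GU` conjugate in `GL` are conjugate in `GU`. -/
theorem exists_unitary_conjugator [Finite K] (hσ : σ ≠ RingHom.id K) (hσ2 : ∀ a, σ (σ a) = a)
    {A B h : GL (Fin n) K} (hA : adj σ (A : Mn) * A = 1) (hB : adj σ (B : Mn) * B = 1) (hh : h * A = B * h) :
    ∃ u : GL (Fin n) K, adj σ (u : Mn) * u = 1 ∧ u * A = B * u := by
  have hI := isInvol_adj (n := n) hσ2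
  have hh' : (h : Mn) * A = B * h := congrArg Units.val hh
  have hA' : (A : Mn) * adj σ (A : Mn) = 1 := mul_eq_one_comm.1 hA
  have e1 : adj σ (A : Mn) * adj σ (h : Mn) = adj σ (h : Mn) * adj σ (B : Mn) := by
    rw [← hI.map_mul, hh', hI.map_mul]
  have hcomm : Commute (A : Mn) (adj σ (h : Mn) * h) := by
    have e2 : (A : Mn) * adj σ (h : Mn) = adj σ (h : Mn) * B := by
      calc (A : Mn) * adj σ (h : Mn) = A * (adj σ (h : Mn) * (adj σ (B : Mn) * B)) := by rw [hB, mul_one]
        _ = A * (adj σ (A : Mn) * adj σ (h : Mn)) * B := by rw [e1]; noncomm_ring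
        _ = adj σ (h : Mn) * B := by rw [← mul_assoc (A : Mn), hA', one_mul]
    show (A : Mn) * _ = _ * A
    rw [← mul_assoc, e2, mul_assoc, ← hh', ← mul_assoc]
  obtain ⟨c, hcu, hc, hcc⟩ := factor hσ hσ2 (a := adj σ (h : Mn) * (h : Mn)) (by rw [hI.map_mul, hI.invol])
    ((isUnit_adj h).mul h.isUnit)
  have hAc : A * hcu.unit = hcu.unit * A := Units.ext (hcc _ hcomm).eq
  refine ⟨h * hcu.unit⁻¹, ?_, ?_⟩
  · have hi : (c : Mn) * ((hcu.unit⁻¹ : GL (Fin n) K) : Mn) = 1 := hcu.mul_val_inv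
    rw [Units.val_mul, hI.map_mul, mul_assoc, ← mul_assoc (adj σ (h : Mn)), ← hc, mul_assoc, hi, mul_one,
      ← hI.map_mul, hi, hI.map_one]
  · rw [← mul_assoc B, ← hh, mul_assoc, mul_assoc h A, show A * hcu.unit⁻¹ = hcu.unit⁻¹ * A by
      rw [eq_inv_mul_iff_mul_eq, ← mul_assoc, ← hAc, mul_inv_cancel_right]]

/-- A matrix similar to the inverse of its adjoint is conjugate to a unitary matrix. -/
theorem exists_unitary_conj [Finite K] (hσ : σ ≠ RingHom.id K) (hσ2 : ∀ a, σ (σ a) = a) {A P : GL (Fin n) K}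
    (hP : adj σ (A : Mn) * P * A = P) : ∃ D : GL (Fin n) K, adj σ ((D * A * D⁻¹ : GL (Fin n) K) : Mn) * (D * A * D⁻¹ : GL (Fin n) K) = 1 := by
  classical
  have hI := isInvol_adj (n := n) hσ2
  have hz : adj σ (0 : Mn) = 0 := by ext i j; simp [adj]
  have hadjU : IsUnit (adj σ (P : Mn)) := isUnit_adj P
  have hP' : adj σ (A : Mn) * adj σ (P : Mn) * A = adj σ (P : Mn) := by
    conv_rhs => rw [← hP]
    rw [hI.map_mul, hI.map_mul, hI.invol, mul_assoc]
  set Pi : Mn := ((P⁻¹ : GL (Fin n) K) : Mn) with hPi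
  have hPPi : (P : Mn) * Pi = 1 := P.mul_inv
  have hPiP : Pi * (P : Mn) = 1 := P.inv_mul
  set Q : Mn := Pi * adj σ (P : Mn) with hQ
  have hPQ : (P : Mn) * Q = adj σ (P : Mn) := by rw [hQ, ← mul_assoc, hPPi, one_mul]
  have hQu : IsUnit Q := P⁻¹.isUnit.mul hadjU
  have hAQ : Commute (A : Mn) Q := by
    show (A : Mn) * Q = Q * A
    apply P.isUnit.mul_left_cancel
    apply (isUnit_adj A).mul_left_cancel
    calc adj σ (A : Mn) * ((P : Mn) * ((A : Mn) * Q)) = adj σ (A : Mn) * (P : Mn) * A * Q := by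
          simp only [mul_assoc]
      _ = adj σ (A : Mn) * adj σ (P : Mn) * A := by rw [hP, hP', hPQ]
      _ = adj σ (A : Mn) * ((P : Mn) * Q) * A := by rw [hPQ]
      _ = adj σ (A : Mn) * ((P : Mn) * (Q * A)) := by simp only [mul_assoc]
  obtain ⟨Qu, hQval⟩ := hQu
  set Qi : Mn := ((Qu⁻¹ : GL (Fin n) K) : Mn) with hQi
  have hQQi : Q * Qi = 1 := hQval ▸ Qu.mul_inv
  have hQiQ : Qi * Q = 1 := hQval ▸ Qu.inv_mul
  have hQstQ : adj σ Q * (P : Mn) * Q = P := by
    rw [mul_assoc, hPQ, ← hI.map_mul, hPQ, hI.invol]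
  -- the twisted involution `X ↦ P⁻¹ X* P`
  let bar : Mn → Mn := fun X => Pi * adj σ X * P
  have hbarmul : ∀ X Y, bar (X * Y) = bar Y * bar X := fun X Y => by
    show Pi * adj σ (X * Y) * (P : Mn) = Pi * adj σ Y * (P : Mn) * (Pi * adj σ X * (P : Mn))
    rw [hI.map_mul]
    calc Pi * (adj σ Y * adj σ X) * (P : Mn) = Pi * adj σ Y * ((P : Mn) * Pi) * adj σ X * P := by
          rw [hPPi]; noncomm_ring
      _ = _ := by noncomm_ring
  have hbar1 : bar 1 = 1 := by show Pi * adj σ 1 * (P : Mn) = 1; rw [hI.map_one, mul_one, hPiP]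
  have hbarQ : bar Q = Qi := by
    show Pi * adj σ Q * (P : Mn) = Qi
    calc Pi * adj σ Q * (P : Mn) = Pi * (adj σ Q * (P : Mn) * Q) * Qi := by
          simp only [mul_assoc, hQQi, mul_one]
      _ = Qi := by rw [hQstQ, hPiP, one_mul]
  have hbarQi : bar Qi = Q := by
    have h := hbarmul Q Qi
    rw [hQQi, hbar1, hbarQ] at h
    calc bar Qi = bar Qi * (Qi * Q) := by rw [hQiQ, mul_one]
      _ = Q := by rw [← mul_assoc, ← h, one_mul]
  have hbarscalar : ∀ t, bar (Matrix.scalar (Fin n) t) = Matrix.scalar (Fin n) (σ t) := fun t => by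
    show Pi * adj σ _ * (P : Mn) = _
    rw [adj_scalar, mul_assoc, (Matrix.scalar_commute (σ t) (fun r => mul_comm _ r) (P : Mn)).eq, ← mul_assoc, hPiP,
      one_mul]
  have hbaradd : ∀ X Y, bar (X + Y) = bar X + bar Y := fun X Y => by
    show Pi * adj σ (X + Y) * (P : Mn) = _
    rw [hI.map_add, mul_add, add_mul]
  have hbarinvol : ∀ X, bar (bar X) = Q * X * Qi := fun X => by
    show Pi * adj σ (Pi * adj σ X * (P : Mn)) * (P : Mn) = _
    rw [hI.map_mul, hI.map_mul, hI.invol]
    have e1 : adj σ Pi * (P : Mn) = Qi := by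
      calc adj σ Pi * (P : Mn) = adj σ Pi * (P : Mn) * Q * Qi := by rw [mul_assoc _ Q, hQQi, mul_one]
        _ = Qi := by rw [mul_assoc _ _ Q, hPQ, ← hI.map_mul, hPPi, hI.map_one, one_mul]
    rw [← e1, hQ]
    noncomm_ring
  -- the commutative ring generated by scalars and `Q`
  let gens : Set Mn := Set.range (Matrix.scalar (Fin n) : K → Mn) ∪ {Q, Qi}
  let R := Subring.closure gens
  have hgcomm : ∀ x ∈ gens, ∀ y ∈ gens, x * y = y * x := by
    rintro x (⟨t, rfl⟩ | hx) y hy
    · exact (Matrix.scalar_commute t (fun r => mul_comm _ r) y).eq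
    rcases hy with ⟨t, rfl⟩ | hy
    · exact (Matrix.scalar_commute t (fun r => mul_comm _ r) x).eq.symm
    simp only [Set.mem_insert_iff, Set.mem_singleton_iff] at hx hy
    rcases hx with rfl | rfl <;> rcases hy with rfl | rfl <;> first | rfl | simp [hQQi, hQiQ]
  let : CommRing R := Subring.closureCommRingOfComm hgcomm
  have hbarR : ∀ x ∈ R, bar x ∈ R := by
    intro x hx
    induction hx using Subring.closure_induction with
    | mem z hz' =>
      rcases hz' with ⟨t, rfl⟩ | hz'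
      · rw [hbarscalar]; exact Subring.subset_closure (Or.inl ⟨_, rfl⟩)
      · rcases hz' with rfl | hz'
        · rw [hbarQ]; exact Subring.subset_closure (Or.inr (Or.inr rfl))
        · rw [Set.mem_singleton_iff.1 hz', hbarQi]; exact Subring.subset_closure (Or.inr (Or.inl rfl))
    | zero => show Pi * adj σ 0 * (P : Mn) ∈ R; rw [hz, mul_zero, zero_mul]; exact zero_mem R
    | one => rw [hbar1]; exact one_mem R
    | add x y _ _ hx hy => rw [hbaradd]; exact add_mem hx hy
    | neg x _ hx =>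
      have : bar (-x) = - bar x := by
        show Pi * adj σ (-x) * (P : Mn) = -(Pi * adj σ x * (P : Mn))
        rw [show adj σ (-x) = - adj σ x by ext i j; simp [adj], mul_neg, neg_mul]
      rw [this]; exact neg_mem hx
    | mul x y _ _ hx hy => rw [hbarmul]; exact mul_mem hy hx
  have hQR : Q ∈ R := Subring.subset_closure (Or.inr (Or.inl rfl))
  have hQiR : Qi ∈ R := Subring.subset_closure (Or.inr (Or.inr rfl))
  let st : R → R := fun x => ⟨bar x, hbarR x x.2⟩
  have hst : IsInvol st := by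
    refine ⟨fun x y => Subtype.ext (hbaradd _ _), fun x y => Subtype.ext (hbarmul _ _), Subtype.ext hbar1, fun x => Subtype.ext ?_⟩
    show bar (bar x) = x
    rw [hbarinvol, show Q * (x : Mn) = x * Q from congrArg Subtype.val (mul_comm (⟨Q, hQR⟩ : R) x),
      mul_assoc, hQQi, mul_one]
  let stH : Rˣ →* Rˣ :=
    { toFun := fun x =>
        { val := st x
          inv := st ((x⁻¹ : Rˣ) : R)
          val_inv := by rw [← hst.map_mul, x.inv_mul, hst.map_one]
          inv_val := by rw [← hst.map_mul, x.mul_inv, hst.map_one] }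
      map_one' := Units.ext hst.map_one
      map_mul' := fun x y => Units.ext (by
        show st (x * y : R) = st x * st y
        rw [hst.map_mul, mul_comm]) }
  let N : Rˣ →* Rˣ := MonoidHom.id _ * stH
  let T : Rˣ →* Rˣ := MonoidHom.id _ / stH
  have hTN : T.range ≤ N.ker := by
    rintro _ ⟨x, rfl⟩
    have : stH (stH x) = x := Units.ext (hst.invol x)
    rw [MonoidHom.mem_ker]
    show x / stH x * stH (x / stH x) = 1
    rw [map_div, this, div_mul_div_cancel, div_self']
  obtain ⟨θ, hθ1, hθd⟩ := exists_theta hσ hσ2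
  have hTker : T.ker ≤ N.range := by
    intro x hx
    have hx' : stH x = x := (div_eq_one.1 (MonoidHom.mem_ker.1 hx)).symm
    let θR : R := ⟨Matrix.scalar (Fin n) θ, Subring.subset_closure (Or.inl ⟨θ, rfl⟩)⟩
    obtain ⟨c, hc, hcx, -⟩ := exists_factor hst (a := (x : R)) (θ := θR) (congrArg Units.val hx') x.isUnit
      (Commute.all _ _) (Commute.all _ _)
      (Subtype.ext (by show Matrix.scalar (Fin n) θ + bar _ = 1; rw [hbarscalar, ← map_add, hθ1, map_one]))
      (by
        let d : K := θ - σ θ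
        refine ⟨⟨θR - st θR, ⟨Matrix.scalar (Fin n) d⁻¹, Subring.subset_closure (Or.inl ⟨_, rfl⟩)⟩,
          Subtype.ext ?_, Subtype.ext ?_⟩, rfl⟩
        · show (Matrix.scalar (Fin n) θ - bar _) * Matrix.scalar (Fin n) d⁻¹ = 1
          rw [hbarscalar, ← map_sub, ← map_mul, mul_inv_cancel₀ hθd, map_one]
        · show Matrix.scalar (Fin n) d⁻¹ * (Matrix.scalar (Fin n) θ - bar _) = 1
          rw [hbarscalar, ← map_sub, ← map_mul, inv_mul_cancel₀ hθd, map_one])
    exact ⟨hc.unit, Units.ext (by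
      show (hc.unit : R) * st hc.unit = x
      rw [IsUnit.unit_spec, mul_comm]; exact hcx)⟩
  have heq : T.range = N.ker := by
    refine Subgroup.eq_of_le_of_card_ge hTN ?_
    have h1 := T.ker.index_mul_card
    have h2 := N.ker.index_mul_card
    rw [Subgroup.index_ker] at h1 h2
    have h3 : Nat.card T.ker ≤ Nat.card N.range := Subgroup.card_le_of_le hTker
    have h4 : 0 < Nat.card N.range := Nat.card_pos
    by_contra hlt
    push Not at hlt
    have : Nat.card T.range * Nat.card T.ker < Nat.card N.ker * Nat.card N.range :=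
      Nat.mul_lt_mul_of_lt_of_le hlt h3 h4
    rw [mul_comm (Nat.card N.ker)] at this
    omega
  let QR : Rˣ := ⟨⟨Q, hQR⟩, ⟨Qi, hQiR⟩, Subtype.ext hQQi, Subtype.ext hQiQ⟩
  have hQN : QR ∈ N.ker := by
    rw [MonoidHom.mem_ker]
    refine Units.ext (Subtype.ext ?_)
    show Q * bar Q = 1
    rw [hbarQ, hQQi]
  rw [← heq] at hQN
  obtain ⟨f, hf⟩ := hQN
  have hf' : ((f : R) : Mn) = Q * bar ((f : R) : Mn) := by
    have h := congrArg Units.val (show f = QR * stH f by rw [← hf]; simp [T])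
    exact congrArg Subtype.val h
  set J : Mn := (P : Mn) * ((f : R) : Mn) with hJ
  have hJh : J = (J.map σ)ᵀ := by
    show J = adj σ J
    rw [hJ, hI.map_mul]
    conv_lhs => rw [hf']
    show (P : Mn) * (Q * (Pi * adj σ ((f : R) : Mn) * P)) = _
    have hcm : Q * (Pi * adj σ ((f : R) : Mn) * P) = (Pi * adj σ ((f : R) : Mn) * P) * Q :=
      congrArg Subtype.val (mul_comm (⟨Q, hQR⟩ : R) (st f))
    rw [hcm]
    calc (P : Mn) * (Pi * adj σ ((f : R) : Mn) * P * Q) = ((P : Mn) * Pi) * adj σ ((f : R) : Mn) * ((P : Mn) * Q) := by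
          noncomm_ring
      _ = _ := by rw [hPPi, one_mul, hPQ]
  let τ : K ≃+* K :=
    { toFun := σ
      invFun := σ
      left_inv := hσ2
      right_inv := hσ2
      map_mul' := map_mul σ
      map_add' := map_add σ }
  obtain ⟨D', hD'⟩ := CfsgLib.KnownB.Descent.hermitian_factor (σ := τ)
    (fun h => hσ (RingHom.ext fun x => DFunLike.congr_fun h x)) hσ2
    (P.isUnit.mul (f.isUnit.map R.subtype)) hJh
  have hAQi : Commute (A : Mn) Qi := by
    have h1 : A * Qu = Qu * A := Units.ext (by rw [Units.val_mul, Units.val_mul, hQval]; exact hAQ.eq)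
    exact congrArg Units.val (show A * Qu⁻¹ = Qu⁻¹ * A by
      rw [eq_inv_mul_iff_mul_eq, ← mul_assoc, ← h1, mul_inv_cancel_right])
  have hfA : Commute (A : Mn) ((f : R) : Mn) := by
    have hall : ∀ y ∈ R, Commute (A : Mn) y := by
      intro y hy
      induction hy using Subring.closure_induction with
      | mem z hz' =>
        rcases hz' with ⟨t, rfl⟩ | hz'
        · exact (Matrix.scalar_commute t (fun r => mul_comm _ r) (A : Mn)).symm
        · rcases hz' with rfl | hz'
          · exact hAQ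
          · rw [Set.mem_singleton_iff.1 hz']; exact hAQi
      | zero => exact Commute.zero_right _
      | one => exact Commute.one_right _
      | add x y _ _ hx hy => exact hx.add_right hy
      | neg x _ hx => exact hx.neg_right
      | mul x y _ _ hx hy => exact hx.mul_right hy
    exact hall _ (f : R).2
  have hAJA : adj σ (A : Mn) * J * A = J := by
    rw [hJ, ← mul_assoc, mul_assoc _ _ (A : Mn), ← hfA.eq, ← mul_assoc, hP]
  refine ⟨(Matrix.GeneralLinearGroup.map (τ : K →+* K) (CfsgLib.KnownB.PSLAut.itGL D'))⁻¹, ?_⟩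
  set D := (Matrix.GeneralLinearGroup.map (τ : K →+* K) (CfsgLib.KnownB.PSLAut.itGL D'))⁻¹ with hDdef
  have hDval : (D : Mn) = adj σ (D' : Mn) := by
    rw [hDdef, ← map_inv, CfsgLib.KnownB.PSLAut.map_coe, CfsgLib.KnownB.PSLAut.itGL_inv_coe, Matrix.transpose_map]
    rfl
  have hDD : adj σ (D : Mn) * D = J := by
    rw [hDval, hI.invol]
    exact hD'.symm
  set Di : Mn := ((D⁻¹ : GL (Fin n) K) : Mn) with hDi
  rw [Units.val_mul, Units.val_mul, hI.map_mul, hI.map_mul]
  calc adj σ Di * (adj σ (A : Mn) * adj σ (D : Mn)) * ((D : Mn) * A * Di)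
      = adj σ Di * (adj σ (A : Mn) * (adj σ (D : Mn) * D) * A) * Di := by noncomm_ring
    _ = adj σ Di * (adj σ (D : Mn) * D) * Di := by rw [hDD, hAJA]
    _ = adj σ ((D : Mn) * Di) * ((D : Mn) * Di) := by rw [hI.map_mul]; noncomm_ring
    _ = 1 := by rw [D.mul_inv, hI.map_one, one_mul]

end CfsgLib.KnownB.UnitaryConj
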