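import Cfsg.Prelude.Def_JordanBlocks
import Mathlib

/-!
Jordan types of unipotent matrices: existence, the rank sequence, uniqueness.
-/

set_option autoImplicit false
set_option linter.unusedSectionVars false

namespace CfsgLib.KnownB.Jordan

open Polynomial Module Matrix
open scoped DirectSum

variable {F : Type*} [Field F]

theorem aeval_shift {V : Type*} [AddCommGroup V] [Module F V] (N : Module.End F V) (m : ℕ) (v : V) :
    N ((N ^ m) v) = (N ^ (m + 1)) v := by
  rw [pow_succ' N m, Module.End.mul_apply]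

/-- A nilpotent operator has a basis of chains. -/
theorem exists_chains {V : Type*} [AddCommGroup V] [Module F V] [FiniteDimensional F V] (N : Module.End F V)
    (hN : IsNilpotent N) :
    ∃ (t : ℕ) (d : Fin t → ℕ) (b : Basis ((k : Fin t) × Fin (d k)) F V), (∀ k, 1 ≤ d k) ∧
      ∀ x : (k : Fin t) × Fin (d k), N (b x) =
        if h : (x.2 : ℕ) + 1 < d x.1 then b ⟨x.1, ⟨x.2 + 1, h⟩⟩ else 0 := by
  classical
  obtain ⟨ι, hι, p, hp, e, ⟨E⟩⟩ := Module.equiv_directSum_of_isTorsion (R := F[X]) (M := AEval' N)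
    (Module.AEval.isTorsion_of_finiteDimensional F V N)
  let E' : AEval' N ≃ₗ[F[X]] ((i : ι) → F[X] ⧸ F[X] ∙ (p i ^ e i)) :=
    E.trans (DirectSum.linearEquivFunOnFintype F[X] ι _)
  let Φ : V ≃ₗ[F] ((i : ι) → F[X] ⧸ F[X] ∙ (p i ^ e i)) := (AEval'.of N).trans (E'.restrictScalars F)
  have hΦ : ∀ (f : F[X]) (v : V), Φ (aeval N f v) = f • Φ v := by
    intro f v
    show E' (AEval'.of N (aeval N f v)) = f • E' (AEval'.of N v)
    rw [← map_smul]
    exact congrArg E' (Module.AEval.of_aeval_smul N f v)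
  obtain ⟨m, hm⟩ := hN
  -- the nontrivial summands are powers of `X`
  have hX : ∀ i, e i ≠ 0 → Associated (p i ^ e i) (X ^ e i) := by
    intro i hi
    have h1 : (X : F[X]) ^ m • Φ (Φ.symm (Pi.single i (Submodule.Quotient.mk 1))) = 0 := by
      rw [← hΦ, map_pow, aeval_X, hm]
      simp
    rw [LinearEquiv.apply_symm_apply] at h1
    have h2 := congrFun h1 i
    rw [Pi.smul_apply, Pi.single_eq_same, ← Submodule.Quotient.mk_smul, smul_eq_mul, mul_one, Pi.zero_apply,
      Submodule.Quotient.mk_eq_zero, Ideal.mem_span_singleton] at h2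
    have h3 : p i ∣ X := (hp i).prime.dvd_of_dvd_pow ((dvd_pow_self _ hi).trans h2)
    exact ((hp i).associated_of_dvd irreducible_X h3).pow_pow
  set t := Fintype.card {i // e i ≠ 0}
  let idx : Fin t ≃ {i // e i ≠ 0} := (Fintype.equivFin _).symm
  let d : Fin t → ℕ := fun k => e (idx k).1
  let w : Fin t → V := fun k => Φ.symm (Pi.single (idx k).1 (Submodule.Quotient.mk 1))
  let b0 : ((k : Fin t) × Fin (d k)) → V := fun x => (N ^ (x.2 : ℕ)) (w x.1)
  have hb0 : ∀ x, Φ (b0 x) = Pi.single (idx x.1).1 (Submodule.Quotient.mk (X ^ (x.2 : ℕ))) := by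
    intro x
    show Φ ((N ^ (x.2 : ℕ)) (w x.1)) = _
    rw [show (N ^ (x.2 : ℕ)) = aeval N ((X : F[X]) ^ (x.2 : ℕ)) by simp, hΦ, LinearEquiv.apply_symm_apply,
      ← Pi.single_smul, ← Submodule.Quotient.mk_smul, smul_eq_mul, mul_one]
  have hcomp : ∀ (c : ((k : Fin t) × Fin (d k)) → F) (k : Fin t),
      Φ (∑ x, c x • b0 x) (idx k).1 = Submodule.Quotient.mk (∑ j : Fin (d k), c ⟨k, j⟩ • (X : F[X]) ^ (j : ℕ)) := by
    intro c k
    have e2 : Φ (∑ x, c x • b0 x) (idx k).1 = ∑ x, c x • (Φ (b0 x) (idx k).1) := by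
      rw [map_sum, Finset.sum_apply]
      simp only [map_smul, Pi.smul_apply]
    rw [e2, Fintype.sum_sigma, Finset.sum_eq_single k]
    · refine Eq.trans (Finset.sum_congr rfl fun j _ => ?_) (map_sum ((F[X] ∙ (p (idx k).1 ^ e (idx k).1)).mkQ) _ _).symm
      rw [hb0, Pi.single_eq_same]
      rfl
    · intro k' _ hk'
      refine Finset.sum_eq_zero fun j _ => ?_
      rw [hb0, Pi.single_eq_of_ne (fun h => hk' (idx.injective (Subtype.ext h.symm))), smul_zero]
    · simp
  have hli : LinearIndependent F b0 := by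
    rw [Fintype.linearIndependent_iff]
    intro c hc
    rintro ⟨k, j⟩
    have h := hcomp c k
    rw [hc, map_zero, Pi.zero_apply, eq_comm, Submodule.Quotient.mk_eq_zero, Ideal.mem_span_singleton] at h
    have h' := (hX (idx k).1 (idx k).2).dvd_iff_dvd_left.1 h
    rw [X_pow_dvd_iff] at h'
    have h'' := h' (j : ℕ) j.2
    simp only [finsetSum_coeff, coeff_smul, coeff_X_pow, smul_eq_mul, mul_ite, mul_one, mul_zero, Fin.val_inj,
      Finset.sum_ite_eq, Finset.mem_univ, if_true] at h''
    exact h''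
  have hsp : ⊤ ≤ Submodule.span F (Set.range b0) := by
    intro v _
    choose r hr using fun k : Fin t => Submodule.Quotient.mk_surjective _ (Φ v (idx k).1)
    have hv : v = ∑ x, ((r x.1).coeff (x.2 : ℕ)) • b0 x := by
      apply Φ.injective
      funext i
      by_cases hi : e i = 0
      · have hz : ∀ z : F[X] ⧸ F[X] ∙ (p i ^ e i), z = 0 := by
          intro z
          obtain ⟨s, rfl⟩ := Submodule.Quotient.mk_surjective _ z
          rw [Submodule.Quotient.mk_eq_zero, Ideal.mem_span_singleton, hi, pow_zero]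
          exact one_dvd _
        rw [hz (Φ v i), hz (Φ _ i)]
      obtain ⟨k, hk⟩ := idx.surjective ⟨i, hi⟩
      have hki : (idx k).1 = i := congrArg Subtype.val hk
      subst hki
      rw [hcomp _ k, ← hr k, Submodule.Quotient.eq, Ideal.mem_span_singleton, (hX (idx k).1 (idx k).2).dvd_iff_dvd_left,
        X_pow_dvd_iff]
      intro l hl
      simp only [coeff_sub, finsetSum_coeff, coeff_smul, coeff_X_pow, smul_eq_mul, mul_ite, mul_one, mul_zero]
      rw [Finset.sum_eq_single (⟨l, hl⟩ : Fin (d k))]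
      · simp
      · intro j _ hj
        rw [if_neg (fun h => hj (Fin.ext h.symm))]
      · simp
    rw [hv]
    exact Submodule.sum_mem _ fun x _ => Submodule.smul_mem _ _ (Submodule.subset_span ⟨x, rfl⟩)
  refine ⟨t, d, Basis.mk hli hsp, fun k => Nat.one_le_iff_ne_zero.2 (idx k).2, fun x => ?_⟩
  rw [Basis.mk_apply]
  show N ((N ^ (x.2 : ℕ)) (w x.1)) = _
  rw [aeval_shift]
  split_ifs with h
  · rw [Basis.mk_apply]
  · apply Φ.injective
    rw [map_zero, show (N ^ ((x.2 : ℕ) + 1)) = aeval N ((X : F[X]) ^ ((x.2 : ℕ) + 1)) by simp, hΦ,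
      LinearEquiv.apply_symm_apply, ← Pi.single_smul, ← Submodule.Quotient.mk_smul, smul_eq_mul, mul_one]
    rw [Pi.single_eq_zero_iff, Submodule.Quotient.mk_eq_zero, Ideal.mem_span_singleton,
      (hX (idx x.1).1 (idx x.1).2).dvd_iff_dvd_left]
    exact pow_dvd_pow _ (by
      show d x.1 ≤ (x.2 : ℕ) + 1
      omega)

variable {ι : Type*} [Fintype ι] [DecidableEq ι]

/-- Every unipotent matrix has a Jordan type. -/
theorem exists_type (u : Matrix ι ι F) (hu : IsNilpotent (u - 1)) :
    ∃ (t : ℕ) (d : Fin t → ℕ) (e : ((k : Fin t) × Fin (d k)) ≃ ι), (∀ k, 1 ≤ d k) ∧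
      IsConj (Matrix.reindex e e (Cfsg.jordanTypeMatrix d F)) u := by
  classical
  obtain ⟨t, d, b, hd, hb⟩ := exists_chains (Matrix.toLinAlgEquiv' (u - 1)) (hu.map Matrix.toLinAlgEquiv')
  have e : ((k : Fin t) × Fin (d k)) ≃ ι := Fintype.equivOfCardEq (by
    rw [← Module.finrank_eq_card_basis b, Module.finrank_fintype_fun_eq_card])
  refine ⟨t, d, e, hd, ?_⟩
  set f : Module.End F (ι → F) := Matrix.toLin' u
  have hf : ∀ x, f (b x) = b x + (if h : (x.2 : ℕ) + 1 < d x.1 then b ⟨x.1, ⟨x.2 + 1, h⟩⟩ else 0) := by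
    intro x
    rw [← hb x]
    show u.mulVec (b x) = b x + (u - 1).mulVec (b x)
    rw [Matrix.sub_mulVec, Matrix.one_mulVec, add_sub_cancel]
  have hJ : LinearMap.toMatrix b b f = Cfsg.jordanTypeMatrix d F := by
    ext ⟨k, i⟩ ⟨k', i'⟩
    rw [LinearMap.toMatrix_apply, hf]
    simp only [Cfsg.jordanTypeMatrix, Matrix.blockDiagonal'_apply]
    split_ifs with h1 h2 <;> simp only [map_add, map_zero, Finsupp.add_apply, Finsupp.zero_apply, Basis.repr_self, Finsupp.single_apply]
    · subst h2
      simp only [cast_eq, Cfsg.jordanBlock, Matrix.of_apply, Sigma.mk.injEq, heq_eq_eq, true_and, Fin.ext_iff]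
      split_ifs <;> first | (simp; done) | (exfalso; omega)
    · simp [Ne.symm h2]
    · rename_i h2
      subst h2
      simp only [cast_eq, Cfsg.jordanBlock, Matrix.of_apply, Sigma.mk.injEq, heq_eq_eq, true_and, Fin.ext_iff]
      split_ifs <;> first | (simp; done) | (exfalso; omega)
    · rename_i h2
      simp [Ne.symm h2]
  set b' := b.reindex e
  have hJ' : LinearMap.toMatrix b' b' f = Matrix.reindex e e (Cfsg.jordanTypeMatrix d F) := by
    ext i j
    rw [Matrix.reindex_apply, Matrix.submatrix_apply, ← hJ, LinearMap.toMatrix_apply, LinearMap.toMatrix_apply]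
    simp [b']
  set B := Pi.basisFun F ι
  have hu' : LinearMap.toMatrix B B f = u := by
    show LinearMap.toMatrix (Pi.basisFun F ι) (Pi.basisFun F ι) (Matrix.toLin' u) = u
    rw [← Matrix.toLin_eq_toLin', LinearMap.toMatrix_toLin]
  let P : GL ι F := ⟨B.toMatrix b', b'.toMatrix B, Basis.toMatrix_mul_toMatrix_flip _ _,
    Basis.toMatrix_mul_toMatrix_flip _ _⟩
  refine ⟨P, ?_⟩
  show B.toMatrix b' * Matrix.reindex e e (Cfsg.jordanTypeMatrix d F) = u * B.toMatrix b'
  rw [← hJ', basis_toMatrix_mul_linearMap_toMatrix]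
  conv_rhs => rw [← hu', linearMap_toMatrix_mul_basis_toMatrix]

/-- The rank sequence of a Jordan type. -/
theorem rank_pow {t : ℕ} (d : Fin t → ℕ) (j : ℕ) :
    ((Cfsg.jordanTypeMatrix d F - 1) ^ j).rank = ∑ k, (d k - j) := by
  classical
  have hblk : ∀ (k : Fin t) (i : ℕ) (a c : Fin (d k)),
      ((Cfsg.jordanBlock (d k) F - 1) ^ i) a c = if (a : ℕ) = c + i then 1 else 0 := by
    intro k i
    induction i with
    | zero => intro a c; simp [Matrix.one_apply, Fin.ext_iff]
    | succ i ih =>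
      intro a c
      have hN : ∀ x y : Fin (d k), (Cfsg.jordanBlock (d k) F - 1) x y = if (x : ℕ) = y + 1 then 1 else 0 := by
        intro x y
        rw [Matrix.sub_apply, Matrix.one_apply, Cfsg.jordanBlock, Matrix.of_apply]
        simp only [Fin.ext_iff]
        split_ifs <;> first | (simp; done) | (exfalso; omega)
      rw [pow_succ, Matrix.mul_apply]
      by_cases hc : (c : ℕ) + 1 < d k
      · rw [Finset.sum_eq_single (⟨(c : ℕ) + 1, hc⟩ : Fin (d k))]
        · rw [ih, hN, if_pos (show ((⟨(c : ℕ) + 1, hc⟩ : Fin (d k)) : ℕ) = c + 1 from rfl), mul_one]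
          simp only [add_assoc, add_comm 1 i]
        · intro y _ hy
          rw [hN y c, if_neg (fun h => hy (Fin.ext h)), mul_zero]
        · simp
      · rw [if_neg (by omega), Finset.sum_eq_zero]
        intro y _
        rw [hN y c, if_neg (by omega), mul_zero]
  have hpow : ∀ x y : (k : Fin t) × Fin (d k), ((Cfsg.jordanTypeMatrix d F - 1) ^ j) x y =
      if x.1 = y.1 ∧ (x.2 : ℕ) = y.2 + j then 1 else 0 := by
    rintro ⟨k, a⟩ ⟨k', c⟩
    rw [Cfsg.jordanTypeMatrix, ← Matrix.blockDiagonal'_one, ← Matrix.blockDiagonal'_sub,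
      ← Matrix.blockDiagonal'_pow, Matrix.blockDiagonal'_apply]
    by_cases h : k = k'
    · subst h
      rw [dif_pos rfl]
      simp only [Pi.pow_apply, Pi.sub_apply, Pi.one_apply, cast_eq, hblk, true_and]
    · rw [dif_neg h, if_neg (fun hh => h hh.1)]
  set S : Finset ((k : Fin t) × Fin (d k)) := Finset.univ.filter (fun x => j ≤ (x.2 : ℕ))
  have hrange : LinearMap.range (Matrix.mulVecLin ((Cfsg.jordanTypeMatrix d F - 1) ^ j)) =
      Submodule.span F (Set.range fun x : S => (Pi.single x.1 1 : ((k : Fin t) × Fin (d k)) → F)) := by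
    rw [Matrix.range_mulVecLin]
    apply le_antisymm
    · rw [Submodule.span_le]
      rintro _ ⟨y, rfl⟩
      by_cases h : (y.2 : ℕ) + j < d y.1
      · refine Submodule.subset_span ⟨⟨⟨y.1, ⟨(y.2 : ℕ) + j, h⟩⟩, Finset.mem_filter.2 ⟨Finset.mem_univ _, by simp⟩⟩, ?_⟩
        funext x
        obtain ⟨k, a⟩ := x
        obtain ⟨k', c⟩ := y
        show (Pi.single _ (1 : F) : ((k : Fin t) × Fin (d k)) → F) ⟨k, a⟩ = ((Cfsg.jordanTypeMatrix d F - 1) ^ j) ⟨k, a⟩ ⟨k', c⟩
        rw [hpow, Pi.single_apply]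
        by_cases hk : k = k'
        · subst hk; simp [Fin.ext_iff]
        · simp [hk]
      · have : ((Cfsg.jordanTypeMatrix d F - 1) ^ j).col y = 0 := by
          funext x
          show ((Cfsg.jordanTypeMatrix d F - 1) ^ j) x y = 0
          rw [hpow, if_neg]
          rintro ⟨h1, h2⟩
          obtain ⟨k, a⟩ := x
          obtain ⟨k', c⟩ := y
          obtain rfl : k = k' := h1
          exact h (by rw [← h2]; exact a.2)
        rw [SetLike.mem_coe, this]
        exact zero_mem _
    · rw [Submodule.span_le]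
      rintro _ ⟨⟨⟨k, a⟩, ha⟩, rfl⟩
      have ha' : j ≤ (a : ℕ) := (Finset.mem_filter.1 ha).2
      refine Submodule.subset_span ⟨⟨k, ⟨(a : ℕ) - j, lt_of_le_of_lt (Nat.sub_le _ _) a.2⟩⟩, ?_⟩
      funext x
      obtain ⟨k', c⟩ := x
      show ((Cfsg.jordanTypeMatrix d F - 1) ^ j) ⟨k', c⟩ _ = (Pi.single _ (1 : F) : ((k : Fin t) × Fin (d k)) → F) ⟨k', c⟩
      rw [hpow, Pi.single_apply]
      by_cases hk : k' = k
      · subst hk
        simp only [true_and, Sigma.mk.injEq, heq_eq_eq, Fin.ext_iff, Nat.sub_add_cancel ha']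
      · simp [hk]
  have hli : LinearIndependent F (fun x : S => (Pi.single x.1 1 : ((k : Fin t) × Fin (d k)) → F)) := by
    have := (Pi.basisFun F ((k : Fin t) × Fin (d k))).linearIndependent.comp (fun x : S => x.1) Subtype.val_injective
    convert this using 1
    funext x
    simp
  rw [Matrix.rank, hrange, finrank_span_eq_card hli, Fintype.card_coe]
  show S.card = _
  have hS : S = Finset.univ.sigma (fun k => Finset.univ.filter (fun i : Fin (d k) => j ≤ (i : ℕ))) := by
    ext x; simp [S]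
  rw [hS, Finset.card_sigma]
  refine Finset.sum_congr rfl fun k _ => ?_
  rw [← Finset.card_map Fin.valEmbedding]
  have : (Finset.univ.filter (fun i : Fin (d k) => j ≤ (i : ℕ))).map Fin.valEmbedding = Finset.Ico j (d k) := by
    ext l
    simp only [Finset.mem_map, Finset.mem_filter, Finset.mem_univ, true_and, Finset.mem_Ico, Fin.valEmbedding_apply]
    exact ⟨fun ⟨i, hi, e⟩ => e ▸ ⟨hi, i.2⟩, fun ⟨h1, h2⟩ => ⟨⟨l, h2⟩, h1, rfl⟩⟩
  rw [this, Nat.card_Ico]

/-- The rank sequence of a matrix similar to a Jordan type. -/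
theorem rank_pow_conj {t : ℕ} {d : Fin t → ℕ} {e : ((k : Fin t) × Fin (d k)) ≃ ι} {u : Matrix ι ι F}
    (h : IsConj (Matrix.reindex e e (Cfsg.jordanTypeMatrix d F)) u) (j : ℕ) :
    ((u - 1) ^ j).rank = ∑ k, (d k - j) := by
  obtain ⟨P, hP⟩ := h
  have hu : u - 1 = (P : Matrix ι ι F) * Matrix.reindex e e (Cfsg.jordanTypeMatrix d F - 1) * ((P⁻¹ : GL ι F) : Matrix ι ι F) := by
    have h1 : Matrix.reindex e e (Cfsg.jordanTypeMatrix d F - 1) = Matrix.reindex e e (Cfsg.jordanTypeMatrix d F) - 1 := by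
      ext a b
      simp [Matrix.one_apply]
    rw [h1, mul_sub, mul_one, sub_mul, Units.mul_inv, hP.eq, mul_assoc, Units.mul_inv, mul_one]
  rw [hu, Units.conj_pow, Matrix.rank_mul_eq_left_of_isUnit_det _ _ ((Matrix.isUnit_iff_isUnit_det _).1 P⁻¹.isUnit),
    Matrix.rank_mul_eq_right_of_isUnit_det _ _ ((Matrix.isUnit_iff_isUnit_det _).1 P.isUnit),
    ← Matrix.reindexAlgEquiv_apply F F e, ← map_pow, Matrix.reindexAlgEquiv_apply, Matrix.rank_reindex, rank_pow]

theorem sum_second_diff {t : ℕ} (d : Fin t → ℕ) {j : ℕ} (hj : 1 ≤ j) :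
    (∑ k, (d k - (j - 1))) + ∑ k, (d k - (j + 1)) =
      2 * (∑ k, (d k - j)) + (Finset.univ.filter (fun k => d k = j)).card := by
  rw [Finset.card_filter, Finset.mul_sum, ← Finset.sum_add_distrib, ← Finset.sum_add_distrib]
  refine Finset.sum_congr rfl fun k _ => ?_
  split_ifs <;> omega

/-- The rank sequence determines the type. -/
theorem type_eq {t t' : ℕ} {d : Fin t → ℕ} {d' : Fin t' → ℕ} (hd : ∀ k, 1 ≤ d k) (hd' : ∀ k, 1 ≤ d' k)
    (h : ∀ j, ∑ k, (d k - j) = ∑ k, (d' k - j)) :
    Multiset.map d (Finset.univ : Finset (Fin t)).val = Multiset.map d' (Finset.univ : Finset (Fin t')).val := by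
  classical
  ext j
  rw [Multiset.count_map, Multiset.count_map]
  have e1 : ∀ {s : ℕ} (f : Fin s → ℕ), (Multiset.filter (fun a => j = f a) (Finset.univ : Finset (Fin s)).val).card =
      (Finset.univ.filter (fun k => f k = j)).card := fun f => by
    rw [← Finset.filter_val]
    exact congrArg Finset.card (Finset.filter_congr fun a _ => eq_comm)
  rw [e1, e1]
  rcases Nat.eq_zero_or_pos j with rfl | hj
  · rw [Finset.filter_eq_empty_iff.2 (fun k _ => by have := hd k; omega),
      Finset.filter_eq_empty_iff.2 (fun k _ => by have := hd' k; omega)]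
    rfl
  · have h1 := sum_second_diff d hj
    have h2 := sum_second_diff d' hj
    rw [h (j - 1), h (j + 1), h j] at h1
    omega

/-- Unipotent matrices with the same rank sequence are similar. -/
theorem isConj_of_rank {u v : Matrix ι ι F} (hu : IsNilpotent (u - 1)) (hv : IsNilpotent (v - 1))
    (h : ∀ j, ((u - 1) ^ j).rank = ((v - 1) ^ j).rank) : IsConj u v := by
  classical
  obtain ⟨t, d, e, hd, he⟩ := exists_type u hu
  obtain ⟨t', d', e', hd', he'⟩ := exists_type v hv
  have hm := type_eq hd hd' (fun j => by rw [← rank_pow_conj he j, ← rank_pow_conj he' j, h j])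
  have hfib : ∀ j, Fintype.card {k // d k = j} = Fintype.card {k // d' k = j} := by
    intro j
    have hc := congrArg (Multiset.count j) hm
    rw [Multiset.count_map, Multiset.count_map] at hc
    rw [Fintype.card_subtype, Fintype.card_subtype]
    have e1 : ∀ {s : ℕ} (f : Fin s → ℕ), (Multiset.filter (fun a => j = f a) (Finset.univ : Finset (Fin s)).val).card =
        (Finset.univ.filter (fun k => f k = j)).card := fun f => by
      rw [← Finset.filter_val]
      exact congrArg Finset.card (Finset.filter_congr fun a _ => eq_comm)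
    rwa [e1, e1] at hc
  let σ : Fin t ≃ Fin t' := Equiv.ofFiberEquiv (f := d) (g := d') (fun j => Fintype.equivOfCardEq (hfib j))
  have hσ : ∀ k, d' (σ k) = d k := Equiv.ofFiberEquiv_map _
  let S : ((k : Fin t) × Fin (d k)) ≃ ((k : Fin t') × Fin (d' k)) := Equiv.sigmaCongr σ (fun k => finCongr (hσ k).symm)
  have hS : Matrix.reindex S S (Cfsg.jordanTypeMatrix d F) = Cfsg.jordanTypeMatrix d' F := by
    rw [Matrix.reindex_apply]
    ext x y
    obtain ⟨⟨k, i⟩, rfl⟩ := S.surjective x
    obtain ⟨⟨k', i'⟩, rfl⟩ := S.surjective y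
    rw [Matrix.submatrix_apply, Equiv.symm_apply_apply, Equiv.symm_apply_apply]
    show _ = Matrix.blockDiagonal' (fun k => Cfsg.jordanBlock (d' k) F) ⟨σ k, finCongr (hσ k).symm i⟩ ⟨σ k', finCongr (hσ k').symm i'⟩
    rw [Cfsg.jordanTypeMatrix]
    by_cases hk : k = k'
    · subst hk
      rw [Matrix.blockDiagonal'_apply_eq, Matrix.blockDiagonal'_apply_eq]
      simp [Cfsg.jordanBlock]
    · rw [Matrix.blockDiagonal'_apply_ne _ _ _ hk, Matrix.blockDiagonal'_apply_ne _ _ _ (σ.injective.ne hk)]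
  let π : Equiv.Perm ι := e.symm.trans (S.trans e')
  have hperm : IsConj (Matrix.reindex e e (Cfsg.jordanTypeMatrix d F)) (Matrix.reindex e' e' (Cfsg.jordanTypeMatrix d' F)) := by
    have h2 : Matrix.reindex e' e' (Cfsg.jordanTypeMatrix d' F) =
        Matrix.reindex π π (Matrix.reindex e e (Cfsg.jordanTypeMatrix d F)) := by
      rw [← hS]
      ext a b
      simp [π]
    rw [h2]
    let M : Matrix ι ι F := (1 : Matrix ι ι F).submatrix π.symm id
    let M' : Matrix ι ι F := (1 : Matrix ι ι F).submatrix id π.symm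
    refine ⟨⟨M, M', ?_, ?_⟩, ?_⟩
    · ext a b; simp [M, M', Matrix.mul_apply, Matrix.one_apply, π.symm.injective.eq_iff]
    · ext a b
      simp only [M, M', Matrix.mul_apply, Matrix.submatrix_apply, id_eq, Matrix.one_apply, ite_mul, one_mul, zero_mul]
      rw [Finset.sum_eq_single (π a)]
      · simp
      · intro c _ hc
        rw [if_neg (fun h => hc (by rw [h]; simp))]
      · simp
    · show M * _ = _ * M
      ext a b
      simp only [M, Matrix.mul_apply, Matrix.submatrix_apply, id_eq, Matrix.one_apply, ite_mul, one_mul, zero_mul,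
        Finset.sum_ite_eq, Finset.mem_univ, if_true, Matrix.reindex_apply, mul_ite, mul_one, mul_zero]
      rw [Finset.sum_eq_single (π b)]
      · simp
      · intro c _ hc
        rw [if_neg (fun h => hc (by rw [← h]; simp))]
      · simp
  exact he.symm.trans (hperm.trans he')

end CfsgLib.KnownB.Jordan
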