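import Mathlib

/-!
Operators of rank one and square zero: normal form, conjugacy with prescribed determinant, and commutant.
-/

set_option autoImplicit false

namespace CfsgLib.KnownB.Transvection

open Module

variable (F : Type*) [Field F] (k : ℕ)

/-- The model space `F × F^k × F`. -/
abbrev Model : Type _ := (F × (Fin k → F)) × F

/-- The model operator `((a, w), c) ↦ ((c, 0), 0)`. -/
def modelMap : Model F k →ₗ[F] Model F k :=
  LinearMap.inl F _ F ∘ₗ LinearMap.inl F F (Fin k → F) ∘ₗ LinearMap.snd F _ F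

theorem modelMap_apply (x : Model F k) : modelMap F k x = ((x.2, 0), 0) := rfl

theorem finrank_model : finrank F (Model F k) = k + 2 := by
  simp [Module.finrank_prod]
  omega

variable {F k}

theorem exists_model {V : Type*} [AddCommGroup V] [Module F V] [FiniteDimensional F V] {f : Module.End F V}
    (hd : finrank F V = k + 2) (hr : finrank F (LinearMap.range f) = 1) (hf : f * f = 0) :
    ∃ Φ : Model F k ≃ₗ[F] V, ∀ x, f (Φ x) = Φ (modelMap F k x) := by
  set K := LinearMap.ker f
  have hK : finrank F K = k + 1 := by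
    have : finrank F (LinearMap.range f) + finrank F K = finrank F V := LinearMap.finrank_range_add_finrank_ker f
    omega
  have hne : f ≠ 0 := fun h0 => by rw [h0, LinearMap.range_zero, finrank_bot] at hr; exact zero_ne_one hr
  obtain ⟨z, hz⟩ : ∃ z, f z ≠ 0 := by
    by_contra hc
    push Not at hc
    exact hne (LinearMap.ext hc)
  set u := f z
  have hu : f u = 0 := by rw [← Module.End.mul_apply, hf, LinearMap.zero_apply]
  let uK : K := ⟨u, LinearMap.mem_ker.2 hu⟩
  have huK : uK ≠ 0 := fun h => hz (congrArg Subtype.val h)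
  obtain ⟨W, hW⟩ := (Submodule.span F {uK}).exists_isCompl
  have hWd : finrank F W = k := by
    have := Submodule.finrank_add_eq_of_isCompl hW
    rw [finrank_span_singleton huK, hK] at this
    omega
  let e : (Fin k → F) ≃ₗ[F] W := (Module.finBasisOfFinrankEq F W hWd).equivFun.symm
  let L : Model F k →ₗ[F] V :=
    ((LinearMap.toSpanSingleton F V u).coprod (K.subtype ∘ₗ W.subtype ∘ₗ e.toLinearMap)).coprod
      (LinearMap.toSpanSingleton F V z)
  have hL : ∀ x : Model F k, L x = x.1.1 • u + ((e x.1.2 : K) : V) + x.2 • z := fun x => rfl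
  have hinj : Function.Injective L := by
    rw [← LinearMap.ker_eq_bot, LinearMap.ker_eq_bot']
    intro x hx
    rw [hL] at hx
    have h1 := congrArg f hx
    rw [map_add, map_add, map_smul, map_smul, hu, smul_zero, LinearMap.mem_ker.1 (e x.1.2 : K).2, map_zero,
      zero_add, zero_add, smul_eq_zero] at h1
    have hc : x.2 = 0 := h1.resolve_right hz
    rw [hc, zero_smul, add_zero] at hx
    have h2 : x.1.1 • uK + (e x.1.2 : K) = 0 := Subtype.ext hx
    have h3 : (e x.1.2 : K) ∈ Submodule.span F {uK} := by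
      rw [eq_neg_of_add_eq_zero_right h2]
      exact Submodule.neg_mem _ (Submodule.mem_span_singleton.2 ⟨x.1.1, rfl⟩)
    have h4 : (e x.1.2 : K) = 0 := Submodule.disjoint_def.1 hW.disjoint _ h3 (e x.1.2).2
    rw [h4, add_zero, smul_eq_zero] at h2
    exact Prod.ext (Prod.ext (h2.resolve_right huK)
      (e.map_eq_zero_iff.1 (Subtype.ext h4))) hc
  have hbij : Function.Bijective L :=
    ⟨hinj, (LinearMap.injective_iff_surjective_of_finrank_eq_finrank (by rw [finrank_model, hd])).1 hinj⟩
  refine ⟨LinearEquiv.ofBijective L hbij, fun x => ?_⟩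
  rw [LinearEquiv.ofBijective_apply, LinearEquiv.ofBijective_apply, modelMap_apply, hL, hL, map_add, map_add,
    map_smul, map_smul, hu, smul_zero, LinearMap.mem_ker.1 (e x.1.2 : K).2]
  simp [u]

/-- An automorphism of the model commuting with the model operator, with any determinant. -/
theorem exists_commute_det (hk : 1 ≤ k) (c : Fˣ) :
    ∃ T : Model F k ≃ₗ[F] Model F k, (∀ x, T (modelMap F k x) = modelMap F k (T x)) ∧ LinearEquiv.det T = c := by
  classical
  let D : (Fin k → F) ≃ₗ[F] (Fin k → F) :=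
    LinearEquiv.piCongrRight fun i => LinearEquiv.smulOfUnit (if i = ⟨0, hk⟩ then c else 1)
  have hD : LinearMap.det (D : (Fin k → F) →ₗ[F] (Fin k → F)) = (c : F) := by
    have : (D : (Fin k → F) →ₗ[F] (Fin k → F)) =
        Matrix.toLin' (Matrix.diagonal fun i => ((if i = ⟨0, hk⟩ then c else 1 : Fˣ) : F)) := by
      refine LinearMap.ext fun w => funext fun i => ?_
      rw [Matrix.toLin'_apply, Matrix.mulVec_diagonal]
      simp [D]
      rfl
    rw [this, LinearMap.det_toLin', Matrix.det_diagonal, Finset.prod_eq_single (⟨0, hk⟩ : Fin k)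
      (fun i _ hi => by rw [if_neg hi, Units.val_one]) (by simp), if_pos rfl]
  refine ⟨((LinearEquiv.refl F F).prodCongr D).prodCongr (LinearEquiv.refl F F), fun x => ?_, Units.ext ?_⟩
  · simp [modelMap_apply]
  · rw [LinearEquiv.coe_det, LinearEquiv.coe_prodCongr, LinearMap.det_prodMap, LinearEquiv.coe_prodCongr,
      LinearMap.det_prodMap, hD]
    simp

/-- The element of the commutant with the given components. -/
def mkMap (p : F × (Module.End F (Fin k → F)) × ((Fin k → F) →ₗ[F] F) × F × (Fin k → F)) :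
    Model F k →ₗ[F] Model F k where
  toFun x := ((p.1 * x.1.1 + p.2.2.1 x.1.2 + x.2 * p.2.2.2.1, p.2.1 x.1.2 + x.2 • p.2.2.2.2), p.1 * x.2)
  map_add' x y := by
    refine Prod.ext (Prod.ext ?_ ?_) ?_
    · simp [mul_add, add_mul]; ring
    · simp [add_smul]; abel
    · simp [mul_add]
  map_smul' a x := by
    refine Prod.ext (Prod.ext ?_ ?_) ?_
    · simp; ring
    · simp [smul_add, smul_smul]
    · simp; ring

theorem mkMap_surjective {T : Model F k →ₗ[F] Model F k}
    (hT : ∀ x, T (modelMap F k x) = modelMap F k (T x)) :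
    mkMap ((T ((0, 0), 1)).2, LinearMap.snd F F _ ∘ₗ LinearMap.fst F _ F ∘ₗ T ∘ₗ LinearMap.inl F _ F ∘ₗ LinearMap.inr F F _,
      LinearMap.fst F F _ ∘ₗ LinearMap.fst F _ F ∘ₗ T ∘ₗ LinearMap.inl F _ F ∘ₗ LinearMap.inr F F _,
      (T ((0, 0), 1)).1.1, (T ((0, 0), 1)).1.2) = T := by
  refine LinearMap.ext fun x => ?_
  have h1 : T ((1, 0), 0) = (((T ((0, 0), 1)).2, 0), 0) := by
    have := hT ((0, 0), 1)
    rwa [modelMap_apply, modelMap_apply] at this
  have h2 : ∀ w : Fin k → F, (T ((0, w), 0)).2 = 0 := fun w => by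
    have := hT ((0, w), 0)
    rw [modelMap_apply, modelMap_apply] at this
    change T 0 = _ at this
    rw [map_zero] at this
    exact (congrArg (fun y : Model F k => y.1.1) this).symm
  have hx : x = x.1.1 • (((1 : F), (0 : Fin k → F)), (0 : F)) + ((0, x.1.2), 0) + x.2 • ((0, 0), 1) := by
    refine Prod.ext (Prod.ext ?_ ?_) ?_ <;> simp
  conv_rhs => rw [hx, map_add, map_add, map_smul, map_smul, h1]
  refine Prod.ext (Prod.ext ?_ ?_) ?_
  · simp [mkMap]; ring
  · simp [mkMap]
  · simp [mkMap, h2]; ring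

theorem mkMap_injective : Function.Injective (mkMap (F := F) (k := k)) := by
  intro p p' h
  have hz := LinearMap.congr_fun h ((0, 0), 1)
  have hw := fun w : Fin k → F => LinearMap.congr_fun h ((0, w), 0)
  simp [mkMap] at hz hw
  obtain ⟨h12, h3⟩ := hz
  exact Prod.ext h3 (Prod.ext (LinearMap.ext fun w => (hw w).2) (Prod.ext (LinearMap.ext fun w => (hw w).1)
    h12))

theorem mkMap_comm (p) (x : Model F k) : mkMap p (modelMap F k x) = modelMap F k (mkMap p x) := by
  simp [mkMap, modelMap_apply]

theorem mkMap_bijective_iff (p : F × (Module.End F (Fin k → F)) × ((Fin k → F) →ₗ[F] F) × F × (Fin k → F)) :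
    Function.Bijective (mkMap p) ↔ p.1 ≠ 0 ∧ IsUnit p.2.1 := by
  constructor
  · intro h
    have h1 : p.1 ≠ 0 := fun h0 => by
      have := h.1 (a₁ := ((1, 0), 0)) (a₂ := 0) (by rw [map_zero]; simp [mkMap, h0])
      simp at this
    refine ⟨h1, (Module.End.isUnit_iff _).2 ?_⟩
    have hinj : Function.Injective p.2.1 := by
      rw [← LinearMap.ker_eq_bot, LinearMap.ker_eq_bot']
      intro w hw
      have := h.1 (a₁ := ((-(p.1⁻¹ * p.2.2.1 w), w), 0)) (a₂ := 0) (by
        rw [map_zero]
        simp [mkMap, hw, h1])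
      exact congrArg (fun y : Model F k => y.1.2) this
    exact ⟨hinj, LinearMap.injective_iff_surjective.1 hinj⟩
  · rintro ⟨h1, h2⟩
    have hinj : Function.Injective (mkMap p) := by
      rw [← LinearMap.ker_eq_bot, LinearMap.ker_eq_bot']
      intro x hx
      have hc : x.2 = 0 := (mul_eq_zero.1 (congrArg Prod.snd hx)).resolve_left h1
      have hw : x.1.2 = 0 := by
        have := congrArg (fun y : Model F k => y.1.2) hx
        simp [mkMap, hc] at this
        exact ((Module.End.isUnit_iff _).1 h2).1 (by rw [this, map_zero])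
      have ha := congrArg (fun y : Model F k => y.1.1) hx
      simp [mkMap, hc, hw, h1] at ha
      exact Prod.ext (Prod.ext ha hw) hc
    exact ⟨hinj, LinearMap.injective_iff_surjective.1 hinj⟩

set_option maxHeartbeats 1000000 in
theorem card_commutant [Fintype F] :
    Nat.card {T : Model F k ≃ₗ[F] Model F k // ∀ x, T (modelMap F k x) = modelMap F k (T x)} =
      Fintype.card F ^ (2 * k + 1) * (Fintype.card F - 1) *
        ∏ i : Fin k, (Fintype.card F ^ k - Fintype.card F ^ (i : ℕ)) := by
  classical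
  let f : Fˣ × (Module.End F (Fin k → F))ˣ × ((Fin k → F) →ₗ[F] F) × F × (Fin k → F) →
      {T : Model F k ≃ₗ[F] Model F k // ∀ x, T (modelMap F k x) = modelMap F k (T x)} := fun p =>
    ⟨LinearEquiv.ofBijective (mkMap ((p.1 : F), (p.2.1 : Module.End F (Fin k → F)), p.2.2))
      ((mkMap_bijective_iff _).2 ⟨p.1.ne_zero, p.2.1.isUnit⟩), fun x => by
        simp only [LinearEquiv.ofBijective_apply]
        exact mkMap_comm _ x⟩
  have hf : Function.Bijective f := by
    constructor
    · intro p p' h
      have h' := mkMap_injective (congrArg (fun T : {T : Model F k ≃ₗ[F] Model F k // ∀ x, T (modelMap F k x) = modelMap F k (T x)} => (T.1 : Model F k →ₗ[F] Model F k)) h)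
      simp only [Prod.mk.injEq] at h'
      exact Prod.ext (Units.ext h'.1) (Prod.ext (Units.ext h'.2.1) h'.2.2)
    · rintro ⟨T, hT⟩
      have hT' := mkMap_surjective (T := (T : Model F k →ₗ[F] Model F k)) hT
      have hb : Function.Bijective (T : Model F k →ₗ[F] Model F k) := T.bijective
      rw [← hT', mkMap_bijective_iff] at hb
      exact ⟨(Units.mk0 _ hb.1, hb.2.unit, _), Subtype.ext (LinearEquiv.toLinearMap_injective hT')⟩
  rw [← Nat.card_congr (Equiv.ofBijective f hf), Nat.card_prod, Nat.card_prod, Nat.card_prod, Nat.card_prod,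
    Nat.card_units, Nat.card_congr (Units.mapEquiv Matrix.toLinAlgEquiv'.toMulEquiv).symm.toEquiv,
    Matrix.card_GL_field, Nat.card_congr (Module.piEquiv (Fin k) F F).symm.toEquiv, Nat.card_fun,
    Nat.card_eq_fintype_card (α := F), Nat.card_eq_fintype_card, Fintype.card_fin]
  ring

variable {n : ℕ}

theorem exists_model_matrix {t : Matrix (Fin (k + 2)) (Fin (k + 2)) F} (hr : (t - 1).rank = 1)
    (hs : (t - 1) * (t - 1) = 0) :
    ∃ Φ : Model F k ≃ₗ[F] (Fin (k + 2) → F), ∀ x, (t - 1).mulVec (Φ x) = Φ (modelMap F k x) :=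
  exists_model (f := (t - 1).mulVecLin) (Module.finrank_fin_fun F) (by rw [← hr, Matrix.rank])
    (by rw [Module.End.mul_eq_comp, ← Matrix.mulVecLin_mul, hs, Matrix.mulVecLin_zero])

end CfsgLib.KnownB.Transvection
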