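import Cfsg.Agent.Lib.KnownB.NormTrickCorner

/-!
Semisimple isometries of a bilinear form that are conjugate linear maps are conjugate on the part where
`f ≠ f⁻¹` by an isometry.
-/

set_option autoImplicit false

namespace CfsgLib.KnownB.BilinConj

open CfsgLib.KnownB.NormTrick

universe u v

variable {F : Type u} [Field F] {V : Type v} [AddCommGroup V] [Module F V] [FiniteDimensional F V]
  (B : LinearMap.BilinForm F V) (hB : B.Nondegenerate)

/-- The adjoint. -/
noncomputable def adj (φ : Module.End F V) : Module.End F V :=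
  B.leftAdjointOfNondegenerate hB φ

theorem adj_spec (φ : Module.End F V) (x y : V) : B (adj B hB φ x) y = B x (φ y) :=
  B.isAdjointPairLeftAdjointOfNondegenerate hB φ x y

include hB in
theorem ext_left {x x' : V} (h : ∀ y, B x y = B x' y) : x = x' :=
  sub_eq_zero.1 (hB.1 _ fun y => by rw [map_sub, LinearMap.sub_apply, h, sub_self])

theorem adj_eq {φ ψ : Module.End F V} (h : ∀ x y, B (ψ x) y = B x (φ y)) : adj B hB φ = ψ :=
  LinearMap.ext fun x => ext_left B hB fun y => by rw [adj_spec, h]

theorem adj_spec' {ε : F} (hε : ε * ε = 1) (hsym : ∀ x y, B y x = ε * B x y) (φ : Module.End F V) (x y : V) :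
    B (φ x) y = B x (adj B hB φ y) := by
  rw [hsym y (φ x), hsym (adj B hB φ y) x, adj_spec]

theorem isInvol_adj {ε : F} (hε : ε * ε = 1) (hsym : ∀ x y, B y x = ε * B x y) : IsInvol (adj B hB) where
  map_add φ ψ := adj_eq B hB fun x y => by simp [adj_spec]
  map_mul φ ψ := adj_eq B hB fun x y => by
    rw [Module.End.mul_apply, adj_spec, adj_spec, Module.End.mul_apply]
  map_one := adj_eq B hB fun x y => rfl
  invol φ := adj_eq B hB fun x y => adj_spec' B hB hε hsym φ x y

/-- The data attached to an isometry: the projection `e` onto the image of `f - f⁻¹` and the inverse `w` there. -/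
structure Moving (f fi e w : Module.End F V) : Prop where
  inv : f * fi = 1
  inv' : fi * f = 1
  idem : e * e = e
  De : (f - fi) * e = f - fi
  eD : e * (f - fi) = f - fi
  Dw : (f - fi) * w = e
  wD : w * (f - fi) = e
  ew : e * w = w
  we : w * e = w

theorem Moving.intertwine {f fi e w g gi e' w' : Module.End F V} (hf : Moving f fi e w) (hg : Moving g gi e' w')
    {h : Module.End F V} (hh : h * f = g * h) : h * e = e' * h := by
  have hh' : h * fi = gi * h := by
    calc h * fi = gi * g * h * fi := by rw [hg.inv', one_mul]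
      _ = gi * (h * f) * fi := by rw [hh, mul_assoc gi g h]
      _ = gi * h := by rw [mul_assoc, mul_assoc, hf.inv, mul_one]
  have hD : h * (f - fi) = (g - gi) * h := by rw [mul_sub, sub_mul, hh, hh']
  have h1 : e' * h * e = h * e := by
    rw [← hf.Dw, ← mul_assoc, mul_assoc e', hD, ← mul_assoc e', hg.eD, ← hD, mul_assoc]
  have h2 : e' * h * (1 - e) = 0 := by
    rw [← hg.wD, mul_assoc w', ← hD, mul_assoc, mul_assoc, mul_sub, mul_one, hf.De, sub_self, mul_zero, mul_zero]
  rw [mul_sub, mul_one, sub_eq_zero] at h2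
  rw [h2, h1]

theorem Moving.commute {f fi e w : Module.End F V} (hf : Moving f fi e w) {X : Module.End F V}
    (hX : Commute X f) : Commute X e ∧ Commute X w ∧ Commute X fi := by
  have he : X * e = e * X := hf.intertwine hf hX.eq
  have hfi : X * fi = fi * X := by
    calc X * fi = fi * f * X * fi := by rw [hf.inv', one_mul]
      _ = fi * (X * f) * fi := by rw [mul_assoc fi f X, hX.eq]
      _ = fi * X := by rw [mul_assoc, mul_assoc, hf.inv, mul_one]
  refine ⟨he, ?_, hfi⟩
  have hD : X * (f - fi) = (f - fi) * X := by rw [mul_sub, sub_mul, hX.eq, hfi]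
  calc X * w = X * (e * w) := by rw [hf.ew]
    _ = e * X * w := by rw [← mul_assoc, he]
    _ = w * ((f - fi) * X) * w := by rw [← hf.wD, mul_assoc w]
    _ = w * (X * e) := by rw [← hD, mul_assoc, mul_assoc X, hf.Dw]
    _ = w * X := by rw [he, ← mul_assoc, hf.we]

theorem Moving.self_commute {f fi e w : Module.End F V} (hf : Moving f fi e w) :
    Commute f e ∧ Commute f w ∧ Commute f fi ∧ Commute fi e ∧ Commute fi w := by
  obtain ⟨h1, h2, h3⟩ := hf.commute (Commute.refl f)
  obtain ⟨h4, h5, -⟩ := hf.commute h3.symm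
  exact ⟨h1, h2, h3, h4, h5⟩

theorem exists_moving {f : Module.End F V} {m : ℕ} (hm : (m : F) ≠ 0) (hfm : f ^ m = 1) :
    ∃ e w, Moving f (f ^ (m - 1)) e w := by
  have hm1 : 1 ≤ m := Nat.one_le_iff_ne_zero.2 (by rintro rfl; simp at hm)
  have hss : f.IsSemisimple := Module.End.isSemisimple_of_squarefree_aeval_eq_zero
    (p := Polynomial.X ^ m - Polynomial.C 1)
    (Polynomial.separable_X_pow_sub_C (1 : F) hm one_ne_zero).squarefree
    (by rw [map_sub, map_pow, Polynomial.aeval_X, Polynomial.aeval_C, map_one, hfm, sub_self])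
  set fi := f ^ (m - 1)
  set D := f - fi
  have hDs : D.IsSemisimple := by
    have := hss.aeval (Polynomial.X - Polynomial.X ^ (m - 1))
    rwa [map_sub, map_pow, Polynomial.aeval_X] at this
  have hker : LinearMap.ker D ∈ D.invtSubmodule := fun x hx => by
    rw [LinearMap.mem_ker] at hx
    show D x ∈ LinearMap.ker D
    rw [hx]; exact zero_mem _
  obtain ⟨W, hW, hc⟩ := Module.End.isSemisimple_iff.1 hDs _ hker
  let r : W →ₗ[F] W := LinearMap.restrict D hW
  have hrinj : Function.Injective r := by
    intro x y hxy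
    have h1 : ((x - y : W) : V) ∈ LinearMap.ker D := by
      rw [LinearMap.mem_ker, Submodule.coe_sub, map_sub, sub_eq_zero]
      exact congrArg Subtype.val hxy
    exact sub_eq_zero.1 (Subtype.ext (Submodule.disjoint_def.1 hc.disjoint _ h1 (x - y).2))
  let R : W ≃ₗ[F] W := LinearEquiv.ofInjectiveEndo r hrinj
  let π : V →ₗ[F] W := W.linearProjOfIsCompl (LinearMap.ker D) hc.symm
  have hπW : ∀ x : W, π (x : V) = x := fun x => Submodule.linearProjOfIsCompl_apply_left hc.symm x
  have hπK : ∀ x, D x = 0 → π x = 0 := fun x hx =>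
    Submodule.linearProjOfIsCompl_apply_right' hc.symm (LinearMap.mem_ker.2 hx)
  have hdec : ∀ x, D (x - (π x : V)) = 0 := fun x => by
    obtain ⟨a, b, rfl, -⟩ := Submodule.existsUnique_add_of_isCompl hc x
    rw [map_add π, hπK a (LinearMap.mem_ker.1 a.2), hπW, zero_add, add_sub_cancel_right]
    exact LinearMap.mem_ker.1 a.2
  have hDπ : ∀ x, D x = (r (π x) : V) := fun x => by
    have := hdec x
    rw [map_sub, sub_eq_zero] at this
    exact this
  refine ⟨W.subtype ∘ₗ π, W.subtype ∘ₗ (R.symm : W →ₗ[F] W) ∘ₗ π, ?_⟩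
  have hR : ∀ x, r (R.symm x) = x := fun x => R.apply_symm_apply x
  have hR' : ∀ x, R.symm (r x) = x := fun x => R.symm_apply_apply x
  refine ⟨?_, ?_, ?_, ?_, ?_, ?_, ?_, ?_, ?_⟩
  · rw [← pow_succ', Nat.sub_add_cancel hm1, hfm]
  · rw [← pow_succ, Nat.sub_add_cancel hm1, hfm]
  all_goals refine LinearMap.ext fun x => ?_
  all_goals simp only [Module.End.mul_apply, LinearMap.comp_apply, Submodule.subtype_apply, LinearEquiv.coe_coe]
  all_goals change _ = _
  · rw [hπW]
  · show D _ = D x; rw [hDπ, hπW, ← hDπ]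
  · show (π (D x) : V) = D x; rw [hDπ, hπW]
  · show D _ = _; rw [hDπ, hπW, hR]
  · show ((R.symm (π (D x)) : W) : V) = _; rw [hDπ, hπW, hR']
  · rw [hπW]
  · rw [hπW]

/-- `adj f = f⁻¹` for an isometry. -/
theorem adj_isometry {f fi : Module.End F V} (h1 : f * fi = 1) (hiso : ∀ x y, B (f x) (f y) = B x y) :
    adj B hB f = fi := adj_eq B hB fun x y => by
  rw [← hiso (fi x) y, ← Module.End.mul_apply, h1, Module.End.one_apply]

theorem Moving.adj_facts {ε : F} (hε : ε * ε = 1) (hsym : ∀ x y, B y x = ε * B x y) {f fi e w : Module.End F V}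
    (hf : Moving f fi e w) (hiso : ∀ x y, B (f x) (f y) = B x y) :
    adj B hB f = fi ∧ adj B hB fi = f ∧ adj B hB e = e ∧ adj B hB w = -w := by
  have hI := isInvol_adj B hB hε hsym
  have hneg : ∀ φ, adj B hB (-φ) = - adj B hB φ := fun φ => adj_eq B hB fun x y => by simp [adj_spec]
  have a1 := adj_isometry B hB hf.inv hiso
  have a2 : adj B hB fi = f := by rw [← a1, hI.invol]
  have aD : adj B hB (f - fi) = -(f - fi) := by rw [sub_eq_add_neg, hI.map_add, hneg, a1, a2]; abel
  have e1 : adj B hB e * (f - fi) = f - fi := by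
    have := congrArg (adj B hB) hf.De
    rw [hI.map_mul, aD, mul_neg, neg_inj] at this
    exact this
  have e2 : (f - fi) * adj B hB e = f - fi := by
    have := congrArg (adj B hB) hf.eD
    rw [hI.map_mul, aD, neg_mul, neg_inj] at this
    exact this
  have e3 : adj B hB w * (f - fi) = - adj B hB e := by
    have := congrArg (adj B hB) hf.Dw
    rw [hI.map_mul, aD, mul_neg] at this
    rw [← this, neg_neg]
  have e4 : (f - fi) * adj B hB w = - adj B hB e := by
    have := congrArg (adj B hB) hf.wD
    rw [hI.map_mul, aD, neg_mul] at this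
    rw [← this, neg_neg]
  have he : adj B hB e = e := by
    have h1 : adj B hB e * e = e := by
      calc adj B hB e * e = adj B hB e * ((f - fi) * w) := by rw [hf.Dw]
        _ = e := by rw [← mul_assoc, e1, hf.Dw]
    have h2 : adj B hB (adj B hB e * e) = adj B hB e * e := by rw [hI.map_mul, hI.invol]
    rwa [h1] at h2
  refine ⟨a1, a2, he, ?_⟩
  rw [he] at e3 e4
  have hwe : adj B hB w * e = adj B hB w := by
    have := congrArg (adj B hB) hf.ew
    rw [hI.map_mul, he] at this
    exact this
  calc adj B hB w = adj B hB w * e := hwe.symm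
    _ = adj B hB w * (f - fi) * w := by rw [mul_assoc, hf.Dw]
    _ = -w := by rw [e3, neg_mul, hf.ew]

include hB in
/-- The partial isometry between the moving parts. -/
theorem exists_partial [Finite F] {ε : F} (hε : ε * ε = 1) (hsym : ∀ x y, B y x = ε * B x y)
    {f fi e w g gi e' w' : Module.End F V} (hf : Moving f fi e w) (hg : Moving g gi e' w')
    (hfiso : ∀ x y, B (f x) (f y) = B x y) (hgiso : ∀ x y, B (g x) (g y) = B x y) {h : Module.End F V}
    (hh : h * f = g * h) (hhu : IsUnit h) :
    ∃ φ : Module.End F V, IsUnit φ ∧ φ * f = g * φ ∧ φ * e = e' * φ ∧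
      ∀ x y, B (φ (e x)) (φ (e y)) = B (e x) (e y) := by
  haveI : Finite V := Module.finite_of_finite F
  haveI : Finite (Module.End F V) := Finite.of_injective _ DFunLike.coe_injective
  have hI := isInvol_adj B hB hε hsym
  obtain ⟨af, afi, ae, aw⟩ := hf.adj_facts B hB hε hsym hfiso
  obtain ⟨ag, -, -, -⟩ := hg.adj_facts B hB hε hsym hgiso
  set a := adj B hB h * h with ha
  have haf : a * f = f * a := by
    have h1 := congrArg (adj B hB) hh
    rw [hI.map_mul, hI.map_mul, af, ag] at h1
    have h2 : adj B hB h * g = f * adj B hB h := by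
      calc adj B hB h * g = f * (fi * adj B hB h) * g := by rw [← mul_assoc f, hf.inv, one_mul]
        _ = f * adj B hB h := by rw [h1, mul_assoc, mul_assoc (adj B hB h), hg.inv', mul_one]
    rw [ha, mul_assoc, hh, ← mul_assoc, h2, mul_assoc]
  have hast : adj B hB a = a := by rw [ha, hI.map_mul, hI.invol]
  have hadjh : IsUnit (adj B hB h) := by
    obtain ⟨u, rfl⟩ := hhu
    refine IsUnit.of_mul_eq_one (adj B hB ((u⁻¹ : (Module.End F V)ˣ) : Module.End F V)) ?_
    rw [← hI.map_mul, u.inv_mul, hI.map_one]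
  obtain ⟨hfe, hfw, hffi, hfie, hfiw⟩ := hf.self_commute
  obtain ⟨hae, haw, hafi⟩ := hf.commute haf
  -- the element θ
  obtain ⟨θ, w₀, hθf, hθe1, hθ1, hθw, hw₀e, hθcomm⟩ : ∃ θ w₀ : Module.End F V, Commute θ f ∧ θ * e = θ ∧
      θ + adj B hB θ = e ∧ (θ - adj B hB θ) * w₀ = e ∧ e * w₀ = w₀ ∧
      ∀ X, Commute X f → Commute X θ ∧ Commute X (adj B hB θ) := by
    rcases eq_or_ne (2 : F) 0 with h2 | h2
    · have hneg : ∀ X : Module.End F V, -X = X := fun X => by
        refine neg_eq_of_add_eq_zero_left ?_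
        rw [← two_smul F X, h2, zero_smul]
      have hst : adj B hB (f * w) = w * fi := by
        rw [hI.map_mul, af, aw, hneg]
      have hsum : f * w + w * fi = e := by
        rw [← hfiw.eq, ← add_mul, show f + fi = f - fi by rw [sub_eq_add_neg, hneg], hf.Dw]
      refine ⟨f * w, e, (Commute.refl f).mul_left hfw.symm, by rw [mul_assoc, hf.we], by rw [hst, hsum], ?_, hf.idem,
        fun X hX => ?_⟩
      · rw [hst, sub_eq_add_neg, hneg, hsum, hf.idem]
      · obtain ⟨-, hw, hfi⟩ := hf.commute hX
        exact ⟨hX.mul_right hw, hst ▸ hw.mul_right hfi⟩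
    · have hsmul : ∀ (c : F) (X : Module.End F V), adj B hB (c • X) = c • adj B hB X := fun c X =>
        adj_eq B hB fun x y => by simp [adj_spec]
      have hneg : ∀ φ, adj B hB (-φ) = - adj B hB φ := fun φ => adj_eq B hB fun x y => by simp [adj_spec]
      have hst : adj B hB ((2⁻¹ : F) • e + (f - fi)) = (2⁻¹ : F) • e - (f - fi) := by
        rw [hI.map_add, hsmul, ae, sub_eq_add_neg f fi, hI.map_add, hneg, af, afi]
        abel
      refine ⟨(2⁻¹ : F) • e + (f - fi), (2⁻¹ : F) • w, ?_, ?_, ?_, ?_, ?_, fun X hX => ?_⟩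
      · exact ((hfe.smul_right _).add_right ((Commute.refl f).sub_right hffi)).symm
      · rw [add_mul, smul_mul_assoc, hf.idem, hf.De]
      · rw [hst]
        calc (2⁻¹ : F) • e + (f - fi) + ((2⁻¹ : F) • e - (f - fi)) = (2⁻¹ : F) • e + (2⁻¹ : F) • e := by abel
          _ = e := by rw [← add_smul, show (2⁻¹ : F) + 2⁻¹ = 1 by field_simp; norm_num, one_smul]
      · rw [hst, show (2⁻¹ : F) • e + (f - fi) - ((2⁻¹ : F) • e - (f - fi)) = (2 : F) • (f - fi) by
          rw [two_smul]; abel, smul_mul_assoc, mul_smul_comm, smul_smul, mul_inv_cancel₀ h2, one_smul, hf.Dw]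
      · rw [mul_smul_comm, hf.ew]
      · obtain ⟨he, -, hfi⟩ := hf.commute hX
        exact ⟨(he.smul_right _).add_right (hX.sub_right hfi),
          hst ▸ (he.smul_right _).sub_right (hX.sub_right hfi)⟩
  have hθe : Commute θ e := (hθcomm e hfe.symm).1.symm
  obtain ⟨c, hcu, hcc, hce, hccomm⟩ := exists_factor_corner hI (a := a) (θ := θ) (e := e) (w := w₀) hf.idem ae hast
    (hadjh.mul hhu) hae (hθcomm a haf).1.symm hθe ((hθcomm θ hθf).2) hθ1 hθe1 hθw hw₀e
  have hcf : Commute f c := hccomm f (Commute.symm haf) hfe (hθcomm f (Commute.refl f)).1 (hθcomm f (Commute.refl f)).2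
  obtain ⟨cu, rfl⟩ := hcu
  set ci : Module.End F V := ((cu⁻¹ : (Module.End F V)ˣ) : Module.End F V) with hci
  have hcif : Commute f ci := hcf.units_inv_right
  have hcie : Commute e ci := hce.symm.units_inv_right
  refine ⟨h * ci, hhu.mul cu⁻¹.isUnit, ?_, ?_, fun x y => ?_⟩
  · rw [mul_assoc, ← hcif.eq, ← mul_assoc, hh, mul_assoc]
  · rw [mul_assoc, ← hcie.eq, ← mul_assoc, hf.intertwine hg hh, mul_assoc]
  · have he : ∀ z, ci (e z) = e (ci z) := fun z => (LinearMap.congr_fun hcie.eq z).symm
    show B (h (ci (e x))) (h (ci (e y))) = _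
    rw [← adj_spec B hB, ← Module.End.mul_apply, ← ha]
    have h2 : a (ci (e x)) = (a * e + (1 - e)) (ci (e x)) := by
      rw [he]
      show a (e (ci x)) = a (e (e (ci x))) + (e (ci x) - e (e (ci x)))
      rw [show e (e (ci x)) = e (ci x) from LinearMap.congr_fun hf.idem _, sub_self, add_zero]
    rw [h2, ← hcc, Module.End.mul_apply, adj_spec, ← Module.End.mul_apply (f := (cu : Module.End F V)),
      ← Module.End.mul_apply (f := (cu : Module.End F V)), hci, cu.mul_inv, Module.End.one_apply, Module.End.one_apply]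

include hB in
/-- An isometry extending a partial one respects the projections. -/
theorem ext_respects {ε : F} (hε : ε * ε = 1) (hsym : ∀ x y, B y x = ε * B x y) {e e' φ k : Module.End F V}
    (hee : e * e = e) (hae : adj B hB e = e) (he'e : e' * e' = e') (hae' : adj B hB e' = e') (hφ : IsUnit φ)
    (hint : φ * e = e' * φ) (hk : IsUnit k) (hkiso : ∀ x y, B (k x) (k y) = B x y)
    (hkφ : k * e = φ * e) : k * e = e' * k := by
  have hI := isInvol_adj B hB hε hsym
  obtain ⟨ku, rfl⟩ := hk
  obtain ⟨φu, rfl⟩ := hφ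
  set ki : Module.End F V := ((ku⁻¹ : (Module.End F V)ˣ) : Module.End F V)
  set φi : Module.End F V := ((φu⁻¹ : (Module.End F V)ˣ) : Module.End F V)
  set k : Module.End F V := (ku : Module.End F V)
  have hki : k * ki = 1 := ku.mul_inv
  have hki' : ki * k = 1 := ku.inv_mul
  have ak : adj B hB k = ki := adj_isometry B hB hki hkiso
  have aki : adj B hB ki = k := by rw [← ak, hI.invol]
  set P := k * e * ki with hP
  have haP : adj B hB P = P := by rw [hP, hI.map_mul, hI.map_mul, hae, ak, aki, mul_assoc]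
  have hQP : e' * P = P := by
    rw [hP, hkφ, ← mul_assoc, ← mul_assoc, ← hint, mul_assoc (φu : Module.End F V) e e, hee]
  have hQ : e' = k * e * φi := by
    rw [hkφ, hint, mul_assoc]
    exact (by rw [show (φu : Module.End F V) * φi = 1 from φu.mul_inv, mul_one])
  have hPQ : P * e' = e' := by
    rw [hQ, hP]
    calc k * e * ki * (k * e * φi) = k * (e * (ki * k) * e) * φi := by simp only [mul_assoc]
      _ = k * e * φi := by rw [hki', mul_one, hee]
  have : P = e' := by
    have h1 := congrArg (adj B hB) hQP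
    rw [hI.map_mul, haP, hae', hPQ] at h1
    exact h1.symm
  rw [← this, hP, mul_assoc, hki', mul_one]

end CfsgLib.KnownB.BilinConj
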