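import Mathlib

/-! Largest abelian subgroups of symmetric and alternating groups. -/

set_option autoImplicit false

namespace CfsgLib.KnownB.AbelianPerm

open Equiv MulAction

/-- largest product of parts with a given sum -/
def g : ℕ → ℕ
  | 0 => 1
  | 1 => 1
  | 2 => 2
  | 3 => 3
  | 4 => 4
  | n + 5 => 3 * g (n + 2)

/-- largest product of parts different from two -/
def h : ℕ → ℕ
  | 0 => 1
  | 1 => 1
  | 2 => 1
  | 3 => 3
  | 4 => 4
  | 5 => 5
  | 6 => 9
  | 7 => 12
  | 8 => 16
  | n + 9 => 3 * h (n + 6)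

lemma g_step : ∀ n, 2 ≤ n → g (n + 3) = 3 * g n
  | n + 2, _ => by show g (n + 5) = _; rw [g]

lemma g_three (m : ℕ) : 3 * g m ≤ g (m + 3) := by
  rcases Nat.lt_or_ge m 2 with hm | hm
  · interval_cases m <;> simp [g]
  · rw [g_step m hm]

lemma g_small : ∀ m, g m ≤ g (m + 1) ∧ 2 * g m ≤ g (m + 2) := by
  intro m
  induction m using Nat.strong_induction_on with
  | _ m ih =>
    rcases Nat.lt_or_ge m 5 with hm | hm
    · interval_cases m <;> simp [g]
    · obtain ⟨j, rfl⟩ : ∃ j, m = j + 3 := ⟨m - 3, by omega⟩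
      obtain ⟨i1, i2⟩ := ih j (by omega)
      rw [g_step j (by omega), show j + 3 + 1 = (j + 1) + 3 by omega, g_step (j + 1) (by omega),
        show j + 3 + 2 = (j + 2) + 3 by omega, g_step (j + 2) (by omega)]
      omega

lemma g_mul : ∀ x m, 1 ≤ x → x * g m ≤ g (x + m) := by
  intro x
  induction x using Nat.strong_induction_on with
  | _ x ih =>
    intro m hx
    rcases Nat.lt_or_ge x 5 with h5 | h5
    · interval_cases x
      · rw [one_mul, add_comm]; exact (g_small m).1
      · rw [add_comm]; exact (g_small m).2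
      · rw [add_comm]; exact g_three m
      · calc 4 * g m = 2 * (2 * g m) := by ring
          _ ≤ 2 * g (m + 2) := Nat.mul_le_mul_left _ (g_small m).2
          _ ≤ g (m + 2 + 2) := (g_small _).2
          _ = g (4 + m) := by ring_nf
    · calc x * g m ≤ (3 * (x - 3)) * g m := Nat.mul_le_mul_right _ (by omega)
        _ = 3 * ((x - 3) * g m) := by ring
        _ ≤ 3 * g (x - 3 + m) := Nat.mul_le_mul_left _ (ih _ (by omega) m (by omega))
        _ ≤ g (x - 3 + m + 3) := g_three _
        _ = g (x + m) := by congr 1; omega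

lemma h_step : ∀ n, 6 ≤ n → h (n + 3) = 3 * h n
  | n + 6, _ => by show h (n + 9) = _; rw [h]

lemma h_small : ∀ m, h m ≤ h (m + 1) ∧ 3 * h m ≤ h (m + 3) ∧ 4 * h m ≤ h (m + 4) ∧ 5 * h m ≤ h (m + 5) := by
  intro m
  induction m using Nat.strong_induction_on with
  | _ m ih =>
    rcases Nat.lt_or_ge m 9 with hm | hm
    · interval_cases m <;> simp [h]
    · obtain ⟨j, rfl⟩ : ∃ j, m = j + 3 := ⟨m - 3, by omega⟩
      obtain ⟨i1, i3, i4, i5⟩ := ih j (by omega)
      rw [h_step j (by omega), show j + 3 + 1 = (j + 1) + 3 by omega, h_step (j + 1) (by omega),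
        h_step (j + 3) (by omega), h_step j (by omega),
        show j + 3 + 4 = (j + 4) + 3 by omega, h_step (j + 4) (by omega),
        show j + 3 + 5 = (j + 5) + 3 by omega, h_step (j + 5) (by omega)]
      omega

lemma h_mul : ∀ x m, 1 ≤ x → x ≠ 2 → x * h m ≤ h (x + m) := by
  intro x
  induction x using Nat.strong_induction_on with
  | _ x ih =>
    intro m hx hx2
    rcases Nat.lt_or_ge x 6 with h6 | h6
    · obtain ⟨a, b, c, d⟩ := h_small m
      interval_cases x
      · rw [one_mul, add_comm]; exact a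
      · exact absurd rfl hx2
      · rw [add_comm]; exact b
      · rw [add_comm]; exact c
      · rw [add_comm]; exact d
    · calc x * h m ≤ (3 * (x - 3)) * h m := Nat.mul_le_mul_right _ (by omega)
        _ = 3 * ((x - 3) * h m) := by ring
        _ ≤ 3 * h (x - 3 + m) := Nat.mul_le_mul_left _ (ih _ (by omega) m (by omega) (by omega))
        _ ≤ h (x - 3 + m + 3) := (h_small _).2.1
        _ = h (x + m) := by congr 1; omega

lemma prod_le_g {ι : Type*} (s : Finset ι) (f : ι → ℕ) (hf : ∀ i ∈ s, 1 ≤ f i) : ∏ i ∈ s, f i ≤ g (∑ i ∈ s, f i) := by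
  classical
  induction s using Finset.induction_on with
  | empty => simp [g]
  | insert a s ha ih =>
    rw [Finset.prod_insert ha, Finset.sum_insert ha]
    exact (Nat.mul_le_mul_left _ (ih fun i hi => hf i (Finset.mem_insert_of_mem hi))).trans
      (g_mul _ _ (hf a (Finset.mem_insert_self a s)))

lemma prod_le_h {ι : Type*} (s : Finset ι) (f : ι → ℕ) (hf : ∀ i ∈ s, 1 ≤ f i ∧ f i ≠ 2) :
    ∏ i ∈ s, f i ≤ h (∑ i ∈ s, f i) := by
  classical
  induction s using Finset.induction_on with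
  | empty => simp [h]
  | insert a s ha ih =>
    rw [Finset.prod_insert ha, Finset.sum_insert ha]
    obtain ⟨h1, h2⟩ := hf a (Finset.mem_insert_self a s)
    exact (Nat.mul_le_mul_left _ (ih fun i hi => hf i (Finset.mem_insert_of_mem hi))).trans (h_mul _ _ h1 h2)

section orbits

universe u

variable {α : Type u} [Fintype α] (A : Subgroup (Perm α)) (hA : IsMulCommutative A)

include hA in
theorem orbit_data : ∃ (Ω : Type u) (_ : Fintype Ω) (s : Ω → ℕ), (∀ ω, 1 ≤ s ω) ∧ ∑ ω, s ω = Fintype.card α ∧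
    Nat.card A ∣ ∏ ω, s ω ∧
    (Nat.card A = ∏ ω, s ω → ∀ ω, s ω = 2 → ∃ a ∈ A, ∃ x y : α, x ≠ y ∧ a x = y ∧ ∀ z, z ≠ x → z ≠ y → a z = z) := by
  classical
  let _ : CommGroup A := { (inferInstance : Group A) with mul_comm := hA.is_comm.comm }
  let Ω := orbitRel.Quotient A α
  have : Fintype Ω := Fintype.ofFinite _
  let r : Ω → α := fun ω => ω.out
  let Φ : A →* (∀ ω : Ω, A ⧸ stabilizer A (r ω)) := MonoidHom.mk' (fun a ω => QuotientGroup.mk a) (fun a b => by funext ω; rfl)
  have hrep : ∀ z : α, ∃ b : A, b • r (Quotient.mk'' z) = z := by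
    intro z
    have : r (Quotient.mk'' z) ∈ orbit A z := by
      rw [← orbitRel_apply]; exact Quotient.exact (Quotient.out_eq _)
    obtain ⟨b, hb⟩ := this
    exact ⟨b⁻¹, by rw [← hb, inv_smul_smul]⟩
  have hfix : ∀ (a : A) (z : α), a • r (Quotient.mk'' z) = r (Quotient.mk'' z) → a • z = z := by
    intro a z h
    obtain ⟨b, hb⟩ := hrep z
    rw [← hb, smul_smul, mul_comm, ← smul_smul, h]
  have hinj : Function.Injective Φ := (injective_iff_map_eq_one Φ).2 fun a ha => by
    apply Subtype.ext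
    ext z
    exact hfix a z ((QuotientGroup.eq_one_iff a).1 (congrFun ha (Quotient.mk'' z)))
  refine ⟨Ω, inferInstance, fun ω => Nat.card (A ⧸ stabilizer A (r ω)), fun ω => Nat.card_pos, ?_, ?_, ?_⟩
  · rw [← Nat.card_eq_fintype_card, Nat.card_congr (selfEquivSigmaOrbits' A α), Nat.card_sigma]
    refine Finset.sum_congr rfl fun ω _ => ?_
    dsimp only
    rw [← Nat.card_congr (orbitEquivQuotientStabilizer A (r ω))]
    exact Nat.card_congr (Equiv.setCongr (orbitRel.Quotient.orbit_eq_orbit_out ω Quotient.out_eq').symm)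
  · rw [← Nat.card_pi, Nat.card_congr (MonoidHom.ofInjective hinj).toEquiv]
    exact Subgroup.card_subgroup_dvd_card _
  · intro hcard ω hω
    simp only at hcard hω
    have hsurj : Function.Surjective Φ := ((Nat.bijective_iff_injective_and_card Φ).2 ⟨hinj, by rw [Nat.card_pi]; exact hcard⟩).2
    have : Nontrivial (A ⧸ stabilizer A (r ω)) := Finite.one_lt_card_iff_nontrivial.1 (by omega)
    obtain ⟨c, hc⟩ := exists_ne (1 : A ⧸ stabilizer A (r ω))
    obtain ⟨a, ha⟩ := hsurj (fun ω' => if e : ω' = ω then e ▸ c else 1)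
    have haω : (QuotientGroup.mk a : A ⧸ stabilizer A (r ω)) = c := by
      have := congrFun ha ω; simpa [Φ] using this
    have hay : a • r ω ≠ r ω := fun e => hc (haω ▸ (QuotientGroup.eq_one_iff a).2 e)
    refine ⟨a, a.2, r ω, a • r ω, hay.symm, rfl, fun z hzx hzy => ?_⟩
    by_cases hz : (Quotient.mk'' z : Ω) = ω
    · exfalso
      have hcard2 : Nat.card (orbit A (r ω)) = 2 := by rw [Nat.card_congr (orbitEquivQuotientStabilizer A (r ω))]; exact hω
      obtain ⟨b, hb⟩ := hrep z
      rw [hz] at hb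
      have hsub : ({r ω, a • r ω, z} : Finset α) ⊆ (orbit A (r ω)).toFinset := by
        intro y hy
        simp only [Finset.mem_insert, Finset.mem_singleton] at hy
        rw [Set.mem_toFinset]
        rcases hy with rfl | rfl | rfl
        · exact mem_orbit_self _
        · exact mem_orbit _ _
        · exact ⟨b, hb⟩
      have := Finset.card_le_card hsub
      rw [Set.toFinset_card, ← Nat.card_eq_fintype_card, hcard2, Finset.card_eq_three.2 ⟨r ω, a • r ω, z, hay.symm, hzx.symm, hzy.symm, rfl⟩] at this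
      omega
    · apply hfix a z
      have h1 := congrFun ha (Quotient.mk'' z)
      have h2 : Φ a (Quotient.mk'' z) = 1 := h1.trans (dif_neg hz)
      exact (QuotientGroup.eq_one_iff a).1 h2

include hA in
theorem card_le_g : Nat.card A ≤ g (Fintype.card α) := by
  obtain ⟨Ω, _, s, h1, hsum, hdvd, -⟩ := orbit_data A hA
  rw [← hsum]
  exact (Nat.le_of_dvd (Finset.prod_pos fun i _ => h1 i) hdvd).trans (prod_le_g _ _ fun i _ => h1 i)

include hA in
theorem card_le_even [DecidableEq α] (heven : A ≤ alternatingGroup α) {B : ℕ} (hh : h (Fintype.card α) ≤ B)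
    (hg : g (Fintype.card α) ≤ 2 * B) : Nat.card A ≤ B := by
  classical
  obtain ⟨Ω, _, s, h1, hsum, hdvd, htrans⟩ := orbit_data A hA
  have hpos : 0 < ∏ ω, s ω := Finset.prod_pos fun i _ => h1 i
  by_contra hcon
  obtain ⟨d, hd⟩ := hdvd
  have hfull : Nat.card A = ∏ ω, s ω := by
    have hle := (prod_le_g Finset.univ s fun i _ => h1 i)
    rw [hsum] at hle
    rcases d with _ | _ | d
    · simp at hd; omega
    · simpa using hd.symm
    · exfalso
      have : Nat.card A * 2 ≤ Nat.card A * (d + 2) := Nat.mul_le_mul_left _ (by omega)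
      rw [← hd] at this
      omega
  obtain ⟨ω, hω⟩ : ∃ ω, s ω = 2 := by
    by_contra hno
    push Not at hno
    have hle := prod_le_h Finset.univ s fun i _ => ⟨h1 i, hno i⟩
    rw [hsum, ← hfull] at hle
    omega
  obtain ⟨a, ha, x, y, hxy, hax, hfix⟩ := htrans hfull ω hω
  have hay : a y = x := by
    by_contra hne
    rcases eq_or_ne (a y) y with e | e
    · exact hxy (a.injective (hax.trans e.symm))
    · exact e (a.injective (hfix _ hne e))
  have : a = swap x y := by
    ext z
    rcases eq_or_ne z x with rfl | hzx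
    · simp [hax]
    rcases eq_or_ne z y with rfl | hzy
    · simp [hay]
    · rw [hfix z hzx hzy, swap_apply_of_ne_of_ne hzx hzy]
  have hsign := Perm.mem_alternatingGroup.1 (heven ha)
  rw [this, Perm.sign_swap hxy] at hsign
  simp at hsign

end orbits

/-! ### examples -/

variable (H : Type) [CommGroup H] [Fintype H] [DecidableEq H]

abbrev Z3 := Multiplicative (ZMod 3)

/-- points for the block construction -/
abbrev Pts (u t : ℕ) := (Fin u × H) ⊕ (Fin t × Z3)

def blockHom (u t : ℕ) : ((Fin u → H) × (Fin t → Z3)) →* Perm (Pts H u t) where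
  toFun f := Equiv.sumCongr (Equiv.prodCongrRight fun i => Equiv.mulLeft (f.1 i)) (Equiv.prodCongrRight fun i => Equiv.mulLeft (f.2 i))
  map_one' := by ext (⟨i, a⟩ | ⟨i, a⟩) <;> simp
  map_mul' f f' := by ext (⟨i, a⟩ | ⟨i, a⟩) <;> simp [mul_assoc]

theorem blockHom_injective (u t : ℕ) : Function.Injective (blockHom H u t) := by
  intro f f' e
  refine Prod.ext (funext fun i => ?_) (funext fun i => ?_)
  · simpa [blockHom] using congrFun (congrArg DFunLike.coe e) (Sum.inl (i, 1))
  · simpa [blockHom] using congrFun (congrArg DFunLike.coe e) (Sum.inr (i, 1))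

theorem sign_blockHom (hH : ∀ a : H, Perm.sign (Equiv.mulLeft a) = 1) (u t : ℕ) (f) :
    Perm.sign (blockHom H u t f) = 1 := by
  have h3 : ∀ a : Z3, Perm.sign (Equiv.mulLeft a) = 1 := by decide
  simp [blockHom, Perm.sign_sumCongr, Perm.sign_prodCongrRight, hH, h3]

theorem exists_sym {n u t : ℕ} (hn : u * Fintype.card H + t * 3 = n) :
    ∃ A : Subgroup (Perm (Fin n)), IsMulCommutative A ∧ Nat.card A = Fintype.card H ^ u * 3 ^ t ∧
      ((∀ a : H, Perm.sign (Equiv.mulLeft a) = 1) → A ≤ alternatingGroup (Fin n)) := by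
  let e : Pts H u t ≃ Fin n := Fintype.equivFinOfCardEq (by simp [hn])
  let φ : ((Fin u → H) × (Fin t → Z3)) →* Perm (Fin n) := e.permCongrHom.toMonoidHom.comp (blockHom H u t)
  have hφ : Function.Injective φ := e.permCongrHom.injective.comp (blockHom_injective H u t)
  refine ⟨φ.range, ⟨⟨?_⟩⟩, ?_, fun hH => ?_⟩
  · rintro ⟨_, a, rfl⟩ ⟨_, b, rfl⟩
    apply Subtype.ext
    show φ a * φ b = φ b * φ a
    rw [← map_mul, ← map_mul, mul_comm]
  · rw [← Nat.card_congr (MonoidHom.ofInjective hφ).toEquiv, Nat.card_prod, Nat.card_fun, Nat.card_fun]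
    simp
  · rintro _ ⟨f, rfl⟩
    rw [Perm.mem_alternatingGroup]
    show Perm.sign (e.permCongr _) = 1
    rw [Perm.sign_permCongr, sign_blockHom H hH]

lemma g_val (j : ℕ) : g (3 * j) = 3 ^ j ∧ g (3 * j + 4) = 4 * 3 ^ j ∧ g (3 * j + 2) = 2 * 3 ^ j := by
  induction j with
  | zero => simp [g]
  | succ j ih =>
    obtain ⟨a, b, c⟩ := ih
    refine ⟨?_, ?_, ?_⟩
    · rcases j with _ | j
      · simp [g]
      · rw [show 3 * (j + 1 + 1) = 3 * (j + 1) + 3 by ring, g_step _ (by omega), a]; ring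
    · rw [show 3 * (j + 1) + 4 = (3 * j + 4) + 3 by ring, g_step _ (by omega), b]; ring
    · rw [show 3 * (j + 1) + 2 = (3 * j + 2) + 3 by ring, g_step _ (by omega), c]; ring

lemma h_val (j : ℕ) : h (3 * j + 8) = 16 * 3 ^ j := by
  induction j with
  | zero => simp [h]
  | succ j ih => rw [show 3 * (j + 1) + 8 = (3 * j + 8) + 3 by ring, h_step _ (by omega), ih]; ring

theorem greatest_sym {n u t : ℕ} (hn : u * Fintype.card H + t * 3 = n) {c : ℕ} (hc : Fintype.card H ^ u * 3 ^ t = c)
    (hg : g n ≤ c) : IsGreatest {c : ℕ | ∃ A : Subgroup (Perm (Fin n)), IsMulCommutative A ∧ Nat.card A = c} c := by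
  obtain ⟨A, hA, hcard, -⟩ := exists_sym H hn
  refine ⟨⟨A, hA, hcard.trans hc⟩, ?_⟩
  rintro d ⟨A, hA, rfl⟩
  exact (card_le_g A hA).trans (by simpa using hg)

theorem greatest_alt {n u t : ℕ} (hn : u * Fintype.card H + t * 3 = n) {c : ℕ} (hc : Fintype.card H ^ u * 3 ^ t = c)
    (hH : ∀ a : H, Perm.sign (Equiv.mulLeft a) = 1) (hh : h n ≤ c) (hg : g n ≤ 2 * c) :
    IsGreatest {c : ℕ | ∃ A : Subgroup (alternatingGroup (Fin n)), IsMulCommutative A ∧ Nat.card A = c} c := by
  obtain ⟨A, hA, hcard, heven⟩ := exists_sym H hn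
  refine ⟨⟨A.subgroupOf (alternatingGroup (Fin n)), ⟨⟨fun a b => ?_⟩⟩, ?_⟩, ?_⟩
  · exact Subtype.ext (Subtype.ext (congrArg Subtype.val (hA.is_comm.comm ⟨_, a.2⟩ ⟨_, b.2⟩) :))
  · rw [Nat.card_congr (Subgroup.subgroupOfEquivOfLe (heven hH)).toEquiv, hcard, hc]
  rintro d ⟨B, hB, rfl⟩
  rw [Nat.card_congr (B.equivMapOfInjective (alternatingGroup (Fin n)).subtype Subtype.val_injective).toEquiv]
  refine card_le_even _ ⟨⟨?_⟩⟩ ?_ (by simpa using hh) (by simpa using hg)
  · rintro ⟨_, a, ha, rfl⟩ ⟨_, b, hb, rfl⟩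
    apply Subtype.ext
    exact congrArg (fun x : B => ((x : alternatingGroup (Fin n)) : Perm (Fin n))) (hB.is_comm.comm ⟨a, ha⟩ ⟨b, hb⟩)
  · rintro _ ⟨a, -, rfl⟩
    exact a.2

lemma h_le_g : ∀ m, h m ≤ g m := by
  intro m
  induction m using Nat.strong_induction_on with
  | _ m ih =>
    rcases Nat.lt_or_ge m 9 with hm | hm
    · interval_cases m <;> simp [h, g]
    · obtain ⟨j, rfl⟩ : ∃ j, m = j + 3 := ⟨m - 3, by omega⟩
      rw [h_step j (by omega), g_step j (by omega)]
      exact Nat.mul_le_mul_left _ (ih j (by omega))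

end CfsgLib.KnownB.AbelianPerm
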