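import Cfsg.Agent.Lib.KnownB.BilinConj
import Cfsg.Agent.Lib.Geometry.Symplectic
import Cfsg.Agent.Lib.Geometry.SymplecticBasis
import Cfsg.Agent.Lib.Geometry.OrthMatrix

/-!
Semisimple elements of symplectic groups, and odd order semisimple elements of orthogonal groups: conjugacy is
controlled by the general linear group.
-/

set_option autoImplicit false

namespace CfsgLib.KnownB.BilinConj

open CfsgLib.KnownB.NormTrick CfsgLib.Geometry QuadraticMap

universe u v

variable {F : Type u} [Field F] {V : Type v} [AddCommGroup V] [Module F V] [FiniteDimensional F V]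

theorem pow_conj {f g h : Module.End F V} (hh : h * f = g * h) : ∀ k : ℕ, h * f ^ k = g ^ k * h
  | 0 => by simp
  | k + 1 => by rw [pow_succ, pow_succ, ← mul_assoc, pow_conj hh k, mul_assoc, hh, mul_assoc]

theorem pow_eq_one_of_conj {f g h : Module.End F V} (hh : h * f = g * h) (hhu : IsUnit h) {m : ℕ} (hfm : f ^ m = 1) :
    g ^ m = 1 := by
  have := pow_conj hh m
  rw [hfm, mul_one] at this
  exact hhu.mul_right_cancel (this.symm.trans (one_mul h).symm)

/-- On the fixed part of an element of odd order `f` is the identity. -/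
theorem fixed_of_odd {f fi e w : Module.End F V} (hf : Moving f fi e w) {m : ℕ} (hm : Odd m) (hfm : f ^ m = 1) :
    f * (1 - e) = 1 - e := by
  have h1 : (f - fi) * (1 - e) = 0 := by rw [mul_sub, mul_one, hf.De, sub_self]
  have h2 : f * f * (1 - e) = 1 - e := by
    rw [sub_mul, sub_eq_zero] at h1
    rw [mul_assoc, h1, ← mul_assoc, hf.inv, one_mul]
  have h3 : ∀ k : ℕ, f ^ (2 * k) * (1 - e) = 1 - e := by
    intro k
    induction k with
    | zero => simp
    | succ k ih => rw [show 2 * (k + 1) = 2 * k + 2 by ring, pow_add, mul_assoc, _root_.sq, h2, ih]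
  obtain ⟨k, rfl⟩ := hm
  calc f * (1 - e) = f * (f ^ (2 * k) * (1 - e)) := by rw [h3]
    _ = 1 - e := by rw [← mul_assoc, ← pow_succ', hfm, one_mul]

/-- Final step when `f` has odd order. -/
theorem conj_of_odd {f fi e w g gi e' w' φ k : Module.End F V} (hf : Moving f fi e w) (hg : Moving g gi e' w')
    {m : ℕ} (hm : Odd m) (hfm : f ^ m = 1) (hgm : g ^ m = 1) (hint : φ * f = g * φ)
    (hkφ : k * e = φ * e) (hke : k * e = e' * k) : k * f = g * k := by
  have hfe := hf.self_commute.1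
  have h1 : k * f * e = g * k * e := by
    rw [mul_assoc, hfe.eq, ← mul_assoc, hkφ, mul_assoc, ← hfe.eq, ← mul_assoc, hint, mul_assoc g k e, hkφ, ← mul_assoc]
  have h2 : k * f * (1 - e) = g * k * (1 - e) := by
    rw [mul_assoc, fixed_of_odd hf hm hfm, mul_assoc g, show k * (1 - e) = (1 - e') * k by
      rw [mul_sub, sub_mul, hke, mul_one, one_mul], ← mul_assoc g, fixed_of_odd hg hm hgm]
  calc k * f = k * f * e + k * f * (1 - e) := by rw [← mul_add, add_sub_cancel, mul_one]
    _ = g * k := by rw [h1, h2, ← mul_add, add_sub_cancel, mul_one]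

/-- Witt extension in the form used here. -/
theorem exists_ext_alt [Finite F] (B : LinearMap.BilinForm F V) (hB : B.Nondegenerate) (hA : B.IsAlt)
    (φ E : Module.End F V) (hφ : IsUnit φ) (hE : E * E = E)
    (hiso : ∀ x y, B (φ (E x)) (φ (E y)) = B (E x) (E y)) :
    ∃ k : V ≃ₗ[F] V, (∀ x y, B (k x) (k y) = B x y) ∧ (k : Module.End F V) * E = φ * E := by
  have hfix : ∀ x ∈ LinearMap.range E, E x = x := by
    rintro _ ⟨x, rfl⟩
    exact LinearMap.congr_fun hE x
  obtain ⟨k, hk, hkx⟩ := alt_witt hB hA (LinearMap.range E) (φ ∘ₗ (LinearMap.range E).subtype)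
    ((((Module.End.isUnit_iff _).1 hφ).1).comp Subtype.val_injective)
    fun x x' => by
      have := hiso x x'
      rwa [hfix x x.2, hfix x' x'.2] at this
  refine ⟨k, altTransvGroup_preserves hA hk, LinearMap.ext fun x => ?_⟩
  exact hkx ⟨E x, x, rfl⟩

/-- An isometry between the ranges of two conjugate self-adjoint idempotents of an alternating form. -/
theorem exists_alt_iso (B : LinearMap.BilinForm F V) (hB : B.Nondegenerate) (hA : B.IsAlt)
    {P Q h : Module.End F V} (hP : P * P = P) (hQ : Q * Q = Q)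
    (haP : ∀ x y, B (P x) y = B x (P y)) (haQ : ∀ x y, B (Q x) y = B x (Q y)) (hhu : IsUnit h)
    (hint : h * P = Q * h) :
    ∃ Ψ : Module.End F V, Q * (Ψ * P) = Ψ * P ∧ (∀ x, Ψ (P x) = 0 → P x = 0) ∧
      ∀ x y, B (Ψ (P x)) (Ψ (P y)) = B (P x) (P y) := by
  have std : ∀ (R : Module.End F V), R * R = R → (∀ x y, B (R x) y = B x (R y)) →
      ∃ (m : ℕ) (b : Module.Basis (Fin m ⊕ Fin m) F (LinearMap.range R)),
        (∀ i j, B (b (Sum.inl i)) (b (Sum.inr j)) = if i = j then 1 else 0) ∧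
        (∀ i j, B (b (Sum.inl i)) (b (Sum.inl j)) = 0) ∧ (∀ i j, B (b (Sum.inr i)) (b (Sum.inr j)) = 0) := by
    intro R hR haR
    let B' : LinearMap.BilinForm F (LinearMap.range R) := B.restrict (LinearMap.range R)
    have hA' : B'.IsAlt := fun x => hA x
    obtain ⟨m, k, b, h1, h2, h3, h4⟩ := exists_sympBasis_aux _ rfl B' hA'
    rcases k with _ | k
    · refine ⟨m, b.reindex (Equiv.sumEmpty _ (Fin 0)), fun i j => ?_, fun i j => ?_, fun i j => ?_⟩
      · simpa [B'] using h1 i j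
      · simpa [B'] using h2 i j
      · simpa [B'] using h3 i j
    · exfalso
      have hfix : ∀ z : LinearMap.range R, R (z : V) = z := fun z => by
        obtain ⟨y, hy⟩ := z.2
        rw [← hy]
        exact LinearMap.congr_fun hR y
      refine b.ne_zero (Sum.inr 0) (Subtype.ext ?_)
      refine hB.1 _ fun v => ?_
      have := h4 0 ⟨R v, v, rfl⟩
      change B _ (R v) = 0 at this
      rw [← haR] at this
      exact (congrArg (fun t => B t v) (hfix _)).symm.trans this
  obtain ⟨m, b, b1, b2, b3⟩ := std P hP haP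
  obtain ⟨m', b', c1, c2, c3⟩ := std Q hQ haQ
  have hinj : Function.Injective h := ((Module.End.isUnit_iff _).1 hhu).1
  have hmap : LinearMap.range Q = (LinearMap.range P).map h := by
    refine le_antisymm ?_ ?_
    · rintro _ ⟨x, rfl⟩
      obtain ⟨y, rfl⟩ := ((Module.End.isUnit_iff _).1 hhu).2 x
      exact ⟨P y, ⟨y, rfl⟩, LinearMap.congr_fun hint y⟩
    · rintro _ ⟨_, ⟨y, rfl⟩, rfl⟩
      exact ⟨h y, (LinearMap.congr_fun hint y).symm⟩
  have hdim : Module.finrank F (LinearMap.range P) = Module.finrank F (LinearMap.range Q) := by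
    rw [hmap]
    exact (Submodule.equivMapOfInjective h hinj _).finrank_eq
  have hm : m' = m := by
    rw [Module.finrank_eq_card_basis b, Module.finrank_eq_card_basis b', Fintype.card_sum, Fintype.card_sum,
      Fintype.card_fin, Fintype.card_fin] at hdim
    omega
  subst hm
  let ψ : LinearMap.range P ≃ₗ[F] LinearMap.range Q := b.equiv b' (Equiv.refl _)
  let Ψ : Module.End F V := (LinearMap.range Q).subtype ∘ₗ (ψ : _ →ₗ[F] _) ∘ₗ P.rangeRestrict
  have hψB : ∀ z z' : LinearMap.range P, B (ψ z : V) (ψ z') = B (z : V) z' := by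
    have key : B.compl₁₂ ((LinearMap.range Q).subtype ∘ₗ (ψ : _ →ₗ[F] _)) ((LinearMap.range Q).subtype ∘ₗ (ψ : _ →ₗ[F] _)) =
        B.compl₁₂ (LinearMap.range P).subtype (LinearMap.range P).subtype := by
      refine LinearMap.ext_basis b b fun i j => ?_
      simp only [LinearMap.compl₁₂_apply, LinearMap.comp_apply, Submodule.subtype_apply, LinearEquiv.coe_coe, ψ,
        Module.Basis.equiv_apply, Equiv.refl_apply]
      have sw : ∀ u v : V, B u v = - B v u := fun u v => (LinearMap.IsAlt.neg hA v u).symm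
      rcases i with i | i <;> rcases j with j | j
      · rw [b2, c2]
      · rw [b1, c1]
      · rw [sw (b' _ : V), sw (b (Sum.inr i) : V), b1, c1]
      · rw [b3, c3]
    exact fun z z' => LinearMap.congr_fun₂ key z z'
  have hPP : ∀ x, P (P x) = P x := LinearMap.congr_fun hP
  refine ⟨Ψ, LinearMap.ext fun x => ?_, fun x hx => ?_, fun x y => ?_⟩
  · obtain ⟨y, hy⟩ := (ψ (P.rangeRestrict (P x))).2
    show Q (ψ (P.rangeRestrict (P x)) : V) = _
    rw [← hy]
    exact (LinearMap.congr_fun hQ y).trans hy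
  · have h0 : ψ (P.rangeRestrict (P x)) = 0 := Subtype.ext hx
    rw [LinearEquiv.map_eq_zero_iff] at h0
    exact (hPP x).symm.trans (congrArg Subtype.val h0)
  · refine (hψB _ _).trans ?_
    show B (P (P x)) (P (P y)) = _
    rw [hPP, hPP]

/-- Conjugate semisimple isometries of an alternating form are conjugate by an isometry. -/
theorem exists_conj_alt [Finite F] (p : ℕ) [Fact p.Prime] [CharP F p] (B : LinearMap.BilinForm F V)
    (hB : B.Nondegenerate) (hA : B.IsAlt) {f g h : Module.End F V} {m : ℕ} (hm : ¬ p ∣ m) (hfm : f ^ m = 1)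
    (hfiso : ∀ x y, B (f x) (f y) = B x y) (hgiso : ∀ x y, B (g x) (g y) = B x y)
    (hhu : IsUnit h) (hh : h * f = g * h) :
    ∃ k : V ≃ₗ[F] V, (∀ x y, B (k x) (k y) = B x y) ∧ (k : Module.End F V) * f = g * k := by
  classical
  have hε : (-1 : F) * -1 = 1 := by norm_num
  have hsym : ∀ x y, B y x = -1 * B x y := fun x y => by rw [← LinearMap.IsAlt.neg hA x y, neg_one_mul]
  have hmF : (m : F) ≠ 0 := by rwa [Ne, CharP.cast_eq_zero_iff F p]
  have hgm := pow_eq_one_of_conj hh hhu hfm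
  obtain ⟨e, w, hf⟩ := exists_moving hmF hfm
  obtain ⟨e', w', hg⟩ := exists_moving hmF hgm
  set fi := f ^ (m - 1)
  set gi := g ^ (m - 1)
  obtain ⟨φ, hφu, hφf, hφe, hφiso⟩ := exists_partial B hB hε hsym hf hg hfiso hgiso hh hhu
  obtain ⟨af, afi, ae, -⟩ := hf.adj_facts B hB hε hsym hfiso
  obtain ⟨ag, agi, ae', -⟩ := hg.adj_facts B hB hε hsym hgiso
  by_cases hodd : Odd m
  · obtain ⟨k, hk, hkφ⟩ := exists_ext_alt B hB hA φ e hφu hf.idem hφiso
    exact ⟨k, hk, conj_of_odd hf hg hodd hfm hgm hφf hkφ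
      (ext_respects B hB hε hsym hf.idem ae hg.idem ae' hφu hφe ((Module.End.isUnit_iff _).2 k.bijective) hk hkφ)⟩
  have h2 : (2 : F) ≠ 0 := fun h2 => hodd <| Nat.not_even_iff_odd.1 fun he => by
    have hp2 : p = 2 := (Nat.prime_dvd_prime_iff_eq Fact.out Nat.prime_two).1
      ((CharP.cast_eq_zero_iff F p 2).1 (by exact_mod_cast h2))
    exact hm (hp2 ▸ he.two_dvd)
  have hI := isInvol_adj B hB hε hsym
  have adj_one_add : ∀ f₁ : Module.End F V, adj B hB ((2⁻¹ : F) • (1 + f₁)) = (2⁻¹ : F) • (1 + adj B hB f₁) :=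
    fun f₁ => adj_eq B hB fun x y => by simp [adj_spec]
  set p₁ := ((2⁻¹ : F) • (1 + f)) * (1 - e) with hp₁
  set q₁ := ((2⁻¹ : F) • (1 + g)) * (1 - e') with hq₁
  have facts : ∀ (f₁ fi₁ e₁ w₁ : Module.End F V), Moving f₁ fi₁ e₁ w₁ → adj B hB f₁ = fi₁ → adj B hB e₁ = e₁ →
      let P := ((2⁻¹ : F) • (1 + f₁)) * (1 - e₁)
      P * P = P ∧ adj B hB P = P ∧ e₁ * P = 0 ∧ P * e₁ = 0 ∧ f₁ * P = P ∧
        f₁ * (1 - e₁ - P) = -(1 - e₁ - P) ∧ Commute f₁ P := by
    intro f₁ fi₁ e₁ w₁ hM a1 a2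
    have hfe := hM.self_commute.1
    have hz : e₁ * (1 - e₁) = 0 := by rw [mul_sub, mul_one, hM.idem, sub_self]
    have hz' : (1 - e₁) * e₁ = 0 := by rw [sub_mul, one_mul, hM.idem, sub_self]
    have hzz : (1 - e₁) * (1 - e₁) = 1 - e₁ := by rw [mul_sub, mul_one, hz', sub_zero]
    have hc : Commute f₁ (1 - e₁) := (Commute.one_right f₁).sub_right hfe
    have hD0 : f₁ * (1 - e₁) = fi₁ * (1 - e₁) := by
      rw [← sub_eq_zero, ← sub_mul, mul_sub, mul_one, hM.De, sub_self]
    have hff : f₁ * (f₁ * (1 - e₁)) = 1 - e₁ := by rw [hD0, ← mul_assoc, hM.inv, one_mul]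
    set P := ((2⁻¹ : F) • (1 + f₁)) * (1 - e₁) with hP
    have hfP : f₁ * P = P := by
      rw [hP, smul_mul_assoc, mul_smul_comm, add_mul, one_mul, mul_add, hff, add_comm]
    have hcP : Commute f₁ P := (((Commute.one_right f₁).add_right (Commute.refl f₁)).smul_right _).mul_right hc
    have hPz : P * (1 - e₁) = P := by rw [hP, mul_assoc, hzz]
    have heP : e₁ * P = 0 := by
      have : Commute e₁ ((2⁻¹ : F) • (1 + f₁)) := ((Commute.one_right e₁).add_right hfe.symm).smul_right _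
      rw [hP, ← mul_assoc, this.eq, mul_assoc, hz, mul_zero]
    have hzP : (1 - e₁) * P = P := by rw [sub_mul, one_mul, heP, sub_zero]
    refine ⟨?_, ?_, heP, by rw [hP, mul_assoc, hz', mul_zero], hfP, ?_, hcP⟩
    · calc P * P = ((2⁻¹ : F) • (1 + f₁)) * ((1 - e₁) * P) := mul_assoc _ _ _
        _ = P := by
          rw [hzP, smul_mul_assoc, add_mul, one_mul, hfP, ← two_smul F, smul_smul, inv_mul_cancel₀ h2, one_smul]
    · have az : adj B hB (1 - e₁) = 1 - e₁ := adj_eq B hB fun x y => by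
        simp only [LinearMap.sub_apply, Module.End.one_apply, map_sub, LinearMap.sub_apply]
        rw [← adj_spec B hB e₁ x y, a2]
      have hfie : Commute fi₁ (1 - e₁) := (Commute.one_right fi₁).sub_right hM.self_commute.2.2.2.1
      rw [hP, hI.map_mul, az, adj_one_add, a1, mul_smul_comm, smul_mul_assoc, mul_add, add_mul, mul_one, one_mul, hD0,
        hfie.eq]
    · have e1 : f₁ * (1 - e₁ - P) = f₁ * (1 - e₁) - P := by rw [mul_sub f₁ (1 - e₁) P, hfP]
      have e2 : P + P = (1 - e₁) + f₁ * (1 - e₁) := by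
        rw [hP, smul_mul_assoc, ← add_smul, show (2⁻¹ : F) + 2⁻¹ = 1 by field_simp; norm_num, one_smul, add_mul,
          one_mul]
      rw [e1, neg_sub, eq_sub_iff_add_eq, sub_add_eq_add_sub, add_comm _ (1 - e₁), ← e2, add_sub_cancel_right]
  obtain ⟨hpp, hpa, hep, hpe, hfp, hfm', hfpc⟩ := facts f fi e w hf af ae
  obtain ⟨hqq, hqa, heq, hqe, hgq, hgm', -⟩ := facts g gi e' w' hg ag ae'
  rw [← hp₁] at hpp hpa hep hpe hfp hfm' hfpc
  rw [← hq₁] at hqq hqa heq hqe hgq hgm'
  have hpq : h * p₁ = q₁ * h := by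
    have he := hf.intertwine hg hh
    have h1 : h * (1 - e) = (1 - e') * h := by rw [mul_sub, sub_mul, he, mul_one, one_mul]
    have h2' : h * ((2⁻¹ : F) • (1 + f)) = ((2⁻¹ : F) • (1 + g)) * h := by
      rw [mul_smul_comm, smul_mul_assoc, mul_add, add_mul, hh, mul_one, one_mul]
    rw [hp₁, hq₁, ← mul_assoc, h2', mul_assoc, h1, ← mul_assoc]
  obtain ⟨Ψ, hΨ1, hΨ2, hΨ3⟩ := exists_alt_iso B hB hA hpp hqq
    (fun x y => by rw [← adj_spec B hB p₁ x y, hpa]) (fun x y => by rw [← adj_spec B hB q₁ x y, hqa]) hhu hpq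
  set E := e + p₁ with hE
  set E' := e' + q₁ with hE'
  have hEE : E * E = E := by rw [hE, add_mul, mul_add, mul_add, hf.idem, hep, hpe, hpp, add_zero, zero_add]
  have hE'E' : E' * E' = E' := by rw [hE', add_mul, mul_add, mul_add, hg.idem, heq, hqe, hqq, add_zero, zero_add]
  have haE : adj B hB E = E := by rw [hE, hI.map_add, ae, hpa]
  have haE' : adj B hB E' = E' := by rw [hE', hI.map_add, ae', hqa]
  set r := 1 - e - p₁
  set r' := 1 - e' - q₁
  have hr : h * r = r' * h := by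
    rw [mul_sub, mul_sub, sub_mul, sub_mul, hpq, hf.intertwine hg hh, mul_one, one_mul]
  have her : e' * r' = 0 := by rw [mul_sub, mul_sub, mul_one, hg.idem, heq, sub_self, sub_zero]
  have hqr : q₁ * r' = 0 := by rw [mul_sub, mul_sub, mul_one, hqe, hqq, sub_zero, sub_self]
  set Φ := φ * e + Ψ * p₁ + h * r with hΦ
  have t1 : e' * (φ * e) = φ * e := by rw [← mul_assoc, ← hφe, mul_assoc, hf.idem]
  have t2 : e' * (Ψ * p₁) = 0 := by rw [← hΨ1, ← mul_assoc, heq, zero_mul]
  have t3 : e' * (h * r) = 0 := by rw [hr, ← mul_assoc, her, zero_mul]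
  have t4 : q₁ * (φ * e) = 0 := by rw [← t1, ← mul_assoc, hqe, zero_mul]
  have t5 : q₁ * (h * r) = 0 := by rw [hr, ← mul_assoc, hqr, zero_mul]
  have eΦ : e' * Φ = φ * e := by rw [hΦ, mul_add, mul_add, t1, t2, t3, add_zero, add_zero]
  have qΦ : q₁ * Φ = Ψ * p₁ := by rw [hΦ, mul_add, mul_add, t4, hΨ1, t5, add_zero, zero_add]
  have hΦE : Φ * E = φ * e + Ψ * p₁ := by
    have u1 : r * E = 0 := by
      rw [sub_mul, sub_mul, one_mul, hE, mul_add, mul_add, hf.idem, hep, hpe, hpp]
      abel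
    have u2 : e * E = e := by rw [hE, mul_add, hf.idem, hep, add_zero]
    have u3 : p₁ * E = p₁ := by rw [hE, mul_add, hpe, hpp, zero_add]
    rw [hΦ, add_mul, add_mul, mul_assoc h r, u1, mul_zero, add_zero, mul_assoc φ, mul_assoc Ψ, u2, u3]
  have hE'Φ : E' * Φ = Φ * E := by rw [hE', add_mul, eΦ, qΦ, hΦE]
  have hΦu : IsUnit Φ := by
    refine (Module.End.isUnit_iff _).2 ?_
    have hinj : Function.Injective Φ := by
      rw [← LinearMap.ker_eq_bot, LinearMap.ker_eq_bot']
      intro x hx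
      have h1 : φ (e x) = 0 := by
        rw [← Module.End.mul_apply, ← eΦ, Module.End.mul_apply, hx, map_zero]
      have h1' : e x = 0 := ((Module.End.isUnit_iff _).1 hφu).1 (h1.trans (map_zero φ).symm)
      have h3 : p₁ x = 0 := hΨ2 x (by rw [← Module.End.mul_apply, ← qΦ, Module.End.mul_apply, hx, map_zero])
      have h4 : h (r x) = 0 := by
        have h5 : φ (e x) + Ψ (p₁ x) + h (r x) = 0 := hx
        rwa [h1, h3, map_zero, add_zero, zero_add] at h5
      have h5 : r x = 0 := ((Module.End.isUnit_iff _).1 hhu).1 (h4.trans (map_zero h).symm)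
      calc x = e x + p₁ x + r x := by simp [r]
        _ = 0 := by rw [h1', h3, h5, add_zero, add_zero]
    exact ⟨hinj, LinearMap.injective_iff_surjective.1 hinj⟩
  have hΦiso : ∀ x y, B (Φ (E x)) (Φ (E y)) = B (E x) (E y) := by
    intro x y
    simp only [← Module.End.mul_apply, hΦE]
    simp only [hE, LinearMap.add_apply, Module.End.mul_apply, map_add]
    have c0 : ∀ u v : V, B (e' u) (q₁ v) = 0 := fun u v => by
      rw [← adj_spec B hB q₁, hqa, ← Module.End.mul_apply, hqe, LinearMap.zero_apply, map_zero, LinearMap.zero_apply]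
    have c0' : B (e x) (p₁ y) = 0 := by
      rw [← adj_spec B hB p₁, hpa, ← Module.End.mul_apply, hpe, LinearMap.zero_apply, map_zero, LinearMap.zero_apply]
    have c0'' : B (p₁ x) (e y) = 0 := by
      rw [← adj_spec B hB e, ae, ← Module.End.mul_apply, hep, LinearMap.zero_apply, map_zero, LinearMap.zero_apply]
    have i1 : ∀ z, φ (e z) = e' (φ (e z)) := fun z => (LinearMap.congr_fun t1 z).symm
    have i2 : ∀ z, Ψ (p₁ z) = q₁ (Ψ (p₁ z)) := fun z => (LinearMap.congr_fun hΨ1 z).symm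
    have c1 : B (φ (e x)) (Ψ (p₁ y)) = 0 := by rw [i1, i2]; exact c0 _ _
    have c2 : B (Ψ (p₁ x)) (φ (e y)) = 0 := by rw [i1, i2, hsym, c0, mul_zero]
    rw [hφiso, hΨ3, c1, c2, c0', c0'']
  obtain ⟨k, hk, hkΦ⟩ := exists_ext_alt B hB hA Φ E hΦu hEE hΦiso
  have hkE := ext_respects B hB hε hsym hEE haE hE'E' haE' hΦu hE'Φ.symm ((Module.End.isUnit_iff _).2 k.bijective) hk hkΦ
  refine ⟨k, hk, ?_⟩
  set K : Module.End F V := (k : Module.End F V)
  have hfE : f * E = E * f := ((hf.self_commute.1).add_right hfpc).eq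
  have h1 : K * f * E = g * K * E := by
    have e1 : g * (Ψ * p₁) = Ψ * p₁ := by rw [← hΨ1, ← mul_assoc, hgq]
    have e2 : Φ * E * f = φ * e * f + Ψ * p₁ := by rw [hΦE, add_mul, mul_assoc Ψ, ← hfpc.eq, hfp]
    rw [mul_assoc, hfE, ← mul_assoc, hkΦ, e2, mul_assoc g, hkΦ, hΦE, mul_add, e1, mul_assoc φ e f,
      ← hf.self_commute.1.eq, ← mul_assoc, hφf, mul_assoc]
  have h2' : K * f * (1 - E) = g * K * (1 - E) := by
    have hr1 : (1 : Module.End F V) - E = r := by rw [hE, ← sub_sub]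
    have hr2 : (1 : Module.End F V) - E' = r' := by rw [hE', ← sub_sub]
    have hKr : K * r = r' * K := by rw [← hr1, ← hr2, mul_sub, sub_mul, hkE, mul_one, one_mul]
    rw [hr1, mul_assoc K, hfm', mul_neg, mul_assoc g, hKr, ← mul_assoc g, hgm', neg_mul]
  calc K * f = K * f * E + K * f * (1 - E) := by rw [← mul_add, add_sub_cancel, mul_one]
    _ = g * K := by rw [h1, h2', ← mul_add, add_sub_cancel, mul_one]

/-- Odd order semisimple isometries of a quadratic form that are conjugate linear maps are conjugate in the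
orthogonal group. -/
theorem exists_conj_quad [Finite F] (Q : QuadraticForm F V) (hQ : (polarBilin Q).Nondegenerate)
    {f g h : Module.End F V} {m : ℕ} (hmodd : Odd m) (hm : (m : F) ≠ 0) (hfm : f ^ m = 1)
    (hfiso : ∀ x, Q (f x) = Q x) (hgiso : ∀ x, Q (g x) = Q x) (hhu : IsUnit h) (hh : h * f = g * h) :
    ∃ k ∈ orth Q, (k : Module.End F V) * f = g * k := by
  have hε : (1 : F) * 1 = 1 := one_mul 1
  have hsym : ∀ x y, polarBilin Q y x = 1 * polarBilin Q x y := fun x y => by
    rw [one_mul]; exact QuadraticMap.polar_comm _ y x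
  have hiso : ∀ φ : Module.End F V, (∀ x, Q (φ x) = Q x) →
      ∀ x y, polarBilin Q (φ x) (φ y) = polarBilin Q x y := fun φ hφ x y => by
    simp only [polarBilin_apply_apply, polar, ← map_add, hφ]
  have hgm := pow_eq_one_of_conj hh hhu hfm
  obtain ⟨e, w, hf⟩ := exists_moving hm hfm
  obtain ⟨e', w', hg⟩ := exists_moving hm hgm
  obtain ⟨φ, hφu, hφf, hφe, hφiso⟩ :=
    exists_partial (polarBilin Q) hQ hε hsym hf hg (hiso f hfiso) (hiso g hgiso) hh hhu
  obtain ⟨-, -, ae, -⟩ := hf.adj_facts (polarBilin Q) hQ hε hsym (hiso f hfiso)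
  obtain ⟨-, -, ae', -⟩ := hg.adj_facts (polarBilin Q) hQ hε hsym (hiso g hgiso)
  set fi := f ^ (m - 1)
  set gi := g ^ (m - 1)
  have hφfi : φ * fi = gi * φ := pow_conj hφf (m - 1)
  have hpow : ∀ (φ₀ : Module.End F V), (∀ x, Q (φ₀ x) = Q x) → ∀ (k : ℕ) x, Q ((φ₀ ^ k) x) = Q x := by
    intro φ₀ h0 k
    induction k with
    | zero => simp
    | succ k ih => intro x; rw [pow_succ', Module.End.mul_apply, h0, ih]
  have hQD : ∀ (f₀ : Module.End F V), (∀ x, Q (f₀ x) = Q x) → ∀ y,
      Q (f₀ y - (f₀ ^ (m - 1)) y) = polar Q y y - polar Q (f₀ y) ((f₀ ^ (m - 1)) y) := by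
    intro f₀ h0 y
    rw [CfsgLib.Geometry.map_sub', h0, hpow f₀ h0, CfsgLib.Geometry.polar_self']
    ring
  have hee : ∀ x, e (e x) = e x := LinearMap.congr_fun hf.idem
  have key : ∀ x, Q (φ (e x)) = Q (e x) := by
    intro x
    set y := e (w x)
    have hey : e y = y := hee _
    have hx : e x = f y - fi y := by
      rw [← LinearMap.sub_apply, show y = e (w x) from rfl, ← Module.End.mul_apply, hf.De,
        ← Module.End.mul_apply, hf.Dw]
    have hx' : φ (e x) = g (φ y) - gi (φ y) := by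
      rw [hx, map_sub]
      exact congrArg₂ (· - ·) (LinearMap.congr_fun hφf y) (LinearMap.congr_fun hφfi y)
    rw [hx', hx, hQD g hgiso, hQD f hfiso]
    have e1 : polar Q (φ y) (φ y) = polar Q y y := by
      have := hφiso y y
      rwa [hey] at this
    have hfy : e (f y) = f y := by rw [← Module.End.mul_apply, ← hf.self_commute.1.eq, Module.End.mul_apply, hey]
    have hfiy : e (fi y) = fi y := by
      rw [← Module.End.mul_apply, ← hf.self_commute.2.2.2.1.eq, Module.End.mul_apply, hey]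
    have e2 : polar Q (g (φ y)) (gi (φ y)) = polar Q (f y) (fi y) := by
      have := hφiso (f y) (fi y)
      rw [hfy, hfiy, show φ (f y) = g (φ y) from LinearMap.congr_fun hφf y,
        show φ (fi y) = gi (φ y) from LinearMap.congr_fun hφfi y] at this
      exact this
    rw [e1, e2]
  obtain ⟨k, hk, hkx⟩ := quad_witt hQ (LinearMap.range e) (φ ∘ₗ (LinearMap.range e).subtype)
    ((((Module.End.isUnit_iff _).1 hφu).1).comp Subtype.val_injective)
    (by rintro ⟨_, x, rfl⟩; exact key x)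
  have hkφ : (k : Module.End F V) * e = φ * e := LinearMap.ext fun x => hkx ⟨e x, x, rfl⟩
  exact ⟨k, hk, conj_of_odd hf hg hmodd hfm hgm hφf hkφ
    (ext_respects (polarBilin Q) hQ hε hsym hf.idem ae hg.idem ae' hφu hφe ((Module.End.isUnit_iff _).2 k.bijective)
      (hiso _ hk) hkφ)⟩

end CfsgLib.KnownB.BilinConj
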