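import Cfsg.Agent.Lib.KnownB.ChevField

/-!
Root characters, the normalizer of `U`, generation by fundamental root elements, and involutory field
automorphisms in characteristic two.
-/

set_option autoImplicit false

namespace CfsgLib.KnownB.ChevField

open Cfsg.Lie Matrix CfsgLib.Chev CfsgLib.KnownB.Descent

variable {D : ChevalleyDatum} {A : Aux} {F : Type*} [Field F]

/-- The fundamental root elements and their negatives generate. -/
theorem group_le_of_simple (g : Good D A) {K : Subgroup (GL D.Idx F)}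
    (hp : ∀ i < D.rank, ∀ t : F, xG g (D.simple i) t ∈ K)
    (hn : ∀ i < D.rank, ∀ t : F, xG g (D.neg (D.simple i)) t ∈ K) : D.group F ≤ K := by
  have hs : ∀ i < D.rank, nS F g i ∈ K := fun i hi =>
    mul_mem (mul_mem (hp i hi _) (hn i hi _)) (hp i hi _)
  have key : ∀ r < D.nroots, ∀ t : F, xG g r t ∈ K := by
    refine root_induction g (fun j hj _ => hp j hj) ?_
    intro i hi r hr ih t
    have h1 := mul_mem (mul_mem (hs i hi) (ih ((A.eta i r : F) * t))) (inv_mem (hs i hi))
    rw [nS_conj_xG g hi hr, ← mul_assoc] at h1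
    rcases g.eta_sign i hi r hr with e | e <;> simpa [e] using h1
  rw [group_eq g]
  refine (Subgroup.closure_le _).2 ?_
  rintro _ ⟨r, t, hr, rfl⟩
  exact key r hr t

/-- An element of the group normalizing `U` lies in `B`. -/
theorem mem_borel_of_conj_pos (h : Std D A) {y : GL D.Idx F} (hy : y ∈ D.group F)
    (hc : ∀ u ∈ D.posUnipotent F, y * u * y⁻¹ ∈ D.posUnipotent F) : y ∈ D.borelSubgroup F := by
  have g := h.good
  obtain ⟨b, hb, n, hn, τ, hτ, u, hu, rfl⟩ := normal_form_exists h hy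
  have hbU : ∀ z ∈ D.borelSubgroup F, ∀ v ∈ D.posUnipotent F,
      z * v * z⁻¹ ∈ D.posUnipotent F := by
    intro z hz v hv
    obtain ⟨w, hw, c, rfl⟩ := (mem_borel_iff g).1 hz
    rw [show w * tor D A c * v * (w * tor D A c)⁻¹ = w * (tor D A c * v * (tor D A c)⁻¹) * w⁻¹ by
      group]
    exact mul_mem (mul_mem hw (tor_conj_posUnipotent g c hv)) (inv_mem hw)
  have huB : u ∈ D.borelSubgroup F := pos_le_borel (UP_toNeg_le g τ hu)
  have hn' : ∀ v ∈ D.posUnipotent F, n * v * n⁻¹ ∈ D.posUnipotent F := by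
    intro v hv
    have h1 := hbU _ (inv_mem hb) _ (hc _ (hbU _ (inv_mem huB) v hv))
    simpa [mul_assoc] using h1
  refine mul_mem (mul_mem hb ?_) huB
  have hm : (⟨n, monomialSubgroup_le_group g hn⟩ : ↥(D.group F)) ∈ (bnPair h).B := by
    refine BN.mem_of_conj_B_le (P := bnPair h) le_rfl fun z hz => ?_
    show n * (z : GL D.Idx F) * n⁻¹ ∈ D.borelSubgroup F
    obtain ⟨w, hw, c, e⟩ := (mem_borel_iff g).1 (Subgroup.mem_subgroupOf.1 hz)
    obtain ⟨d, hd⟩ := monomial_conj_tor g hn c
    rw [e, show n * (w * tor D A c) * n⁻¹ = n * w * n⁻¹ * (n * tor D A c * n⁻¹) by group, hd]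
    exact mul_mem (pos_le_borel (hn' w hw)) (tor_mem_borel g d)
  exact hm

/-! ### Root characters -/

/-- Every positive root is fundamental or a positive root plus a fundamental one. -/
noncomputable def addChk (D : ChevalleyDatum) (A : Aux) : Bool :=
  D.posRoots.all fun u => (List.range D.rank).any fun i => D.simple i == u ||
    (match A.chain (A.neg (D.simple i)) u with
      | [] => false
      | e :: _ => decide (D.IsPosRoot e.1) &&
        (match A.chain (D.simple i) e.1 with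
          | [] => false
          | e' :: _ => e'.1 == u))

theorem root_character_eq (g : Good D A) (hadd : addChk D A = true) {χ : ℕ → Fˣ}
    (hχ : D.IsRootCharacter χ) :
    ∀ r < D.nroots, χ r = wt D A (fun k => χ (D.simple k)) r := by
  classical
  set ξ : ℕ → Fˣ := fun k => χ (D.simple k)
  let H : ℕ → ℕ := fun u => (∑ j ∈ Finset.range D.rank, A.a u j).toNat
  suffices hpos : ∀ N u, D.IsPosRoot u → H u = N → χ u = wt D A ξ u by
    intro r hr
    rcases pos_or_pos_neg g hr with h | h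
    · exact hpos _ r h rfl
    · have h2 := hχ.1 r hr
      rw [g.neg_eq r hr, hpos _ _ h rfl] at h2
      rw [← inv_inv (χ r), ← h2]
      simp [wt, g.a_neg r hr]
  intro N
  induction N using Nat.strong_induction_on with
  | _ N ih =>
    intro u hu hN
    have hc := List.all_eq_true.1 hadd u (posRoots_mem.2 hu)
    obtain ⟨i, hi, hiu⟩ := List.any_eq_true.1 hc
    rw [List.mem_range] at hi
    have hsimple : χ (D.simple i) = wt D A ξ (D.simple i) := by
      rw [wt, Finset.prod_eq_single i]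
      · rw [g.a_simple i hi i hi, if_pos rfl, zpow_one]
      · intro j hj hji
        rw [g.a_simple i hi j (Finset.mem_range.1 hj), if_neg hji, zpow_zero]
      · intro h; exact absurd (Finset.mem_range.2 hi) h
    rw [Bool.or_eq_true] at hiu
    rcases hiu with h0 | h0
    · rw [← beq_iff_eq.1 h0, hsimple]
    · have hp := g.simple_lt i hi
      split at h0
      · simp at h0
      rename_i e l he
      rw [Bool.and_eq_true, decide_eq_true_eq] at h0
      obtain ⟨hs, h0⟩ := h0
      split at h0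
      · simp at h0
      rename_i e' l' he'
      rw [beq_iff_eq] at h0
      obtain ⟨u', m⟩ := e'
      simp only at h0
      subst h0
      have hch : D.chainRoot (D.simple i) e.1 1 = some u' := by
        simp [ChevalleyDatum.chainRoot, g.chain_eq _ hp _ hs.1, he']
      obtain ⟨-, -, -, ha⟩ := g.chain_mem _ hp _ hs.1 0 u' m (by simp [he'])
      have hH : H e.1 < N := by
        subst hN
        have h1 : ∑ j ∈ Finset.range D.rank, A.a u' j =
            ∑ j ∈ Finset.range D.rank, A.a e.1 j + 1 := by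
          rw [Finset.sum_congr rfl fun j hj => ha j (Finset.mem_range.1 hj), Finset.sum_add_distrib]
          congr 1
          rw [Finset.sum_eq_single i]
          · simp [g.a_simple i hi i hi]
          · intro j hj hji
            simp [g.a_simple i hi j (Finset.mem_range.1 hj), hji]
          · intro h; exact absurd (Finset.mem_range.2 hi) h
        have h2 : 0 ≤ ∑ j ∈ Finset.range D.rank, A.a e.1 j :=
          Finset.sum_nonneg fun j _ => (g.pos_iff _ hs.1).1 hs j
        simp only [H]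
        omega
      rw [hχ.2 _ _ _ hp hs.1 hch, hsimple, ih _ hH _ hs rfl, wt, wt, wt, ← Finset.prod_mul_distrib]
      refine Finset.prod_congr rfl fun j hj => ?_
      rw [← _root_.zpow_add, ha j (Finset.mem_range.1 hj)]
      push_cast
      ring_nf

theorem charDiag_eq (g : Good D A) (hadd : addChk D A = true) {χ : ℕ → Fˣ}
    (hχ : D.IsRootCharacter χ) :
    D.charDiag F χ = dia D fun s => ((wt D A (fun k => χ (D.simple k)) s : Fˣ) : F) :=
  dia_congr (d := fun s => (χ s : F)) fun s hs => by rw [root_character_eq g hadd hχ s hs]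

theorem charDiag_mul_inv (χ : ℕ → Fˣ) :
    D.charDiag F χ * D.charDiag F (fun s => (χ s)⁻¹) = 1 := by
  show dia D (fun s => (χ s : F)) * dia D (fun s => (((χ s)⁻¹ : Fˣ) : F)) = 1
  rw [dia_mul, ← dia_one]
  exact dia_congr fun s _ => Units.mul_inv _

theorem charDiag_mul_x (g : Good D A) (hadd : addChk D A = true) {χ : ℕ → Fˣ}
    (hχ : D.IsRootCharacter χ) {r : ℕ} (hr : r < D.nroots) (t : F) :
    D.charDiag F χ * D.x F r t = D.x F r ((χ r : F) * t) * D.charDiag F χ := by
  rw [charDiag_eq g hadd hχ, dia_mul_x g _ hr, root_character_eq g hadd hχ r hr]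

theorem charDiag_conj (g : Good D A) (hadd : addChk D A = true) {χ : ℕ → Fˣ}
    (hχ : D.IsRootCharacter χ) {r : ℕ} (hr : r < D.nroots) (t : F) :
    D.charDiag F χ * D.x F r t * D.charDiag F (fun s => (χ s)⁻¹) = D.x F r ((χ r : F) * t) := by
  rw [charDiag_mul_x g hadd hχ hr, mul_assoc, charDiag_mul_inv, mul_one]

theorem charDiag_mem_diagonal (h : Std D A) (hadd : addChk D A = true) {χ : ℕ → Fˣ}
    (hχ : D.IsRootCharacter χ) {y : GL D.Idx F} (hy : y ∈ D.group F)
    (he : (y : Matrix D.Idx D.Idx F) = D.charDiag F χ) : y ∈ D.diagonalSubgroup F := by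
  have g := h.good
  have hconj : ∀ r < D.nroots, ∀ t : F, y * xG g r t * y⁻¹ = xG g r ((χ r : F) * t) := by
    intro r hr t
    rw [mul_inv_eq_iff_eq_mul]
    apply Units.ext
    rw [Units.val_mul, Units.val_mul, he, xG_val, xG_val, charDiag_mul_x g hadd hχ hr]
  have hU : ∀ u ∈ D.posUnipotent F, y * u * y⁻¹ ∈ D.posUnipotent F := by
    intro u hu
    have : D.posUnipotent F ≤ (D.posUnipotent F).comap (MulAut.conj y).toMonoidHom := by
      conv_lhs => rw [posUnipotent_eq g]
      refine (Subgroup.closure_le _).2 ?_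
      rintro _ ⟨r, t, hr, rfl⟩
      show y * xG g r t * y⁻¹ ∈ D.posUnipotent F
      rw [hconj r hr.1]
      exact xG_mem_posUnipotent g hr _
    exact this hu
  obtain ⟨u, hu, c, rfl⟩ := (mem_borel_iff g).1 (mem_borel_of_conj_pos h hy hU)
  suffices hu1 : u = 1 by
    rw [hu1, one_mul, diagonalSubgroup_eq g]
    exact ⟨c, rfl⟩
  have hud : (u : Matrix D.Idx D.Idx F) =
      dia D fun s => (χ s : F) * ((chi D A c⁻¹ s : Fˣ) : F) := by
    rw [← dia_mul, ← tor_val c⁻¹, show (dia D fun s => (χ s : F)) = D.charDiag F χ from rfl, ← he,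
      ← Units.val_mul, map_inv, mul_inv_cancel_right]
  have ht := (posUnipotent_le_triG h hu).1
  apply Units.ext
  ext i j
  rcases eq_or_ne i j with rfl | hij
  · rw [ht i i (by simp), if_pos rfl, Units.val_one, Matrix.one_apply_eq]
  · rw [hud, Units.val_one, Matrix.one_apply_ne hij, dia, Matrix.diagonal_apply_ne _ hij]

/-! ### Field and graph automorphisms commute -/

theorem field_comm_graph (g : Good D A) (f ψ : MulAut ↥(D.group F)) (hf : D.IsFieldAut f)
    (hψ : D.IsGraphAut ψ) (y : ↥(D.group F)) : f (ψ y) = ψ (f y) := by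
  obtain ⟨σ, hσ⟩ := hf
  obtain ⟨π, -, hπ⟩ := hψ
  let E := (f.toMonoidHom.comp ψ.toMonoidHom).eqLocus (ψ.toMonoidHom.comp f.toMonoidHom)
  have hE : D.group F ≤ E.map (D.group F).subtype := by
    refine group_le_of_simple g (fun i hi t => ?_) fun i hi t => ?_
    · refine ⟨⟨_, xG_mem_group g _ t⟩, Subtype.ext (Units.ext ?_), rfl⟩
      show ((f (ψ _) : GL D.Idx F) : Matrix D.Idx D.Idx F) = (ψ (f _) : GL D.Idx F)
      rw [hσ _ _ _ (g.simple_lt _ (π ⟨i, hi⟩).isLt) ((hπ _ ⟨i, hi⟩ t).1 (xG_val g _ _)),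
        (hπ _ ⟨i, hi⟩ (σ t)).1 (hσ _ _ _ (g.simple_lt i hi) (xG_val g _ _)), map_pow]
    · refine ⟨⟨_, xG_mem_group g _ t⟩, Subtype.ext (Units.ext ?_), rfl⟩
      show ((f (ψ _) : GL D.Idx F) : Matrix D.Idx D.Idx F) = (ψ (f _) : GL D.Idx F)
      rw [hσ _ _ _ (neg_lt' g (g.simple_lt _ (π ⟨i, hi⟩).isLt)) ((hπ _ ⟨i, hi⟩ t).2 (xG_val g _ _)),
        (hπ _ ⟨i, hi⟩ (σ t)).2 (hσ _ _ _ (neg_lt' g (g.simple_lt i hi)) (xG_val g _ _)), map_pow]
  obtain ⟨z, hz, hzy⟩ := hE y.2
  obtain rfl : z = y := Subtype.ext hzy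
  exact hz

/-! ### Involutory field automorphisms in characteristic two -/

/-- Twice the inverse of the Cartan matrix is integral. -/
def TwoModular (D : ChevalleyDatum) : Prop :=
  ∃ N : Array (Array ℤ), ∀ i < D.rank, ∀ j < D.rank,
    ((List.range D.rank).map fun k => D.cartan i (D.simple k) * (N.getD k #[]).getD j 0).sum =
      if i = j then 2 else 0

theorem tor_inj_char_two [CharP F 2] (g : Good D A) (hU : TwoModular D) {c d : Fin D.rank → Fˣ}
    (h : tor D A c = tor D A d) : c = d := by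
  obtain ⟨N, hN⟩ := hU
  have hchi : ∀ s < D.nroots, chi D A c s = chi D A d s := fun s hs => Units.ext (by
    have h1 := congrArg (fun y : GL D.Idx F =>
      (y : Matrix D.Idx D.Idx F) (Sum.inr ⟨s, hs⟩) (Sum.inr ⟨s, hs⟩)) h
    simpa [tor_val, dia] using h1)
  have key : ∀ (c : Fin D.rank → Fˣ) (j : Fin D.rank),
      ∏ k : Fin D.rank, chi D A c (D.simple k) ^ (N.getD k #[]).getD j 0 = c j ^ (2 : ℤ) := by
    intro c j
    simp only [chi, ← Finset.prod_zpow, ← _root_.zpow_mul]
    rw [Finset.prod_comm]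
    have hz : ∀ (x : Fˣ) (f : Fin D.rank → ℤ) (s : Finset (Fin D.rank)),
        ∏ k ∈ s, x ^ f k = x ^ ∑ k ∈ s, f k := by
      intro x f s
      induction s using Finset.induction_on with
      | empty => simp
      | insert a S ha ih => rw [Finset.prod_insert ha, Finset.sum_insert ha, _root_.zpow_add, ih]
    simp only [hz]
    have hsum : ∀ i : Fin D.rank, ∑ k : Fin D.rank, A.cart i (D.simple k) *
        (N.getD k #[]).getD j 0 = if (i : ℕ) = j then 2 else 0 := by
      intro i
      rw [← hN i i.isLt j j.isLt, sum_map_range, Finset.sum_range]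
      exact Finset.sum_congr rfl fun k _ => by rw [g.cart_eq _ i.isLt _ (g.simple_lt k k.isLt)]
    rw [Finset.prod_eq_single j]
    · rw [hsum j, if_pos rfl]
    · intro i _ hij
      rw [hsum i, if_neg (fun e => hij (Fin.ext e)), zpow_zero]
    · simp
  funext j
  have h2 : c j ^ (2 : ℤ) = d j ^ (2 : ℤ) := by
    rw [← key c j, ← key d j]
    exact Finset.prod_congr rfl fun k _ => by rw [hchi _ (g.simple_lt k k.isLt)]
  refine Units.ext (frobenius_inj F 2 ?_)
  simpa [frobenius_def, Units.val_zpow_eq_zpow_val] using congrArg Units.val h2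

/-- Additive Hilbert 90 for an involution in characteristic two. -/
theorem exists_trace [CharP F 2] {σ : F ≃+* F} (hσ2 : ∀ a, σ (σ a) = a) (hσ : σ ≠ 1) {t : F}
    (ht : σ t = t) : ∃ s, s + σ s = t := by
  obtain ⟨y, hy⟩ : ∃ y, σ y ≠ y := by
    by_contra hall
    push Not at hall
    exact hσ (RingEquiv.ext hall)
  have h0 : y + σ y ≠ 0 := fun h0 => hy (CharTwo.add_eq_zero.1 h0).symm
  refine ⟨y * t / (y + σ y), ?_⟩
  rw [map_div₀, map_mul, map_add, hσ2, ht, add_comm (σ y) y, ← add_div, ← add_mul,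
    mul_comm, mul_div_assoc, div_self h0, mul_one]

/-- Elements of `U` inverted by `σ` are twisted coboundaries. -/
theorem unipotent_descent [CharP F 2] (h : Std D A) {σ : F ≃+* F} (hσ2 : ∀ a, σ (σ a) = a)
    (hσ : σ ≠ 1) : ∀ {L : List ℕ}, UpList D L → ∀ u ∈ UL F h.good L,
      u * Matrix.GeneralLinearGroup.map (σ : F →+* F) u = 1 →
        ∃ w ∈ UL F h.good L, u = w⁻¹ * Matrix.GeneralLinearGroup.map (σ : F →+* F) w
  | [], _, u, hu, _ => by
    rw [UL_nil, Subgroup.mem_bot] at hu
    exact ⟨1, one_mem _, by simp [hu]⟩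
  | x :: L, hL, u, hu, he => by
    have g := h.good
    set m := Matrix.GeneralLinearGroup.map (n := D.Idx) (σ : F →+* F) with hm
    obtain ⟨T, rfl⟩ := exists_pw h hL hu
    set t := T x
    set u' := pw g L T
    have hu' : u' ∈ UL F g L := pw_mem_UL g L T
    have hx : D.IsPosRoot x := hL.pos x List.mem_cons_self
    have hxL : x ∉ L := fun hm' => lt_irrefl x ((List.pairwise_cons.1 hL.sorted).1 x hm')
    have hsplit : pw g (x :: L) T = xG g x t * u' := by simp [pw, t, u']
    rw [hsplit] at he ⊢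
    have hmU : ∀ {z : GL D.Idx F}, z ∈ UL F g L → m z ∈ UL F g L := by
      intro z hz
      obtain ⟨S, rfl⟩ := exists_pw h hL.tail hz
      rw [hm, map_pw]
      exact pw_mem_UL g L _
    rw [map_mul, map_xG, RingEquiv.coe_toRingHom] at he
    have hσt : σ t = t := by
      have hv : xG g x (-σ t) * u' * (xG g x (-σ t))⁻¹ ∈ UL F g L := UL_conj h hL.tail hx _ hu'
      obtain ⟨S, hS⟩ := exists_pw h hL.tail (mul_mem hv (hmU hu'))
      have h1 : pw g (x :: L) (Function.update S x (t + σ t)) = pw g (x :: L) (fun _ => 0) := by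
        have e1 : pw g L (Function.update S x (t + σ t)) = pw g L S :=
          congrArg List.prod (List.map_congr_left fun r hr => by
            rw [Function.update_of_ne (fun e : r = x => hxL (e ▸ hr))])
        have e0 : pw g (x :: L) (fun _ => (0 : F)) = 1 := by
          refine List.prod_eq_one fun z hz => ?_
          obtain ⟨r, -, rfl⟩ := List.mem_map.1 hz
          exact xG_zero g r
        rw [e0, show pw g (x :: L) (Function.update S x (t + σ t)) =
          xG g x (t + σ t) * pw g L S by rw [← e1]; simp [pw], ← hS, ← xG_add, ← xG_inv, ← he]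
        group
      have := pw_inj h hL h1 x List.mem_cons_self
      rw [Function.update_self] at this
      exact (CharTwo.add_eq_zero.1 this).symm
    obtain ⟨s, hs⟩ := exists_trace hσ2 hσ hσt
    have hstt : s + t = σ s := by
      rw [← hs, ← add_assoc, CharTwo.add_self_eq_zero, zero_add]
    set v := xG g x s * (xG g x t * u') * (xG g x (σ s))⁻¹ with hvdef
    have hv : v ∈ UL F g L := by
      rw [hvdef, ← mul_assoc (xG g x s), xG_add, hstt]
      exact UL_conj h hL.tail hx _ hu'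
    have hmv : v * m v = 1 := by
      rw [hvdef, hm, map_mul, map_mul, map_mul, map_inv, map_xG, map_xG, map_xG]
      simp only [RingEquiv.coe_toRingHom, hσ2]
      rw [show xG g x s * (xG g x t * u') * (xG g x (σ s))⁻¹ *
          (xG g x (σ s) * (xG g x (σ t) * m u') * (xG g x s)⁻¹) =
        xG g x s * (xG g x t * u' * (xG g x (σ t) * m u')) * (xG g x s)⁻¹ by group]
      rw [he, mul_one, mul_inv_cancel]
    obtain ⟨w, hw, hwv⟩ := unipotent_descent h hσ2 hσ hL.tail v hv hmv
    rw [← hm] at hwv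
    refine ⟨w * xG g x s, mul_mem (UL_mono g (fun r hr => List.mem_cons_of_mem x hr) hw)
      (xG_mem_UL g List.mem_cons_self s), ?_⟩
    rw [map_mul, map_xG, RingEquiv.coe_toRingHom,
      show xG g x t * u' = (xG g x s)⁻¹ * v * xG g x (σ s) by rw [hvdef]; group, hwv]
    group

/-- A `p`-subgroup with normalizer index prime to `p` is a Sylow subgroup. -/
theorem sylow_of_normalizer {G : Type*} [Group G] [Finite G] {p : ℕ} [Fact p.Prime]
    (P : Subgroup G) (hP : IsPGroup p P)
    (hN : ∀ x : G, x ∈ Subgroup.normalizer (P : Set G) → (∃ k : ℕ, x ^ p ^ k = 1) → x ∈ P) :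
    ∃ Q : Sylow p G, (Q : Subgroup G) = P := by
  obtain ⟨Q, hQ⟩ := hP.exists_le_sylow
  refine ⟨Q, le_antisymm ?_ hQ⟩
  by_contra hne
  have hlt : P.subgroupOf (Q : Subgroup G) < ⊤ := lt_top_iff_ne_top.2 fun htop =>
    hne (Subgroup.subgroupOf_eq_top.1 htop)
  haveI := Q.2.isNilpotent
  obtain ⟨x, hx, hxP⟩ := SetLike.exists_of_lt (Group.normalizerCondition_of_isNilpotent _ hlt)
  refine hxP (Subgroup.mem_subgroupOf.2 (hN x ?_ ?_))
  · rw [Subgroup.mem_normalizer_iff]
    intro z
    constructor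
    · intro hz
      have := (Subgroup.mem_normalizer_iff.1 hx ⟨z, hQ hz⟩).1 (Subgroup.mem_subgroupOf.2 hz)
      simpa using Subgroup.mem_subgroupOf.1 this
    · intro hz
      have hzQ : z ∈ (Q : Subgroup G) := by
        simpa [mul_assoc] using mul_mem (mul_mem (inv_mem x.2) (hQ hz)) x.2
      exact Subgroup.mem_subgroupOf.1
        ((Subgroup.mem_normalizer_iff.1 hx ⟨z, hzQ⟩).2 (Subgroup.mem_subgroupOf.2 hz))
  · obtain ⟨k, hk⟩ := Q.2 x
    exact ⟨k, by simpa using congrArg Subtype.val hk⟩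

/-- All involutions in the coset of an involutory field automorphism are conjugate. -/
theorem coset_involution [Fintype F] [CharP F 2] (h : Std D A) (hU : TwoModular D) {σ : F ≃+* F}
    (hσ2 : ∀ a, σ (σ a) = a) (hσ : σ ≠ 1) (φ : MulAut ↥(D.group F))
    (hφ : ∀ y, ((φ y : ↥(D.group F)) : GL D.Idx F) =
      Matrix.GeneralLinearGroup.map (σ : F →+* F) (y : GL D.Idx F))
    (y : ↥(D.group F)) (hy : y * φ y = 1) : ∃ z : ↥(D.group F), y = z⁻¹ * φ z := by
  classical
  haveI : Fact (Nat.Prime 2) := ⟨Nat.prime_two⟩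
  have g := h.good
  haveI : Finite ↥(D.group F) := Finite.of_injective _ Subtype.val_injective
  set U := (D.posUnipotent F).subgroupOf (D.group F) with hUdef
  have hUp : IsPGroup 2 U := by
    obtain ⟨n, -, hn⟩ := FiniteField.card F 2
    refine IsPGroup.of_card (n := (n : ℕ) * (D.nroots / 2)) ?_
    rw [Nat.card_congr (Subgroup.subgroupOfEquivOfLe (posUnipotent_le_group g)).toEquiv,
      card_posUnipotent h, hn, ← pow_mul]
  have hBconj : ∀ z ∈ D.borelSubgroup F, ∀ v ∈ D.posUnipotent F,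
      z * v * z⁻¹ ∈ D.posUnipotent F := by
    intro z hz v hv
    obtain ⟨w, hw, c, rfl⟩ := (mem_borel_iff g).1 hz
    rw [show w * tor D A c * v * (w * tor D A c)⁻¹ = w * (tor D A c * v * (tor D A c)⁻¹) * w⁻¹ by
      group]
    exact mul_mem (mul_mem hw (tor_conj_posUnipotent g c hv)) (inv_mem hw)
  have hnorm : ∀ z : ↥(D.group F), z ∈ Subgroup.normalizer (U : Set ↥(D.group F)) →
      (z : GL D.Idx F) ∈ D.borelSubgroup F := fun z hz =>
    mem_borel_of_conj_pos h z.2 fun v hv => Subgroup.mem_subgroupOf.1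
      ((Subgroup.mem_normalizer_iff.1 hz ⟨v, posUnipotent_le_group g hv⟩).1
        (Subgroup.mem_subgroupOf.2 hv))
  obtain ⟨Q, hQ⟩ := sylow_of_normalizer U hUp (by
    rintro z hz ⟨k, hk⟩
    obtain ⟨v, hv, c, hzc⟩ := (mem_borel_iff g).1 (hnorm z hz)
    have hB : ∀ j : ℕ, ∃ w ∈ D.posUnipotent F, (z : GL D.Idx F) ^ j = w * tor D A (c ^ j) := by
      intro j
      induction j with
      | zero => exact ⟨1, one_mem _, by simp⟩
      | succ j ih =>
        obtain ⟨w, hw, e⟩ := ih
        refine ⟨w * (tor D A (c ^ j) * v * (tor D A (c ^ j))⁻¹),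
          mul_mem hw (tor_conj_posUnipotent g _ hv), ?_⟩
        rw [pow_succ, e, hzc, pow_succ c, map_mul]
        group
    obtain ⟨w, hw, e⟩ := hB (2 ^ k)
    rw [← SubmonoidClass.coe_pow, hk, Subgroup.coe_one] at e
    have hc1 : tor D A (c ^ 2 ^ k) = tor D A (1 : Fin D.rank → Fˣ) := by
      rw [map_one]
      refine Subgroup.mem_bot.1 ((posUnipotent_inf_diagonal (F := F) h).le (Subgroup.mem_inf.2 ⟨?_, ?_⟩))
      · rw [← inv_eq_of_mul_eq_one_right e.symm]
        exact inv_mem hw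
      · rw [diagonalSubgroup_eq g]
        exact ⟨_, rfl⟩
    have hc : c = 1 := funext fun i => Units.ext (iterateFrobenius_inj F 2 k (by
      have := congrArg Units.val (congrFun (tor_inj_char_two g hU hc1) i)
      simpa [iterateFrobenius_def] using this))
    rw [hc, map_one, mul_one] at hzc
    exact Subgroup.mem_subgroupOf.2 (hzc ▸ hv))
  set m := Matrix.GeneralLinearGroup.map (n := D.Idx) (σ : F →+* F)
  have hφU : ∀ v, v ∈ U → φ v ∈ U := fun v hv => by
    rw [hUdef, Subgroup.mem_subgroupOf, hφ]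
    exact pos_map_mem g _ hv
  have hφφ : ∀ v, φ (φ v) = v := fun v => Subtype.ext (Units.ext (by
    rw [hφ, hφ]
    ext i j
    exact hσ2 _))
  -- the involution `P ↦ y φ(P) y⁻¹` of the Sylow subgroups
  let ψ : MulAut ↥(D.group F) := MulAut.conj y * φ
  have hψψ : ∀ v, ψ (ψ v) = v := by
    intro v
    show y * φ (y * φ v * y⁻¹) * y⁻¹ = v
    rw [map_mul, map_mul, map_inv, hφφ,
      show φ y = y⁻¹ from eq_inv_of_mul_eq_one_right hy]
    group
  let T : Equiv.Perm (Sylow 2 ↥(D.group F)) :=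
    { toFun := fun P => ψ • P
      invFun := fun P => ψ • P
      left_inv := fun P => by
        show ψ • ψ • P = P
        rw [smul_smul, show ψ * ψ = 1 from MulEquiv.ext hψψ, one_smul]
      right_inv := fun P => by
        show ψ • ψ • P = P
        rw [smul_smul, show ψ * ψ = 1 from MulEquiv.ext hψψ, one_smul] }
  haveI := Fintype.ofFinite (Sylow 2 ↥(D.group F))
  obtain ⟨P, hP⟩ := T.exists_fixed_point_of_prime (p := 2) (n := 1)
    (fun hdvd => by
      have := card_sylow_modEq_one 2 ↥(D.group F)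
      rw [Nat.card_eq_fintype_card, Nat.ModEq] at this
      omega)
    (Equiv.ext fun P => by rw [pow_one, sq]; exact T.left_inv P)
  obtain ⟨a, ha⟩ := MulAction.exists_smul_eq ↥(D.group F) Q P
  have hPU : ∀ v, v ∈ (P : Subgroup ↥(D.group F)) ↔ a⁻¹ * v * a ∈ U := by
    intro v
    rw [← ha, Sylow.coe_subgroup_smul, hQ, Subgroup.mem_pointwise_smul_iff_inv_smul_mem]
    simp [MulAut.smul_def, mul_assoc]
  have hψP : ∀ v, v ∈ (P : Subgroup ↥(D.group F)) → ψ v ∈ (P : Subgroup ↥(D.group F)) := fun v hv => by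
    have h1 : ψ v ∈ ((ψ • P : Sylow 2 ↥(D.group F)) : Subgroup ↥(D.group F)) := ⟨v, hv, rfl⟩
    rwa [show ψ • P = P from hP] at h1
  set b := a⁻¹ * y * φ a with hbdef
  have hbB : (b : GL D.Idx F) ∈ D.borelSubgroup F := by
    refine mem_borel_of_conj_pos h b.2 fun v hv => ?_
    set v' : ↥(D.group F) := ⟨v, posUnipotent_le_group g hv⟩
    have h1 : a * φ v' * a⁻¹ ∈ (P : Subgroup ↥(D.group F)) := by
      rw [hPU]
      simpa [mul_assoc] using hφU v' (Subgroup.mem_subgroupOf.2 hv)
    have h2 := (hPU _).1 (hψP _ h1)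
    rw [show a⁻¹ * ψ (a * φ v' * a⁻¹) * a = b * v' * b⁻¹ by
      show a⁻¹ * (y * φ (a * φ v' * a⁻¹) * y⁻¹) * a = _
      rw [map_mul, map_mul, map_inv, hφφ, hbdef]; group] at h2
    exact Subgroup.mem_subgroupOf.1 h2
  have hbφ : b * φ b = 1 := by
    rw [hbdef, map_mul, map_mul, map_inv, hφφ,
      show φ y = y⁻¹ from eq_inv_of_mul_eq_one_right hy]
    group
  obtain ⟨v, hv, c, hbc⟩ := (mem_borel_iff g).1 hbB
  have e0 : (b : GL D.Idx F) * m b = 1 := by
    rw [← hφ, ← Subgroup.coe_mul, hbφ, Subgroup.coe_one]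
  set σc : Fin D.rank → Fˣ := fun i => Units.map (σ : F →* F) (c i) with hσc
  rw [hbc, map_mul, show m (tor D A c) = tor D A σc from map_tor (σ : F →+* F) c] at e0
  have hvm : m v ∈ D.posUnipotent F := pos_map_mem g (σ : F →+* F) hv
  have hcc : c * σc = 1 := by
    refine tor_inj_char_two g hU ?_
    rw [map_one]
    refine Subgroup.mem_bot.1 ((posUnipotent_inf_diagonal (F := F) h).le (Subgroup.mem_inf.2 ⟨?_, ?_⟩))
    · have e1 : tor D A (c * σc) = (v * (tor D A c * m v * (tor D A c)⁻¹))⁻¹ :=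
        eq_inv_of_mul_eq_one_right (by rw [map_mul, ← e0]; group)
      rw [e1]
      exact inv_mem (mul_mem hv (tor_conj_posUnipotent g c hvm))
    · rw [diagonalSubgroup_eq g]
      exact ⟨_, rfl⟩
  have hd : ∀ i, ∃ x : Fˣ, x * c i = Units.map (σ : F →* F) x := by
    intro i
    obtain ⟨x, hx0, hx⟩ := hilbert90 (r := 2) (c := (c i : F)) two_pos
      (orderOf_eq_prime (RingEquiv.ext fun a => by rw [sq]; exact hσ2 a) hσ) (by
        rw [Finset.prod_range_succ, Finset.prod_range_one, pow_zero, pow_one]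
        exact congrArg Units.val (congrFun hcc i))
    refine ⟨(Units.mk0 x hx0)⁻¹, Units.ext ?_⟩
    show x⁻¹ * (c i : F) = σ x⁻¹
    have hσx : σ x ≠ 0 := (map_ne_zero σ).2 hx0
    rw [map_inv₀]
    field_simp
    linear_combination hx
  choose d hd using hd
  have hdc : tor D A d * tor D A c = m (tor D A d) := by
    rw [← map_mul, show m (tor D A d) = _ from map_tor (σ : F →+* F) d]
    exact congrArg _ (funext hd)
  set v₁ := tor D A d * v * (tor D A d)⁻¹ with hv₁def
  have hv₁ : v₁ ∈ D.posUnipotent F := tor_conj_posUnipotent g d hv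
  have hv₁eq : v₁ = tor D A d * (b : GL D.Idx F) * (m (tor D A d))⁻¹ := by
    rw [← hdc, hbc, hv₁def]; group
  have hv₁m : v₁ * m v₁ = 1 := by
    have hmm : m (m (tor D A d)) = tor D A d := Units.ext (by ext i j; exact hσ2 _)
    rw [hv₁eq, map_mul, map_mul, map_inv, hmm, show
      tor D A d * (b : GL D.Idx F) * (m (tor D A d))⁻¹ * (m (tor D A d) * m b * (tor D A d)⁻¹) =
        tor D A d * ((b : GL D.Idx F) * m b) * (tor D A d)⁻¹ by group,
      ← hφ b, ← Subgroup.coe_mul, hbφ, Subgroup.coe_one, mul_one, mul_inv_cancel]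
  rw [← UL_posRoots g] at hv₁
  obtain ⟨w, hw, hwe⟩ := unipotent_descent h hσ2 hσ upList_posRoots v₁ hv₁ hv₁m
  rw [UL_posRoots g] at hw
  set W₀ : ↥(D.group F) := ⟨w * tor D A d, mul_mem (posUnipotent_le_group g hw)
    (diagonalSubgroup_le_group g (by rw [diagonalSubgroup_eq g]; exact ⟨d, rfl⟩))⟩
  refine ⟨W₀ * a⁻¹, ?_⟩
  have hb' : (b : GL D.Idx F) = (W₀ : GL D.Idx F)⁻¹ * m W₀ := by
    show (b : GL D.Idx F) = (w * tor D A d)⁻¹ * m (w * tor D A d)
    rw [map_mul, show (w * tor D A d)⁻¹ * (m w * m (tor D A d)) =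
      (tor D A d)⁻¹ * (w⁻¹ * m w) * m (tor D A d) by group, ← hwe, hv₁eq]
    group
  have hb'' : b = W₀⁻¹ * φ W₀ := Subtype.ext (by rw [hb', Subgroup.coe_mul, hφ]; rfl)
  rw [map_mul, map_inv, show y = a * b * (φ a)⁻¹ by rw [hbdef]; group, hb'']
  group

theorem twoModular_G2 : TwoModular chevG2 := ⟨#[#[4, 6], #[2, 4]], by decide +kernel⟩

theorem twoModular_F4 : TwoModular chevF4 :=
  ⟨#[#[4, 6, 8, 4], #[6, 12, 16, 8], #[4, 8, 12, 6], #[2, 4, 6, 4]], by decide +kernel⟩

theorem twoModular_B2 : TwoModular chevB2 :=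
  ⟨#[#[2, 2], #[1, 2]], by decide +kernel⟩

theorem twoModular_D4 : TwoModular chevD4 :=
  ⟨#[#[2, 2, 1, 1], #[2, 4, 2, 2], #[1, 2, 2, 1], #[1, 2, 1, 2]], by decide +kernel⟩

theorem twoModular_E7 : TwoModular chevE7 :=
  ⟨#[#[4, 4, 6, 8, 6, 4, 2], #[4, 7, 8, 12, 9, 6, 3], #[6, 8, 12, 16, 12, 8, 4], #[8, 12, 16, 24, 18, 12, 6],
      #[6, 9, 12, 18, 15, 10, 5], #[4, 6, 8, 12, 10, 8, 4], #[2, 3, 4, 6, 5, 4, 3]], by decide +kernel⟩

theorem twoModular_E8 : TwoModular chevE8 :=
  ⟨#[#[8, 10, 14, 20, 16, 12, 8, 4], #[10, 16, 20, 30, 24, 18, 12, 6], #[14, 20, 28, 40, 32, 24, 16, 8],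
      #[20, 30, 40, 60, 48, 36, 24, 12], #[16, 24, 32, 48, 40, 30, 20, 10], #[12, 18, 24, 36, 30, 24, 16, 8],
      #[8, 12, 16, 24, 20, 16, 12, 6], #[4, 6, 8, 12, 10, 8, 6, 4]], by decide +kernel⟩

theorem addChk_G2 : addChk chevG2 auxG2 = true := by decide +kernel

theorem addChk_B2 : addChk chevB2 auxB2 = true := by decide +kernel

theorem addChk_D4 : addChk chevD4 auxD4 = true := by decide +kernel

theorem addChk_F4 : addChk chevF4 auxF4 = true := by decide +kernel

theorem addChk_E6 : addChk chevE6 auxE6 = true := by decide +kernel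

theorem addChk_E7 : addChk chevE7 auxE7 = true := by decide +kernel

theorem addChk_E8 : addChk chevE8 auxE8 = true := by decide +kernel

theorem exists_addChk {D : ChevalleyDatum}
    (hD : D ∈ [chevG2, chevB2, chevD4, chevF4, chevE6, chevE7, chevE8]) :
    ∃ A, Std D A ∧ addChk D A = true := by
  simp only [List.mem_cons, List.not_mem_nil, or_false] at hD
  rcases hD with rfl | rfl | rfl | rfl | rfl | rfl | rfl
  exacts [⟨_, stdG2, addChk_G2⟩, ⟨_, stdB2, addChk_B2⟩, ⟨_, stdD4, addChk_D4⟩, ⟨_, stdF4, addChk_F4⟩,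
    ⟨_, stdE6, addChk_E6⟩, ⟨_, stdE7, addChk_E7⟩, ⟨_, stdE8, addChk_E8⟩]

theorem exists_twoModular {D : ChevalleyDatum}
    (hD : D ∈ [chevG2, chevB2, chevD4, chevF4, chevE7, chevE8]) :
    ∃ A, Std D A ∧ TwoModular D ∧ 0 < D.rank := by
  simp only [List.mem_cons, List.not_mem_nil, or_false] at hD
  rcases hD with rfl | rfl | rfl | rfl | rfl | rfl
  exacts [⟨_, stdG2, twoModular_G2, by decide⟩, ⟨_, stdB2, twoModular_B2, by decide⟩,
    ⟨_, stdD4, twoModular_D4, by decide⟩, ⟨_, stdF4, twoModular_F4, by decide⟩,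
    ⟨_, stdE7, twoModular_E7, by decide⟩, ⟨_, stdE8, twoModular_E8, by decide⟩]

end CfsgLib.KnownB.ChevField
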