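import Cfsg.Agent.Lib.KnownB.ChevAutField

/-!
Finite checks on the diagram symmetries of a Chevalley datum: each extends to the roots and carries one
possible exponent.
-/

set_option autoImplicit false

namespace CfsgLib.KnownB.ChevAutThm

open Cfsg.Lie Matrix CfsgLib.Chev CfsgLib.KnownB.ChevField

variable {D : ChevalleyDatum} {A : Aux} {F : Type*} [Field F]

/-! ### Symmetries of the diagram -/

/-- The product of the two Cartan integers. -/
noncomputable def bnd (D : ChevalleyDatum) (A : Aux) (i j : ℕ) : ℤ :=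
  A.cart i (D.simple j) * A.cart j (D.simple i)

/-- Images of the first `k` nodes under the symmetries. -/
noncomputable def prefixes (D : ChevalleyDatum) (A : Aux) : ℕ → List (List ℕ)
  | 0 => [[]]
  | k + 1 => (prefixes D A k).flatMap fun q =>
      ((List.range D.rank).filter fun j => !q.contains j &&
        (List.range k).all fun i => bnd D A (q.getD i 0) j == bnd D A i k).map fun j => q ++ [j]

/-- The list of images of the nodes. -/
def nodes (π : Equiv.Perm (Fin D.rank)) : List ℕ := (List.finRange D.rank).map fun i => (π i : ℕ)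

theorem nodes_getD (π : Equiv.Perm (Fin D.rank)) (i : Fin D.rank) :
    (nodes π).getD i 0 = (π i : ℕ) := by
  simp [nodes, List.getD_eq_getElem?_getD]

theorem diagram_iff (g : Good D A) {π : Equiv.Perm (Fin D.rank)} :
    D.IsDiagramSymmetry π ↔ ∀ i j : Fin D.rank, i ≠ j → bnd D A (π i) (π j) = bnd D A i j := by
  have e : ∀ a b : Fin D.rank, D.bonds a b = bnd D A a b := fun a b => by
    rw [ChevalleyDatum.bonds, bnd, g.cart_eq a a.isLt _ (g.simple_lt b b.isLt),
      g.cart_eq b b.isLt _ (g.simple_lt a a.isLt)]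
  simp only [ChevalleyDatum.IsDiagramSymmetry, e]

theorem nodes_mem (g : Good D A) {π : Equiv.Perm (Fin D.rank)} (hπ : D.IsDiagramSymmetry π) :
    nodes π ∈ prefixes D A D.rank := by
  rw [diagram_iff g] at hπ
  suffices ∀ k, k ≤ D.rank → (nodes π).take k ∈ prefixes D A k by
    have := this D.rank le_rfl
    rwa [List.take_of_length_le (by simp [nodes])] at this
  intro k hk
  induction k with
  | zero => simp [prefixes]
  | succ k ih =>
    have hk' : k < D.rank := hk
    have hlen : (nodes π).length = D.rank := by simp [nodes]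
    have hget : ∀ i (hi : i < k), ((nodes π).take k).getD i 0 = (π ⟨i, hi.trans hk'⟩ : ℕ) := by
      intro i hi
      simp [nodes, List.getD_eq_getElem?_getD, List.getElem?_take, hi, hi.trans hk']
    simp only [prefixes, List.mem_flatMap, List.mem_map, List.mem_filter, List.mem_range,
      Bool.and_eq_true, Bool.not_eq_true', List.contains_eq_mem, decide_eq_false_iff_not,
      List.all_eq_true, beq_iff_eq]
    refine ⟨_, ih hk'.le, (π ⟨k, hk'⟩ : ℕ), ⟨(π ⟨k, hk'⟩).isLt, ?_, fun i hi => ?_⟩, ?_⟩
    · intro hmem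
      obtain ⟨i, hi, e⟩ := List.getElem_of_mem hmem
      have hik : i < k := by simp at hi; omega
      have h1 := hget i hik
      rw [List.getD_eq_getElem _ _ hi, e] at h1
      have := congrArg Fin.val (π.injective (Fin.ext h1))
      simp at this
      omega
    · rw [hget i hi]
      exact hπ _ ⟨k, hk'⟩ (fun e => by simp [Fin.ext_iff] at e; omega)
    · rw [List.take_succ_eq_append_getElem (by omega)]
      simp [nodes]

/-- Bonds are a function of the Coxeter matrix. -/
noncomputable def bondChk (D : ChevalleyDatum) (A : Aux) (M : Fin D.rank → Fin D.rank → ℕ) : Bool :=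
  (List.finRange D.rank).all fun i => (List.finRange D.rank).all fun j =>
    (List.finRange D.rank).all fun a => (List.finRange D.rank).all fun b =>
      decide (i ≠ j → a ≠ b → M a b = M i j → bnd D A a b = bnd D A i j)

/-! ### Extension to the roots -/

/-- The extension of node images to positive roots. -/
noncomputable def rpAux (D : ChevalleyDatum) (A : Aux) (p : List ℕ) : ℕ → ℕ → ℕ
  | 0, r => r
  | n + 1, r => match (List.range D.rank).find? fun i => D.simple i == r with
    | some i => D.simple (p.getD i 0)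
    | none => match (List.range D.rank).find? fun i => decide (0 < A.cart i r) with
      | some i => A.refl (p.getD i 0) (rpAux D A p n (A.refl i r))
      | none => r

/-- The extension of node images to all roots. -/
noncomputable def rpFun (D : ChevalleyDatum) (A : Aux) (p : List ℕ) (r : ℕ) : ℕ :=
  bif decide (0 < A.ht D.rank r) then rpAux D A p 40 r else A.neg (rpAux D A p 40 (A.neg r))

/-- The extension commutes with the fundamental reflections. -/
noncomputable def rpChk (D : ChevalleyDatum) (A : Aux) (p : List ℕ) : Bool :=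
  p == List.range D.rank ||
    ((List.range D.rank).all (fun i => rpFun D A p (D.simple i) == D.simple (p.getD i 0)) &&
      (List.range D.nroots).all fun r =>
        let s := rpFun D A p r
        decide (s < D.nroots) && (decide (0 < A.ht D.rank s) == decide (0 < A.ht D.rank r)) &&
          (List.range D.rank).all fun i =>
            rpFun D A p (A.refl i r) == A.refl (p.getD i 0) s)

theorem rootPerm_of_chk (h : Std D A) {π : Equiv.Perm (Fin D.rank)}
    (hc : rpChk D A (nodes π) = true) : ∃ R, RootPerm D A π R := by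
  rw [rpChk, Bool.or_eq_true] at hc
  rcases hc with hc | hc
  · have hid : ∀ i : Fin D.rank, (π i : ℕ) = i := fun i => by
      rw [← nodes_getD π i, beq_iff_eq.1 hc]
      simp [List.getD_eq_getElem?_getD]
    exact ⟨id, fun r hr => hr, fun i => by simp [hid i], fun i r _ => by simp [hid i],
      fun r _ => Iff.rfl⟩
  · simp only [Bool.and_eq_true, List.all_eq_true, List.mem_range, beq_iff_eq,
      decide_eq_true_eq] at hc
    obtain ⟨hs, hr⟩ := hc
    refine ⟨rpFun D A (nodes π), fun r h' => (hr r h').1.1, fun i => ?_, fun i r h' => ?_,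
      fun r h' => ?_⟩
    · rw [hs i i.isLt, nodes_getD]
    · rw [(hr r h').2 i i.isLt, nodes_getD]
    · rw [ChevHeight.pos_iff_ht h (hr r h').1.1, ChevHeight.pos_iff_ht h h']
      exact decide_eq_decide.1 (hr r h').1.2

/-! ### Exponents -/

/-- The nodes reached along the edges in order. -/
def grows : List (ℕ × ℕ) → List ℕ → List ℕ
  | [], K => K
  | (i, j) :: E, K => grows E (bif K.contains i then j :: K else K)

/-- The coefficient of a key. -/
def coefAt (v : List (ℕ × ℤ)) (k : ℕ) : ℤ := (v.map fun p => bif p.1 == k then p.2 else 0).sum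

/-- The word evaluates to the identity modulo two. -/
noncomputable def oneMod2 (D : ChevalleyDatum) (A : Aux) (w : List ℕ) : Bool :=
  (List.range (D.rank + D.nroots)).all fun c => (List.range (D.rank + D.nroots)).all fun k =>
    coefAt (A.appWord D.rank D.nroots (w.map fun r => (r, (1 : ℤ))) [(c, 1)]) k % 2 ==
      bif k == c then 1 else 0

/-- A word in the fundamental root elements whose value modulo two is not invariant. -/
noncomputable def twistWord (D : ChevalleyDatum) (A : Aux) (p : List ℕ) : List ℕ :=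
  (List.replicate 6 [D.simple (p.getD 0 0), D.simple (p.getD 1 0),
    A.neg (D.simple (p.getD 0 0))]).flatten

/-- The edges leaving a node with Cartan integer `-1`. -/
noncomputable def edgesOne (D : ChevalleyDatum) (A : Aux) : List (ℕ × ℕ) :=
  (List.range D.rank).flatMap fun i =>
    ((List.range D.rank).filter fun j => A.cart i (D.simple j) == -1).map fun j => (i, j)

/-- The exponent of a node. -/
noncomputable def expOf (D : ChevalleyDatum) (p : List ℕ) (c i : ℕ) : ℕ :=
  bif c == 1 then 1 else D.graphExp c i (p.getD i 0)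

/-- The images of the nodes allow exactly the exponent `c`. -/
noncomputable def expAt (D : ChevalleyDatum) (A : Aux) (p : List ℕ) (c : ℕ) : Bool :=
  decide (1 ≤ c ∧ c ≤ 3) &&
  (edgesOne D A).all (fun e =>
    let k := (-A.cart (p.getD e.1 0) (D.simple (p.getD e.2 0))).toNat
    decide (A.cart (p.getD e.1 0) (D.simple (p.getD e.2 0)) = -(k : ℤ) ∧ k ≠ 0) &&
      (k == 1 || k == c) && decide (expOf D p c e.2 = k * expOf D p c e.1)) &&
  ((c == 1 && (p == List.range D.rank ||
      (List.range D.rank).all fun i => D.graphExp 2 i (p.getD i 0) == 1)) ||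
    (c != 1 && (edgesOne D A).any fun e =>
      A.cart (p.getD e.1 0) (D.simple (p.getD e.2 0)) == -(c : ℤ))) &&
  (c != 3 || decide (2 ≤ D.rank) &&
    (oneMod2 D A (twistWord D A (List.range D.rank)) != oneMod2 D A (twistWord D A p))) &&
  (List.range D.rank).any fun r0 => expOf D p c r0 == 1 &&
    (List.range D.rank).all fun j =>
      (grows (List.replicate D.rank (edgesOne D A)).flatten [r0]).contains j

/-- All symmetries of the diagram extend to the roots and have an exponent. -/
noncomputable def autosChk (D : ChevalleyDatum) (A : Aux) : Bool :=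
  (prefixes D A D.rank).all fun p => rpChk D A p && (List.range 4).any (expAt D A p)

/-- The checks behind the automorphism theorem. -/
structure AutData (D : ChevalleyDatum) (A : Aux) : Prop where
  rank_pos : 0 < D.rank
  add : addChk D A = true
  opp : oppChk D A = true
  cox : ∃ M : Fin D.rank → Fin D.rank → ℕ, coxCheck D A M = true ∧ bondChk D A M = true
  auts : autosChk D A = true

theorem exists_rootPerm (h : Std D A) (dt : AutData D A) {π : Equiv.Perm (Fin D.rank)}
    (hπ : D.IsDiagramSymmetry π) : ∃ R, RootPerm D A π R := by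
  have := List.all_eq_true.1 dt.auts _ (nodes_mem h.good hπ)
  rw [Bool.and_eq_true] at this
  exact rootPerm_of_chk h this.1

theorem grows_induction {P : ℕ → Prop} : ∀ (E : List (ℕ × ℕ)) (K : List ℕ), (∀ x ∈ K, P x) →
    (∀ e ∈ E, P e.1 → P e.2) → ∀ x ∈ grows E K, P x
  | [], K, hK, _, x, hx => hK x hx
  | (i, j) :: E, K, hK, hE, x, hx => by
    refine grows_induction E _ (fun y hy => ?_) (fun e he => hE e (List.mem_cons_of_mem _ he)) x hx
    cases hc : K.contains i with
    | false => rw [hc] at hy; exact hK y hy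
    | true =>
      rw [hc] at hy
      rcases List.mem_cons.1 hy with rfl | hy
      · exact hE (i, y) List.mem_cons_self (hK i (by simpa using hc))
      · exact hK y hy

theorem sval_ev_apply (v : List (ℕ × ℤ)) (x : D.Idx) :
    sval (ev D F) v x = ((coefAt v (idx D x) : ℤ) : F) := by
  induction v with
  | nil => simp [sval, coefAt]
  | cons p v ih =>
    rw [sval_cons, Pi.add_apply, ih, coefAt, coefAt, List.map_cons, List.sum_cons, Int.cast_add]
    congr 1
    by_cases hp : p.1 = idx D x
    · simp [ev, hp]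
    · simp [ev, beq_false_of_ne hp, Ne.symm hp]

theorem wordMat_xG (g : Good D A) (w : List ℕ) :
    D.wordMat F ((w.map fun r => (r, (1 : ℤ))).map fun p => (p.1, (p.2 : F))) =
      (((w.map fun r => xG g r (1 : F)).prod : GL D.Idx F) : Matrix D.Idx D.Idx F) := by
  induction w with
  | nil => rfl
  | cons r w ih =>
    simp only [List.map_cons, List.prod_cons, Units.val_mul, xG_val, wordMat_cons, ih, Int.cast_one]

theorem oneMod2_iff [CharP F 2] (g : Good D A) {w : List ℕ} (hw : ∀ r ∈ w, r < D.nroots) :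
    oneMod2 D A w = true ↔ (w.map fun r => xG g r (1 : F)).prod = 1 := by
  have hkey : ∀ c : ℕ, ∀ x : D.Idx,
      (((w.map fun r => xG g r (1 : F)).prod : GL D.Idx F) : Matrix D.Idx D.Idx F).mulVec
        (ev D F c) x = ((coefAt (A.appWord D.rank D.nroots (w.map fun r => (r, (1 : ℤ))) [(c, 1)])
          (idx D x) : ℤ) : F) := by
    intro c x
    rw [← sval_ev_apply, sval_appWord g (by simpa using hw), wordMat_xG g, sval_cons, sval_nil]
    simp
  have hcast : ∀ (z : ℤ) (b : Bool), (z : F) = (bif b then 1 else 0) ↔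
      z % 2 = bif b then 1 else 0 := by
    intro z b
    have h2 : ∀ a : ℤ, ((a : F) = 0) ↔ a % 2 = 0 := fun a => by
      rw [CharP.intCast_eq_zero_iff F 2, Nat.cast_ofNat]; omega
    cases b
    · simpa using h2 z
    · rw [cond_true, cond_true, ← sub_eq_zero, show (z : F) - 1 = ((z - 1 : ℤ) : F) by push_cast; rfl,
        h2]
      omega
  simp only [oneMod2, List.all_eq_true, List.mem_range, beq_iff_eq, ← hcast]
  constructor
  · intro H
    refine Units.ext (matrix_ext fun c hc => funext fun x => ?_)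
    rw [hkey, Units.val_one, Matrix.one_mulVec, H c hc (idx D x) (idx_lt x)]
    by_cases hx : idx D x = c
    · simp [ev, hx]
    · simp [ev, beq_false_of_ne hx, hx]
  · intro H c hc k hk
    obtain ⟨x, rfl⟩ : ∃ x : D.Idx, idx D x = k := by
      by_cases hk' : k < D.rank
      · exact ⟨Sum.inl ⟨k, hk'⟩, rfl⟩
      · exact ⟨Sum.inr ⟨k - D.rank, by omega⟩, by simp [idx]; omega⟩
    rw [← hkey, H, Units.val_one, Matrix.one_mulVec]
    by_cases hx : idx D x = c
    · simp [ev, hx]
    · simp [ev, beq_false_of_ne hx, hx]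

theorem add_pow_cube {F : Type*} [Field F] (h2 : (2 : F) = 0) (σ τ : F ≃+* F)
    (hk : ∀ t, τ t = σ t ^ 3) (x : F) : x = 0 ∨ x = 1 := by
  haveI := Classical.decEq F
  obtain ⟨y, rfl⟩ := σ.symm.surjective x
  have h := hk (σ.symm y + σ.symm 1)
  rw [map_add τ, hk, hk, map_add σ] at h
  simp only [RingEquiv.apply_symm_apply] at h
  have h3 : y * (y + 1) * 3 = 0 := by linear_combination -h
  rw [show (3 : F) = 1 by linear_combination h2, mul_one] at h3
  rcases mul_eq_zero.1 h3 with e | e
  · exact Or.inl (by rw [e, map_zero])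
  · exact Or.inr (by rw [show y = 1 by linear_combination e - h2, map_one])

section

variable (h : Std D A) {φ : MulAut ↥(D.group F)} {π : Equiv.Perm (Fin D.rank)}
  {f f' : Fin D.rank → F → F}

theorem Shape.diagram (hS : Shape h.good φ π f f') (dt : AutData D A) :
    D.IsDiagramSymmetry π := by
  obtain ⟨M, hM, hb⟩ := dt.cox
  rw [diagram_iff h.good]
  intro i j hij
  simp only [bondChk, List.all_eq_true, List.mem_finRange, forall_const, decide_eq_true_eq] at hb
  exact hb i j (π i) (π j) hij (π.injective.ne hij) (hS.cox_eq h hM i j)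

theorem Shape.map_word [CharP F 2] (hS : Shape h.good φ π f f')
    (hF : ∀ x : F, x = 0 ∨ x = 1) {p : List ℕ} (hp : ∀ i : Fin D.rank, p.getD i 0 = (π i : ℕ))
    (h2 : 2 ≤ D.rank) :
    (oneMod2 D A (twistWord D A (List.range D.rank)) = true ↔
      oneMod2 D A (twistWord D A p) = true) := by
  have g := h.good
  have h0 : 0 < D.rank := by omega
  have h1 : 1 < D.rank := by omega
  set a : Fin D.rank := ⟨0, h0⟩
  set b : Fin D.rank := ⟨1, h1⟩
  have one : ∀ x : F, x ≠ 0 → x = 1 := fun x hx => (hF x).resolve_left hx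
  have e1 : ∀ i, f i 1 = 1 := fun i => one _ (hS.f_ne h i one_ne_zero)
  have e2 : ∀ i, f' i 1 = 1 := fun i => one _ fun e => by
    have h0 : f' i 0 = 0 := by
      refine xG_eq_one h (g.neg_lt _ (g.simple_lt _ (π i).isLt)) ?_
      rw [← hS.neg i, show xS g (A.neg (D.simple i)) (0 : F) = 1 from Subtype.ext (xG_zero g _)]
      simp
    exact one_ne_zero (hS.f'_inj h i (e.trans h0.symm))
  have hlt : ∀ (i j : Fin D.rank) (r : ℕ), r ∈ (List.replicate 6
      [D.simple i, D.simple j, A.neg (D.simple i)]).flatten → r < D.nroots := by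
    intro i j r hr
    obtain ⟨l, hl, hr⟩ := List.mem_flatten.1 hr
    rw [(List.mem_replicate.1 hl).2] at hr
    simp only [List.mem_cons, List.not_mem_nil, or_false] at hr
    rcases hr with rfl | rfl | rfl
    · exact g.simple_lt i i.isLt
    · exact g.simple_lt j j.isLt
    · exact g.neg_lt _ (g.simple_lt i i.isLt)
  have w0 : twistWord D A (List.range D.rank) =
      (List.replicate 6 [D.simple a, D.simple b, A.neg (D.simple a)]).flatten := by
    simp [twistWord, List.getD_eq_getElem?_getD, h0, h1, a, b]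
  have w1 : twistWord D A p =
      (List.replicate 6 [D.simple (π a), D.simple (π b), A.neg (D.simple (π a))]).flatten := by
    rw [twistWord, ← hp a, ← hp b]
  rw [w0, w1, oneMod2_iff (F := F) g (hlt a b), oneMod2_iff (F := F) g (hlt (π a) (π b))]
  set X := xS g (D.simple a) (1 : F) * xS g (D.simple b) 1 * xS g (A.neg (D.simple a)) 1
  set Y := xS g (D.simple (π a)) (1 : F) * xS g (D.simple (π b)) 1 *
    xS g (A.neg (D.simple (π a))) 1
  have hXY : φ X = Y := Subtype.ext (by
    simp only [X, Y, map_mul, Subgroup.coe_mul, xS_val, hS.pos, hS.neg, e1, e2])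
  have hpow : ∀ r s t : ℕ, ((List.replicate 6 [r, s, t]).flatten.map fun r => xG g r (1 : F)).prod =
      (((xS g r (1 : F) * xS g s 1 * xS g t 1) ^ 6 : ↥(D.group F)) : GL D.Idx F) := by
    intro r s t
    rw [List.map_flatten, List.map_replicate, List.prod_flatten, List.map_replicate,
      List.prod_replicate]
    simp [mul_assoc]
  rw [hpow, hpow, OneMemClass.coe_eq_one, OneMemClass.coe_eq_one]
  show X ^ 6 = 1 ↔ Y ^ 6 = 1
  rw [← hXY, ← map_pow, MulEquiv.map_eq_one_iff]

/-- The exponent forces the characteristic. -/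
theorem Shape.char_forced [Finite F] (hS : Shape h.good φ π f f') (dt : AutData D A) :
    ∃ c, c < 4 ∧ expAt D A (nodes π) c = true ∧ (c = 1 ∨ ringChar F = c) := by
  classical
  have g := h.good
  have hch := List.all_eq_true.1 dt.auts _ (nodes_mem g (hS.diagram h dt))
  rw [Bool.and_eq_true] at hch
  obtain ⟨c, hc4, hc⟩ := List.any_eq_true.1 hch.2
  refine ⟨c, List.mem_range.1 hc4, hc, ?_⟩
  simp only [expAt, Bool.and_eq_true, Bool.or_eq_true, List.all_eq_true, List.any_eq_true,
    decide_eq_true_eq, beq_iff_eq, bne_iff_ne, List.mem_range, List.contains_eq_mem] at hc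
  obtain ⟨⟨⟨⟨⟨hc1, hc3⟩, hedge⟩, htop⟩, hword⟩, r0, hr0, hr0e, hreach⟩ := hc
  choose s hs using hS.node_aut h
  let e : ℕ → ℕ := expOf D (nodes π) c
  have hE : ∀ x ∈ edgesOne D A, ∃ (hi : x.1 < D.rank) (hj : x.2 < D.rank),
      A.cart x.1 (D.simple x.2) = -1 := by
    intro x hx
    simp only [edgesOne, List.mem_flatMap, List.mem_map, List.mem_filter, List.mem_range,
      beq_iff_eq] at hx
    obtain ⟨i, hi, j, ⟨hj, hA⟩, rfl⟩ := hx
    exact ⟨hi, hj, hA⟩
  have hEk : ∀ x ∈ edgesOne D A, ∃ (hi : x.1 < D.rank) (hj : x.2 < D.rank) (k : ℕ),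
      A.cart (π ⟨x.1, hi⟩) (D.simple (π ⟨x.2, hj⟩)) = -(k : ℤ) ∧ (k = 1 ∨ k = c) ∧
      e x.2 = k * e x.1 ∧ ∀ t, s ⟨x.2, hj⟩ t = s ⟨x.1, hi⟩ t ^ k := by
    intro x hx
    obtain ⟨hi, hj, hA⟩ := hE x hx
    obtain ⟨⟨⟨hA', hk0⟩, hk⟩, hek⟩ := hedge x hx
    rw [show (nodes π).getD x.1 0 = (π ⟨x.1, hi⟩ : ℕ) from nodes_getD π ⟨x.1, hi⟩,
      show (nodes π).getD x.2 0 = (π ⟨x.2, hj⟩ : ℕ) from nodes_getD π ⟨x.2, hj⟩] at hA' hk0 hk hek
    exact ⟨hi, hj, _, hA', hk, hek, hS.edge h (hs _) (hs _) hk0 hA hA'⟩
  -- the characteristic is forced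
  rcases htop with ⟨h1, -⟩ | ⟨hc', x, hx, hxc⟩
  · exact Or.inl h1
  right
  obtain ⟨hi, hj, k, hA', -, -, hσ⟩ := hEk x hx
  rw [show (nodes π).getD x.1 0 = (π ⟨x.1, hi⟩ : ℕ) from nodes_getD π ⟨x.1, hi⟩,
    show (nodes π).getD x.2 0 = (π ⟨x.2, hj⟩ : ℕ) from nodes_getD π ⟨x.2, hj⟩, hA'] at hxc
  obtain rfl : k = c := by omega
  haveI : CharP F (ringChar F) := ringChar.charP F
  have htwo := hσ 2
  rw [map_ofNat, map_ofNat] at htwo
  have hdiv : ∀ n : ℕ, n.Prime → (n : F) = 0 → ringChar F = n := fun n hn h0 =>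
    ((Nat.dvd_prime hn).1 ((CharP.cast_eq_zero_iff F (ringChar F) n).1 h0)).resolve_left
      CharP.ringChar_ne_one
  rcases (show k = 2 ∨ k = 3 by omega) with rfl | rfl
  · exact hdiv 2 Nat.prime_two (by rw [Nat.cast_ofNat]; linear_combination -htwo)
  have h6 : (2 : F) * 3 = 0 := by linear_combination -htwo
  rcases mul_eq_zero.1 h6 with h2 | h3
  · exfalso
    have hF := add_pow_cube h2 _ _ hσ
    haveI : CharP F 2 := by
      have := hdiv 2 Nat.prime_two (by exact_mod_cast h2)
      exact this ▸ ringChar.charP F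
    rcases hword with hw | ⟨h2r, hw⟩
    · exact hw rfl
    · exact hw (Bool.eq_iff_iff.2 (hS.map_word h hF (nodes_getD π) h2r))
  · exact hdiv 3 Nat.prime_three (by exact_mod_cast h3)

/-- The parameters of a shape: scales, a field automorphism, and the exponents of the symmetry. -/
theorem Shape.params [Finite F] (hS : Shape h.good φ π f f') (dt : AutData D A) :
    ∃ σ : F ≃+* F, ∀ (i : Fin D.rank) (t : F),
      f i t = f i 1 * σ t ^ D.graphExp (ringChar F) i (π i) ∧
      f' i t = (f i 1)⁻¹ * σ t ^ D.graphExp (ringChar F) i (π i) := by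
  classical
  have g := h.good
  obtain ⟨c, -, hc, hp⟩ := hS.char_forced h dt
  simp only [expAt, Bool.and_eq_true, Bool.or_eq_true, List.all_eq_true, List.any_eq_true,
    decide_eq_true_eq, beq_iff_eq, bne_iff_ne, List.mem_range, List.contains_eq_mem] at hc
  obtain ⟨⟨⟨⟨⟨hc1, hc3⟩, hedge⟩, htop⟩, hword⟩, r0, hr0, hr0e, hreach⟩ := hc
  choose s hs using hS.node_aut h
  let e : ℕ → ℕ := expOf D (nodes π) c
  have hE : ∀ x ∈ edgesOne D A, ∃ (hi : x.1 < D.rank) (hj : x.2 < D.rank),
      A.cart x.1 (D.simple x.2) = -1 := by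
    intro x hx
    simp only [edgesOne, List.mem_flatMap, List.mem_map, List.mem_filter, List.mem_range,
      beq_iff_eq] at hx
    obtain ⟨i, hi, j, ⟨hj, hA⟩, rfl⟩ := hx
    exact ⟨hi, hj, hA⟩
  have hEk : ∀ x ∈ edgesOne D A, ∃ (hi : x.1 < D.rank) (hj : x.2 < D.rank) (k : ℕ),
      A.cart (π ⟨x.1, hi⟩) (D.simple (π ⟨x.2, hj⟩)) = -(k : ℤ) ∧ (k = 1 ∨ k = c) ∧
      e x.2 = k * e x.1 ∧ ∀ t, s ⟨x.2, hj⟩ t = s ⟨x.1, hi⟩ t ^ k := by
    intro x hx
    obtain ⟨hi, hj, hA⟩ := hE x hx
    obtain ⟨⟨⟨hA', hk0⟩, hk⟩, hek⟩ := hedge x hx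
    rw [show (nodes π).getD x.1 0 = (π ⟨x.1, hi⟩ : ℕ) from nodes_getD π ⟨x.1, hi⟩,
      show (nodes π).getD x.2 0 = (π ⟨x.2, hj⟩ : ℕ) from nodes_getD π ⟨x.2, hj⟩] at hA' hk0 hk hek
    exact ⟨hi, hj, _, hA', hk, hek, hS.edge h (hs _) (hs _) hk0 hA hA'⟩
  have hge : ∀ i : Fin D.rank, D.graphExp (ringChar F) i (π i) = e i := by
    intro i
    rcases hp with rfl | hp
    · have he : e i = 1 := rfl
      rw [he]
      have hz : D.graphExp 2 i (π i) = 1 := by
        rcases htop with ⟨-, hid | hall⟩ | ⟨hc', -⟩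
        · have : (π i : ℕ) = i := by
            rw [← nodes_getD π i, hid]; simp [List.getD_eq_getElem?_getD]
          simp [ChevalleyDatum.graphExp, this]
        · rw [← nodes_getD π i]; exact hall i i.isLt
        · exact absurd rfl hc'
      rw [ChevalleyDatum.graphExp] at hz ⊢
      split_ifs at hz ⊢
      · omega
      · rfl
    · show _ = expOf D (nodes π) c i
      rw [expOf, nodes_getD, hp]
      rcases eq_or_ne c 1 with rfl | hc'
      · exact absurd hp CharP.ringChar_ne_one
      · rw [beq_false_of_ne hc', cond_false]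
  -- propagate from the root of the tree
  set R0 : Fin D.rank := ⟨r0, hr0⟩
  have hprop : ∀ j : Fin D.rank, ∀ t, s j t = s R0 t ^ e j := by
    intro j
    have := grows_induction (P := fun x => ∀ hx : x < D.rank, ∀ t, s ⟨x, hx⟩ t = s R0 t ^ e x)
      _ _ (fun x hx hx' t => by
        obtain rfl := List.mem_singleton.1 hx
        rw [show e x = 1 from hr0e, pow_one]) (fun x hx ih hj t => by
        obtain ⟨l, hl, hx⟩ := List.mem_flatten.1 hx
        rw [(List.mem_replicate.1 hl).2] at hx
        obtain ⟨hi, _hj, k, _hA, _hk, hek, hσ⟩ := hEk x hx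
        rw [hσ, ih hi, hek, ← pow_mul, Nat.mul_comm]) j (hreach j j.isLt) j.isLt
    exact this
  refine ⟨s R0, fun i t => ?_⟩
  have hfi : ∀ t, f i t = f i 1 * s R0 t ^ D.graphExp (ringChar F) i (π i) := fun t => by
    rw [hge, ← hprop, ← hs]
  refine ⟨hfi t, ?_⟩
  have hne' : D.graphExp (ringChar F) i (π i) ≠ 0 := by
    intro h0
    have h1 := hfi 0
    rw [hS.f_zero h, h0, pow_zero, mul_one] at h1
    exact hS.f_ne h i one_ne_zero h1.symm
  rcases eq_or_ne t 0 with rfl | ht
  · rw [map_zero, zero_pow hne', mul_zero]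
    refine xG_eq_one h (g.neg_lt _ (g.simple_lt _ (π i).isLt)) ?_
    rw [← hS.neg i, show xS g (A.neg (D.simple i)) (0 : F) = 1 from Subtype.ext (xG_zero g _)]
    simp
  · have hr := hS.rel h i (t := -t⁻¹) (neg_ne_zero.2 (inv_ne_zero ht))
    rw [inv_neg, inv_inv, neg_neg, hfi, map_neg, map_inv₀] at hr
    rw [hr, mul_inv, ← inv_pow, inv_neg, inv_inv]
    have hodd : ∀ x : F, (-x) ^ D.graphExp (ringChar F) i (π i) =
        -x ^ D.graphExp (ringChar F) i (π i) := by
      intro x
      rw [ChevalleyDatum.graphExp]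
      split_ifs
      · haveI : CharP F (ringChar F) := ringChar.charP F
        haveI : Fact (ringChar F).Prime := ⟨CharP.char_is_prime F _⟩
        exact map_neg (frobenius F (ringChar F)) x
      · simp
    rw [hodd]
    ring

end

end CfsgLib.KnownB.ChevAutThm
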