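import Cfsg.Agent.Lib.KnownB.ChevAutData
import Cfsg.Agent.Lib.KnownB.PSLAut.Out
import Cfsg.Prelude.Def_KGroupFacts

/-!
The decomposition of an automorphism into inner, diagonal, graph and field parts, and the group of outer
automorphisms.
-/

set_option autoImplicit false

namespace CfsgLib.KnownB.ChevAutThm

open Cfsg.Lie Matrix CfsgLib.Chev CfsgLib.KnownB.ChevField

variable {D : ChevalleyDatum} {A : Aux} {F : Type*} [Field F]

/-- A graph automorphism with its permutation of the nodes. -/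
def IsGraphPerm (g : Good D A) (ψ : MulAut ↥(D.group F)) (π : Equiv.Perm (Fin D.rank)) : Prop :=
  D.IsDiagramSymmetry π ∧ ∀ (i : Fin D.rank) (t : F),
    ψ (xS g (D.simple i) t) = xS g (D.simple (π i)) (t ^ D.graphExp (ringChar F) i (π i)) ∧
    ψ (xS g (A.neg (D.simple i)) t) =
      xS g (A.neg (D.simple (π i))) (t ^ D.graphExp (ringChar F) i (π i))

theorem graphExp_self (c i : ℕ) : D.graphExp c i i = 1 := by
  simp [ChevalleyDatum.graphExp]

theorem IsGraphPerm.isGraphAut {g : Good D A} {ψ : MulAut ↥(D.group F)}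
    {π : Equiv.Perm (Fin D.rank)} (hψ : IsGraphPerm g ψ π) : D.IsGraphAut ψ := by
  refine ⟨π, hψ.1, fun y i t => ⟨fun e => ?_, fun e => ?_⟩⟩
  · obtain rfl : y = xS g (D.simple i) t := Subtype.ext (Units.ext (e.trans (xG_val g _ _).symm))
    rw [(hψ.2 i t).1, xS_val, xG_val]
  · rw [g.neg_eq _ (g.simple_lt i i.isLt)] at e
    obtain rfl : y = xS g (A.neg (D.simple i)) t :=
      Subtype.ext (Units.ext (e.trans (xG_val g _ _).symm))
    rw [(hψ.2 i t).2, xS_val, xG_val, g.neg_eq _ (g.simple_lt _ (π i).isLt)]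

/-! ### Homomorphisms to the automorphism group -/

/-- The root character with given values on the fundamental roots. -/
noncomputable def ext0 (c : Fin D.rank → Fˣ) : ℕ → Fˣ := fun k => if hk : k < D.rank then c ⟨k, hk⟩ else 1

variable (F) in
/-- Diagonal automorphisms as a homomorphism from the values on the fundamental roots. -/
noncomputable def dHom (g : Good D A) (hadd : addChk D A = true) :
    (Fin D.rank → Fˣ) →* MulAut ↥(D.group F) :=
  MonoidHom.mk' (fun c => dAut g hadd (isRootCharacter_wt g (ext0 c))) fun a b => by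
    refine aut_ext g (fun i t => ?_) fun i t => ?_
    · have hs := g.simple_lt i i.isLt
      simp only [MulAut.mul_apply, dAut_xS g hadd _ hs, wt_simple g _ i.isLt, ext0, i.isLt,
        dif_pos, Fin.eta, Pi.mul_apply, Units.val_mul, mul_assoc]
    · have hn := g.neg_lt _ (g.simple_lt i i.isLt)
      simp only [MulAut.mul_apply, dAut_xS g hadd _ hn]
      rw [← mul_assoc, ← Units.val_mul]
      congr 3
      rw [wt, wt, wt, ← Finset.prod_mul_distrib]
      refine Finset.prod_congr rfl fun k hk => ?_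
      simp [ext0, Finset.mem_range.1 hk, mul_zpow]

theorem dHom_xS (g : Good D A) (hadd : addChk D A = true) (c : Fin D.rank → Fˣ) (i : Fin D.rank)
    (t : F) :
    dHom F g hadd c (xS g (D.simple i) t) = xS g (D.simple i) ((c i : F) * t) ∧
    dHom F g hadd c (xS g (A.neg (D.simple i)) t) =
      xS g (A.neg (D.simple i)) (((c i)⁻¹ : Fˣ) * t) := by
  have hs := g.simple_lt i i.isLt
  constructor
  · show dAut g hadd (isRootCharacter_wt g (ext0 c)) _ = _
    simp only [dAut_xS g hadd _ hs, wt_simple g _ i.isLt, ext0, i.isLt, dif_pos, Fin.eta]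
  · show dAut g hadd (isRootCharacter_wt g (ext0 c)) _ = _
    rw [dAut_xS g hadd _ (g.neg_lt _ hs), ← g.neg_eq _ hs, (isRootCharacter_wt g _).1 _ hs]
    simp only [wt_simple g _ i.isLt, ext0, i.isLt, dif_pos, Fin.eta]

theorem isDiagonal_iff (g : Good D A) (hadd : addChk D A = true) (φ : MulAut ↥(D.group F)) :
    D.IsDiagonalAut φ ↔ φ ∈ (dHom F g hadd).range := by
  constructor
  · rintro ⟨χ, hχ, hφ⟩
    have hr : ∀ r < D.nroots, ∀ t : F, φ (xS g r t) = xS g r ((χ r : F) * t) := fun r hr t =>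
      Subtype.ext (Units.ext (by
        rw [hφ, xS_val, xS_val, xG_val, xG_val, charDiag_conj g hadd hχ hr]))
    refine ⟨fun i => χ (D.simple i), (aut_ext g (fun i t => ?_) fun i t => ?_).symm⟩
    · rw [hr _ (g.simple_lt i i.isLt), (dHom_xS g hadd _ i t).1]
    · rw [hr _ (g.neg_lt _ (g.simple_lt i i.isLt)), (dHom_xS g hadd _ i t).2,
        ← g.neg_eq _ (g.simple_lt i i.isLt), hχ.1 _ (g.simple_lt i i.isLt)]
  · rintro ⟨c, rfl⟩
    exact dAut_isDiagonal g hadd (isRootCharacter_wt g (ext0 c))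

variable (F) in
/-- Field automorphisms as a homomorphism. -/
noncomputable def fHom (g : Good D A) : (F ≃+* F) →* MulAut ↥(D.group F) :=
  MonoidHom.mk' (fAut g) (fAut_mul g)

theorem isField_iff (g : Good D A) (φ : MulAut ↥(D.group F)) :
    D.IsFieldAut φ ↔ φ ∈ (fHom F g).range := by
  constructor
  · rintro ⟨σ, hσ⟩
    exact ⟨σ, MulEquiv.ext fun y => Subtype.ext (fieldAut_eq_map g φ hσ y).symm⟩
  · rintro ⟨σ, rfl⟩
    exact fAut_isField g σ

theorem graph_one (g : Good D A) {ψ : MulAut ↥(D.group F)} (hψ : IsGraphPerm g ψ 1) : ψ = 1 :=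
  aut_ext g (fun i t => by simpa [graphExp_self] using (hψ.2 i t).1)
    fun i t => by simpa [graphExp_self] using (hψ.2 i t).2

/-- Every automorphism is inner times diagonal times graph times field. -/
theorem decomp [Finite F] (h : Std D A) (dt : AutData D A) (θ : MulAut ↥(D.group F)) :
    ∃ (x : ↥(D.group F)) (c : Fin D.rank → Fˣ) (π : Equiv.Perm (Fin D.rank))
      (ψ : MulAut ↥(D.group F)) (σ : F ≃+* F), IsGraphPerm h.good ψ π ∧
      θ = MulAut.conj x * dHom F h.good dt.add c * ψ * fHom F h.good σ := by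
  have g := h.good
  obtain ⟨x, π, f, f', hS⟩ := exists_shape h dt.add dt.opp θ
  obtain ⟨σ, hσ⟩ := hS.params h dt
  set a : Fin D.rank → Fˣ := fun i => Units.mk0 _ (hS.f_ne h (π.symm i) (one_ne_zero (α := F)))
  set d := dHom F g dt.add a
  set φ := MulAut.conj x * θ
  refine ⟨x⁻¹, a, π, d⁻¹ * φ * (fHom F g σ)⁻¹, σ, ⟨hS.diagram h dt, fun i t => ⟨?_, ?_⟩⟩, ?_⟩
  · rw [← map_inv (fHom F g), MulAut.mul_apply, MulAut.mul_apply,
      show fHom F g σ⁻¹ (xS g (D.simple i) t) = xS g (D.simple i) (σ.symm t) from fAut_xS g _ _ _,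
      show φ (xS g (D.simple i) (σ.symm t)) = xS g (D.simple (π i)) (f i (σ.symm t)) from
        Subtype.ext (hS.pos i _), (hσ i _).1, RingEquiv.apply_symm_apply, MulAut.inv_apply,
      MulEquiv.symm_apply_eq, (dHom_xS g dt.add a (π i) _).1]
    simp [a]
  · rw [← map_inv (fHom F g), MulAut.mul_apply, MulAut.mul_apply,
      show fHom F g σ⁻¹ (xS g (A.neg (D.simple i)) t) = xS g (A.neg (D.simple i)) (σ.symm t) from
        fAut_xS g _ _ _,
      show φ (xS g (A.neg (D.simple i)) (σ.symm t)) =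
          xS g (A.neg (D.simple (π i))) (f' i (σ.symm t)) from Subtype.ext (hS.neg i _),
      (hσ i _).2, RingEquiv.apply_symm_apply, MulAut.inv_apply, MulEquiv.symm_apply_eq,
      (dHom_xS g dt.add a (π i) _).2]
    simp [a]
  · simp only [φ, d, map_inv]
    group

theorem hasShape_dgf (g : Good D A) (hadd : addChk D A = true) (c : Fin D.rank → Fˣ)
    {π : Equiv.Perm (Fin D.rank)} {ψ : MulAut ↥(D.group F)} (hψ : IsGraphPerm g ψ π)
    (σ : F ≃+* F) : HasShape g (dHom F g hadd c * ψ * fHom F g σ) π := by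
  refine ⟨fun i t => (c (π i) : F) * σ t ^ D.graphExp (ringChar F) i (π i),
    fun i t => (((c (π i))⁻¹ : Fˣ) : F) * σ t ^ D.graphExp (ringChar F) i (π i),
    fun i t => ?_, fun i t => ?_⟩
  · rw [MulAut.mul_apply, MulAut.mul_apply,
      show fHom F g σ (xS g (D.simple i) t) = xS g (D.simple i) (σ t) from fAut_xS g _ _ _,
      (hψ.2 i _).1, (dHom_xS g hadd c (π i) _).1]
    rfl
  · rw [MulAut.mul_apply, MulAut.mul_apply,
      show fHom F g σ (xS g (A.neg (D.simple i)) t) = xS g (A.neg (D.simple i)) (σ t) from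
        fAut_xS g _ _ _, (hψ.2 i _).2, (dHom_xS g hadd c (π i) _).2]
    rfl

theorem isGraphPerm_one (g : Good D A) : IsGraphPerm g (1 : MulAut ↥(D.group F)) 1 :=
  ⟨fun _ _ _ => rfl, fun i t => by simp [graphExp_self]⟩

theorem hasShape_one (g : Good D A) : HasShape g (1 : MulAut ↥(D.group F)) 1 :=
  ⟨fun _ t => t, fun _ t => t, fun _ _ => rfl, fun _ _ => rfl⟩

theorem HasShape.mul {g : Good D A} {φ₁ φ₂ : MulAut ↥(D.group F)}
    {π₁ π₂ : Equiv.Perm (Fin D.rank)} (h₁ : HasShape g φ₁ π₁) (h₂ : HasShape g φ₂ π₂) :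
    HasShape g (φ₁ * φ₂) (π₁ * π₂) := by
  obtain ⟨a, a', ha⟩ := h₁
  obtain ⟨b, b', hb⟩ := h₂
  refine ⟨fun i t => a (π₂ i) (b i t), fun i t => a' (π₂ i) (b' i t), fun i t => ?_, fun i t => ?_⟩
  · rw [MulAut.mul_apply, show φ₂ (xS g (D.simple i) t) = xS g (D.simple (π₂ i)) (b i t) from
      Subtype.ext (hb.pos i t), ha.pos, Equiv.Perm.mul_apply]
  · rw [MulAut.mul_apply, show φ₂ (xS g (A.neg (D.simple i)) t) =
      xS g (A.neg (D.simple (π₂ i))) (b' i t) from Subtype.ext (hb.neg i t), ha.neg,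
      Equiv.Perm.mul_apply]

/-! ### The permutation of the nodes as an invariant -/

section

variable [Finite F] (h : Std D A) (dt : AutData D A)

include h dt in
theorem shape_perm_unique {θ : MulAut ↥(D.group F)} {π π' : Equiv.Perm (Fin D.rank)}
    {x x' : ↥(D.group F)} (hS : HasShape h.good (MulAut.conj x * θ) π)
    (hS' : HasShape h.good (MulAut.conj x' * θ) π') : π = π' := by
  obtain ⟨f, f', hSs⟩ := hS
  obtain ⟨k, k', hSs'⟩ := hS'
  obtain ⟨R, hR⟩ := exists_rootPerm h dt (hSs.diagram h dt)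
  obtain ⟨R', hR'⟩ := exists_rootPerm h dt (hSs'.diagram h dt)
  refine (shape_unique h hR hR' ⟨f, f', hSs⟩ (x := x' * x⁻¹) ⟨k, k', ?_⟩).2
  rwa [show MulAut.conj (x' * x⁻¹) * (MulAut.conj x * θ) = MulAut.conj x' * θ by
    rw [← mul_assoc, ← map_mul, inv_mul_cancel_right]]

/-- The permutation of the nodes of an automorphism. -/
noncomputable def nodePerm : MulAut ↥(D.group F) →* Equiv.Perm (Fin D.rank) :=
  MonoidHom.mk' (fun θ => (exists_shape h dt.add dt.opp θ).choose_spec.choose) fun a b => by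
    obtain hab := (exists_shape h dt.add dt.opp (a * b)).choose_spec.choose_spec
    obtain ha := (exists_shape h dt.add dt.opp a).choose_spec.choose_spec
    obtain hb := (exists_shape h dt.add dt.opp b).choose_spec.choose_spec
    have hm := ha.mul hb
    set x := (exists_shape h dt.add dt.opp a).choose
    set y := (exists_shape h dt.add dt.opp b).choose
    refine shape_perm_unique h dt hab (x' := x * a y) ?_
    rw [show MulAut.conj (x * a y) * (a * b) = MulAut.conj x * a * (MulAut.conj y * b) by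
      refine MulEquiv.ext fun z => ?_
      simp [mul_assoc]]
    exact hm

theorem nodePerm_eq {θ : MulAut ↥(D.group F)} {π : Equiv.Perm (Fin D.rank)} {x : ↥(D.group F)}
    (hS : HasShape h.good (MulAut.conj x * θ) π) : nodePerm h dt θ = π :=
  shape_perm_unique h dt (exists_shape h dt.add dt.opp θ).choose_spec.choose_spec hS

theorem nodePerm_of_shape {θ : MulAut ↥(D.group F)} {π : Equiv.Perm (Fin D.rank)}
    (hS : HasShape h.good θ π) : nodePerm h dt θ = π :=
  nodePerm_eq h dt (x := 1) (by rwa [map_one, one_mul])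

theorem inn_le_ker : Cfsg.Inn ↥(D.group F) ≤ (nodePerm (F := F) h dt).ker := by
  rintro _ ⟨x, rfl⟩
  refine MonoidHom.mem_ker.2 (nodePerm_eq h dt (x := x⁻¹) ?_)
  rw [← map_mul, inv_mul_cancel, map_one]
  exact hasShape_one h.good

/-- The permutation of the nodes of an outer automorphism. -/
noncomputable def outPerm : Cfsg.Out ↥(D.group F) →* Equiv.Perm (Fin D.rank) :=
  QuotientGroup.lift _ (nodePerm h dt) (inn_le_ker h dt)

/-- Diagonal automorphisms modulo inner ones. -/
noncomputable def dOut : (Fin D.rank → Fˣ) →* Cfsg.Out ↥(D.group F) :=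
  (QuotientGroup.mk' _).comp (dHom F h.good dt.add)

/-- Field automorphisms modulo inner ones. -/
noncomputable def fOut : (F ≃+* F) →* Cfsg.Out ↥(D.group F) :=
  (QuotientGroup.mk' _).comp (fHom F h.good)

omit [Finite F] in
theorem diag_closure : (Subgroup.closure {φ : MulAut ↥(D.group F) | D.IsDiagonalAut φ}).map
    (QuotientGroup.mk' (Cfsg.Inn ↥(D.group F))) = (dOut (F := F) h dt).range := by
  have : {φ : MulAut ↥(D.group F) | D.IsDiagonalAut φ} =
      ((dHom F h.good dt.add).range : Set (MulAut ↥(D.group F))) :=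
    Set.ext (isDiagonal_iff h.good dt.add)
  rw [this, Subgroup.closure_eq, MonoidHom.map_range]
  rfl

omit [Finite F] in
theorem field_closure : (Subgroup.closure {φ : MulAut ↥(D.group F) | D.IsFieldAut φ}).map
    (QuotientGroup.mk' (Cfsg.Inn ↥(D.group F))) = (fOut (F := F) h).range := by
  have : {φ : MulAut ↥(D.group F) | D.IsFieldAut φ} =
      ((fHom F h.good).range : Set (MulAut ↥(D.group F))) :=
    Set.ext (isField_iff h.good)
  rw [this, Subgroup.closure_eq, MonoidHom.map_range]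
  rfl

theorem field_conj_dHom (σ : F ≃+* F) (c : Fin D.rank → Fˣ) :
    fHom F h.good σ * dHom F h.good dt.add c =
      dHom F h.good dt.add (fun i => Units.map σ.toMonoidHom (c i)) * fHom F h.good σ := by
  refine aut_ext h.good (fun i t => ?_) fun i t => ?_
  · rw [MulAut.mul_apply, MulAut.mul_apply, (dHom_xS _ _ _ i t).1,
      show fHom F h.good σ (xS h.good _ t) = _ from fAut_xS _ σ _ t, (dHom_xS _ _ _ i _).1,
      show fHom F h.good σ (xS h.good (D.simple i) ((c i : F) * t)) = _ from fAut_xS _ σ _ _,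
      map_mul]
    rfl
  · rw [MulAut.mul_apply, MulAut.mul_apply, (dHom_xS _ _ _ i t).2,
      show fHom F h.good σ (xS h.good (A.neg (D.simple i)) t) = _ from fAut_xS _ σ _ t,
      (dHom_xS _ _ _ i _).2,
      show fHom F h.good σ (xS h.good (A.neg (D.simple i)) (((c i)⁻¹ : Fˣ) * t)) = _ from
        fAut_xS _ σ _ _, map_mul, ← map_inv]
    rfl

theorem graph_conj_dHom {ψ : MulAut ↥(D.group F)} {π : Equiv.Perm (Fin D.rank)}
    (hψ : IsGraphPerm h.good ψ π) (c : Fin D.rank → Fˣ) :
    ψ * dHom F h.good dt.add c = dHom F h.good dt.add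
      (fun j => c (π.symm j) ^ D.graphExp (ringChar F) (π.symm j) j) * ψ := by
  refine aut_ext h.good (fun i t => ?_) fun i t => ?_
  · rw [MulAut.mul_apply, MulAut.mul_apply, (dHom_xS _ _ _ i t).1, (hψ.2 i _).1, (hψ.2 i _).1,
      (dHom_xS _ _ _ (π i) _).1, mul_pow]
    simp
  · rw [MulAut.mul_apply, MulAut.mul_apply, (dHom_xS _ _ _ i t).2, (hψ.2 i _).2, (hψ.2 i _).2,
      (dHom_xS _ _ _ (π i) _).2, mul_pow]
    simp [inv_pow]

theorem mk_conj (x : ↥(D.group F)) :
    QuotientGroup.mk' (Cfsg.Inn ↥(D.group F)) (MulAut.conj x) = 1 :=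
  (QuotientGroup.eq_one_iff _).2 ⟨x, rfl⟩

theorem dOut_normal : (dOut (F := F) h dt).range.Normal := by
  refine ⟨?_⟩
  rintro _ ⟨c, rfl⟩ y
  obtain ⟨θ, rfl⟩ := QuotientGroup.mk'_surjective _ y
  obtain ⟨x, c₀, π, ψ, σ, hψ, rfl⟩ := decomp h dt θ
  set c₁ : Fin D.rank → Fˣ := fun i => Units.map σ.toMonoidHom (c i)
  set c₂ : Fin D.rank → Fˣ := fun j => c₁ (π.symm j) ^ D.graphExp (ringChar F) (π.symm j) j
  refine ⟨c₂, ?_⟩
  simp only [dOut, MonoidHom.comp_apply, map_mul, mk_conj, one_mul]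
  rw [eq_mul_inv_iff_mul_eq]
  simp only [← map_mul]
  congr 1
  simp only [mul_assoc]
  rw [field_conj_dHom h dt σ c, ← mul_assoc ψ (dHom F h.good dt.add c₁), graph_conj_dHom h dt hψ c₁]
  simp only [← mul_assoc, ← map_mul, mul_comm c₂]
  rfl

theorem outPerm_ker : (outPerm (F := F) h dt).ker = (dOut (F := F) h dt).range ⊔ (fOut h).range := by
  refine le_antisymm (fun y hy => ?_) (sup_le ?_ ?_)
  · obtain ⟨θ, rfl⟩ := QuotientGroup.mk'_surjective _ y
    obtain ⟨x, c₀, π, ψ, σ, hψ, rfl⟩ := decomp h dt θ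
    have hπ : nodePerm h dt (MulAut.conj x * dHom F h.good dt.add c₀ * ψ * fHom F h.good σ) = π :=
      nodePerm_eq h dt (x := x⁻¹) (by
      rw [← mul_assoc, ← mul_assoc, ← mul_assoc, ← map_mul, inv_mul_cancel, map_one, one_mul]
      exact hasShape_dgf h.good dt.add c₀ hψ σ)
    have h1 : nodePerm h dt (MulAut.conj x * dHom F h.good dt.add c₀ * ψ * fHom F h.good σ) = 1 := hy
    rw [hπ] at h1
    subst h1
    rw [graph_one h.good hψ, mul_one, map_mul, map_mul, mk_conj, one_mul]
    exact Subgroup.mul_mem_sup ⟨c₀, rfl⟩ ⟨σ, rfl⟩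
  · rintro _ ⟨c, rfl⟩
    refine nodePerm_of_shape h dt ?_
    have := hasShape_dgf h.good dt.add c (isGraphPerm_one h.good) (1 : F ≃+* F)
    rwa [map_one, mul_one, mul_one] at this
  · rintro _ ⟨σ, rfl⟩
    refine nodePerm_of_shape h dt ?_
    have := hasShape_dgf h.good dt.add (1 : Fin D.rank → Fˣ) (isGraphPerm_one h.good) σ
    rwa [map_one, mul_one, one_mul] at this

theorem graph_mem_range {ψ : MulAut ↥(D.group F)} {π : Equiv.Perm (Fin D.rank)}
    (hψ : IsGraphPerm h.good ψ π) : π ∈ (outPerm (F := F) h dt).range := by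
  refine ⟨QuotientGroup.mk' _ ψ, nodePerm_of_shape h dt ?_⟩
  have := hasShape_dgf h.good dt.add (1 : Fin D.rank → Fˣ) hψ (1 : F ≃+* F)
  rwa [map_one, map_one, one_mul, mul_one] at this

theorem range_diagram {π : Equiv.Perm (Fin D.rank)} (hπ : π ∈ (outPerm (F := F) h dt).range) :
    ∃ ψ : MulAut ↥(D.group F), IsGraphPerm h.good ψ π := by
  obtain ⟨y, rfl⟩ := hπ
  obtain ⟨θ, rfl⟩ := QuotientGroup.mk'_surjective _ y
  obtain ⟨x, c₀, π, ψ, σ, hψ, rfl⟩ := decomp h dt θ
  refine ⟨ψ, ?_⟩
  rwa [show outPerm h dt _ = π from nodePerm_eq h dt (x := x⁻¹) (by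
    rw [← mul_assoc, ← mul_assoc, ← mul_assoc, ← map_mul, inv_mul_cancel, map_one, one_mul]
    exact hasShape_dgf h.good dt.add c₀ hψ σ)]

theorem card_range_le : Nat.card (outPerm (F := F) h dt).range ≤ (prefixes D A D.rank).length := by
  classical
  let q : ↥(outPerm (F := F) h dt).range → ↥((prefixes D A D.rank).toFinset) := fun π =>
    ⟨nodes π.1, List.mem_toFinset.2 (by
      obtain ⟨ψ, hψ⟩ := range_diagram h dt π.2
      exact nodes_mem h.good hψ.1)⟩
  have hq : Function.Injective q := fun a b e => Subtype.ext (Equiv.ext fun i => Fin.ext (by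
    rw [← nodes_getD a.1 i, ← nodes_getD b.1 i]
    exact congrArg (fun l => List.getD l i.val 0) (congrArg Subtype.val e)))
  refine (Nat.card_le_card_of_injective q hq).trans ?_
  rw [Nat.card_eq_fintype_card, Fintype.card_coe]
  exact List.toFinset_card_le _

include h dt in
theorem conj_one_shape {x : ↥(D.group F)} {φ : MulAut ↥(D.group F)}
    (hφ : HasShape h.good φ 1) (e : φ = MulAut.conj x) :
    (x : GL D.Idx F) ∈ D.diagonalSubgroup F := by
  obtain ⟨R, hR⟩ := exists_rootPerm h dt (isGraphPerm_one (F := F) h.good).1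
  exact (shape_unique h hR hR (hasShape_one h.good) (x := x) (by rw [mul_one, ← e]; exact hφ)).1

/-- A product of a diagonal and a field automorphism is inner only if it comes from the torus. -/
theorem df_eq_inner {c : Fin D.rank → Fˣ} {σ : F ≃+* F}
    (he : dHom F h.good dt.add c * fHom F h.good σ ∈ Cfsg.Inn ↥(D.group F)) :
    σ = 1 ∧ c ∈ (mHom F (cartanM D A)).range := by
  obtain ⟨x, hx⟩ := he
  have g := h.good
  have hxH := conj_one_shape h dt (φ := dHom F g dt.add c * fHom F g σ) (by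
    have := hasShape_dgf g dt.add c (isGraphPerm_one g) σ
    rwa [mul_one] at this) hx.symm
  rw [diagonalSubgroup_eq g] at hxH
  obtain ⟨w, hw⟩ := hxH
  have key : ∀ (i : Fin D.rank) (t : F), (chi D A w (D.simple i) : F) * t = (c i : F) * σ t := by
    intro i t
    have h1 := congrArg (fun φ : MulAut ↥(D.group F) => (φ (xS g (D.simple i) t) : GL D.Idx F)) hx
    simp only [MulAut.mul_apply, MulAut.conj_apply, Subgroup.coe_mul, Subgroup.coe_inv, xS_val] at h1
    rw [show fHom F g σ (xS g (D.simple i) t) = _ from fAut_xS g σ _ t, (dHom_xS _ _ _ i _).1,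
      ← hw, tor_conj_xG g w (g.simple_lt i i.isLt)] at h1
    exact ChevField.xG_inj h (g.simple_lt i i.isLt) h1
  have hc : ∀ i, c i = chi D A w (D.simple i) := fun i => Units.ext (by simpa using (key i 1).symm)
  refine ⟨RingEquiv.ext fun t => ?_, ⟨w, funext fun i => (hc i).symm⟩⟩
  have := key ⟨0, dt.rank_pos⟩ t
  rw [hc] at this
  exact (mul_left_cancel₀ (Units.ne_zero _) this).symm

omit [Finite F] in
theorem dOut_ker_ge : (mHom F (cartanM D A)).range ≤ (dOut (F := F) h dt).ker := by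
  rintro _ ⟨w, rfl⟩
  have g := h.good
  refine MonoidHom.mem_ker.2 ((QuotientGroup.eq_one_iff _).2
    ⟨⟨tor D A w, diagonalSubgroup_le_group g (by rw [diagonalSubgroup_eq g]; exact ⟨w, rfl⟩)⟩, ?_⟩)
  refine aut_ext g (fun i t => ?_) fun i t => ?_
  · rw [(dHom_xS _ _ _ i _).1]
    exact Subtype.ext (tor_conj_xG g w (g.simple_lt i i.isLt) t)
  · rw [(dHom_xS _ _ _ i _).2]
    refine Subtype.ext ((tor_conj_xG g w (g.neg_lt _ (g.simple_lt i i.isLt)) t).trans ?_)
    rw [chi_neg g w (g.simple_lt i i.isLt)]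
    rfl

theorem dOut_ker : (dOut (F := F) h dt).ker = (mHom F (cartanM D A)).range := by
  refine le_antisymm (fun c hc => ?_) (dOut_ker_ge h dt)
  refine (df_eq_inner h dt (c := c) (σ := 1) ?_).2
  rw [map_one, mul_one]
  exact (QuotientGroup.eq_one_iff _).1 hc

include h dt in
theorem fOut_injective : Function.Injective (fOut (F := F) h) := by
  rw [injective_iff_map_eq_one]
  intro σ hσ
  refine (df_eq_inner h dt (c := 1) (σ := σ) ?_).1
  rw [map_one, one_mul]
  exact (QuotientGroup.eq_one_iff _).1 hσ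

theorem dOut_disjoint : Disjoint (dOut (F := F) h dt).range (fOut h).range := by
  rw [Subgroup.disjoint_def]
  rintro _ ⟨c, rfl⟩ ⟨σ, hσ⟩
  have h1 := df_eq_inner h dt (c := c⁻¹) (σ := σ) ((QuotientGroup.eq_one_iff _).1 (by
    rw [← QuotientGroup.mk'_apply, map_mul, map_inv, map_inv]
    exact inv_mul_eq_one.2 hσ.symm))
  rw [← hσ, h1.1, map_one]

/-- The order of the outer automorphism group. -/
theorem card_out : Nat.card (Cfsg.Out ↥(D.group F)) = Nat.card (outPerm (F := F) h dt).range *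
    ((mHom F (cartanM D A)).range.index * Nat.card (F ≃+* F)) := by
  haveI := dOut_normal (F := F) h dt
  rw [← Subgroup.index_mul_card (outPerm (F := F) h dt).ker, Subgroup.index_ker, outPerm_ker h dt]
  congr 1
  have h2 : Nat.card ↥((dOut (F := F) h dt).range ⊔ (fOut h).range) =
      Nat.card (dOut (F := F) h dt).range * Nat.card (fOut (F := F) h).range := by
    rw [← Nat.card_prod]
    symm
    refine Nat.card_congr (Equiv.ofBijective
      (fun p => ⟨(p.1 : Cfsg.Out ↥(D.group F)) * p.2, Subgroup.mul_mem_sup p.1.2 p.2.2⟩) ⟨?_, ?_⟩)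
    · intro p q e
      exact Subgroup.mul_injective_of_disjoint (dOut_disjoint h dt) (congrArg Subtype.val e)
    · rintro ⟨y, hy⟩
      rw [← SetLike.mem_coe, Subgroup.normal_mul] at hy
      obtain ⟨a, ha, b, hb, rfl⟩ := hy
      exact ⟨(⟨a, ha⟩, ⟨b, hb⟩), rfl⟩
  rw [h2, ← dOut_ker h dt, Subgroup.index_ker,
    ← Nat.card_congr (MonoidHom.ofInjective (fOut_injective h dt)).toEquiv]

end

/-- The index of the image of the Cartan matrix. -/
theorem cartan_index [Fintype F] (g : Good D A) {U Ui V Vi : Matrix (Fin D.rank) (Fin D.rank) ℤ}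
    {d : Fin D.rank → ℕ} (hc : smithCheck D A U Ui V Vi d = true) :
    (mHom F (cartanM D A)).range.index = ∏ i, Nat.gcd (d i) (Fintype.card F - 1) := by
  classical
  have hk : (tor D A (F := F)).ker = (mHom F (cartanM D A)).ker := by
    ext c
    rw [MonoidHom.mem_ker, MonoidHom.mem_ker, tor_eq_one_iff g]
  have hcard : Nat.card (mHom F (cartanM D A)).range = Nat.card (D.diagonalSubgroup F) := by
    rw [← Subgroup.index_ker, ← hk, Subgroup.index_ker, diagonalSubgroup_eq g]
  have h1 := card_diagonal (F := F) g hc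
  have h2 := Subgroup.index_mul_card (mHom F (cartanM D A)).range
  rw [hcard, Nat.card_fun, Nat.card_units, Nat.card_eq_fintype_card (α := F), Nat.card_eq_fintype_card (α := Fin D.rank),
    Fintype.card_fin, ← h1] at h2
  exact Nat.eq_of_mul_eq_mul_right Nat.card_pos h2

end CfsgLib.KnownB.ChevAutThm
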