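import Cfsg.Agent.Lib.KnownB.ChevFoldChk
import Cfsg.Agent.Lib.Chev.Types

/-! The folding data of D₄ onto G₂ and of E₆ onto F₄. -/

set_option autoImplicit false

namespace CfsgLib.KnownB.ChevFold

open Cfsg.Lie CfsgLib.Chev

/-- D₄ onto G₂. -/
def foldD4 : Fold where
  node := [[0, 2, 3], [1]]
  orb := [[0], [1], [2, 3, 6], [4, 7, 8], [5, 10, 11], [9], [14], [18, 13, 12], [15, 16, 19], [17, 20, 21], [22], [23]]
  emb := [[(0, 1), (2, 1), (3, 1)], [(1, 1)], [(4, -1)], [(5, -1)], [(6, -1), (7, -1), (10, 1)], [(8, 1), (11, -1), (12, -1)], [(9, 1), (14, 1), (15, 1)], [(13, 1)], [(18, 1)], [(22, 1), (17, 1), (16, 1)], [(19, -1), (20, -1), (23, 1)], [(21, 1), (24, -1), (25, -1)], [(26, -1)], [(27, -1)]]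

/-- E₆ onto F₄. -/
def foldE6 : Fold where
  node := [[0, 5], [2, 4], [3], [1]]
  orb := [[0], [1], [2], [3, 5], [6], [8], [11], [4, 16], [7, 17], [9, 19], [12, 26], [10, 22], [13, 30], [14, 33], [15, 35], [18], [20], [27], [21, 23], [28, 31], [29, 34], [24], [32], [25], [46], [39], [47], [42, 37], [40, 43], [48, 50], [44], [51], [53], [56, 36], [38, 57], [41, 58], [49, 61], [45, 59], [52, 62], [54, 64], [55, 67], [60], [63], [65], [66, 68], [69], [70], [71]]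
  emb := [[(0, 1), (5, 1)], [(2, 1), (4, 1)], [(3, 1)], [(1, 1)], [(6, 1)], [(7, 1)], [(8, 1)], [(9, 1), (11, 1)], [(12, 1)], [(14, 1)], [(17, 1)], [(10, 1), (22, -1)], [(13, 1), (23, -1)], [(15, 1), (25, -1)], [(18, 1), (32, -1)], [(16, 1), (28, -1)], [(19, 1), (36, 1)], [(20, 1), (39, -1)], [(21, 1), (41, 1)], [(24, 1)], [(26, 1)], [(33, 1)], [(27, 1), (29, 1)], [(34, 1), (37, -1)], [(35, 1), (40, 1)], [(30, -1)], [(38, 1)], [(31, 1)], [(52, 1)], [(45, 1)], [(53, -1)], [(48, 1), (43, 1)], [(46, -1), (49, 1)], [(54, 1), (56, 1)], [(50, 1)], [(57, 1)], [(59, 1)], [(62, 1), (42, 1)], [(44, -1), (63, 1)], [(47, 1), (64, 1)], [(55, -1), (67, 1)], [(51, -1), (65, 1)], [(58, -1), (68, 1)], [(60, -1), (70, 1)], [(61, -1), (73, 1)], [(66, 1)], [(69, 1)], [(71, 1)], [(72, 1), (74, 1)], [(75, 1)], [(76, 1)], [(77, 1)]]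

theorem foldChk_D4 : foldChk chevD4 auxD4 chevG2 auxG2 foldD4 = true := by decide +kernel

theorem foldChk_E6 : foldChk chevE6 auxE6 chevF4 auxF4 foldE6 = true := by decide +kernel

end CfsgLib.KnownB.ChevFold
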