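import Cfsg.Agent.Lib.KnownB.ChevFold
import Cfsg.Agent.Lib.KnownB.ChevFoldData
import Cfsg.Agent.Lib.KnownB.ChevFixed

/-!
Fixed points of the graph automorphisms of D₄ (triality) and E₆: the groups G₂ and F₄.
-/

set_option autoImplicit false

namespace CfsgLib.KnownB.ChevFold

open Cfsg.Lie CfsgLib.Chev CfsgLib.KnownB.ChevField

variable {D : ChevalleyDatum} {A : Aux} {D' : ChevalleyDatum} {A' : Aux} {d : Fold}
  {F : Type*} [Field F]

/-- The symmetry of the diagram permutes each orbit transitively (orbits of length at most three). -/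
def stableChk (D D' : ChevalleyDatum) (d : Fold) (π : Equiv.Perm (Fin D.rank)) : Bool :=
  (List.range D'.nroots).all fun a => (d.orbAt a).all fun r =>
    (d.orbAt a).contains (D.permRoot π r) &&
      [(d.orbAt a).headI, D.permRoot π (d.orbAt a).headI,
        D.permRoot π (D.permRoot π (d.orbAt a).headI)].contains r

/-- The fixed subgroup of a graph automorphism is the smaller Chevalley group. -/
theorem graph_fixed (h : Std D A) (hsl : simplyLacedChk D A = true) (h' : Std D' A')
    (hd : foldChk D A D' A' d = true) (hU : Unimodular D') {π : Equiv.Perm (Fin D.rank)}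
    (hst : stableChk D D' d π = true) (hπ : D.IsDiagramSymmetry π) (φ : MulAut ↥(D.group F))
    (hφ : ∀ (y : ↥(D.group F)) (i : Fin D.rank) (t : F),
      (((y : GL D.Idx F) : Matrix D.Idx D.Idx F) = D.x F (D.simple i) t →
        ((φ y : GL D.Idx F) : Matrix D.Idx D.Idx F) = D.x F (D.simple (π i)) t) ∧
      (((y : GL D.Idx F) : Matrix D.Idx D.Idx F) = D.x F (D.neg (D.simple i)) t →
        ((φ y : GL D.Idx F) : Matrix D.Idx D.Idx F) = D.x F (D.neg (D.simple (π i))) t)) :
    Nonempty (↥(Cfsg.fixedSubgroup φ) ≃* ↥(D'.group F)) := by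
  classical
  have g := h.good
  have ok := foldOK_of_chk hd
  simp only [stableChk, List.all_eq_true, List.mem_range, Bool.and_eq_true,
    List.contains_iff_mem] at hst
  let f : GL D.Idx F → GL D.Idx F := fun y => if hy : y ∈ D.group F then (φ ⟨y, hy⟩ : GL D.Idx F) else y
  have hf : ∀ y (hy : y ∈ D.group F), f y = (φ ⟨y, hy⟩ : GL D.Idx F) := fun y hy => dif_pos hy
  let q : ℕ → ℕ := fun j => if hj : j < D.rank then (π ⟨j, hj⟩).val else j
  have hlt : ∀ r < D.nroots, D.permRoot π r < D.nroots := fun r hr => by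
    obtain ⟨a, ha, hra⟩ := ok.orb_cover r hr
    exact ok.orb_lt a ha _ (hst a ha r hra).1
  have T : Twist g D' d f (D.permRoot π) q :=
    { mem := fun y hy => by rw [hf y hy]; exact (φ ⟨y, hy⟩).2
      mul := fun y hy z hz => by
        rw [hf _ (mul_mem hy hz), hf y hy, hf z hz, ← Subgroup.coe_mul, ← map_mul]
        rfl
      inj := fun y hy z hz e => by
        rw [hf y hy, hf z hz] at e
        exact congrArg Subtype.val (φ.injective (Subtype.ext e))
      root := fun r hr => by
        obtain ⟨ε, hε, he⟩ := graph_sign h hsl hπ φ hφ hr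
        refine ⟨hlt r hr, ε, ?_, fun t => ?_⟩
        · rcases hε with rfl | rfl <;> simp
        · rw [hf _ (xG_mem_group g r t)]
          exact (eq_xG_iff g).1 (he _ t (xG_val g r t))
      simple := fun j hj => by
        refine ⟨by simp [q, hj], fun t => ?_⟩
        rw [show q j = (π ⟨j, hj⟩).val by simp [q, hj], ← g.neg_eq _ (g.simple_lt j hj),
          ← g.neg_eq _ (g.simple_lt _ (π ⟨j, hj⟩).isLt), hf _ (xG_mem_group g _ t),
          hf _ (xG_mem_group g _ t)]
        exact ⟨(eq_xG_iff g).1 ((hφ _ ⟨j, hj⟩ t).1 (xG_val g _ t)),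
          (eq_xG_iff g).1 ((hφ _ ⟨j, hj⟩ t).2 (xG_val g _ t))⟩
      orb := fun a ha r hr => by
        obtain ⟨h1, h2⟩ := hst a ha r hr
        refine ⟨h1, ?_⟩
        simp only [List.mem_cons, List.not_mem_nil, or_false] at h2
        rcases h2 with e | e | e
        exacts [⟨0, e.symm⟩, ⟨1, e.symm⟩, ⟨2, e.symm⟩] }
  obtain ⟨e⟩ := fix_equiv h h' ok T hU
  refine ⟨MulEquiv.trans
    { toFun := fun y => ⟨(y.1 : GL D.Idx F), y.1.2, (hf _ y.1.2).trans (congrArg Subtype.val y.2)⟩
      invFun := fun y => ⟨⟨y.1, y.2.1⟩, Subtype.ext ((hf _ y.2.1).symm.trans y.2.2)⟩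
      left_inv := fun _ => rfl
      right_inv := fun _ => rfl
      map_mul' := fun _ _ => rfl } e⟩

/-- An automorphism fixing the fundamental root elements and their negatives is trivial. -/
theorem aut_eq_one (g : Good D A) (φ : MulAut ↥(D.group F))
    (hφ : ∀ (y : ↥(D.group F)) (i : Fin D.rank) (t : F),
      (((y : GL D.Idx F) : Matrix D.Idx D.Idx F) = D.x F (D.simple i) t →
        ((φ y : GL D.Idx F) : Matrix D.Idx D.Idx F) = D.x F (D.simple i) t) ∧
      (((y : GL D.Idx F) : Matrix D.Idx D.Idx F) = D.x F (D.neg (D.simple i)) t →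
        ((φ y : GL D.Idx F) : Matrix D.Idx D.Idx F) = D.x F (D.neg (D.simple i)) t)) : φ = 1 := by
  have hle := ChevField.group_le_of_simple g
    (K := (Cfsg.fixedSubgroup φ).map (D.group F).subtype)
    (fun i hi t => ⟨⟨_, xG_mem_group g _ t⟩,
      Subtype.ext ((eq_xG_iff g).1 ((hφ _ ⟨i, hi⟩ t).1 (xG_val g _ t))), rfl⟩)
    (fun i hi t => ⟨⟨_, xG_mem_group g _ t⟩,
      Subtype.ext ((eq_xG_iff g).1 ((hφ _ ⟨i, hi⟩ t).2 (xG_val g _ t))), rfl⟩)
  refine MulEquiv.ext fun y => ?_
  obtain ⟨z, hz, e⟩ := hle y.2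
  obtain rfl : z = y := Subtype.ext e
  exact hz

/-- The triality permutations of the nodes of D₄. -/
theorem symm_D4 : ∀ π : Equiv.Perm (Fin chevD4.rank),
    ((List.finRange chevD4.rank).all fun i => (List.finRange chevD4.rank).all fun j =>
      i == j || chevD4.bonds (π i) (π j) == chevD4.bonds i j) = true →
      π * π = 1 ∨ stableChk chevD4 chevG2 foldD4 π = true := by
  decide +kernel

/-- The symmetries of the diagram of E₆. -/
theorem symm_E6 : ∀ π : Equiv.Perm (Fin chevE6.rank),
    ((List.finRange chevE6.rank).all fun i => (List.finRange chevE6.rank).all fun j =>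
      i == j || chevE6.bonds (π i) (π j) == chevE6.bonds i j) = true →
      π = 1 ∨ stableChk chevE6 chevF4 foldE6 π = true := by
  decide +kernel

theorem bonds_chk {π : Equiv.Perm (Fin D.rank)} (hπ : D.IsDiagramSymmetry π) :
    ((List.finRange D.rank).all fun i => (List.finRange D.rank).all fun j =>
      i == j || D.bonds (π i) (π j) == D.bonds i j) = true := by
  simp only [List.all_eq_true, List.mem_finRange, Bool.or_eq_true, beq_iff_eq, true_implies]
  exact fun i j => (em (i = j)).imp id fun e => hπ i j e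

theorem graphExp_D4 (c : ℕ) : ∀ i j : Fin chevD4.rank, chevD4.graphExp c i j = 1 := by
  have e : ∀ j : Fin chevD4.rank, chevD4.isLong (chevD4.simple j) = false := by decide +kernel
  intro i j; simp [ChevalleyDatum.graphExp, e]

theorem graphExp_E6 (c : ℕ) : ∀ i j : Fin chevE6.rank, chevE6.graphExp c i j = 1 := by
  have e : ∀ j : Fin chevE6.rank, chevE6.isLong (chevE6.simple j) = false := by decide +kernel
  intro i j; simp [ChevalleyDatum.graphExp, e]

theorem triality_fixed (τ : MulAut ↥(chevD4.group F)) (hτ : chevD4.IsGraphAut τ)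
    (h3 : orderOf τ = 3) :
    Nonempty (↥(Cfsg.fixedSubgroup τ) ≃* ↥(chevG2.group F)) := by
  obtain ⟨π, hπ, hφ⟩ := hτ
  simp only [graphExp_D4, pow_one] at hφ
  rcases symm_D4 π (bonds_chk hπ) with h2 | hst
  · exfalso
    have h1 : τ * τ = 1 := aut_eq_one stdD4.good (τ * τ) fun y i t => by
      have e : π (π i) = i := by rw [← Equiv.Perm.mul_apply, h2]; rfl
      refine ⟨fun hy => ?_, fun hy => ?_⟩
      · rw [MulAut.mul_apply]; simpa [e] using (hφ _ (π i) t).1 ((hφ y i t).1 hy)
      · rw [MulAut.mul_apply]; simpa [e] using (hφ _ (π i) t).2 ((hφ y i t).2 hy)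
    have := orderOf_le_of_pow_eq_one (n := 2) two_pos ((pow_two τ).trans h1)
    omega
  · exact graph_fixed stdD4 (by decide +kernel) stdG2 foldChk_D4 unimodular_G2 hst hπ τ hφ

theorem e6_fixed (φ : MulAut ↥(chevE6.group F)) (hg : chevE6.IsGraphAut φ) (h1 : φ ≠ 1) :
    Nonempty (↥(Cfsg.fixedSubgroup φ) ≃* ↥(chevF4.group F)) := by
  obtain ⟨π, hπ, hφ⟩ := hg
  simp only [graphExp_E6, pow_one] at hφ
  rcases symm_E6 π (bonds_chk hπ) with rfl | hst
  · exact absurd (aut_eq_one stdE6.good φ fun y i t => by simpa using hφ y i t) h1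
  · exact graph_fixed stdE6 (by decide +kernel) stdF4 foldChk_E6 unimodular_F4 hst hπ φ hφ

end CfsgLib.KnownB.ChevFold
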