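import Cfsg.Agent.Lib.KnownB.ChevAutDecomp
import Cfsg.Agent.Lib.KnownB.ChevFoldGraph
import Cfsg.Agent.Lib.Chev.Simple

/-!
The exceptional graph automorphisms of F₄ in characteristic 2 and of G₂ in characteristic 3: the action
on the ideal of the short roots and on the quotient by it are exchanged.
-/

set_option autoImplicit false

namespace CfsgLib.KnownB.ChevAutThm

open Cfsg.Lie Matrix CfsgLib.Chev CfsgLib.KnownB.ChevField

variable {D : ChevalleyDatum} {A : Aux} {F : Type*} [Field F]

/-- Sparse vectors congruent modulo `p`. -/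
def seqMod {κ : Type} [DecidableEq κ] (p : ℕ) (v w : List (κ × ℤ)) : Bool :=
  (snorm (v ++ w.map fun q => (q.1, -q.2))).all fun q => q.2 % (p : ℤ) == 0

theorem sval_eq_of_seqMod {κ : Type} [DecidableEq κ] {M : Type*} [AddCommGroup M] [Module F M] (p : ℕ)
    [CharP F p] (g : κ → M) {v w : List (κ × ℤ)} (h : seqMod p v w = true) :
    sval g v = sval g w := by
  have h0 : sval g (snorm (v ++ w.map fun q => (q.1, -q.2))) = 0 := by
    rw [seqMod, List.all_eq_true] at h
    refine List.sum_eq_zero fun y hy => ?_
    obtain ⟨q, hq, rfl⟩ := List.mem_map.1 hy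
    have h1 := h q hq
    rw [beq_iff_eq] at h1
    rw [← Int.cast_smul_eq_zsmul F, (CharP.intCast_eq_zero_iff F p q.2).2
      (Int.dvd_of_emod_eq_zero h1), zero_smul]
  have hneg : ∀ u : List (κ × ℤ), sval g (u.map fun q => (q.1, -q.2)) = -sval g u := by
    intro u
    induction u with
    | nil => simp [sval]
    | cons x u ih => simp [sval_cons, ih, add_comm]
  rw [sval_snorm, sval_append, hneg, ← sub_eq_add_neg, sub_eq_zero] at h0
  exact h0

/-- Two complementary lists of coordinates: of the quotient and of the ideal. -/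
structure Exc where
  tc : List ℕ
  sc : List ℕ

/-- The part of a vector with polynomial entries on some coordinates. -/
def projC (m : ℕ) (cs : List ℕ) (v : List ((ℕ × ℕ) × ℤ)) : List ((Fin m × ℕ) × ℤ) :=
  (List.finRange m).flatMap fun (j : Fin m) =>
    (v.filter fun q => q.1.1 == cs.getD j 0).map fun q => ((j, q.1.2), q.2)

/-- The coordinate vector scaled by a power of `t`. -/
noncomputable def evJ (m : ℕ) (t : F) (k : Fin m × ℕ) : Fin m → F := t ^ k.2 • Pi.single k.1 1

theorem sval_projC {m : ℕ} (cs : List ℕ) (v : List ((ℕ × ℕ) × ℤ)) (t : F) (j : Fin m) (x : D.Idx)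
    (hx : idx D x = cs.getD j 0) :
    sval (evJ m t) (projC m cs v) j = sval (ChevFold.ev2 D F t) v x := by
  have key : ∀ l : List (Fin m), l.Nodup →
      sval (evJ m t) (l.flatMap fun (j : Fin m) => (v.filter fun q => q.1.1 == cs.getD j 0).map fun q =>
        ((j, q.1.2), q.2)) j = if j ∈ l then sval (ChevFold.ev2 D F t) v x else 0 := by
    intro l hl
    induction l with
    | nil => simp [sval]
    | cons a l ih =>
      rw [List.flatMap_cons, sval_append, Pi.add_apply, ih hl.of_cons]
      have hal : a ∉ l := (List.nodup_cons.1 hl).1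
      rcases eq_or_ne a j with rfl | hne
      · rw [if_neg hal, if_pos List.mem_cons_self, add_zero]
        clear ih hl
        induction v with
        | nil => simp [sval]
        | cons q v ihv =>
          by_cases hq : q.1.1 = cs.getD a 0
          · rw [List.filter_cons_of_pos (by simpa using hq), List.map_cons, sval_cons, sval_cons,
              Pi.add_apply, Pi.add_apply, ihv]
            simp [evJ, ChevFold.ev2, ev, hx, hq]
          · rw [List.filter_cons_of_neg (by simpa using hq), sval_cons, Pi.add_apply, ihv]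
            have hq' : idx D x ≠ q.1.1 := hx ▸ Ne.symm hq
            simp [ChevFold.ev2, ev, hq']
      · have h0 : sval (evJ m t) ((v.filter fun q => q.1.1 == cs.getD a 0).map fun q =>
            ((a, q.1.2), q.2)) j = 0 := by
          induction (v.filter fun q => q.1.1 == cs.getD a 0) with
          | nil => simp [sval]
          | cons q w ihw =>
            rw [List.map_cons, sval_cons, Pi.add_apply, ihw]
            simp [evJ, hne.symm]
        rw [h0, zero_add]
        simp [List.mem_cons, hne.symm]
  rw [projC, key _ (List.nodup_finRange m), if_pos (List.mem_finRange j)]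

/-- The checks on the coordinates. -/
noncomputable def excChk (D : ChevalleyDatum) (A : Aux) (p : ℕ) (d : Exc) (π : List ℕ) : Bool :=
  (d.tc ++ d.sc).isPerm (List.range (D.rank + D.nroots)) && d.sc.length == d.tc.length &&
  (List.range D.rank).all fun i => [(D.simple i, D.simple (π.getD i 0)),
      (A.neg (D.simple i), A.neg (D.simple (π.getD i 0)))].all fun rr =>
    (List.range d.tc.length).all fun k =>
      seqMod p (projC d.tc.length d.tc (ChevFold.appP A D.rank D.nroots rr.1 [((d.sc.getD k 0, 0), 1)]))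
        [] &&
      seqMod p (projC d.tc.length d.tc (ChevFold.appP A D.rank D.nroots rr.1 [((d.tc.getD k 0, 0), 1)]))
        ((projC d.tc.length d.sc
          (ChevFold.appP A D.rank D.nroots rr.2 [((d.sc.getD k 0, 0), 1)])).map fun q =>
            ((q.1.1, q.1.2 * D.graphExp p i (π.getD i 0)), q.2))

/-- Some root element acts non-trivially on the coordinates. -/
noncomputable def witChk (D : ChevalleyDatum) (A : Aux) (p : ℕ) (cs : List ℕ) : Bool :=
  (List.range D.rank).any fun i => (List.range cs.length).any fun j => (List.range cs.length).any fun k =>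
    (coefAt (A.appX D.rank D.nroots (A.neg (D.simple i)) 1 [(cs.getD k 0, 1)]) (cs.getD j 0) -
      (bif j == k then 1 else 0)) % (p : ℤ) != 0

section

variable (p : ℕ) [CharP F p] (g : Good D A) {d : Exc} {π : Equiv.Perm (Fin D.rank)}

/-- The block of a matrix on chosen coordinates. -/
def blockOn {m : ℕ} (X : Fin m → D.Idx) (y : Matrix D.Idx D.Idx F) : Matrix (Fin m) (Fin m) F :=
  Matrix.of fun j k => y (X j) (X k)

omit [CharP F p] in
theorem x_col (g : Good D A) {r c : ℕ} (hr : r < D.nroots) (t : F) (x y : D.Idx) (hy : idx D y = c) :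
    D.x F r t x y = sval (ChevFold.ev2 D F t) (ChevFold.appP A D.rank D.nroots r [((c, 0), 1)]) x := by
  rw [ChevFold.sval_appP g hr, sval_cons, sval_nil, add_zero, one_smul, ChevFold.ev2, pow_zero,
    one_smul, ← hy, ev_single]
  simp [Matrix.mulVec_single]

/-- The graph automorphism given by the coordinates. -/
theorem exc_graph [Finite F] [Fact p.Prime] (hsimple : IsSimpleGroup ↥(D.group F))
    (hπ : D.IsDiagramSymmetry π) (hc : excChk D A p d (nodes π) = true)
    (hwT : witChk D A p d.tc = true) (hwS : witChk D A p d.sc = true) :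
    ∃ ψ : MulAut ↥(D.group F), IsGraphPerm g ψ π := by
  classical
  simp only [excChk, Bool.and_eq_true, List.isPerm_iff, beq_iff_eq, List.all_eq_true,
    List.mem_range, List.mem_cons, List.not_mem_nil, or_false, forall_eq_or_imp, forall_eq] at hc
  obtain ⟨⟨hperm, hlen⟩, hc⟩ := hc
  set m := d.tc.length
  have hnd := hperm.nodup_iff.2 List.nodup_range
  have hlT : ∀ j : Fin m, d.tc.getD j 0 < D.rank + D.nroots := fun j =>
    List.mem_range.1 (hperm.subset (List.mem_append_left _ (by
      rw [List.getD_eq_getElem _ _ j.isLt]; exact List.getElem_mem _)))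
  have hlS : ∀ j : Fin m, d.sc.getD j 0 < D.rank + D.nroots := fun j =>
    List.mem_range.1 (hperm.subset (List.mem_append_right _ (by
      rw [List.getD_eq_getElem _ _ (by omega)]; exact List.getElem_mem _)))
  choose X hX using fun j => exists_idx (D := D) (hlT j)
  choose Y hY using fun j => exists_idx (D := D) (hlS j)
  have hbij : Function.Bijective (Sum.elim X Y) := by
    refine (Fintype.bijective_iff_injective_and_card _).2 ⟨?_, ?_⟩
    · have hget : ∀ s : Fin m ⊕ Fin m, idx D (Sum.elim X Y s) =
          (d.tc ++ d.sc)[Sum.elim (fun j : Fin m => (j : ℕ)) (fun j : Fin m => m + (j : ℕ)) s]'(by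
            rcases s with j | j <;> simp [m, List.length_append] <;> omega) := by
        rintro (j | j)
        · simp only [Sum.elim_inl, hX]
          rw [List.getElem_append_left j.isLt, List.getD_eq_getElem _ _ j.isLt]
        · simp only [Sum.elim_inr, hY]
          rw [List.getElem_append_right (by omega), List.getD_eq_getElem _ _ (by omega)]
          simp [m]
      intro a b e
      have h1 := congrArg (idx D) e
      rw [hget, hget, hnd.getElem_inj_iff] at h1
      rcases a with a | a <;> rcases b with b | b <;>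
        simp only [Sum.elim_inl, Sum.elim_inr] at h1
      · rw [Fin.ext h1]
      · omega
      · omega
      · rw [show a = b from Fin.ext (by omega)]
    · have h2 := hperm.length_eq
      simp [List.length_append, hlen] at h2
      simp [ChevalleyDatum.Idx, m]
      omega
  have hsum : ∀ φ : D.Idx → F, ∑ x, φ x = ∑ j, φ (X j) + ∑ j, φ (Y j) := fun φ => by
    rw [← (Equiv.ofBijective _ hbij).sum_comp φ, Fintype.sum_sum_type]
    rfl
  -- the invariant subgroup
  let Inv : Submonoid (GL D.Idx F) :=
    { carrier := {y | ∀ j k, (y : Matrix D.Idx D.Idx F) (X j) (Y k) = 0}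
      one_mem' := fun j k => by
        rw [Units.val_one, Matrix.one_apply_ne]
        exact fun e => Sum.inl_ne_inr (hbij.1 (a₁ := Sum.inl j) (a₂ := Sum.inr k) e)
      mul_mem' := fun {a b} ha hb j k => by
        rw [Units.val_mul, Matrix.mul_apply, hsum]
        simp only [ha j, hb _ k, zero_mul, mul_zero, Finset.sum_const_zero, add_zero] }
  have hxInv : ∀ i < D.rank, ∀ t : F, xG g (D.simple i) t ∈ Inv ∧
      xG g (D.neg (D.simple i)) t ∈ Inv := by
    intro i hi t
    rw [g.neg_eq _ (g.simple_lt i hi)]
    have hh : ∀ r < D.nroots, (∀ k : Fin m, seqMod p (projC m d.tc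
        (ChevFold.appP A D.rank D.nroots r [((d.sc.getD k 0, 0), 1)])) [] = true) →
        xG g r t ∈ Inv := by
      intro r hr hk j k
      rw [xG_val, x_col g hr t _ _ (hY k), ← sval_projC d.tc _ t j (X j) (hX j),
        sval_eq_of_seqMod (F := F) p _ (hk k), sval_nil]
      rfl
    exact ⟨hh _ (g.simple_lt i hi) fun k => ((hc i hi).1 k k.isLt).1,
      hh _ (g.neg_lt _ (g.simple_lt i hi)) fun k => ((hc i hi).2 k k.isLt).1⟩
  have hGInv : ∀ y ∈ D.group F, y ∈ Inv := by
    let K : Subgroup (GL D.Idx F) :=
      { carrier := {y | y ∈ Inv ∧ y⁻¹ ∈ Inv}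
        one_mem' := ⟨one_mem _, by rw [inv_one]; exact one_mem _⟩
        mul_mem' := fun {a b} ha hb => ⟨mul_mem ha.1 hb.1, by rw [_root_.mul_inv_rev]; exact mul_mem hb.2 ha.2⟩
        inv_mem' := fun {a} ha => ⟨ha.2, by rw [inv_inv]; exact ha.1⟩ }
    have : D.group F ≤ K := ChevField.group_le_of_simple g
      (fun i hi t => ⟨(hxInv i hi t).1, by rw [xG_inv]; exact (hxInv i hi _).1⟩)
      fun i hi t => ⟨(hxInv i hi t).2, by rw [xG_inv]; exact (hxInv i hi _).2⟩
    exact fun y hy => (this hy).1
  let RS : ↥(D.group F) →* GL (Fin m) F := MonoidHom.toHomUnits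
    { toFun := fun y => blockOn Y (y : GL D.Idx F)
      map_one' := by
        ext j k
        simp [blockOn, Matrix.one_apply, show ∀ a b, Y a = Y b ↔ a = b from fun a b => (hbij.1.comp Sum.inr_injective).eq_iff]
      map_mul' := fun a b => by
        ext j k
        simp only [blockOn, Subgroup.coe_mul, Units.val_mul, Matrix.of_apply, Matrix.mul_apply, hsum,
          hGInv b b.2 _ k, mul_zero, Finset.sum_const_zero, zero_add] }
  let RT : ↥(D.group F) →* GL (Fin m) F := MonoidHom.toHomUnits
    { toFun := fun y => blockOn X (y : GL D.Idx F)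
      map_one' := by
        ext j k
        simp [blockOn, Matrix.one_apply, show ∀ a b, X a = X b ↔ a = b from fun a b => (hbij.1.comp Sum.inl_injective).eq_iff]
      map_mul' := fun a b => by
        ext j k
        simp only [blockOn, Subgroup.coe_mul, Units.val_mul, Matrix.of_apply, Matrix.mul_apply, hsum,
          hGInv a a.2 j, zero_mul, Finset.sum_const_zero, add_zero] }
  let e : Fin D.rank → ℕ := fun i => D.graphExp (ringChar F) i (π i)
  have hgen : ∀ (i : Fin D.rank) (t : F),
      RT (xS g (D.simple i) t) = RS (xS g (D.simple (π i)) (t ^ e i)) ∧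
      RT (xS g (A.neg (D.simple i)) t) = RS (xS g (A.neg (D.simple (π i))) (t ^ e i)) := by
    intro i t
    have hee : e i = D.graphExp p i ((nodes π).getD i 0) := by
      rw [nodes_getD, ← (ringChar.eq F p)]
    have hh : ∀ r r', r < D.nroots → r' < D.nroots →
        (∀ k : Fin m, seqMod p
          (projC m d.tc (ChevFold.appP A D.rank D.nroots r [((d.tc.getD k 0, 0), 1)]))
          ((projC m d.sc (ChevFold.appP A D.rank D.nroots r' [((d.sc.getD k 0, 0), 1)])).map fun q =>
            ((q.1.1, q.1.2 * e i), q.2)) = true) →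
        RT (xS g r t) = RS (xS g r' (t ^ e i)) := by
      intro r r' hr hr' hk
      refine Units.ext (Matrix.ext fun j k => ?_)
      show ((xG g r t : GL D.Idx F) : Matrix D.Idx D.Idx F) (X j) (X k) =
        ((xG g r' (t ^ e i) : GL D.Idx F) : Matrix D.Idx D.Idx F) (Y j) (Y k)
      rw [xG_val, xG_val, x_col g hr t _ _ (hX k), x_col g hr' _ _ _ (hY k),
        ← sval_projC d.tc _ t j (X j) (hX j), ← sval_projC d.sc _ (t ^ e i) j (Y j) (hY j),
        sval_eq_of_seqMod (F := F) p _ (hk k)]
      generalize projC m d.sc _ = L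
      induction L with
      | nil => simp [sval]
      | cons q L ih =>
        rw [List.map_cons, sval_cons, sval_cons, Pi.add_apply, Pi.add_apply, ih]
        simp only [evJ, ← pow_mul, mul_comm (e i)]
    rw [hee] at hh ⊢
    have h1 := (hc i i.isLt).1
    have h2 := (hc i i.isLt).2
    rw [nodes_getD] at h1 h2 hh
    rw [nodes_getD]
    exact ⟨hh _ _ (g.simple_lt i i.isLt) (g.simple_lt _ (π i).isLt) fun k => (h1 k k.isLt).2,
      hh _ _ (g.neg_lt _ (g.simple_lt i i.isLt)) (g.neg_lt _ (g.simple_lt _ (π i).isLt))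
        fun k => (h2 k k.isLt).2⟩
  have hsurj : ∀ i, Function.Surjective fun t : F => t ^ e i := by
    intro i
    simp only [e, ChevalleyDatum.graphExp]
    split_ifs
    · rw [ringChar.eq F p]
      exact Finite.injective_iff_surjective.1 (frobenius_inj F p)
    · exact fun t => ⟨t, pow_one t⟩
  have hrange : RT.range = RS.range := by
    refine le_antisymm ?_ ?_
    · have : D.group F ≤ (RS.range.comap RT).map (D.group F).subtype :=
        ChevField.group_le_of_simple g
          (fun i hi t => ⟨xS g (D.simple i) t, ⟨_, (hgen ⟨i, hi⟩ t).1.symm⟩, rfl⟩)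
          fun i hi t => by
            rw [g.neg_eq _ (g.simple_lt i hi)]
            exact ⟨xS g (A.neg (D.simple i)) t, ⟨_, (hgen ⟨i, hi⟩ t).2.symm⟩, rfl⟩
      rintro _ ⟨y, rfl⟩
      obtain ⟨z, hz, hzy⟩ := this y.2
      obtain rfl : z = y := Subtype.ext hzy
      exact hz
    · have : D.group F ≤ (RT.range.comap RS).map (D.group F).subtype :=
        ChevField.group_le_of_simple g
          (fun j hj t => by
            obtain ⟨i, hi⟩ := π.surjective ⟨j, hj⟩
            obtain ⟨u, rfl⟩ := hsurj i t
            refine ⟨xS g (D.simple j) (u ^ e i), ⟨xS g (D.simple i) u, ?_⟩, rfl⟩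
            rw [(hgen i u).1, hi])
          fun j hj t => by
            rw [g.neg_eq _ (g.simple_lt j hj)]
            obtain ⟨i, hi⟩ := π.surjective ⟨j, hj⟩
            obtain ⟨u, rfl⟩ := hsurj i t
            refine ⟨xS g (A.neg (D.simple j)) (u ^ e i), ⟨xS g (A.neg (D.simple i)) u, ?_⟩, rfl⟩
            rw [(hgen i u).2, hi]
      rintro _ ⟨y, rfl⟩
      obtain ⟨z, hz, hzy⟩ := this y.2
      obtain rfl : z = y := Subtype.ext hzy
      exact hz
  have hinj : ∀ (cs : List ℕ) (Z : Fin m → D.Idx) (R : ↥(D.group F) →* GL (Fin m) F),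
      cs.length = m → (∀ j : Fin m, idx D (Z j) = cs.getD j 0) →
      (∀ y : ↥(D.group F), (R y : Matrix (Fin m) (Fin m) F) = blockOn Z (y : GL D.Idx F)) →
      witChk D A p cs = true → Function.Injective R := by
    intro cs Z R hl hZ hR hw
    haveI := hsimple
    rw [← MonoidHom.ker_eq_bot_iff]
    refine (R.normal_ker.eq_bot_or_eq_top).resolve_right fun htop => ?_
    simp only [witChk, List.any_eq_true, List.mem_range, bne_iff_ne, hl] at hw
    obtain ⟨i, hi, j, hj, k, hk, hne⟩ := hw
    set r := A.neg (D.simple i)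
    have hr := g.neg_lt _ (g.simple_lt i hi)
    have h1 : R (xS g r 1) = 1 := MonoidHom.mem_ker.1 (htop ▸ Subgroup.mem_top _)
    have h2 := congrArg (fun M : GL (Fin m) F => (M : Matrix (Fin m) (Fin m) F) ⟨j, hj⟩ ⟨k, hk⟩) h1
    simp only [hR, blockOn, Matrix.of_apply, xS_val, xG_val, Units.val_one] at h2
    have h3 : D.x F r 1 (Z ⟨j, hj⟩) (Z ⟨k, hk⟩) =
        ((coefAt (A.appX D.rank D.nroots r 1 [(cs.getD k 0, 1)]) (cs.getD j 0) : ℤ) : F) := by
      rw [← hZ ⟨j, hj⟩, ← sval_ev_apply, sval_appX g hr, sval_cons, sval_nil, add_zero, one_smul,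
        Int.cast_one, ← hZ ⟨k, hk⟩, ev_single]
      simp [Matrix.mulVec_single, r]
    rw [h3, Matrix.one_apply] at h2
    refine hne (Int.emod_eq_zero_of_dvd ((CharP.intCast_eq_zero_iff F p _).1 ?_))
    rw [Int.cast_sub, h2, sub_eq_zero]
    by_cases hjk : j = k
    · subst hjk; simp
    · simp [hjk, beq_false_of_ne hjk]
  have iT := hinj d.tc X RT rfl hX (fun y => rfl) hwT
  have iS := hinj d.sc Y RS hlen hY (fun y => rfl) hwS
  refine ⟨((MonoidHom.ofInjective iT).trans (MulEquiv.subgroupCongr hrange)).trans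
    (MonoidHom.ofInjective iS).symm, hπ, fun i t => ⟨?_, ?_⟩⟩
  · refine iS ?_
    rw [← (hgen i t).1]
    exact congrArg Subtype.val ((MonoidHom.ofInjective iS).apply_symm_apply _)
  · refine iS ?_
    rw [← (hgen i t).2]
    exact congrArg Subtype.val ((MonoidHom.ofInjective iS).apply_symm_apply _)

end

/-- The coordinates for F₄ in characteristic 2. -/
def excF4 : Exc where
  tc := [2, 3, 4, 5, 6, 8, 9, 10, 19, 20, 21, 25, 26, 27, 28, 29, 30, 34, 35, 36, 45, 46, 47, 49, 50, 51]
  sc := [1, 0, 7, 11, 12, 13, 15, 22, 14, 16, 23, 17, 24, 18, 37, 31, 38, 32, 39, 41, 33, 40, 42, 43, 44, 48]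

/-- The coordinates for G₂ in characteristic 3. -/
def excG2 : Exc where
  tc := [1, 2, 3, 7, 8, 12, 13]
  sc := [0, 4, 5, 6, 9, 10, 11]

/-- The symmetry of F₄. -/
def revF4 : Equiv.Perm (Fin chevF4.rank) := ⟨Fin.rev, Fin.rev, Fin.rev_rev, Fin.rev_rev⟩

/-- The symmetry of G₂. -/
def revG2 : Equiv.Perm (Fin chevG2.rank) := ⟨Fin.rev, Fin.rev, Fin.rev_rev, Fin.rev_rev⟩

theorem exists_graph_F4 [Finite F] [CharP F 2] :
    ∃ ψ : MulAut ↥(chevF4.group F), IsGraphPerm stdF4.good ψ revF4 :=
  haveI : Fact (Nat.Prime 2) := ⟨Nat.prime_two⟩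
  exc_graph 2 stdF4.good (d := excF4)
    (simple_group stdF4 (by decide) conn_F4 (perfect_of_perfA stdF4 perfA_F4)).1
    (by unfold ChevalleyDatum.IsDiagramSymmetry; decide +kernel)
    (by decide +kernel) (by decide +kernel) (by decide +kernel)

theorem exists_graph_G2 [Finite F] [CharP F 3] :
    ∃ ψ : MulAut ↥(chevG2.group F), IsGraphPerm stdG2.good ψ revG2 := by
  haveI : Fact (Nat.Prime 3) := ⟨Nat.prime_three⟩
  have h2 : (2 : F) ≠ 0 := by
    intro e
    have := (CharP.cast_eq_zero_iff F 3 2).1 (by exact_mod_cast e)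
    omega
  exact exc_graph 3 stdG2.good (d := excG2)
    (simple_group stdG2 (by decide) conn_G2
      (perfect_of_perfB stdG2 perfB_G2 ⟨2, h2, fun e => one_ne_zero (α := F) (by linear_combination e)⟩)).1
    (by unfold ChevalleyDatum.IsDiagramSymmetry; decide +kernel)
    (by decide +kernel) (by decide +kernel) (by decide +kernel)

end CfsgLib.KnownB.ChevAutThm
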