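import Cfsg.Agent.Lib.KnownB.ChevAutExc

/-!
The graph automorphisms of D₄ and E₆, as conjugations by signed permutation matrices of the Lie algebra.
-/

set_option autoImplicit false

namespace CfsgLib.KnownB.ChevAutThm

open Cfsg.Lie Matrix CfsgLib.Chev CfsgLib.KnownB.ChevField CfsgLib.KnownB.ChevFold

/-- A symmetry as a folding onto the datum itself. -/
def foldD4a : Fold where
  node := [[2], [1], [0], [3]]
  orb := [[0], [1], [2], [6], [7], [10], [3], [4], [8], [9], [5], [11], [12], [18], [14], [15], [19], [20], [13], [16], [17], [21], [22], [23]]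
  emb := [[(2, 1)], [(1, 1)], [(0, 1)], [(3, 1)], [(4, 1)], [(5, 1)], [(6, 1)], [(10, -1)], [(11, -1)], [(14, 1)], [(7, -1)], [(8, -1)], [(12, 1)], [(13, 1)], [(9, 1)], [(15, 1)], [(16, 1)], [(22, 1)], [(18, 1)], [(19, 1)], [(23, -1)], [(24, -1)], [(17, 1)], [(20, -1)], [(21, -1)], [(25, 1)], [(26, 1)], [(27, 1)]]

/-- A symmetry as a folding onto the datum itself. -/
def foldD4b : Fold where
  node := [[2], [1], [3], [0]]
  orb := [[0], [1], [6], [2], [7], [10], [3], [8], [4], [9], [11], [5], [18], [12], [14], [19], [15], [20], [13], [16], [21], [17], [22], [23]]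
  emb := [[(2, 1)], [(1, 1)], [(3, 1)], [(0, 1)], [(4, 1)], [(5, 1)], [(10, -1)], [(6, 1)], [(11, -1)], [(14, 1)], [(7, -1)], [(12, 1)], [(8, -1)], [(13, 1)], [(15, 1)], [(9, 1)], [(22, 1)], [(16, 1)], [(18, 1)], [(23, -1)], [(19, 1)], [(24, -1)], [(17, 1)], [(20, -1)], [(25, 1)], [(21, -1)], [(26, 1)], [(27, 1)]]

/-- A symmetry as a folding onto the datum itself. -/
def foldE6g : Fold where
  node := [[5], [1], [4], [3], [2], [0]]
  orb := [[0], [1], [2], [5], [16], [3], [6], [17], [8], [19], [22], [11], [26], [30], [33], [35], [4], [7], [18], [9], [20], [23], [10], [21], [24], [25], [12], [27], [31], [34], [13], [28], [32], [14], [29], [15], [56], [42], [57], [39], [43], [58], [37], [40], [44], [59], [46], [47], [50], [61], [48], [51], [62], [53], [64], [67], [36], [38], [41], [45], [60], [49], [52], [63], [54], [65], [68], [55], [66], [69], [70], [71]]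
  emb := [[(5, 1)], [(1, 1)], [(4, 1)], [(3, 1)], [(2, 1)], [(0, 1)], [(6, 1)], [(7, 1)], [(8, 1)], [(11, 1)], [(22, -1)], [(9, 1)], [(12, 1)], [(23, -1)], [(14, 1)], [(25, -1)], [(28, -1)], [(17, 1)], [(32, -1)], [(36, 1)], [(39, -1)], [(41, 1)], [(10, -1)], [(13, -1)], [(24, 1)], [(15, -1)], [(26, 1)], [(29, 1)], [(16, -1)], [(27, 1)], [(30, 1)], [(31, 1)], [(18, -1)], [(33, 1)], [(37, -1)], [(40, 1)], [(19, 1)], [(34, -1)], [(38, 1)], [(20, -1)], [(35, 1)], [(21, 1)], [(62, 1)], [(48, 1)], [(63, -1)], [(45, 1)], [(49, -1)], [(64, 1)], [(43, 1)], [(46, -1)], [(50, 1)], [(65, -1)], [(52, 1)], [(53, 1)], [(56, 1)], [(67, -1)], [(54, 1)], [(57, 1)], [(68, -1)], [(59, 1)], [(70, -1)], [(73, -1)], [(42, 1)], [(44, -1)], [(47, 1)], [(51, -1)], [(66, 1)], [(55, -1)], [(58, -1)], [(69, 1)], [(60, -1)], [(71, 1)], [(74, 1)], [(61, -1)], [(72, 1)], [(75, 1)], [(76, 1)], [(77, 1)]]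

variable {D : ChevalleyDatum} {A : Aux} {F : Type*} [Field F]

/-- A folding onto the datum itself with one node in each orbit gives a graph automorphism. -/
theorem fold_graph (g : Good D A) {d : Fold} (hd : foldChk D A D A d = true)
    {π : Equiv.Perm (Fin D.rank)} (hπ : D.IsDiagramSymmetry π)
    (hn : ∀ i : Fin D.rank, d.nodeAt i = [(π i : ℕ)])
    (he : ∀ (c : ℕ) (i : Fin D.rank), D.graphExp c i (π i) = 1) :
    ∃ ψ : MulAut ↥(D.group F), IsGraphPerm g ψ π := by
  classical
  have ok := foldOK_of_chk hd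
  set M := embM F D D d
  have hinj : Function.Injective (LinearMap.mulLeft F M) := fun z z' e => embM_cancel ok e
  obtain ⟨N, hN⟩ := LinearMap.surjective_of_injective hinj 1
  let U : GL D.Idx F := ⟨M, N, hN, mul_eq_one_comm.1 hN⟩
  have hconj : ∀ (i : Fin D.rank) (t : F),
      U * xG g (D.simple i) t * U⁻¹ = xG g (D.simple (π i)) t ∧
      U * xG g (A.neg (D.simple i)) t * U⁻¹ = xG g (A.neg (D.simple (π i))) t := by
    intro i t
    have h1 := inter g g ok i.isLt (a := D.simple i) List.mem_cons_self t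
    have h2 := inter g g ok i.isLt (a := A.neg (D.simple i)) (by simp) t
    rw [ok.orb_simple i i.isLt, hn] at h1
    rw [ok.orb_neg i i.isLt, hn] at h2
    constructor <;> rw [mul_inv_eq_iff_eq_mul] <;> apply Units.ext
    · rw [Units.val_mul, Units.val_mul, xG_val, show (U : Matrix D.Idx D.Idx F) = M from rfl, ← h1]
      simp [XL]
      rfl
    · rw [Units.val_mul, Units.val_mul, xG_val, show (U : Matrix D.Idx D.Idx F) = M from rfl, ← h2]
      simp [XL]
      rfl
  have hle : (D.group F).map (MulAut.conj U).toMonoidHom = D.group F := by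
    refine le_antisymm (Subgroup.map_le_iff_le_comap.2 (ChevField.group_le_of_simple g ?_ ?_))
      (ChevField.group_le_of_simple g ?_ ?_)
    · intro i hi t
      show U * xG g (D.simple i) t * U⁻¹ ∈ D.group F
      rw [(hconj ⟨i, hi⟩ t).1]
      exact xG_mem_group g _ _
    · intro i hi t
      rw [g.neg_eq _ (g.simple_lt i hi)]
      show U * xG g (A.neg (D.simple i)) t * U⁻¹ ∈ D.group F
      rw [(hconj ⟨i, hi⟩ t).2]
      exact xG_mem_group g _ _
    · intro j hj t
      obtain ⟨i, hi⟩ := π.surjective ⟨j, hj⟩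
      refine ⟨xG g (D.simple i) t, xG_mem_group g _ _, ?_⟩
      show U * xG g (D.simple i) t * U⁻¹ = _
      rw [(hconj i t).1, hi]
    · intro j hj t
      rw [g.neg_eq _ (g.simple_lt j hj)]
      obtain ⟨i, hi⟩ := π.surjective ⟨j, hj⟩
      refine ⟨xG g (A.neg (D.simple i)) t, xG_mem_group g _ _, ?_⟩
      show U * xG g (A.neg (D.simple i)) t * U⁻¹ = _
      rw [(hconj i t).2, hi]
  refine ⟨((MulEquiv.subgroupMap (MulAut.conj U) (D.group F))).trans (MulEquiv.subgroupCongr hle),
    hπ, fun i t => ⟨Subtype.ext ?_, Subtype.ext ?_⟩⟩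
  · rw [he, pow_one]
    exact (hconj i t).1
  · rw [he, pow_one]
    exact (hconj i t).2

/-- A transposition of D₄. -/
def symD4a : Equiv.Perm (Fin chevD4.rank) :=
  (⟨(![2, 1, 0, 3] : Fin 4 → Fin 4), (![2, 1, 0, 3] : Fin 4 → Fin 4), by unfold Function.LeftInverse; decide,
    by unfold Function.RightInverse Function.LeftInverse; decide⟩ : Equiv.Perm (Fin 4))

/-- A triality of D₄. -/
def symD4b : Equiv.Perm (Fin chevD4.rank) :=
  (⟨(![2, 1, 3, 0] : Fin 4 → Fin 4), (![3, 1, 0, 2] : Fin 4 → Fin 4), by unfold Function.LeftInverse; decide,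
    by unfold Function.RightInverse Function.LeftInverse; decide⟩ : Equiv.Perm (Fin 4))

/-- The symmetry of E₆. -/
def symE6 : Equiv.Perm (Fin chevE6.rank) :=
  (⟨(![5, 1, 4, 3, 2, 0] : Fin 6 → Fin 6), (![5, 1, 4, 3, 2, 0] : Fin 6 → Fin 6), by unfold Function.LeftInverse; decide,
    by unfold Function.RightInverse Function.LeftInverse; decide⟩ : Equiv.Perm (Fin 6))

theorem exists_graph_D4a : ∃ ψ : MulAut ↥(chevD4.group F), IsGraphPerm stdD4.good ψ symD4a :=
  fold_graph stdD4.good (d := foldD4a) (by decide +kernel)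
    (by unfold ChevalleyDatum.IsDiagramSymmetry; decide +kernel) (by decide)
    fun c i => graphExp_D4 c i (symD4a i)

theorem exists_graph_D4b : ∃ ψ : MulAut ↥(chevD4.group F), IsGraphPerm stdD4.good ψ symD4b :=
  fold_graph stdD4.good (d := foldD4b) (by decide +kernel)
    (by unfold ChevalleyDatum.IsDiagramSymmetry; decide +kernel) (by decide)
    fun c i => graphExp_D4 c i (symD4b i)

theorem exists_graph_E6 : ∃ ψ : MulAut ↥(chevE6.group F), IsGraphPerm stdE6.good ψ symE6 :=
  fold_graph stdE6.good (d := foldE6g) (by decide +kernel)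
    (by unfold ChevalleyDatum.IsDiagramSymmetry; decide +kernel) (by decide)
    fun c i => graphExp_E6 c i (symE6 i)

end CfsgLib.KnownB.ChevAutThm
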