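import Cfsg.Agent.Lib.KnownB.ChevAut
import Cfsg.Agent.Lib.Chev.TorusCard

/-!
Automorphisms of a Chevalley group that permute the fundamental root subgroups and their opposites: they
permute all root subgroups, hence fix `U`, `V` and `H`, and the permutation of the nodes is an invariant
of the class modulo inner automorphisms.
-/

set_option autoImplicit false

namespace CfsgLib.KnownB.ChevAutThm

open Cfsg.Lie Matrix CfsgLib.Chev CfsgLib.KnownB.ChevField

variable {D : ChevalleyDatum} {A : Aux} {F : Type*} [Field F]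

/-- A root element as an element of the group. -/
noncomputable def xS (g : Good D A) (r : ℕ) (t : F) : ↥(D.group F) := ⟨xG g r t, xG_mem_group g r t⟩

@[simp] theorem xS_val (g : Good D A) (r : ℕ) (t : F) : (xS g r t : GL D.Idx F) = xG g r t := rfl

/-- `φ` maps the root elements of `±` fundamental roots to those permuted by `π`, with the given
parameter maps. -/
structure Shape (g : Good D A) (φ : MulAut ↥(D.group F)) (π : Equiv.Perm (Fin D.rank))
    (f f' : Fin D.rank → F → F) : Prop where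
  pos : ∀ (i : Fin D.rank) (t : F), (φ (xS g (D.simple i) t) : GL D.Idx F) = xG g (D.simple (π i)) (f i t)
  neg : ∀ (i : Fin D.rank) (t : F), (φ (xS g (A.neg (D.simple i)) t) : GL D.Idx F) =
    xG g (A.neg (D.simple (π i))) (f' i t)

/-- `φ` has a shape with node permutation `π`. -/
def HasShape (g : Good D A) (φ : MulAut ↥(D.group F)) (π : Equiv.Perm (Fin D.rank)) : Prop :=
  ∃ f f', Shape g φ π f f'

variable (D A) in
/-- A permutation of the roots compatible with `π` and with the fundamental reflections. -/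
structure RootPerm (π : Equiv.Perm (Fin D.rank)) (R : ℕ → ℕ) : Prop where
  lt : ∀ r < D.nroots, R r < D.nroots
  simple : ∀ i : Fin D.rank, R (D.simple i) = D.simple (π i)
  refl : ∀ (i : Fin D.rank), ∀ r < D.nroots, R (A.refl i r) = A.refl (π i) (R r)
  pos : ∀ r < D.nroots, D.IsPosRoot (R r) ↔ D.IsPosRoot r

theorem hsum_inl (r : ℕ) (i : Fin D.rank) : hsum D F A r (Sum.inl i) = (A.coro r i : F) := by
  rw [hsum, Finset.sum_apply, Finset.sum_eq_single i.val]
  · simp [ev, idx]
  · intro j _ hji; simp [ev, idx, Ne.symm hji]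
  · intro h; exact absurd (Finset.mem_range.2 i.isLt) h

theorem opp_conj_trivial (h : Std D A) {i : ℕ} (hi : i < D.rank) {d s e : F} (hs : s ≠ 0)
    (he : xG h.good (D.simple i) d * xG h.good (A.neg (D.simple i)) s *
      (xG h.good (D.simple i) d)⁻¹ = xG h.good (A.neg (D.simple i)) e) : d = 0 := by
  have g := h.good
  set p := D.simple i
  have hp := g.simple_lt i hi
  have hn := g.neg_lt p hp
  have hnn : A.neg (A.neg p) = p := g.neg_neg p hp
  rw [mul_inv_eq_iff_eq_mul] at he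
  have hval := congrArg (fun y : GL D.Idx F =>
    ((y : Matrix D.Idx D.Idx F) *ᵥ ev D F (D.rank + A.neg p)) (Sum.inl ⟨i, hi⟩)) he
  simp only [Units.val_mul, xG_val, ← Matrix.mulVec_mulVec, x_mulVec_self g hn,
    x_mulVec_neg g (r := p) hp] at hval
  have hh : ∀ j < D.rank, D.x F (A.neg p) e *ᵥ ev D F j =
      ev D F j + (-(A.cart j (A.neg p) : F) * e) • ev D F (D.rank + A.neg p) :=
    fun j hj => x_mulVec_h g hn e hj
  have e1 : (D.x F (A.neg p) e *ᵥ hsum D F A p) (Sum.inl ⟨i, hi⟩) = 1 := by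
    rw [hsum, Matrix.mulVec_sum, Finset.sum_apply, Finset.sum_eq_single i]
    · rw [Matrix.mulVec_smul, hh i hi, g.coro_simple i hi i hi]
      simp [ev, idx, show i ≠ D.rank + A.neg p by omega]
    · intro j hj hji
      rw [g.coro_simple i hi j (Finset.mem_range.1 hj), if_neg hji]
      simp
    · simp [hi]
  have e2 : (D.x F (A.neg p) e *ᵥ ev D F (D.rank + p)) (Sum.inl ⟨i, hi⟩) = -e := by
    have := congrFun (x_mulVec_neg (F := F) g hn e) (Sum.inl ⟨i, hi⟩)
    rw [hnn] at this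
    rw [this]
    simp [ev, idx, hsum_inl, show i ≠ D.rank + A.neg p by omega,
      show i ≠ D.rank + p by omega, g.coro_neg p hp, show A.coro p i = 1 by simp [p, g.coro_simple i hi i hi]]
  simp only [Matrix.mulVec_add, Matrix.mulVec_smul, Pi.add_apply, Pi.smul_apply, smul_eq_mul, e1,
    e2, x_mulVec_self g hn] at hval
  have hsi : (hsum D F A p) (Sum.inl ⟨i, hi⟩) = 1 := by
    simp [hsum_inl, show A.coro p i = 1 by simp [p, g.coro_simple i hi i hi]]
  simp [ev, idx, show i ≠ D.rank + A.neg p by omega, show i ≠ D.rank + p by omega, hsi] at hval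
  -- `hval` compares the coefficients of the coroot
  have hd : e = 0 ∨ d = 0 := by tauto
  rcases hd with rfl | h0
  · exfalso
    rw [xG_zero, one_mul] at he
    exact hs (xG_eq_one h hn (mul_eq_left.1 he))
  · exact h0

theorem nS_conj_simple (g : Good D A) {i : ℕ} (hi : i < D.rank) (t : F) :
    nS F g i * xG g (D.simple i) t * (nS F g i)⁻¹ = xG g (A.neg (D.simple i)) (-t) := by
  rw [nS_conj_xG g hi (g.simple_lt i hi), refl_simple g hi, g.eta_simple i hi]
  simp

theorem hG_mem_diag (g : Good D A) {i : ℕ} (hi : i < D.rank) {c : F} (hc : c ≠ 0) :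
    hG g (D.simple i) c ∈ D.diagonalSubgroup F := by
  rw [show c = ((Units.mk0 c hc : Fˣ) : F) from rfl, show i = (⟨i, hi⟩ : Fin D.rank).val from rfl,
    hG_simple g, diagonalSubgroup_eq g]
  exact ⟨_, rfl⟩

theorem nG_eq_hG (g : Good D A) {r : ℕ} (hr : r < D.nroots) (c : F) :
    nG g r c = hG g r c * nG g r 1 := by
  have e : nG g r (1 : F) = (nG g r (-1 : F))⁻¹ := by rw [← nG_neg g hr (-1 : F), neg_neg]
  rw [e, hG, mul_inv_cancel_right]

section Shape

variable (h : Std D A) {φ : MulAut ↥(D.group F)} {π : Equiv.Perm (Fin D.rank)}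
  {f f' : Fin D.rank → F → F}

theorem Shape.f_add (hS : Shape h.good φ π f f') (i : Fin D.rank) (t u : F) :
    f i (t + u) = f i t + f i u := by
  refine ChevField.xG_inj h (h.good.simple_lt _ (π i).isLt) ?_
  rw [← xG_add, ← hS.pos i t, ← hS.pos i u, ← hS.pos i, ← Subgroup.coe_mul, ← map_mul]
  congr 2
  exact Subtype.ext (xG_add h.good _ t u).symm

theorem Shape.f_inj (hS : Shape h.good φ π f f') (i : Fin D.rank) : Function.Injective (f i) := by
  intro t u e
  refine ChevField.xG_inj h (h.good.simple_lt _ i.isLt) (congrArg Subtype.val ?_ :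
    (xS h.good (D.simple i) t : GL D.Idx F) = xS h.good (D.simple i) u)
  exact φ.injective (Subtype.ext (by rw [hS.pos, hS.pos, e]))

theorem Shape.f_zero (hS : Shape h.good φ π f f') (i : Fin D.rank) : f i 0 = 0 := by
  simpa using hS.f_add h i 0 0

theorem Shape.f_neg (hS : Shape h.good φ π f f') (i : Fin D.rank) (t : F) : f i (-t) = -f i t := by
  have := hS.f_add h i (-t) t
  rw [neg_add_cancel, hS.f_zero h] at this
  linear_combination -this

theorem Shape.f_ne (hS : Shape h.good φ π f f') (i : Fin D.rank) {t : F} (ht : t ≠ 0) : f i t ≠ 0 :=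
  fun e => ht (hS.f_inj h i (e.trans (hS.f_zero h i).symm))

theorem Shape.f'_inj (hS : Shape h.good φ π f f') (i : Fin D.rank) : Function.Injective (f' i) := by
  intro t u e
  refine ChevField.xG_inj h (h.good.neg_lt _ (h.good.simple_lt _ i.isLt)) (congrArg Subtype.val ?_ :
    (xS h.good (A.neg (D.simple i)) t : GL D.Idx F) = xS h.good (A.neg (D.simple i)) u)
  exact φ.injective (Subtype.ext (by rw [hS.neg, hS.neg, e]))

/-- The rank one relation determines the parameters of the negative roots. -/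
theorem Shape.rel (hS : Shape h.good φ π f f') (i : Fin D.rank) {t : F} (ht : t ≠ 0) :
    f' i (-t⁻¹) = -(f i t)⁻¹ := by
  have g := h.good
  have hs := g.simple_lt _ i.isLt
  set P := D.simple (π i)
  have hP := g.simple_lt _ (π i).isLt
  set a := f i t
  set b := f' i (-t⁻¹)
  have hb : b ≠ 0 := by
    intro e
    have h0 : f' i 0 = 0 := by
      refine xG_eq_one h (g.neg_lt _ hP) ?_
      rw [← hS.neg i, show xS g (A.neg (D.simple i)) (0 : F) = 1 from Subtype.ext (xG_zero g _)]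
      simp
    exact (neg_ne_zero.2 (inv_ne_zero ht)) (hS.f'_inj h i (e.trans h0.symm))
  set c := -b⁻¹
  have hc : c ≠ 0 := by simp [c, hb]
  set z : ↥(D.group F) := xS g (D.simple i) t * xS g (A.neg (D.simple i)) (-t⁻¹) * xS g (D.simple i) t
  have hz : (z : GL D.Idx F) = nG g (D.simple i) t := by
    simp [z, nG, g.neg_eq _ hs]
  have hφz : (φ z : GL D.Idx F) = xG g P (a - c) * nG g P c * xG g P (a - c) := by
    rw [map_mul, map_mul, Subgroup.coe_mul, Subgroup.coe_mul, hS.pos, hS.neg, nG, g.neg_eq _ hP,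
      show -c⁻¹ = b by simp [c], ← mul_assoc, ← mul_assoc, xG_add, sub_add_cancel, mul_assoc
        (xG g P a * xG g (A.neg P) b), xG_add, add_sub_cancel]
  have hconj : ∀ u : F, ∃ v, nG g (D.simple i) u * xG g (D.simple i) 1 * (nG g (D.simple i) u)⁻¹ =
      xG g (A.neg (D.simple i)) v ∨ u = 0 := by
    intro u
    by_cases hu : u = 0
    · exact ⟨0, Or.inr hu⟩
    have hd := hG_mem_diag g i.isLt hu
    rw [diagonalSubgroup_eq g] at hd
    obtain ⟨w, hw⟩ := hd
    refine ⟨_, Or.inl (?_ : _ = xG g (A.neg (D.simple i)) ((chi D A w (A.neg (D.simple i)) : F) * (-1)))⟩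
    rw [nG_eq_hG g hs, ← hw, show tor D A w * nG g (D.simple i) 1 * xG g (D.simple i) 1 *
        (tor D A w * nG g (D.simple i) 1)⁻¹ =
      tor D A w * (nS F g i * xG g (D.simple i) 1 * (nS F g i)⁻¹) * (tor D A w)⁻¹ by
        rw [nS]; group, nS_conj_simple g i.isLt, tor_conj_xG g w (g.neg_lt _ hs)]
  obtain ⟨v, hv⟩ := hconj t
  replace hv := hv.resolve_right ht
  -- apply `φ` to `z x(1) z⁻¹ = x_-(v)`
  have h1 : (φ (z * xS g (D.simple i) 1 * z⁻¹) : GL D.Idx F) = xG g (A.neg P) (f' i v) := by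
    rw [← hS.neg i v]
    congr 2
    exact Subtype.ext (by simp [hz, hv])
  rw [map_mul, map_mul, map_inv, Subgroup.coe_mul, Subgroup.coe_mul, Subgroup.coe_inv, hφz,
    hS.pos] at h1
  have hne : f i 1 ≠ 0 := hS.f_ne h i one_ne_zero
  -- the middle part is again an opposite root element
  have hcd := hG_mem_diag g (π i).isLt hc
  rw [diagonalSubgroup_eq g] at hcd
  obtain ⟨w, hw⟩ := hcd
  have hmid : xG g P (a - c) * nG g P c * xG g P (a - c) * xG g P (f i 1) *
      (xG g P (a - c) * nG g P c * xG g P (a - c))⁻¹ =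
      xG g P (a - c) * xG g (A.neg P) ((chi D A w (A.neg P) : F) * (-f i 1)) *
        (xG g P (a - c))⁻¹ := by
    rw [nG_eq_hG g hP, ← hw, show xG g P (a - c) * (tor D A w * nG g P 1) * xG g P (a - c) *
        xG g P (f i 1) * (xG g P (a - c) * (tor D A w * nG g P 1) * xG g P (a - c))⁻¹ =
      xG g P (a - c) * (tor D A w * (nS F g (π i) * (xG g P (a - c) * xG g P (f i 1) *
        (xG g P (a - c))⁻¹) * (nS F g (π i))⁻¹) * (tor D A w)⁻¹) * (xG g P (a - c))⁻¹ by
        rw [show nS F g (π i) = nG g P 1 from rfl]; group]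
    rw [xG_add, xG_inv, xG_add, show a - c + f i 1 + -(a - c) = f i 1 by ring,
      nS_conj_simple g (π i).isLt, tor_conj_xG g w (g.neg_lt _ hP)]
  rw [hmid] at h1
  have hd := opp_conj_trivial h (π i).isLt (mul_ne_zero (Units.ne_zero _) (neg_ne_zero.2 hne)) h1
  rw [show a = c by linear_combination hd]
  simp [c]

theorem Shape.map_nG (hS : Shape h.good φ π f f') (i : Fin D.rank) {t : F} (ht : t ≠ 0)
    {hm : nG h.good (D.simple i) t ∈ D.group F} :
    (φ ⟨nG h.good (D.simple i) t, hm⟩ : GL D.Idx F) = nG h.good (D.simple (π i)) (f i t) := by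
  have g := h.good
  have e : (⟨nG g (D.simple i) t, hm⟩ : ↥(D.group F)) =
      xS g (D.simple i) t * xS g (A.neg (D.simple i)) (-t⁻¹) * xS g (D.simple i) t :=
    Subtype.ext (by simp [nG, g.neg_eq _ (g.simple_lt _ i.isLt)])
  rw [e, map_mul, map_mul, Subgroup.coe_mul, Subgroup.coe_mul, hS.pos, hS.neg, hS.rel h i ht, nG,
    g.neg_eq _ (g.simple_lt _ (π i).isLt)]

theorem Shape.map_hG (hS : Shape h.good φ π f f') (i : Fin D.rank) {t : F} (ht : t ≠ 0)
    {hm : hG h.good (D.simple i) t ∈ D.group F} :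
    (φ ⟨hG h.good (D.simple i) t, hm⟩ : GL D.Idx F) =
      hG h.good (D.simple (π i)) (f i t) * (hG h.good (D.simple (π i)) (f i 1))⁻¹ := by
  have g := h.good
  have hP := g.simple_lt _ (π i).isLt
  have e : (⟨hG g (D.simple i) t, hm⟩ : ↥(D.group F)) =
      ⟨_, nG_mem_group g (D.simple i) t⟩ * ⟨_, nG_mem_group g (D.simple i) (-1)⟩ := rfl
  rw [e, map_mul, Subgroup.coe_mul, hS.map_nG h i ht, hS.map_nG h i (neg_ne_zero.2 one_ne_zero),
    hS.f_neg h, nG_neg g hP, nG_eq_hG g hP (f i t), nG_eq_hG g hP (f i 1)]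
  group

theorem Shape.map_diag (hS : Shape h.good φ π f f') {y : ↥(D.group F)}
    (hy : (y : GL D.Idx F) ∈ D.diagonalSubgroup F) :
    (φ y : GL D.Idx F) ∈ D.diagonalSubgroup F := by
  have g := h.good
  have hle : D.diagonalSubgroup F ≤ D.group F := diagonalSubgroup_le_group g
  have hT : ∀ c : Fin D.rank → Fˣ, tor D A c ∈ D.diagonalSubgroup F := fun c => by
    rw [diagonalSubgroup_eq g]; exact ⟨c, rfl⟩
  obtain ⟨c, hc⟩ : ∃ c, tor D A c = (y : GL D.Idx F) := by
    rw [diagonalSubgroup_eq g] at hy; exact hy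
  suffices ∀ S : Finset (Fin D.rank),
      (φ ⟨tor D A (∏ i ∈ S, Pi.mulSingle i (c i)), hle (hT _)⟩ : GL D.Idx F) ∈
        D.diagonalSubgroup F by
    have h1 := this Finset.univ
    simp only [Finset.univ_prod_mulSingle] at h1
    rwa [show (⟨tor D A c, hle (hT c)⟩ : ↥(D.group F)) = y from Subtype.ext hc] at h1
  intro S
  induction S using Finset.induction_on with
  | empty =>
    simp only [Finset.prod_empty, map_one]
    rw [show (⟨1, _⟩ : ↥(D.group F)) = 1 from rfl, map_one]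
    exact one_mem _
  | insert i S hi ih =>
    simp only [Finset.prod_insert hi, map_mul]
    rw [show (⟨_, _⟩ : ↥(D.group F)) =
      ⟨_, hle (hT (Pi.mulSingle i (c i)))⟩ * ⟨_, hle (hT (∏ i ∈ S, Pi.mulSingle i (c i)))⟩ from rfl,
      map_mul, Subgroup.coe_mul]
    refine mul_mem ?_ ih
    simp only [← hG_simple g]
    rw [hS.map_hG h i (Units.ne_zero _)]
    exact mul_mem (hG_mem_diag g (π i).isLt (hS.f_ne h i (Units.ne_zero _)))
      (inv_mem (hG_mem_diag g (π i).isLt (hS.f_ne h i one_ne_zero)))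

/-- A shape permutes all root subgroups by the table. -/
theorem Shape.map_root (hS : Shape h.good φ π f f') {R : ℕ → ℕ} (hR : RootPerm D A π R) :
    ∀ r < D.nroots, ∀ t, ∃ c, (φ (xS h.good r t) : GL D.Idx F) = xG h.good (R r) c := by
  have g := h.good
  refine root_induction g (fun j hj _ t => ⟨f ⟨j, hj⟩ t, ?_⟩) fun i hi r hr ih t => ?_
  · rw [hR.simple ⟨j, hj⟩]; exact hS.pos ⟨j, hj⟩ t
  obtain ⟨c, hc⟩ := ih ((A.eta i r : F) * t)
  have hsq : ((A.eta i r : ℤ) : F) * (A.eta i r : F) = 1 := by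
    rcases g.eta_sign i hi r hr with e | e <;> simp [e]
  have e : xS g (A.refl i r) t = ⟨nS F g i, nS_mem_group g i⟩ * xS g r ((A.eta i r : F) * t) *
      (⟨nS F g i, nS_mem_group g i⟩ : ↥(D.group F))⁻¹ := by
    refine Subtype.ext ?_
    show xG g (A.refl i r) t = nS F g i * xG g r _ * (nS F g i)⁻¹
    rw [nS_conj_xG g hi hr, ← mul_assoc, hsq, one_mul]
  have hn : (φ ⟨nS F g i, nS_mem_group g i⟩ : GL D.Idx F) =
      hG g (D.simple (π ⟨i, hi⟩)) (f ⟨i, hi⟩ 1) * nS F g (π ⟨i, hi⟩) := by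
    have h1 := hS.map_nG h ⟨i, hi⟩ (one_ne_zero (α := F)) (hm := nS_mem_group g i)
    rwa [nG_eq_hG g (g.simple_lt _ (π ⟨i, hi⟩).isLt)] at h1
  have hd := hG_mem_diag g (π ⟨i, hi⟩).isLt (hS.f_ne h ⟨i, hi⟩ (one_ne_zero (α := F)))
  rw [diagonalSubgroup_eq g] at hd
  obtain ⟨w, hw⟩ := hd
  refine ⟨(chi D A w (A.refl (π ⟨i, hi⟩) (R r)) : F) * ((A.eta (π ⟨i, hi⟩) (R r) : F) * c), ?_⟩
  rw [e, map_mul, map_mul, map_inv, Subgroup.coe_mul, Subgroup.coe_mul, Subgroup.coe_inv, hn, hc,
    hR.refl ⟨i, hi⟩ r hr, ← hw, ← tor_conj_xG g w (g.refl_lt _ (π ⟨i, hi⟩).isLt _ (hR.lt r hr)),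
    ← nS_conj_xG g (π ⟨i, hi⟩).isLt (hR.lt r hr)]
  group

theorem Shape.map_UP (hS : Shape h.good φ π f f') {R : ℕ → ℕ} (hR : RootPerm D A π R)
    {P : ℕ → Prop} (hP : ∀ r, P r → r < D.nroots ∧ P (R r)) {y : ↥(D.group F)}
    (hy : (y : GL D.Idx F) ∈ UP F h.good P) : (φ y : GL D.Idx F) ∈ UP F h.good P := by
  have : UP F h.good P ≤ ((UP F h.good P).comap
      ((D.group F).subtype.comp φ.toMonoidHom)).map (D.group F).subtype := by
    refine UP_le fun r t hr => ?_
    obtain ⟨c, hc⟩ := hS.map_root h hR r (hP r hr).1 t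
    refine ⟨xS h.good r t, ?_, rfl⟩
    show (φ (xS h.good r t) : GL D.Idx F) ∈ UP F h.good P
    rw [hc]
    exact xG_mem_UP h.good (hP r hr).2 _
  obtain ⟨z, hz, e⟩ := this hy
  obtain rfl : z = y := Subtype.ext e
  exact hz

variable [Finite F]

theorem Shape.map_U (hS : Shape h.good φ π f f') {R : ℕ → ℕ} (hR : RootPerm D A π R)
    (y : ↥(D.group F)) :
    (φ y : GL D.Idx F) ∈ D.posUnipotent F ↔ (y : GL D.Idx F) ∈ D.posUnipotent F := by
  have e : D.posUnipotent F = UP F h.good (fun r => D.IsPosRoot r) := posUnipotent_eq h.good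
  set U := (D.posUnipotent F).subgroupOf (D.group F)
  have hle : U.map φ.toMonoidHom ≤ U := by
    rintro _ ⟨z, hz, rfl⟩
    refine Subgroup.mem_subgroupOf.2 ?_
    rw [e]
    exact hS.map_UP h hR (fun r hr => ⟨hr.1, (hR.pos r hr.1).2 hr⟩) (e ▸ Subgroup.mem_subgroupOf.1 hz)
  haveI : Finite ↥(D.group F) := Finite.of_injective _ Subtype.val_injective
  have heq : U.map φ.toMonoidHom = U := Subgroup.eq_of_le_of_card_ge hle
    (le_of_eq (Nat.card_congr (Subgroup.equivMapOfInjective U _ φ.injective).toEquiv).symm.symm)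
  have h1 := Subgroup.mem_map_iff_mem (f := φ.toMonoidHom) φ.injective (K := U) (x := y)
  rw [heq] at h1
  exact h1

theorem Shape.map_V (hS : Shape h.good φ π f f') {R : ℕ → ℕ} (hR : RootPerm D A π R)
    (y : ↥(D.group F)) :
    (φ y : GL D.Idx F) ∈ D.negUnipotent F ↔ (y : GL D.Idx F) ∈ D.negUnipotent F := by
  have g := h.good
  have e : D.negUnipotent F = UP F h.good (fun r => D.IsNegRoot r) := negUnipotent_eq g
  set U := (D.negUnipotent F).subgroupOf (D.group F)
  have hle : U.map φ.toMonoidHom ≤ U := by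
    rintro _ ⟨z, hz, rfl⟩
    refine Subgroup.mem_subgroupOf.2 ?_
    rw [e]
    exact hS.map_UP h hR (fun r hr => ⟨hr.1, isNeg_of_not_pos g (hR.lt r hr.1)
      fun hp => not_pos_of_isNeg g hr ((hR.pos r hr.1).1 hp)⟩) (e ▸ Subgroup.mem_subgroupOf.1 hz)
  haveI : Finite ↥(D.group F) := Finite.of_injective _ Subtype.val_injective
  have heq : U.map φ.toMonoidHom = U := Subgroup.eq_of_le_of_card_ge hle
    (le_of_eq (Nat.card_congr (Subgroup.equivMapOfInjective U _ φ.injective).toEquiv).symm.symm)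
  have h1 := Subgroup.mem_map_iff_mem (f := φ.toMonoidHom) φ.injective (K := U) (x := y)
  rw [heq] at h1
  exact h1

end Shape

/-- An element normalising `V` lies in `VH`. -/
theorem mem_negBorel_of_conj (h : Std D A) {y : GL D.Idx F} (hy : y ∈ D.group F)
    (hc : ∀ v ∈ D.negUnipotent F, y * v * y⁻¹ ∈ D.negUnipotent F) :
    y ∈ D.negUnipotent F ⊔ D.diagonalSubgroup F := by
  have g := h.good
  obtain ⟨n, hn, σ, hσ, hw⟩ := exists_longest (F := F) g
  have hnG := monomialSubgroup_le_group g hn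
  have hUV := longest_conj g hσ hw
  have hmem : ∀ u ∈ D.posUnipotent F, n * u * n⁻¹ ∈ D.negUnipotent F := fun u hu => by
    rw [← hUV]; exact ⟨u, hu, rfl⟩
  have hB : n⁻¹ * y * n ∈ D.borelSubgroup F := by
    refine ChevField.mem_borel_of_conj_pos h (mul_mem (mul_mem (inv_mem hnG) hy) hnG) fun u hu => ?_
    have h1 := hc _ (hmem u hu)
    rw [← hUV] at h1
    obtain ⟨u', hu', e⟩ := h1
    simp only [MulEquiv.coe_toMonoidHom, MulAut.conj_apply] at e
    rw [show n⁻¹ * y * n * u * (n⁻¹ * y * n)⁻¹ = n⁻¹ * (y * (n * u * n⁻¹) * y⁻¹) * n by group, ← e,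
      show n⁻¹ * (n * u' * n⁻¹) * n = u' by group]
    exact hu'
  obtain ⟨u, hu, c, e⟩ := (mem_borel_iff g).1 hB
  obtain ⟨d, hd⟩ := monomial_conj_tor g hn c
  rw [show y = n * (n⁻¹ * y * n) * n⁻¹ by group, e,
    show n * (u * tor D A c) * n⁻¹ = n * u * n⁻¹ * (n * tor D A c * n⁻¹) by group, hd]
  exact mul_mem ((le_sup_left : D.negUnipotent F ≤ _) (hmem u hu))
    ((le_sup_right : D.diagonalSubgroup F ≤ _) (by rw [diagonalSubgroup_eq g]; exact ⟨d, rfl⟩))

/-- Two shapes differing by an inner automorphism have the same node permutation, and the conjugating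
element is diagonal. -/
theorem shape_unique [Finite F] (h : Std D A) {φ : MulAut ↥(D.group F)} {π π' : Equiv.Perm (Fin D.rank)}
    {R R' : ℕ → ℕ} (hR : RootPerm D A π R) (hR' : RootPerm D A π' R')
    (hS : HasShape h.good φ π) {x : ↥(D.group F)} (hS' : HasShape h.good (MulAut.conj x * φ) π') :
    (x : GL D.Idx F) ∈ D.diagonalSubgroup F ∧ π = π' := by
  obtain ⟨f, f', hS⟩ := hS
  obtain ⟨k, k', hS'⟩ := hS'
  have g := h.good
  have hU : ∀ u ∈ D.posUnipotent F, (x : GL D.Idx F) * u * (x : GL D.Idx F)⁻¹ ∈ D.posUnipotent F := by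
    intro u hu
    obtain ⟨z, hz⟩ := φ.surjective ⟨u, posUnipotent_le_group g hu⟩
    have hzU := (hS.map_U h hR z).1 (by rw [hz]; exact hu)
    have := (hS'.map_U h hR' z).2 hzU
    simpa [MulAut.mul_apply, hz] using this
  have hV : ∀ v ∈ D.negUnipotent F, (x : GL D.Idx F) * v * (x : GL D.Idx F)⁻¹ ∈ D.negUnipotent F := by
    intro v hv
    have hvG : v ∈ D.group F := by
      have : D.negUnipotent F ≤ D.group F := by
        rw [negUnipotent_eq g]
        exact (Subgroup.closure_le _).2 (by rintro _ ⟨r, t, -, rfl⟩; exact xG_mem_group g r t)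
      exact this hv
    obtain ⟨z, hz⟩ := φ.surjective ⟨v, hvG⟩
    have hzV := (hS.map_V h hR z).1 (by rw [hz]; exact hv)
    have := (hS'.map_V h hR' z).2 hzV
    simpa [MulAut.mul_apply, hz] using this
  have hx : (x : GL D.Idx F) ∈ D.diagonalSubgroup F := by
    rw [← borel_inf_negBorel h]
    exact Subgroup.mem_inf.2 ⟨ChevField.mem_borel_of_conj_pos h x.2 hU, mem_negBorel_of_conj h x.2 hV⟩
  refine ⟨hx, Equiv.ext fun i => ?_⟩
  rw [diagonalSubgroup_eq g] at hx
  obtain ⟨c, hc⟩ := hx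
  have h1 := hS'.pos i 1
  rw [MulAut.mul_apply, MulAut.conj_apply, Subgroup.coe_mul, Subgroup.coe_mul, Subgroup.coe_inv,
    hS.pos, ← hc, tor_conj_xG g c (g.simple_lt _ (π i).isLt)] at h1
  have h2 := xG_inj_root g (g.simple_lt _ (π i).isLt) (g.simple_lt _ (π' i).isLt)
    (mul_ne_zero (Units.ne_zero _) (hS.f_ne h i one_ne_zero)) h1
  by_contra hne
  have hne' : (π' i : ℕ) ≠ (π i : ℕ) := fun e => hne (Fin.ext e.symm)
  have := congrArg (fun r => A.a r (π i)) h2
  simp only [g.a_simple _ (π i).isLt _ (π i).isLt, g.a_simple _ (π' i).isLt _ (π i).isLt, if_true,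
    if_neg hne'.symm] at this
  exact one_ne_zero this

end CfsgLib.KnownB.ChevAutThm
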