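import Cfsg.Agent.Lib.KnownB.ChevFoldChk
import Cfsg.Agent.Lib.KnownB.ChevAut
import Cfsg.Agent.Lib.Chev.TorusCard

/-!
The fixed points of an automorphism permuting the root elements along the orbits of a folding are
isomorphic to the Chevalley group of the smaller datum.
-/

set_option autoImplicit false

namespace CfsgLib.KnownB.ChevFold

open Cfsg.Lie Matrix CfsgLib.Chev CfsgLib.KnownB.ChevHeight CfsgLib.KnownB.ChevField

variable {D : ChevalleyDatum} {A : Aux} {D' : ChevalleyDatum} {A' : Aux} {d : Fold}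
  {F : Type*} [Field F] {f : GL D.Idx F → GL D.Idx F} {p q : ℕ → ℕ}

/-- `f` is an automorphism moving the root elements along the orbits, trivially on fundamental ones. -/
structure Twist (g : Good D A) (D' : ChevalleyDatum) (d : Fold) (f : GL D.Idx F → GL D.Idx F)
    (p q : ℕ → ℕ) : Prop where
  mem : ∀ y ∈ D.group F, f y ∈ D.group F
  mul : ∀ y ∈ D.group F, ∀ z ∈ D.group F, f (y * z) = f y * f z
  inj : ∀ y ∈ D.group F, ∀ z ∈ D.group F, f y = f z → y = z
  root : ∀ r < D.nroots, p r < D.nroots ∧ ∃ ε : F, ε ≠ 0 ∧ ∀ t, f (xG g r t) = xG g (p r) (ε * t)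
  simple : ∀ j < D.rank, q j < D.rank ∧ ∀ t, f (xG g (D.simple j) t) = xG g (D.simple (q j)) t ∧
    f (xG g (A.neg (D.simple j)) t) = xG g (A.neg (D.simple (q j))) t
  orb : ∀ a < D'.nroots, ∀ r ∈ d.orbAt a, p r ∈ d.orbAt a ∧ ∃ m : ℕ, p^[m] (d.orbAt a).headI = r

variable (F) in
/-- The generated subgroup of pairs (orbit product, root element). -/
noncomputable def pairG (g : Good D A) (g' : Good D' A') (d : Fold) :
    Subgroup (GL D.Idx F × GL D'.Idx F) :=
  Subgroup.closure {z | ∃ i < D'.rank, ∃ a ∈ [D'.simple i, A'.neg (D'.simple i)], ∃ t,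
    z = (XL g (d.orbAt a) t, xG g' a t)}

section Twist

variable {g : Good D A} (T : Twist g D' d f p q)

include T

theorem map_one' : f 1 = 1 := by
  have h1 := T.mul 1 (one_mem _) 1 (one_mem _)
  rw [mul_one] at h1
  exact left_eq_mul.1 h1

theorem map_inv' {y : GL D.Idx F} (hy : y ∈ D.group F) : f y⁻¹ = (f y)⁻¹ := by
  have h1 := T.mul _ (inv_mem hy) _ hy
  rw [inv_mul_cancel, map_one' T] at h1
  exact eq_inv_of_mul_eq_one_left h1.symm

theorem map_list_prod' : ∀ {L : List (GL D.Idx F)}, (∀ y ∈ L, y ∈ D.group F) →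
    f L.prod = (L.map f).prod
  | [], _ => by simpa using map_one' T
  | y :: L, hL => by
    have hL' : ∀ z ∈ L, z ∈ D.group F := fun z hz => hL z (List.mem_cons_of_mem _ hz)
    rw [List.prod_cons, T.mul _ (hL y List.mem_cons_self) _ (list_prod_mem hL'), map_list_prod' hL',
      List.map_cons, List.prod_cons]

theorem map_nG' (r r' : ℕ) (c : F) (h1 : ∀ t, f (xG g r t) = xG g r' t)
    (h2 : ∀ t, f (xG g (D.neg r) t) = xG g (D.neg r') t) : f (nG g r c) = nG g r' c := by
  rw [nG, T.mul _ (mul_mem (xG_mem_group g _ _) (xG_mem_group g _ _)) _ (xG_mem_group g _ _),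
    T.mul _ (xG_mem_group g _ _) _ (xG_mem_group g _ _), h1, h2]
  rfl

theorem map_simple_nG {j : ℕ} (hj : j < D.rank) (c : F) :
    f (nG g (D.simple j) c) = nG g (D.simple (q j)) c := by
  refine map_nG' T _ _ c (fun t => ((T.simple j hj).2 t).1) fun t => ?_
  rw [g.neg_eq _ (g.simple_lt j hj), g.neg_eq _ (g.simple_lt _ (T.simple j hj).1)]
  exact ((T.simple j hj).2 t).2

theorem map_diag {y : GL D.Idx F} (hy : y ∈ D.diagonalSubgroup F) :
    f y ∈ D.diagonalSubgroup F := by
  rw [diagonalSubgroup_eq g] at hy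
  obtain ⟨c, rfl⟩ := hy
  have hTG : ∀ c : Fin D.rank → Fˣ, tor D A c ∈ D.group F := fun c =>
    diagonalSubgroup_le_group g (by rw [diagonalSubgroup_eq g]; exact ⟨c, rfl⟩)
  suffices ∀ S : Finset (Fin D.rank), f (tor D A (∏ j ∈ S, Pi.mulSingle j (c j))) ∈
      D.diagonalSubgroup F by simpa [Finset.univ_prod_mulSingle] using this Finset.univ
  intro S
  induction S using Finset.induction_on with
  | empty => simp [map_one' T, one_mem]
  | insert j S hj ih =>
    rw [Finset.prod_insert hj, map_mul, T.mul _ (hTG _) _ (hTG _)]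
    refine mul_mem ?_ ih
    rw [← hG_simple g, CfsgLib.Chev.hG, T.mul _ (nG_mem_group g _ _) _ (nG_mem_group g _ _),
      map_simple_nG T j.isLt, map_simple_nG T j.isLt, ← CfsgLib.Chev.hG, show q j.val = (⟨q j.val,
        (T.simple j j.isLt).1⟩ : Fin D.rank).val from rfl, hG_simple g, diagonalSubgroup_eq g]
    exact ⟨_, rfl⟩

theorem map_monomial {n : GL D.Idx F} (hn : n ∈ D.monomialSubgroup F) :
    f n ∈ D.monomialSubgroup F := by
  obtain ⟨n₀, hn₀, c, rfl⟩ := monomial_split g hn
  have hc : tor D A c ∈ D.diagonalSubgroup F := by rw [diagonalSubgroup_eq g]; exact ⟨c, rfl⟩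
  have hd : D.diagonalSubgroup F ≤ D.monomialSubgroup F := by
    rw [monomialSubgroup_eq g]; exact le_sup_left
  have hW : ∀ z ∈ W F g, z ∈ D.group F ∧ f z ∈ D.monomialSubgroup F := by
    intro z hz
    induction hz using Subgroup.closure_induction with
    | one => exact ⟨one_mem _, by rw [map_one' T]; exact one_mem _⟩
    | mul a b _ _ ha hb =>
      exact ⟨mul_mem ha.1 hb.1, by rw [T.mul _ ha.1 _ hb.1]; exact mul_mem ha.2 hb.2⟩
    | inv a _ ha => exact ⟨inv_mem ha.1, by rw [map_inv' T ha.1]; exact inv_mem ha.2⟩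
    | mem a ha =>
      obtain ⟨i, hi, rfl⟩ := ha
      refine ⟨nS_mem_group g i, ?_⟩
      rw [nS, map_simple_nG T hi]
      exact nS_mem_monomial g (T.simple i hi).1
  rw [T.mul _ (hW _ hn₀).1 _ (diagonalSubgroup_le_group g hc)]
  exact mul_mem (hW _ hn₀).2 (hd (map_diag T hc))

theorem map_UP {P Q : ℕ → Prop} (hPQ : ∀ r, P r → r < D.nroots ∧ Q (p r)) {y : GL D.Idx F}
    (hy : y ∈ UP F g P) : f y ∈ UP F g Q := by
  suffices y ∈ D.group F ∧ f y ∈ UP F g Q from this.2
  induction hy using Subgroup.closure_induction with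
  | one => exact ⟨one_mem _, by rw [map_one' T]; exact one_mem _⟩
  | mul a b _ _ ha hb =>
    exact ⟨mul_mem ha.1 hb.1, by rw [T.mul _ ha.1 _ hb.1]; exact mul_mem ha.2 hb.2⟩
  | inv a _ ha => exact ⟨inv_mem ha.1, by rw [map_inv' T ha.1]; exact inv_mem ha.2⟩
  | mem a ha =>
    obtain ⟨r, t, hr, rfl⟩ := ha
    obtain ⟨-, ε, -, e⟩ := T.root r (hPQ r hr).1
    exact ⟨xG_mem_group g r t, by rw [e]; exact xG_mem_UP g (hPQ r hr).2 _⟩

theorem p_inj {r s : ℕ} (hr : r < D.nroots) (hs : s < D.nroots) (e : p r = p s) : r = s := by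
  obtain ⟨-, ε, hε, er⟩ := T.root r hr
  obtain ⟨-, ε', hε', es⟩ := T.root s hs
  refine xG_inj_root g hr hs (t := (1 : F)) (u := ε / ε') one_ne_zero
    (T.inj _ (xG_mem_group g _ _) _ (xG_mem_group g _ _) ?_)
  rw [er, es, e]
  congr 1
  field_simp

theorem p_simple {j : ℕ} (hj : j < D.rank) :
    p (D.simple j) = D.simple (q j) ∧ p (A.neg (D.simple j)) = A.neg (D.simple (q j)) := by
  have hs := g.simple_lt j hj
  have hs' := g.simple_lt _ (T.simple j hj).1
  obtain ⟨h1, ε, hε, e⟩ := T.root _ hs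
  obtain ⟨h1', ε', hε', e'⟩ := T.root _ (g.neg_lt _ hs)
  have a1 := (e 1).symm.trans ((T.simple j hj).2 1).1
  have a2 := (e' 1).symm.trans ((T.simple j hj).2 1).2
  rw [mul_one] at a1 a2
  exact ⟨xG_inj_root g h1 hs' hε a1, xG_inj_root g h1' (g.neg_lt _ hs') hε' a2⟩

theorem p_ht (ok : FoldOK D A D' A' d) {r : ℕ} (hr : r < D.nroots) :
    A.ht D.rank (p r) = A.ht D.rank r := by
  obtain ⟨a, ha, hra⟩ := ok.orb_cover r hr
  rw [ok.orb_ht a ha r hra, ok.orb_ht a ha _ (T.orb a ha r hra).1]

/-- The fixed elements of the group. -/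
noncomputable def fixG : Subgroup (GL D.Idx F) where
  carrier := {y | y ∈ D.group F ∧ f y = y}
  one_mem' := ⟨one_mem _, map_one' T⟩
  mul_mem' := fun ha hb => ⟨mul_mem ha.1 hb.1, by rw [T.mul _ ha.1 _ hb.1, ha.2, hb.2]⟩
  inv_mem' := fun ha => ⟨inv_mem ha.1, by rw [map_inv' T ha.1, ha.2]⟩

end Twist

theorem prod_map_mul {α G : Type*} [Monoid G] (u v : α → G) : ∀ L : List α, L.Nodup →
    (∀ a ∈ L, ∀ b ∈ L, a ≠ b → Commute (v a) (u b)) →
    (L.map fun a => u a * v a).prod = (L.map u).prod * (L.map v).prod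
  | [], _, _ => by simp
  | a :: L, hnd, hc => by
    obtain ⟨ha, hL⟩ := List.nodup_cons.1 hnd
    have hcom : Commute (v a) (L.map u).prod := Commute.list_prod_right _ _ fun z hz => by
      obtain ⟨b, hb, rfl⟩ := List.mem_map.1 hz
      exact hc a List.mem_cons_self b (List.mem_cons_of_mem _ hb) fun e => ha (e ▸ hb)
    simp only [List.map_cons, List.prod_cons,
      prod_map_mul u v L hL fun x hx y hy => hc x (List.mem_cons_of_mem _ hx) y (List.mem_cons_of_mem _ hy)]
    rw [mul_assoc, ← mul_assoc (v a), hcom.eq]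
    simp only [mul_assoc]

theorem sum_single {α : Type*} (v : α → F) (key : α → ℕ) : ∀ L : List α, (L.map key).Nodup →
    ∀ e ∈ L, (L.map fun x => if key x = key e then v x else 0).sum = v e
  | [], _, e, he => by simp at he
  | x :: L, hnd, e, he => by
    obtain ⟨hx, hL⟩ := List.nodup_cons.1 (by simpa using hnd : (key x :: L.map key).Nodup)
    rw [List.map_cons, List.sum_cons]
    rcases List.mem_cons.1 he with rfl | he'
    · rw [if_pos rfl, List.sum_eq_zero fun z hz => ?_, add_zero]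
      obtain ⟨y, hy, rfl⟩ := List.mem_map.1 hz
      exact if_neg fun e' => hx (List.mem_map.2 ⟨y, hy, e'⟩)
    · rw [if_neg fun e' : key x = key e => hx (e' ▸ List.mem_map.2 ⟨e, he', rfl⟩), zero_add,
        sum_single v key L hL e he']

section Pairs

variable (h : Std D A) (h' : Std D' A') (ok : FoldOK D A D' A' d)
include h h' ok

theorem commute_node {i : ℕ} (hi : i < D'.rank) {j k : ℕ} (hj : j ∈ d.nodeAt i)
    (hk : k ∈ d.nodeAt i) (hjk : j ≠ k) {a b : ℕ} (ha : a ∈ [D.simple j, A.neg (D.simple j)])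
    (hb : b ∈ [D.simple k, A.neg (D.simple k)]) (t u : F) :
    Commute (xG h.good a t) (xG h.good b u) := by
  have g := h.good
  have hlt : ∀ j < D.rank, ∀ a ∈ [D.simple j, A.neg (D.simple j)], a < D.nroots := by
    intro j hj a ha
    simp only [List.mem_cons, List.not_mem_nil, or_false] at ha
    rcases ha with rfl | rfl
    exacts [g.simple_lt j hj, g.neg_lt _ (g.simple_lt j hj)]
  obtain ⟨-, ho⟩ := ok.orth i hi j hj k hk hjk
  obtain ⟨h1, h2, h3⟩ := ho a ha b hb
  exact (commute_xG h (hlt j (ok.node_lt i hi j hj) a ha) (hlt k (ok.node_lt i hi k hk) b hb) h1 h2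
    (by simp [h3]) t u).symm

theorem commute_node_nG {i : ℕ} (hi : i < D'.rank) {j k : ℕ} (hj : j ∈ d.nodeAt i)
    (hk : k ∈ d.nodeAt i) (hjk : j ≠ k) (c c' : F) :
    Commute (nG h.good (D.simple j) c) (nG h.good (D.simple k) c') := by
  have g := h.good
  have e : ∀ j ∈ d.nodeAt i, D.neg (D.simple j) = A.neg (D.simple j) := fun j hj =>
    g.neg_eq _ (g.simple_lt j (ok.node_lt i hi j hj))
  simp only [nG, e j hj, e k hk]
  have C := fun a b ha hb t u => commute_node (F := F) h h' ok hi hj hk hjk (a := a) (b := b) ha hb t u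
  refine Commute.mul_left (Commute.mul_left ?_ ?_) ?_ <;>
    refine Commute.mul_right (Commute.mul_right ?_ ?_) ?_ <;> exact C _ _ (by simp) (by simp) _ _

theorem gen_mem {i a : ℕ} (hi : i < D'.rank) (ha : a ∈ [D'.simple i, A'.neg (D'.simple i)]) (t : F) :
    (XL h.good (d.orbAt a) t, xG h'.good a t) ∈ pairG F h.good h'.good d :=
  Subgroup.subset_closure ⟨i, hi, a, ha, t, rfl⟩

theorem nG_pair {i : ℕ} (hi : i < D'.rank) (c : F) :
    ((((d.nodeAt i).map fun j => nG h.good (D.simple j) c).prod : GL D.Idx F),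
      nG h'.good (D'.simple i) c) ∈ pairG F h.good h'.good d := by
  have g := h.good
  set L := d.nodeAt i with hL
  have e : (L.map fun j => nG g (D.simple j) c).prod =
      XL g (d.orbAt (D'.simple i)) c * XL g (d.orbAt (A'.neg (D'.simple i))) (-c⁻¹) *
        XL g (d.orbAt (D'.simple i)) c := by
    rw [XL, XL, ok.orb_simple i hi, ok.orb_neg i hi, List.map_map, List.map_map, ← hL]
    simp only [Function.comp_def]
    have C := fun (j k : ℕ) (hj : j ∈ L) (hk : k ∈ L) (hjk : j ≠ k) a b ha hb t u =>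
      commute_node (F := F) h h' ok hi hj hk hjk (a := a) (b := b) ha hb t u
    rw [← prod_map_mul _ _ L (ok.node_nodup i hi) (fun j hj k hk hjk =>
        C j k hj hk hjk _ _ (by simp) (by simp) _ _),
      ← prod_map_mul _ _ L (ok.node_nodup i hi) (fun j hj k hk hjk =>
        (C j k hj hk hjk _ _ (by simp) (by simp) _ _).mul_right
          (C j k hj hk hjk _ _ (by simp) (by simp) _ _))]
    refine congrArg _ (List.map_congr_left fun j hj => ?_)
    rw [nG, g.neg_eq _ (g.simple_lt j (ok.node_lt i hi j hj))]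
  rw [e, nG, h'.good.neg_eq _ (h'.good.simple_lt i hi)]
  exact mul_mem (mul_mem (gen_mem h h' ok hi (by simp) c) (gen_mem h h' ok hi (by simp) (-c⁻¹)))
    (gen_mem h h' ok hi (by simp) c)

theorem nW_pair {i : ℕ} (hi : i < D'.rank) :
    (nW F h.good (d.nodeAt i), nS F h'.good i) ∈ pairG F h.good h'.good d :=
  nG_pair h h' ok hi 1

/-- Indicator of a set of nodes. -/
def ind (L : List ℕ) (u : Fˣ) : Fin D.rank → Fˣ := fun k => if k.val ∈ L then u else 1

omit h h' ok in
theorem ind_cons {j : ℕ} {L : List ℕ} (hj : j < D.rank) (hn : j ∉ L) (u : Fˣ) :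
    ind (D := D) (j :: L) u = Pi.mulSingle ⟨j, hj⟩ u * ind L u := by
  funext k
  by_cases e : k = ⟨j, hj⟩
  · subst e; simp [ind, hn]
  · have : k.val ≠ j := fun e' => e (Fin.ext e')
    simp [ind, e, this]

omit h' ok in
theorem chi_ind (s : ℕ) (u : Fˣ) : ∀ L : List ℕ, L.Nodup → (∀ j ∈ L, j < D.rank) →
    chi D A (ind L u) s = u ^ (L.map fun k => A.cart k s).sum
  | [], _, _ => by simp [ind, chi]
  | j :: L, hnd, hl => by
    obtain ⟨hj, hL⟩ := List.nodup_cons.1 hnd
    rw [ind_cons (hl j List.mem_cons_self) hj, chi_mul,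
      chi_ind s u L hL fun k hk => hl k (List.mem_cons_of_mem _ hk), List.map_cons, List.sum_cons,
      _root_.zpow_add]
    congr 1
    rw [chi, Finset.prod_eq_single ⟨j, hl j List.mem_cons_self⟩]
    · simp
    · intro k _ hk; simp [hk]
    · simp

theorem hG_pair {i : ℕ} (hi : i < D'.rank) (u : Fˣ) :
    (tor D A (ind (d.nodeAt i) u), tor D' A' (Pi.mulSingle ⟨i, hi⟩ u)) ∈
      pairG F h.good h'.good d := by
  have g := h.good
  have e : ∀ L : List ℕ, L.Nodup → (∀ j ∈ L, j < D.rank) →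
      tor D A (ind L u) = (L.map fun j => hG g (D.simple j) (u : F)).prod := by
    intro L
    induction L with
    | nil => intro _ _; rw [show ind (D := D) [] u = 1 from funext fun k => by simp [ind], map_one]; rfl
    | cons j L ih =>
      intro hnd hl
      obtain ⟨hj, hL⟩ := List.nodup_cons.1 hnd
      rw [ind_cons (hl j List.mem_cons_self) hj, map_mul,
        ih hL fun k hk => hl k (List.mem_cons_of_mem _ hk), ← hG_simple g, List.map_cons,
        List.prod_cons]
  rw [e _ (ok.node_nodup i hi) (ok.node_lt i hi), ← hG_simple h'.good]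
  simp only [hG]
  rw [prod_map_mul _ _ _ (ok.node_nodup i hi)
    fun j hj k hk hjk => commute_node_nG h h' ok hi hj hk hjk _ _]
  exact mul_mem (nG_pair h h' ok hi _) (nG_pair h h' ok hi _)

/-- Every root has an orbit product paired with its root element. -/
theorem root_pair : ∀ a < D'.nroots, ∃ L : List (ℕ × F), (L.map Prod.fst).Perm (d.orbAt a) ∧
    (∀ e ∈ L, e.2 ≠ 0) ∧ ∃ k : F, k ≠ 0 ∧ ∀ t, (((L.map fun e => xG h.good e.1 (e.2 * t)).prod :
      GL D.Idx F), xG h'.good a (k * t)) ∈ pairG F h.good h'.good d := by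
  have g := h.good
  have g' := h'.good
  refine root_induction g' (fun i hi _ => ?_) ?_
  · refine ⟨(d.orbAt (D'.simple i)).map fun r => (r, 1), by simp [Function.comp_def],
      by simp, 1, one_ne_zero, fun t => ?_⟩
    simp only [one_mul, List.map_map, Function.comp_def]
    exact gen_mem h h' ok hi (by simp) t
  rintro i hi a ha ⟨L, hperm, hne, k, hk, hL⟩
  have hA := nW_acts (F := F) g (w := d.nodeAt i) (fun j hj => ok.node_lt i hi j hj)
  have hκ : ∀ r, ∃ κ : F, κ ≠ 0 ∧ (r < D.nroots → ∀ t,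
      nW F g (d.nodeAt i) * xG g r t * (nW F g (d.nodeAt i))⁻¹ =
        xG g (wf A (d.nodeAt i) r) (κ * t)) := by
    intro r
    by_cases hr : r < D.nroots
    · obtain ⟨κ, hκ0, e⟩ := hA.conj r hr
      exact ⟨κ, hκ0, fun _ => e⟩
    · exact ⟨1, one_ne_zero, fun hr' => absurd hr' hr⟩
  choose κ hκ0 hκ using hκ
  refine ⟨L.map fun e => (wf A (d.nodeAt i) e.1, κ e.1 * e.2), ?_, fun e he => ?_,
    (A'.eta i a : F) * k, mul_ne_zero (eta_ne_zero g' hi ha) hk, fun t => ?_⟩
  · refine List.Perm.trans ?_ (ok.refl i hi a ha).symm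
    simpa [List.map_map, Function.comp_def] using hperm.map (wf A (d.nodeAt i))
  · obtain ⟨e', he', rfl⟩ := List.mem_map.1 he
    exact mul_ne_zero (hκ0 _) (hne e' he')
  · have h1 := mul_mem (mul_mem (nW_pair (F := F) h h' ok hi) (hL t))
      (inv_mem (nW_pair (F := F) h h' ok hi))
    simp only [Prod.mk_mul_mk, Prod.inv_mk] at h1
    rw [nS_conj_xG g' hi ha, ← mul_assoc, ← MulAut.conj_apply, map_list_prod, List.map_map] at h1
    have hmap : (L.map fun e => (wf A (d.nodeAt i) e.1, κ e.1 * e.2)).map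
        (fun e => xG g e.1 (e.2 * t)) =
        L.map (⇑(MulAut.conj (nW F g (d.nodeAt i))) ∘ fun e => xG g e.1 (e.2 * t)) := by
      rw [List.map_map]
      refine List.map_congr_left fun e he => ?_
      simp only [Function.comp_apply, MulAut.conj_apply]
      rw [hκ e.1 (ok.orb_lt a ha _ (hperm.subset (List.mem_map.2 ⟨e, he, rfl⟩))), mul_assoc]
    rw [hmap]
    exact h1

variable (T : Twist h.good D' d f p q)
include T

theorem pair_le {z : GL D.Idx F × GL D'.Idx F} (hz : z ∈ pairG F h.good h'.good d) :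
    z.1 ∈ fixG T ∧ z.2 ∈ D'.group F ∧
      (z.1 : Matrix D.Idx D.Idx F) * embM F D D' d =
        embM F D D' d * (z.2 : Matrix D'.Idx D'.Idx F) := by
  have g := h.good
  induction hz using Subgroup.closure_induction with
  | one => exact ⟨one_mem _, one_mem _, by simp⟩
  | mul a b _ _ ha hb =>
    refine ⟨mul_mem ha.1 hb.1, mul_mem ha.2.1 hb.2.1, ?_⟩
    simp only [Prod.fst_mul, Prod.snd_mul, Units.val_mul]
    rw [Matrix.mul_assoc, hb.2.2, ← Matrix.mul_assoc, ha.2.2, Matrix.mul_assoc]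
  | inv a _ ha =>
    refine ⟨inv_mem ha.1, inv_mem ha.2.1, ?_⟩
    have e := congrArg (fun M => ((a.1⁻¹ : GL D.Idx F) : Matrix D.Idx D.Idx F) * M *
      ((a.2⁻¹ : GL D'.Idx F) : Matrix D'.Idx D'.Idx F)) ha.2.2
    simp only [← Matrix.mul_assoc, Units.inv_mul, Matrix.one_mul] at e
    simp only [Prod.fst_inv, Prod.snd_inv]
    rw [e, Matrix.mul_assoc, Units.mul_inv, Matrix.mul_one]
  | mem a ha =>
    obtain ⟨i, hi, a, ha, t, rfl⟩ := ha
    refine ⟨⟨list_prod_mem fun y hy => ?_, ?_⟩, xG_mem_group h'.good _ _, ?_⟩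
    · obtain ⟨r, -, rfl⟩ := List.mem_map.1 hy; exact xG_mem_group g _ _
    · obtain ⟨L, hLn, m, hm, ha', hroot⟩ : ∃ L : List ℕ, L = d.nodeAt i ∧ ∃ m : ℕ → ℕ,
          (∀ j, m j ∈ [D.simple j, A.neg (D.simple j)]) ∧ d.orbAt a = L.map m ∧
            ∀ j ∈ L, ∀ t, f (xG g (m j) t) = xG g (p (m j)) t := by
        simp only [List.mem_cons, List.not_mem_nil, or_false] at ha
        rcases ha with rfl | rfl
        · refine ⟨_, rfl, D.simple, fun j => by simp, ok.orb_simple i hi, fun j hj t => ?_⟩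
          rw [(p_simple T (ok.node_lt i hi j hj)).1]
          exact ((T.simple j (ok.node_lt i hi j hj)).2 t).1
        · refine ⟨_, rfl, fun j => A.neg (D.simple j), fun j => by simp, ok.orb_neg i hi,
            fun j hj t => ?_⟩
          rw [(p_simple T (ok.node_lt i hi j hj)).2]
          exact ((T.simple j (ok.node_lt i hi j hj)).2 t).2
      have ha₀ : a < D'.nroots := by
        simp only [List.mem_cons, List.not_mem_nil, or_false] at ha
        rcases ha with rfl | rfl
        exacts [h'.good.simple_lt i hi, h'.good.neg_lt _ (h'.good.simple_lt i hi)]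
      show f (XL g (d.orbAt a) t) = XL g (d.orbAt a) t
      rw [XL, map_list_prod' T (fun y hy => by
        obtain ⟨r, -, rfl⟩ := List.mem_map.1 hy; exact xG_mem_group g _ _), List.map_map]
      have hperm : ((d.orbAt a).map p).Perm (d.orbAt a) := by
        refine (List.subperm_of_subset ?_ fun r hr => ?_).perm_of_length_le (by simp)
        · exact (ok.orb_nodup a ha₀).map_on fun x hx y hy e =>
            p_inj T (ok.orb_lt a ha₀ x hx) (ok.orb_lt a ha₀ y hy) e
        · obtain ⟨s, hs, rfl⟩ := List.mem_map.1 hr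
          exact (T.orb a ha₀ s hs).1
      have e1 : (d.orbAt a).map (f ∘ fun r => xG g r t) =
          ((d.orbAt a).map p).map fun r => xG g r t := by
        rw [List.map_map]
        refine List.map_congr_left fun r hr => ?_
        rw [ha'] at hr
        obtain ⟨j, hj, rfl⟩ := List.mem_map.1 hr
        exact hroot j hj t
      rw [e1]
      refine ((hperm.map fun r => xG g r t).symm.prod_eq' ?_).symm
      refine List.pairwise_map.2 (List.Nodup.pairwise_of_forall_ne (ok.orb_nodup a ha₀) ?_)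
      intro r hr s hs hrs
      rw [ha'] at hr hs
      obtain ⟨j, hj, rfl⟩ := List.mem_map.1 hr
      obtain ⟨k, hk, rfl⟩ := List.mem_map.1 hs
      exact commute_node h h' ok hi (hLn ▸ hj) (hLn ▸ hk) (fun e => hrs (congrArg m e)) (hm j) (hm k) t t
    · simp only [xG_val]
      exact inter g h'.good ok hi ha t

theorem pair_snd_unique {y : GL D.Idx F} {z z' : GL D'.Idx F}
    (h1 : (y, z) ∈ pairG F h.good h'.good d) (h2 : (y, z') ∈ pairG F h.good h'.good d) : z = z' :=
  Units.ext (embM_cancel ok ((pair_le h h' ok T h1).2.2.symm.trans (pair_le h h' ok T h2).2.2))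

theorem pair_one {z : GL D'.Idx F} (h1 : ((1 : GL D.Idx F), z) ∈ pairG F h.good h'.good d) :
    z = 1 := pair_snd_unique h h' ok T h1 (one_mem _)

omit h' in
theorem crd_map {k : ℤ} (hk : 1 ≤ k) {r : ℕ} (hr : r < D.nroots) (hrk : A.ht D.rank r ≤ k) {ε : F}
    (hε : ∀ t, f (xG h.good r t) = xG h.good (p r) (ε * t)) {y : GL D.Idx F}
    (hy : y ∈ UP F h.good (AtLeast D A k)) : crd D A F (f y) (p r) = ε * crd D A F y r := by
  have g := h.good
  have hPQ : ∀ s, AtLeast D A k s → s < D.nroots ∧ AtLeast D A k (p s) := fun s hs =>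
    ⟨hs.1, (T.root s hs.1).1, by rw [p_ht T ok hs.1]; exact hs.2⟩
  have hG : ∀ {y : GL D.Idx F}, y ∈ UP F g (AtLeast D A k) → y ∈ D.group F := fun hy =>
    (show UP F g (AtLeast D A k) ≤ D.group F from UP_le fun s t _ => xG_mem_group g s t) hy
  have hrk' : A.ht D.rank (p r) ≤ k := by rw [p_ht T ok hr]; exact hrk
  induction hy using Subgroup.closure_induction with
  | one => simp [map_one' T, crd_one]
  | mul a b ha hb iha ihb =>
    rw [T.mul _ (hG ha) _ (hG hb), crd_mul g hk (map_UP T hPQ ha) (map_UP T hPQ hb) hrk',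
      crd_mul g hk ha hb hrk, iha, ihb, mul_add]
  | inv a ha iha =>
    rw [map_inv' T (hG ha), crd_inv g hk (map_UP T hPQ ha) hrk', crd_inv g hk ha hrk, iha, mul_neg]
  | mem a ha =>
    obtain ⟨s, t, hs, rfl⟩ := ha
    obtain ⟨hps, ε', -, e⟩ := T.root s hs.1
    rw [e, crd_xG g ok.gcd hps (T.root r hr).1, crd_xG g ok.gcd hs.1 hr]
    by_cases hsr : s = r
    · subst hsr
      have h1 := (e 1).symm.trans (hε 1)
      rw [mul_one, mul_one] at h1
      rw [if_pos rfl, if_pos rfl, xG_inj h hps h1]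
    · rw [if_neg hsr, if_neg fun e' => hsr (p_inj T hs.1 hr e'), mul_zero]

/-- Fixed elements of `U` pair with elements of the smaller `U`, injectively. -/
theorem unip_pair : ∀ (m : ℕ) {k : ℤ}, 1 ≤ k → (∀ r < D.nroots, A.ht D.rank r < k + m) →
    ∀ {u : GL D.Idx F}, u ∈ UP F h.good (AtLeast D A k) → f u = u →
    ∃ u', (u, u') ∈ pairG F h.good h'.good d ∧ u' ∈ UP F h'.good (AtLeast D' A' k) ∧
      (u' = 1 → u = 1) := by
  have g := h.good
  have g' := h'.good
  intro m
  induction m with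
  | zero =>
    intro k _ hb u hu _
    have hu1 : u = 1 := Subgroup.mem_bot.1 ((show UP F g (AtLeast D A k) ≤ ⊥ from
      UP_le fun r t hr => absurd (hb r hr.1) (by simpa using hr.2)) hu)
    exact ⟨1, hu1 ▸ one_mem _, one_mem _, fun _ => hu1⟩
  | succ m ih =>
    intro k hk hb u hu hfu
    choose L hperm hne c hc hL using root_pair (F := F) h h' ok
    -- the orbit product over `a`
    let S : (a : ℕ) → a < D'.nroots → F → GL D.Idx F := fun a ha t =>
      ((L a ha).map fun e => xG g e.1 (e.2 * t)).prod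
    have hSfix : ∀ a ha t, f (S a ha t) = S a ha t := fun a ha t =>
      (pair_le h h' ok T (hL a ha t)).1.2
    have hLk : ∀ a (ha : a < D'.nroots), A'.ht D'.rank a = k → ∀ e ∈ L a ha,
        AtLeast D A k e.1 := by
      intro a ha hak e he
      have hr := (hperm a ha).subset (List.mem_map.2 ⟨e, he, rfl⟩)
      exact ⟨ok.orb_lt a ha _ hr, by rw [ok.orb_ht a ha _ hr, hak]⟩
    have hSmem : ∀ a ha t, A'.ht D'.rank a = k → S a ha t ∈ UP F g (AtLeast D A k) :=
      fun a ha t hak => list_prod_mem fun y hy => by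
        obtain ⟨e, he, rfl⟩ := List.mem_map.1 hy
        exact xG_mem_UP g (hLk a ha hak e he) _
    have hScrd : ∀ a ha t, A'.ht D'.rank a = k → ∀ r < D.nroots, A.ht D.rank r ≤ k →
        crd D A F (S a ha t) r = t * crd D A F (S a ha 1) r := by
      intro a ha t hak r hr hrk
      have key : ∀ t, crd D A F (S a ha t) r =
          ((L a ha).map fun e => if e.1 = r then e.2 * t else 0).sum := by
        intro t
        have := crd_prod g ok.gcd hk hr hrk ((L a ha).map fun e => (e.1, e.2 * t))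
          (fun e he => by
            obtain ⟨e', he', rfl⟩ := List.mem_map.1 he
            exact hLk a ha hak e' he')
        simpa [S, List.map_map, Function.comp_def] using this
      rw [key, key, ← List.sum_map_mul_left]
      refine congrArg _ (List.map_congr_left fun e _ => ?_)
      split_ifs <;> ring
    have hSout : ∀ a ha t, A'.ht D'.rank a = k → ∀ r < D.nroots, A.ht D.rank r ≤ k →
        r ∉ d.orbAt a → crd D A F (S a ha t) r = 0 := by
      intro a ha t hak r hr hrk hout
      have := crd_prod g ok.gcd hk hr hrk ((L a ha).map fun e => (e.1, e.2 * t))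
        (fun e he => by
          obtain ⟨e', he', rfl⟩ := List.mem_map.1 he
          exact hLk a ha hak e' he')
      simp only [List.map_map, Function.comp_def] at this
      rw [show crd D A F (S a ha t) r = _ from this]
      refine List.sum_eq_zero fun v hv => ?_
      obtain ⟨e, he, rfl⟩ := List.mem_map.1 hv
      rw [if_neg fun e' => hout (by rw [← e']; exact (hperm a ha).subset (List.mem_map.2 ⟨e, he, rfl⟩))]
    have hE : ∀ a ha, A'.ht D'.rank a = k → crd D A F (S a ha 1) (d.orbAt a).headI ≠ 0 := by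
      intro a ha hak
      obtain ⟨r₀, rest, ho⟩ := List.exists_cons_of_ne_nil (ok.orb_ne a ha)
      have hr₀ : r₀ ∈ d.orbAt a := by simp [ho]
      rw [show (d.orbAt a).headI = r₀ by simp [ho]]
      have := crd_prod g ok.gcd hk (ok.orb_lt a ha r₀ hr₀) (by rw [ok.orb_ht a ha r₀ hr₀, hak])
        ((L a ha).map fun e => (e.1, e.2 * 1)) (fun e he => by
          obtain ⟨e', he', rfl⟩ := List.mem_map.1 he
          exact hLk a ha hak e' he')
      simp only [List.map_map, Function.comp_def] at this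
      rw [show crd D A F (S a ha 1) r₀ = _ from this]
      obtain ⟨e, he, rfl⟩ := List.mem_map.1 ((hperm a ha).symm.subset hr₀)
      have hnd := (hperm a ha).nodup_iff.2 (ok.orb_nodup a ha)
      rw [sum_single (fun x => x.2 * 1) Prod.fst (L a ha) hnd e he, mul_one]
      exact hne a ha e he
    -- the parameter of each orbit at level `k`
    let lam : (a : ℕ) → a < D'.nroots → F := fun a ha =>
      crd D A F u (d.orbAt a).headI / crd D A F (S a ha 1) (d.orbAt a).headI
    have hlam : ∀ a ha, A'.ht D'.rank a = k → ∀ r ∈ d.orbAt a,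
        crd D A F u r = lam a ha * crd D A F (S a ha 1) r := by
      intro a ha hak r hr
      obtain ⟨i, rfl⟩ := (T.orb a ha r hr).2
      clear hr
      have hmem : ∀ i, p^[i] (d.orbAt a).headI ∈ d.orbAt a := by
        intro i
        induction i with
        | zero =>
          obtain ⟨r₀, rest, ho⟩ := List.exists_cons_of_ne_nil (ok.orb_ne a ha)
          simp [ho]
        | succ i ihi => rw [Function.iterate_succ_apply']; exact (T.orb a ha _ ihi).1
      induction i with
      | zero => simp only [Function.iterate_zero, id_eq, lam]; rw [div_mul_cancel₀ _ (hE a ha hak)]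
      | succ i ihi =>
        have hlt := ok.orb_lt a ha _ (hmem i)
        have hrk : A.ht D.rank (p^[i] (d.orbAt a).headI) ≤ k := by
          rw [ok.orb_ht a ha _ (hmem i), hak]
        obtain ⟨-, ε, -, hε⟩ := T.root _ hlt
        have h1 := crd_map h ok T hk hlt hrk hε hu
        have h2 := crd_map h ok T hk hlt hrk hε (hSmem a ha 1 hak)
        rw [hfu] at h1
        rw [hSfix] at h2
        rw [Function.iterate_succ_apply', h1, h2, ihi]
        ring
    let Lv := (List.finRange D'.nroots).filter fun a => decide (A'.ht D'.rank a.val = k)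
    have hLv : ∀ a ∈ Lv, A'.ht D'.rank a.val = k := fun a ha =>
      of_decide_eq_true (List.mem_filter.1 ha).2
    set s := (Lv.map fun a => S a.val a.isLt (lam a.val a.isLt)).prod with hsdef
    set s' := (Lv.map fun a => xG g' a.val (c a.val a.isLt * lam a.val a.isLt)).prod with hs'def
    have hpair : (s, s') ∈ pairG F g g' d := by
      rw [hsdef, hs'def]
      clear_value Lv
      clear hLv hsdef hs'def s s'
      induction Lv with
      | nil => simp only [List.map_nil, List.prod_nil]; exact one_mem _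
      | cons a l ihl =>
        simp only [List.map_cons, List.prod_cons]
        exact mul_mem (hL a.val a.isLt (lam a.val a.isLt)) ihl
    have hsfix : f s = s := (pair_le h h' ok T hpair).1.2
    have hsmem : s ∈ UP F g (AtLeast D A k) := list_prod_mem fun y hy => by
      obtain ⟨a, ha, rfl⟩ := List.mem_map.1 hy
      exact hSmem a.val a.isLt _ (hLv a ha)
    have hscrd : ∀ r < D.nroots, A.ht D.rank r = k → crd D A F s r = crd D A F u r := by
      intro r hr hrk
      obtain ⟨a, ha, hra⟩ := ok.orb_cover r hr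
      have hak : A'.ht D'.rank a = k := by rw [← ok.orb_ht a ha r hra, hrk]
      have key : ∀ M : List (Fin D'.nroots), (∀ b ∈ M, A'.ht D'.rank b.val = k) → M.Nodup →
          crd D A F (M.map fun b => S b.val b.isLt (lam b.val b.isLt)).prod r =
            if (⟨a, ha⟩ : Fin D'.nroots) ∈ M then crd D A F u r else 0 := by
        intro M
        induction M with
        | nil => simp [crd_one]
        | cons b M ihM =>
          intro hM hnd
          obtain ⟨hb, hM'⟩ := List.nodup_cons.1 hnd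
          rw [List.map_cons, List.prod_cons, crd_mul g hk (hSmem _ _ _ (hM b List.mem_cons_self))
            (list_prod_mem fun y hy => by
              obtain ⟨b', hb', rfl⟩ := List.mem_map.1 hy
              exact hSmem _ _ _ (hM b' (List.mem_cons_of_mem _ hb'))) hrk.le,
            ihM (fun b' hb' => hM b' (List.mem_cons_of_mem _ hb')) hM']
          by_cases e : b = ⟨a, ha⟩
          · subst e
            rw [hScrd a ha _ hak r hr hrk.le, ← hlam a ha hak r hra]
            simp [hb]
          · rw [hSout _ _ _ (hM b List.mem_cons_self) r hr hrk.le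
              fun hrb => e (Fin.ext (ok.orb_unique _ b.isLt a ha r hrb hra)), zero_add]
            simp [Ne.symm e]
      rw [hsdef, key Lv hLv ((List.nodup_finRange _).filter _),
        if_pos (List.mem_filter.2 ⟨List.mem_finRange _, by simp [hak]⟩)]
    have hG : ∀ {y : GL D.Idx F}, y ∈ UP F g (AtLeast D A k) → y ∈ D.group F := fun hy =>
      (show UP F g (AtLeast D A k) ≤ D.group F from UP_le fun s t _ => xG_mem_group g s t) hy
    have hw : s⁻¹ * u ∈ UP F g (AtLeast D A (k + 1)) := by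
      refine mem_succ h ok.gcd hk (mul_mem (inv_mem hsmem) hu) fun r hr hrk => ?_
      rw [crd_mul g hk (inv_mem hsmem) hu hrk.le, crd_inv g hk hsmem hrk.le, hscrd r hr hrk,
        neg_add_cancel]
    have hwfix : f (s⁻¹ * u) = s⁻¹ * u := by
      rw [T.mul _ (inv_mem (hG hsmem)) _ (hG hu), map_inv' T (hG hsmem), hsfix, hfu]
    obtain ⟨w', hw1, hw2, hw3⟩ := ih (by omega) (fun r hr => by have := hb r hr; omega) hw hwfix
    have hs'mem : s' ∈ UP F g' (AtLeast D' A' k) := list_prod_mem fun y hy => by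
      obtain ⟨a, ha, rfl⟩ := List.mem_map.1 hy
      exact xG_mem_UP g' ⟨a.isLt, (hLv a ha).ge⟩ _
    refine ⟨s' * w', ?_, mul_mem hs'mem (UP_atLeast_mono g' (by omega) hw2), fun e => ?_⟩
    · simpa [Prod.mk_mul_mk] using mul_mem hpair hw1
    have hlam0 : ∀ a ∈ Lv, lam a.val a.isLt = 0 := by
      intro a ha
      have hak := hLv a ha
      have h1 := crd_mul g' hk hs'mem (UP_atLeast_mono g' (by omega) hw2) (r := a.val) hak.le
      have hw0 : crd D' A' F w' a.val = 0 := by
        unfold crd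
        split_ifs with hh
        · have := (UP_htTri g' (show (1 : ℤ) ≤ k + 1 by omega) hw2).1 (Sum.inr ⟨a.val, hh.1⟩)
            (Sum.inl hh.2.choose) (by show A'.ht D'.rank a.val ≤ 0 + (k + 1 - 1); omega)
          rw [this, if_neg (by simp), zero_div]
        · rfl
      have h2 := crd_prod g' ok.gcd' hk a.isLt hak.le
        (Lv.map fun b => (b.val, c b.val b.isLt * lam b.val b.isLt))
        (fun e he => by
          obtain ⟨b, hb, rfl⟩ := List.mem_map.1 he
          exact ⟨b.isLt, (hLv b hb).ge⟩)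
      simp only [List.map_map, Function.comp_def] at h2
      rw [e, crd_one, hw0, add_zero, hs'def, h2,
        sum_single (fun b : Fin D'.nroots => c b.val b.isLt * lam b.val b.isLt) Fin.val Lv
          (((List.nodup_finRange _).filter _).map Fin.val_injective) a ha] at h1
      exact (mul_eq_zero.1 h1.symm).resolve_left (hc _ _)
    have hs1 : s = 1 := List.prod_eq_one fun y hy => by
      obtain ⟨a, ha, rfl⟩ := List.mem_map.1 hy
      refine List.prod_eq_one fun z hz => ?_
      obtain ⟨e', -, rfl⟩ := List.mem_map.1 hz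
      rw [hlam0 a ha, mul_zero, xG_zero]
    have hs'1 : s' = 1 := List.prod_eq_one fun y hy => by
      obtain ⟨a, ha, rfl⟩ := List.mem_map.1 hy
      rw [hlam0 a ha, mul_zero, xG_zero]
    have := hw3 (by rwa [hs'1, one_mul] at e)
    rwa [hs1, inv_one, one_mul] at this

theorem pos_iff_p {r : ℕ} (hr : r < D.nroots) : D.IsPosRoot (p r) ↔ D.IsPosRoot r := by
  rw [pos_iff_ht h (T.root r hr).1, pos_iff_ht h hr, p_ht T ok hr]

theorem sigma_comm {n : GL D.Idx F} (hn : n ∈ D.monomialSubgroup F) {σ : ℕ → ℕ}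
    (hσ : Acts h.good n σ) (hd : n⁻¹ * f n ∈ D.diagonalSubgroup F) {r : ℕ} (hr : r < D.nroots) :
    σ (p r) = p (σ r) := by
  have g := h.good
  obtain ⟨k, hk, e⟩ := hσ.conj r hr
  obtain ⟨hpr, ε, hε, eε⟩ := T.root r hr
  obtain ⟨hps, ε', hε', eε'⟩ := T.root _ (hσ.map.1 r hr)
  obtain ⟨k', hk', e'⟩ := hσ.conj _ hpr
  rw [diagonalSubgroup_eq g] at hd
  obtain ⟨c, hc⟩ := hd
  have hfn : f n = n * tor D A c := by rw [hc]; group
  have hnG := monomialSubgroup_le_group g hn
  have h1 := congrArg f (e 1)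
  rw [T.mul _ (mul_mem hnG (xG_mem_group g _ _)) _ (inv_mem hnG),
    T.mul _ hnG _ (xG_mem_group g _ _), map_inv' T hnG, eε, eε', hfn, mul_one, mul_one,
    show n * tor D A c * xG g (p r) ε * (n * tor D A c)⁻¹ =
      n * (tor D A c * xG g (p r) ε * (tor D A c)⁻¹) * n⁻¹ by group, tor_conj_xG g c hpr, e'] at h1
  exact xG_inj_root g (hσ.map.1 _ hpr) hps (mul_ne_zero hk' (mul_ne_zero (Units.ne_zero _) hε)) h1

theorem orbit_sign {n : GL D.Idx F} (hn : n ∈ D.monomialSubgroup F) {σ : ℕ → ℕ}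
    (hσ : Acts h.good n σ) (hd : n⁻¹ * f n ∈ D.diagonalSubgroup F) {a : ℕ} (ha : a < D'.nroots)
    {r s : ℕ} (hr : r ∈ d.orbAt a) (hs : s ∈ d.orbAt a) :
    D.IsPosRoot (σ r) ↔ D.IsPosRoot (σ s) := by
  suffices ∀ i, p^[i] (d.orbAt a).headI ∈ d.orbAt a ∧
      (D.IsPosRoot (σ (p^[i] (d.orbAt a).headI)) ↔ D.IsPosRoot (σ (d.orbAt a).headI)) by
    obtain ⟨i, rfl⟩ := (T.orb a ha r hr).2
    obtain ⟨j, rfl⟩ := (T.orb a ha s hs).2
    rw [(this i).2, (this j).2]
  intro i
  induction i with
  | zero =>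
    obtain ⟨r₀, rest, ho⟩ := List.exists_cons_of_ne_nil (ok.orb_ne a ha)
    exact ⟨by simp [ho], Iff.rfl⟩
  | succ i ihi =>
    have hlt := ok.orb_lt a ha _ ihi.1
    rw [Function.iterate_succ_apply']
    exact ⟨(T.orb a ha _ ihi.1).1,
      by rw [sigma_comm h h' ok T hn hσ hd hlt, pos_iff_p h h' ok T (hσ.map.1 _ hlt), ihi.2]⟩

omit h' ok T in
theorem posToPos_node {σ : ℕ → ℕ} (hσ : RootMap D A σ) : ∀ L : List ℕ, Letters D L → L.Nodup →
    (∀ j ∈ L, ∀ k ∈ L, j ≠ k → A.refl j (D.simple k) = D.simple k) →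
    (∀ j ∈ L, ¬ D.IsPosRoot (σ (D.simple j))) →
    posToPos D (σ ∘ wf A L) = posToPos D σ + L.length := by
  have g := h.good
  intro L
  induction L generalizing σ with
  | nil => intros; rfl
  | cons k L ih =>
    intro hl hnd horth hneg
    obtain ⟨hkL, hnd'⟩ := List.nodup_cons.1 hnd
    have hk := hl.head
    have hsk := g.simple_lt k hk
    have hpos : D.IsPosRoot ((σ ∘ A.refl k) (D.simple k)) := by
      rw [Function.comp_apply, refl_simple g hk, hσ.map_neg g hsk]
      exact (pos_or_pos_neg g (hσ.1 _ hsk)).resolve_left (hneg k List.mem_cons_self)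
    have h1 := posToPos_refl g (hσ.comp (rootMap_refl g hk)) hk hpos
    have h2 : posToPos D ((σ ∘ A.refl k) ∘ A.refl k) = posToPos D σ := by
      unfold posToPos
      congr 1
      refine Finset.filter_congr fun r hr => ?_
      rw [Function.comp_apply, Function.comp_apply,
        g.refl_refl k hk r (posRoots_mem.1 (List.mem_toFinset.1 hr)).1]
    have h3 := ih (hσ.comp (rootMap_refl g hk)) hl.tail hnd'
      (fun j hj l hl' => horth j (List.mem_cons_of_mem _ hj) l (List.mem_cons_of_mem _ hl'))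
      (fun j hj => by
        rw [Function.comp_apply, horth k List.mem_cons_self j (List.mem_cons_of_mem _ hj)
          fun e => hkL (e ▸ hj)]
        exact hneg j (List.mem_cons_of_mem _ hj))
    rw [show σ ∘ wf A (k :: L) = (σ ∘ A.refl k) ∘ wf A L from rfl, h3, List.length_cons]
    omega

/-- A monomial element fixed modulo `H` pairs, after a diagonal correction, with a monomial element. -/
theorem weyl_pair {n : GL D.Idx F} (hn : n ∈ D.monomialSubgroup F) {σ : ℕ → ℕ}
    (hσ : Acts h.good n σ) (hd : n⁻¹ * f n ∈ D.diagonalSubgroup F) :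
    ∃ (n₀ : GL D.Idx F) (n₀' : GL D'.Idx F) (c : Fin D.rank → Fˣ) (σ' : ℕ → ℕ),
      n = n₀ * tor D A c ∧ (n₀, n₀') ∈ pairG F h.good h'.good d ∧
      n₀' ∈ D'.monomialSubgroup F ∧ Acts h'.good n₀' σ' ∧
      ∀ a < D'.nroots, (d.orbAt (σ' a)).Perm ((d.orbAt a).map σ) := by
  have g := h.good
  have g' := h'.good
  induction hm : D.posRoots.length - posToPos D σ using Nat.strong_induction_on generalizing n σ with
  | _ N ih =>
  by_cases hpos : ∀ j < D.rank, D.IsPosRoot (σ (D.simple j))
  · have hdiag := diag_of_simple_pos h hn hσ hpos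
    rw [diagonalSubgroup_eq g] at hdiag
    obtain ⟨c, rfl⟩ := hdiag
    refine ⟨1, 1, c, id, (one_mul _).symm, one_mem _, one_mem _, by simpa using acts_tor g' (1 : Fin D'.rank → Fˣ), fun a ha => ?_⟩
    rw [List.map_congr_left (g := id) fun r hr =>
      hσ.unique (acts_tor g c) (ok.orb_lt a ha r hr), List.map_id]
    exact List.Perm.refl _
  push Not at hpos
  obtain ⟨j, hj, hjn⟩ := hpos
  obtain ⟨i, hi, hji⟩ := ok.node_cover j hj
  set w := d.nodeAt i with hw
  have hl : Letters D w := ok.node_lt i hi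
  have hneg : ∀ k ∈ w, ¬ D.IsPosRoot (σ (D.simple k)) := by
    intro k hk
    have hs : ∀ k ∈ w, D.simple k ∈ d.orbAt (D'.simple i) := fun k hk => by
      rw [ok.orb_simple i hi]; exact List.mem_map.2 ⟨k, hk, rfl⟩
    rwa [orbit_sign h h' ok T hn hσ hd (g'.simple_lt i hi) (hs k hk) (hs j hji)]
  have hA := nW_acts (F := F) g hl
  have hpair := nW_pair (F := F) h h' ok hi
  have hfw : f (nW F g w) = nW F g w := (pair_le h h' ok T hpair).1.2
  have hwG := monomialSubgroup_le_group g (nW_mem (F := F) g hl)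
  have hnG := monomialSubgroup_le_group g hn
  have hd₁ : (n * nW F g w)⁻¹ * f (n * nW F g w) ∈ D.diagonalSubgroup F := by
    rw [T.mul _ hnG _ hwG, hfw, show (n * nW F g w)⁻¹ * (f n * nW F g w) =
      (nW F g w)⁻¹ * (n⁻¹ * f n) * (nW F g w)⁻¹⁻¹ by group]
    rw [diagonalSubgroup_eq g] at hd ⊢
    obtain ⟨c, hc⟩ := hd
    obtain ⟨c', hc'⟩ := monomial_conj_tor g (inv_mem (nW_mem (F := F) g hl)) c
    exact ⟨c', by rw [← hc', hc]⟩
  have hlen := posToPos_node h hσ.map w hl (ok.node_nodup i hi)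
    (fun a ha b hb hab => (ok.orth i hi a ha b hb hab).1) hneg
  have hle : posToPos D (σ ∘ wf A w) ≤ D.posRoots.length :=
    (Finset.card_filter_le _ _).trans (List.toFinset_card_le _)
  have hw1 : 1 ≤ w.length := List.length_pos_of_mem hji
  obtain ⟨n₁, n₁', c, σ₁', e, hp₁, hm₁, hA₁, hperm⟩ :=
    ih _ (by omega) (mul_mem hn (nW_mem g hl)) (hσ.mul hA) hd₁ rfl
  obtain ⟨x, hx⟩ : nW F g w * nW F g w ∈ (tor D A).range := by
    rw [← diagonalSubgroup_eq g]
    refine mem_diag_of_id h (mul_mem (nW_mem g hl) (nW_mem g hl)) (hA.mul hA) fun r hr => ?_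
    rw [Function.comp_apply, ← wf_append]
    exact ok.square i hi r hr
  obtain ⟨c', hc'⟩ := monomial_conj_tor g (inv_mem (nW_mem (F := F) g hl)) c
  refine ⟨n₁ * nW F g w, n₁' * nS F g' i, c' * x⁻¹, σ₁' ∘ A'.refl i, ?_,
    by simpa [Prod.mk_mul_mk] using mul_mem hp₁ hpair, mul_mem hm₁ (nS_mem_monomial g' hi),
    hA₁.mul (acts_nS g' hi), fun a ha => ?_⟩
  · rw [map_mul, map_inv, ← hc', hx, eq_mul_inv_iff_mul_eq.2 e]
    group
  · refine (hperm _ (g'.refl_lt i hi a ha)).trans ?_
    refine ((ok.refl i hi a ha).map _).trans ?_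
    rw [List.map_map, List.map_congr_left (g := σ) fun r hr => by
      rw [Function.comp_apply, Function.comp_apply, ← wf_append,
        ok.square i hi r (ok.orb_lt a ha r hr)]]

theorem torus_pair (hU : Unimodular D') {a : Fin D.rank → Fˣ} (hfix : f (tor D A a) = tor D A a) :
    ∃ c, (tor D A a, tor D' A' c) ∈ pairG F h.good h'.good d ∧
      (tor D' A' c = 1 → tor D A a = 1) := by
  have g := h.good
  have g' := h'.good
  have haG : tor D A a ∈ D.group F :=
    diagonalSubgroup_le_group g (by rw [diagonalSubgroup_eq g]; exact ⟨a, rfl⟩)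
  have hstep : ∀ r < D.nroots, chi D A a (p r) = chi D A a r := by
    intro r hr
    obtain ⟨hpr, ε, hε, e⟩ := T.root r hr
    have h1 := congrArg f (tor_conj_xG g a hr (1 : F))
    rw [T.mul _ (mul_mem haG (xG_mem_group g _ _)) _ (inv_mem haG),
      T.mul _ haG _ (xG_mem_group g _ _), map_inv' T haG, hfix, e, e, tor_conj_xG g a hpr] at h1
    have h2 := xG_inj h hpr h1
    exact Units.ext (mul_left_cancel₀ hε (by linear_combination h2))
  have hconst : ∀ i : Fin D'.rank, ∀ k ∈ d.nodeAt i,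
      chi D A a (D.simple k) = chi D A a (d.orbAt (D'.simple i)).headI := by
    intro i k hk
    have hs := g'.simple_lt i i.isLt
    obtain ⟨m, hm⟩ := (T.orb _ hs (D.simple k)
      (by rw [ok.orb_simple i i.isLt]; exact List.mem_map.2 ⟨k, hk, rfl⟩)).2
    rw [← hm]
    have hmem : ∀ m, p^[m] (d.orbAt (D'.simple i)).headI ∈ d.orbAt (D'.simple i) := by
      intro m
      induction m with
      | zero =>
        obtain ⟨r₀, rest, ho⟩ := List.exists_cons_of_ne_nil (ok.orb_ne _ hs)
        simp [ho]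
      | succ m ihm => rw [Function.iterate_succ_apply']; exact (T.orb _ hs _ ihm).1
    clear hm
    induction m with
    | zero => rfl
    | succ m ihm => rw [Function.iterate_succ_apply', hstep _ (ok.orb_lt _ hs _ (hmem m)), ihm]
  let v : Fin D'.rank → Fˣ := fun i => chi D A a (d.orbAt (D'.simple i)).headI
  obtain ⟨c, hc⟩ : ∃ c, mHom F (cartanM D' A') c = v := by
    obtain ⟨N, hN⟩ := hU
    let M : Matrix (Fin D'.rank) (Fin D'.rank) ℤ := fun k j => (N.getD k #[]).getD j 0
    have e : cartanM D' A' * M = 1 := by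
      ext i j
      have := hN i i.isLt j j.isLt
      rw [sum_map_range, Finset.sum_range] at this
      rw [Matrix.mul_apply, Matrix.one_apply]
      simp only [cartanM, M, Fin.ext_iff]
      rw [← this]
      exact Finset.sum_congr rfl fun k _ => by rw [g'.cart_eq _ i.isLt _ (g'.simple_lt k k.isLt)]
    exact ⟨mHom F M v, by rw [mHom_mul, mul_eq_one_comm.1 e, mHom_one]⟩
  have hchi : ∀ i, chi D' A' c (D'.simple i.val) = v i := fun i => by rw [← hc]; rfl
  set ch : Fin D.rank → Fˣ := ∏ i : Fin D'.rank, ind (d.nodeAt i) (c i)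
  have hpair : (tor D A ch, tor D' A' c) ∈ pairG F g g' d := by
    suffices ∀ S : Finset (Fin D'.rank), (tor D A (∏ i ∈ S, ind (d.nodeAt i) (c i)),
        tor D' A' (∏ i ∈ S, Pi.mulSingle i (c i))) ∈ pairG F g g' d by
      simpa [Finset.univ_prod_mulSingle] using this Finset.univ
    intro S
    induction S using Finset.induction_on with
    | empty => simp only [Finset.prod_empty, map_one]; exact one_mem _
    | insert i S hi ih =>
      rw [Finset.prod_insert hi, Finset.prod_insert hi, map_mul, map_mul]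
      simpa [Prod.mk_mul_mk] using mul_mem (hG_pair h h' ok i.isLt (c i)) ih
  have hval : ∀ k : Fin D.rank, chi D A ch (D.simple k) = chi D A a (D.simple k) := by
    intro k
    obtain ⟨i', hi', hki⟩ := ok.node_cover k k.isLt
    have hmul : ∀ S : Finset (Fin D'.rank), chi D A (∏ i ∈ S, ind (d.nodeAt i) (c i)) (D.simple k) =
        ∏ i ∈ S, c i ^ A'.cart i (D'.simple i') := by
      intro S
      induction S using Finset.induction_on with
      | empty => simp [chi_one]
      | insert i S hi ih =>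
        rw [Finset.prod_insert hi, Finset.prod_insert hi, chi_mul, ih,
          chi_ind h _ _ _ (ok.node_nodup i i.isLt) (ok.node_lt i i.isLt),
          ok.cart i i.isLt i' hi' k hki]
    rw [hmul Finset.univ, hconst ⟨i', hi'⟩ k hki]
    exact hchi ⟨i', hi'⟩
  have key : ∀ b b' : Fin D.rank → Fˣ,
      (∀ k : Fin D.rank, chi D A b (D.simple k) = chi D A b' (D.simple k)) →
        tor D A b = tor D A b' := by
    intro b b' hb
    rw [← mul_inv_eq_one, ← map_inv, ← map_mul, tor_eq_one_iff g]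
    funext k
    show chi D A (b * b'⁻¹) (D.simple k) = 1
    have := chi_mul (A := A) (b * b'⁻¹) b' (D.simple k)
    rwa [inv_mul_cancel_right, hb, right_eq_mul] at this
  have e1 := key ch a hval
  refine ⟨c, e1 ▸ hpair, fun h1 => ?_⟩
  rw [← map_one (tor D A)]
  refine key a 1 fun k => ?_
  obtain ⟨i', hi', hki⟩ := ok.node_cover k k.isLt
  rw [chi_one, hconst ⟨i', hi'⟩ k hki]
  show v ⟨i', hi'⟩ = 1
  rw [← hc, (tor_eq_one_iff g' c).1 h1]
  rfl

/-- Every fixed element pairs with an element of the smaller group, injectively. -/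
theorem fix_pair (hU : Unimodular D') {y : GL D.Idx F} (hy : y ∈ fixG T) :
    ∃ z, (y, z) ∈ pairG F h.good h'.good d ∧ (z = 1 → y = 1) := by
  have g := h.good
  have g' := h'.good
  obtain ⟨hyG, hfy⟩ := hy
  obtain ⟨b, hb, n, hn, σ, hσ, u, hu, e⟩ := normal_form_exists h hyG
  have hPU : D.posUnipotent F = UP F g (fun r => D.IsPosRoot r) := posUnipotent_eq g
  have hfU : ∀ z ∈ D.posUnipotent F, f z ∈ D.posUnipotent F := by
    rw [hPU]
    exact fun z hz => map_UP T (fun r hr => ⟨hr.1, (pos_iff_p h h' ok T hr.1).2 hr⟩) hz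
  have hfB : ∀ z ∈ D.borelSubgroup F, f z ∈ D.borelSubgroup F := by
    intro z hz
    obtain ⟨v, hv, c, rfl⟩ := (mem_borel_iff g).1 hz
    have hc : tor D A c ∈ D.diagonalSubgroup F := by rw [diagonalSubgroup_eq g]; exact ⟨c, rfl⟩
    rw [T.mul _ (posUnipotent_le_group g hv) _ (diagonalSubgroup_le_group g hc)]
    exact mul_mem (pos_le_borel (hfU v hv)) ((le_sup_right : _ ≤ D.borelSubgroup F) (map_diag T hc))
  have hbG := borel_le_group g hb
  have hnG := monomialSubgroup_le_group g hn
  have huU := UP_toNeg_le g σ hu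
  have huG := posUnipotent_le_group g huU
  have hd : n⁻¹ * f n ∈ D.diagonalSubgroup F := by
    refine bruhat_unique h hb (pos_le_borel huU) (hfB b hb) (hfB u (pos_le_borel huU)) hn
      (map_monomial T hn) ?_
    rw [← T.mul _ hbG _ hnG, ← T.mul _ (mul_mem hbG hnG) _ huG, ← e, hfy]
  obtain ⟨n₀, n₀', c, σ', rfl, hp₀, hm₀, hA₀, hperm⟩ := weyl_pair h h' ok T hn hσ hd
  have hn₀ : n₀ ∈ D.monomialSubgroup F := by
    have := mul_mem hn (inv_mem (tor_mem_monomial g c))
    rwa [mul_inv_cancel_right] at this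
  have hf₀ : f n₀ = n₀ := (pair_le h h' ok T hp₀).1.2
  have hσ₀ : Acts g n₀ σ := by
    have := hσ.mul (acts_tor g c⁻¹)
    rwa [map_inv, mul_inv_cancel_right] at this
  obtain ⟨c', hc'⟩ := monomial_conj_tor g hn₀ c
  set b₀ := b * tor D A c' with hb₀def
  have hb₀ : b₀ ∈ D.borelSubgroup F := mul_mem hb (tor_mem_borel g _)
  have e' : y = b₀ * n₀ * u := by
    rw [e, hb₀def, ← hc']
    group
  have hfu : f u ∈ UP F g (toNeg D σ) := by
    refine map_UP T (fun r hr => ⟨hr.1.1, (pos_iff_p h h' ok T hr.1.1).2 hr.1, ?_⟩) hu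
    rw [sigma_comm h h' ok T hn hσ hd hr.1.1]
    refine isNeg_of_not_pos g (T.root _ (hσ.map.1 _ hr.1.1)).1 ?_
    rw [pos_iff_p h h' ok T (hσ.map.1 _ hr.1.1)]
    exact not_pos_of_isNeg g hr.2
  have e2 : f b₀ * n₀ * f u = b₀ * n₀ * u := by
    have hb₀G := borel_le_group g hb₀
    have hn₀G := monomialSubgroup_le_group g hn₀
    rw [← e']
    conv_rhs => rw [← hfy, e', T.mul _ (mul_mem hb₀G hn₀G) _ huG, T.mul _ hb₀G _ hn₀G, hf₀]
  obtain ⟨hbfix, hufix⟩ := normal_form_unique h hσ₀ (hfB _ hb₀) hb₀ hfu hu e2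
  obtain ⟨v, hv, a, hva⟩ := (mem_borel_iff g).1 hb₀
  have haD : tor D A a ∈ D.diagonalSubgroup F := by rw [diagonalSubgroup_eq g]; exact ⟨a, rfl⟩
  have e3 : f v * f (tor D A a) = v * tor D A a := by
    rw [← T.mul _ (posUnipotent_le_group g hv) _ (diagonalSubgroup_le_group g haD), ← hva, hbfix]
  have e4 : v⁻¹ * f v = 1 := by
    refine Subgroup.mem_bot.1 ((posUnipotent_inf_diagonal (F := F) h).le (Subgroup.mem_inf.2
      ⟨mul_mem (inv_mem hv) (hfU v hv), ?_⟩))
    rw [show v⁻¹ * f v = tor D A a * (f (tor D A a))⁻¹ by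
      rw [eq_mul_inv_iff_mul_eq, mul_assoc, e3, inv_mul_cancel_left]]
    exact mul_mem haD (inv_mem (map_diag T haD))
  have hfv : f v = v := (inv_mul_eq_one.1 e4).symm
  have hfa : f (tor D A a) = tor D A a := by rw [hfv] at e3; exact mul_left_cancel e3
  obtain ⟨B, hB⟩ := exists_ht_bound D A
  have hbound : ∀ r < D.nroots, A.ht D.rank r < 1 + B.toNat := fun r hr => by
    have := hB r hr; omega
  obtain ⟨v', hv1, hv2, hv3⟩ :=
    unip_pair h h' ok T B.toNat le_rfl hbound (by rw [← atLeast_zero_one h]; exact hv) hfv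
  obtain ⟨u', hu1, hu2, hu3⟩ :=
    unip_pair h h' ok T B.toNat le_rfl hbound (by rw [← atLeast_zero_one h]; exact huU) hufix
  obtain ⟨c₁, hc1, -⟩ := torus_pair h h' ok T hU hfa
  refine ⟨v' * tor D' A' c₁ * n₀' * u', ?_, fun ez => ?_⟩
  · have := mul_mem (mul_mem (mul_mem hv1 hc1) hp₀) hu1
    simpa [Prod.mk_mul_mk, e', hva] using this
  rw [← atLeast_zero_one h'] at hv2 hu2
  have hB' : n₀' ∈ D'.borelSubgroup F := by
    rw [show n₀' = (v' * tor D' A' c₁)⁻¹ * (v' * tor D' A' c₁ * n₀' * u') * u'⁻¹ by group, ez,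
      mul_one]
    exact mul_mem (inv_mem (mul_mem (pos_le_borel hv2) (tor_mem_borel g' _)))
      (inv_mem (pos_le_borel hu2))
  have hH' : n₀' ∈ D'.diagonalSubgroup F := by
    rw [← borel_inf_monomial h']; exact Subgroup.mem_inf.2 ⟨hB', hm₀⟩
  rw [diagonalSubgroup_eq g'] at hH'
  obtain ⟨c₂, rfl⟩ := hH'
  have hσid : ∀ a < D'.nroots, (d.orbAt a).Perm ((d.orbAt a).map σ) := fun a ha => by
    simpa [hA₀.unique (acts_tor g' c₂) ha] using hperm a ha
  have hn₀H : n₀ ∈ D.diagonalSubgroup F := by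
    refine diag_of_simple_pos h hn₀ hσ₀ fun j hj => ?_
    obtain ⟨i, hi, hji⟩ := ok.node_cover j hj
    have hm : σ (D.simple j) ∈ d.orbAt (D'.simple i) :=
      (hσid _ (g'.simple_lt i hi)).symm.subset (List.mem_map.2
        ⟨_, by rw [ok.orb_simple i hi]; exact List.mem_map.2 ⟨j, hji, rfl⟩, rfl⟩)
    rw [ok.orb_simple i hi] at hm
    obtain ⟨k, hk, ek⟩ := List.mem_map.1 hm
    rw [← ek]
    exact simple_pos g (ok.node_lt i hi k hk)
  rw [diagonalSubgroup_eq g] at hn₀H
  obtain ⟨a₂, rfl⟩ := hn₀H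
  have hu0 : u = 1 := Subgroup.mem_bot.1 ((show UP F g (toNeg D σ) ≤ ⊥ from UP_le fun r t hr =>
    absurd hr.1 (not_pos_of_isNeg g (by simpa [hσ₀.unique (acts_tor g a₂) hr.1.1] using hr.2))) hu)
  subst hu0
  have hu' := pair_one h h' ok T hu1
  subst hu'
  rw [mul_one, mul_assoc, ← map_mul] at ez
  have hv' : v' = 1 := by
    refine Subgroup.mem_bot.1 ((posUnipotent_inf_diagonal (F := F) h').le (Subgroup.mem_inf.2
      ⟨hv2, ?_⟩))
    rw [eq_inv_of_mul_eq_one_left ez, diagonalSubgroup_eq g']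
    exact inv_mem ⟨_, rfl⟩
  have hv0 := hv3 hv'
  subst hv0
  rw [hv', one_mul] at ez
  have hp12 : (tor D A (a * a₂), tor D' A' (c₁ * c₂)) ∈ pairG F g g' d := by
    simpa [Prod.mk_mul_mk] using mul_mem hc1 hp₀
  obtain ⟨c₃, hc3, hk3⟩ := torus_pair h h' ok T hU (pair_le h h' ok T hp12).1.2
  have ht : tor D A (a * a₂) = 1 := hk3 (by rw [← pair_snd_unique h h' ok T hp12 hc3, ez])
  rw [e', hva, one_mul, mul_one, ← map_mul, ht]

/-- The fixed points are isomorphic to the smaller group. -/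
theorem fix_equiv (hU : Unimodular D') : Nonempty (↥(fixG T) ≃* ↥(D'.group F)) := by
  have g' := h'.good
  let P := pairG F h.good g' d
  let π₁ : ↥P →* ↥(fixG T) :=
    ((MonoidHom.fst _ _).comp P.subtype).codRestrict (fixG T) fun z => (pair_le h h' ok T z.2).1
  let π₂ : ↥P →* ↥(D'.group F) :=
    ((MonoidHom.snd _ _).comp P.subtype).codRestrict (D'.group F) fun z => (pair_le h h' ok T z.2).2.1
  have b₁ : Function.Bijective π₁ := by
    refine ⟨(injective_iff_map_eq_one π₁).2 fun z hz => ?_, fun y => ?_⟩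
    · obtain ⟨⟨y, w⟩, hz'⟩ := z
      obtain rfl : y = 1 := congrArg Subtype.val hz
      exact Subtype.ext (Prod.ext rfl (pair_one h h' ok T hz'))
    · obtain ⟨w, hw, -⟩ := fix_pair h h' ok T hU y.2
      exact ⟨⟨(y.1, w), hw⟩, rfl⟩
  have b₂ : Function.Bijective π₂ := by
    refine ⟨(injective_iff_map_eq_one π₂).2 fun z hz => ?_, fun w => ?_⟩
    · obtain ⟨⟨y, w⟩, hz'⟩ := z
      obtain rfl : w = 1 := congrArg Subtype.val hz
      obtain ⟨w', hw', hk⟩ := fix_pair h h' ok T hU (pair_le h h' ok T hz').1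
      exact Subtype.ext (Prod.ext (hk (pair_snd_unique h h' ok T hw' hz')) rfl)
    · have hle : D'.group F ≤ P.map (MonoidHom.snd _ _) := by
        refine ChevField.group_le_of_simple g' (fun i hi t => ?_) fun i hi t => ?_
        · exact ⟨_, gen_mem h h' ok hi (by simp) t, rfl⟩
        · exact ⟨_, gen_mem h h' ok hi (a := A'.neg (D'.simple i)) (by simp) t,
            by rw [g'.neg_eq _ (g'.simple_lt i hi)]; rfl⟩
      obtain ⟨z, hz, e⟩ := hle w.2
      exact ⟨⟨z, hz⟩, Subtype.ext e⟩
  exact ⟨(MulEquiv.ofBijective π₁ b₁).symm.trans (MulEquiv.ofBijective π₂ b₂)⟩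

end Pairs

end CfsgLib.KnownB.ChevFold
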