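import Cfsg.Agent.Lib.KnownB.ChevHeight
import Cfsg.Agent.Lib.Chev.WeylN

/-!
Folding of a Chevalley datum onto a smaller one along orbits of roots: the finite checks on the tables,
and the embedding of the smaller Lie algebra that intertwines the orbit products with root elements.
-/

set_option autoImplicit false

namespace CfsgLib.KnownB.ChevFold

open Cfsg.Lie Matrix CfsgLib.Chev CfsgLib.KnownB.ChevHeight

/-- The orbits of nodes and roots over those of the smaller datum, and the embedded coordinates. -/
structure Fold where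
  node : List (List ℕ)
  orb : List (List ℕ)
  emb : List (List (ℕ × ℤ))

namespace Fold

variable (d : Fold)

/-- The nodes over a node. -/
def nodeAt (i : ℕ) : List ℕ := d.node.getD i []
/-- The roots over a root. -/
def orbAt (a : ℕ) : List ℕ := d.orb.getD a []
/-- The image of a coordinate. -/
def embAt (c : ℕ) : List (ℕ × ℤ) := d.emb.getD c []

end Fold

/-- Apply `x_r(t)` for symbolic `t`: keys are coordinates and degrees. -/
noncomputable def appP (A : Aux) (l n r : ℕ) (v : List ((ℕ × ℕ) × ℤ)) : List ((ℕ × ℕ) × ℤ) :=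
  scompact (v.flatMap fun p =>
    p :: (A.col l n r p.1.1).map fun q => ((q.1, p.1.2 + q.2.2), p.2 * q.2.1))

variable (D : ChevalleyDatum) (A : Aux) (D' : ChevalleyDatum) (A' : Aux) (d : Fold)

/-- Orbits partition, preserve heights, and start at the fundamental roots. -/
noncomputable def orbChk : Bool :=
  d.orb.length == D'.nroots && d.orb.flatten.isPerm (List.range D.nroots) &&
  d.node.length == D'.rank && d.node.flatten.isPerm (List.range D.rank) &&
  (List.range D'.nroots).all (fun a =>
    !(d.orbAt a).isEmpty && (d.orbAt a).all fun r => decide (A.ht D.rank r = A'.ht D'.rank a)) &&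
  (List.range D'.rank).all fun i =>
    decide (d.orbAt (D'.simple i) = (d.nodeAt i).map D.simple) &&
    decide (d.orbAt (A'.neg (D'.simple i)) = (d.nodeAt i).map fun j => A.neg (D.simple j))

/-- Nodes in one orbit are orthogonal. -/
noncomputable def orthChk : Bool :=
  (List.range D'.rank).all fun i => (d.nodeAt i).all fun j => (d.nodeAt i).all fun k => j == k ||
    (A.refl j (D.simple k) == D.simple k &&
      [D.simple j, A.neg (D.simple j)].all fun a => [D.simple k, A.neg (D.simple k)].all fun b =>
        b != a && b != A.neg a && (A.terms a b).isEmpty)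

/-- Reflections and Cartan integers fold. -/
noncomputable def reflChk : Bool :=
  ((List.range D'.rank).all fun i =>
    ((List.range D.nroots).all fun r => wf A (d.nodeAt i ++ d.nodeAt i) r == r) &&
    (List.range D'.nroots).all fun a =>
      (d.orbAt (A'.refl i a)).isPerm ((d.orbAt a).map (wf A (d.nodeAt i)))) &&
  (List.range D'.rank).all fun i => (List.range D'.rank).all fun i' => (d.nodeAt i').all fun j =>
    decide (((d.nodeAt i).map fun k => A.cart k (D.simple j)).sum = A'.cart i (D'.simple i'))

/-- Every embedded coordinate has a row of its own. -/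
noncomputable def pivotChk : Bool :=
  d.emb.length == D'.rank + D'.nroots &&
  (List.range (D'.rank + D'.nroots)).all fun c =>
    match d.embAt c with
    | [] => false
    | (p, v) :: rest => Nat.blt p (D.rank + D.nroots) && (v == 1 || v == -1) &&
        (List.range (D'.rank + D'.nroots)).all fun c' =>
          (bif c' == c then rest else d.embAt c').all fun e => e.1 != p

/-- The embedding intertwines the orbit products of `±` fundamental roots with root elements. -/
noncomputable def interChk : Bool :=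
  (List.range D'.rank).all fun i => [D'.simple i, A'.neg (D'.simple i)].all fun a =>
    (List.range (D'.rank + D'.nroots)).all fun c =>
      seq' ((d.orbAt a).foldr (appP A D.rank D.nroots) ((d.embAt c).map fun p => ((p.1, 0), p.2)))
        (((d.embAt c).map fun p => ((p.1, 0), p.2)) ++
          (A'.col D'.rank D'.nroots a c).flatMap fun q =>
            (d.embAt q.1).map fun p => ((p.1, q.2.2), q.2.1 * p.2))

/-- All checks. -/
noncomputable def foldChk : Bool :=
  orbChk D A D' A' d && orthChk D A D' d && reflChk D A D' A' d && pivotChk D D' d &&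
    interChk D A D' A' d && cartGcdChk D A && cartGcdChk D' A'

variable {D A D' A' d} {F : Type*} [Field F]

/-- The checks in usable form. -/
structure FoldOK (D : ChevalleyDatum) (A : Aux) (D' : ChevalleyDatum) (A' : Aux) (d : Fold) :
    Prop where
  gcd : cartGcdChk D A = true
  gcd' : cartGcdChk D' A' = true
  orb_lt : ∀ a < D'.nroots, ∀ r ∈ d.orbAt a, r < D.nroots
  orb_ne : ∀ a < D'.nroots, d.orbAt a ≠ []
  orb_nodup : ∀ a < D'.nroots, (d.orbAt a).Nodup
  orb_cover : ∀ r < D.nroots, ∃ a < D'.nroots, r ∈ d.orbAt a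
  orb_unique : ∀ a < D'.nroots, ∀ b < D'.nroots, ∀ r, r ∈ d.orbAt a → r ∈ d.orbAt b → a = b
  orb_ht : ∀ a < D'.nroots, ∀ r ∈ d.orbAt a, A.ht D.rank r = A'.ht D'.rank a
  node_lt : ∀ i < D'.rank, ∀ j ∈ d.nodeAt i, j < D.rank
  node_nodup : ∀ i < D'.rank, (d.nodeAt i).Nodup
  node_cover : ∀ j < D.rank, ∃ i < D'.rank, j ∈ d.nodeAt i
  orb_simple : ∀ i < D'.rank, d.orbAt (D'.simple i) = (d.nodeAt i).map D.simple
  orb_neg : ∀ i < D'.rank,
    d.orbAt (A'.neg (D'.simple i)) = (d.nodeAt i).map fun j => A.neg (D.simple j)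
  orth : ∀ i < D'.rank, ∀ j ∈ d.nodeAt i, ∀ k ∈ d.nodeAt i, j ≠ k →
    A.refl j (D.simple k) = D.simple k ∧
      ∀ a ∈ [D.simple j, A.neg (D.simple j)], ∀ b ∈ [D.simple k, A.neg (D.simple k)],
        b ≠ a ∧ b ≠ A.neg a ∧ A.terms a b = []
  square : ∀ i < D'.rank, ∀ r < D.nroots, wf A (d.nodeAt i ++ d.nodeAt i) r = r
  refl : ∀ i < D'.rank, ∀ a < D'.nroots,
    (d.orbAt (A'.refl i a)).Perm ((d.orbAt a).map (wf A (d.nodeAt i)))
  cart : ∀ i < D'.rank, ∀ i' < D'.rank, ∀ j ∈ d.nodeAt i',
    ((d.nodeAt i).map fun k => A.cart k (D.simple j)).sum = A'.cart i (D'.simple i')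
  emb_len : d.emb.length = D'.rank + D'.nroots
  pivot : ∀ c < D'.rank + D'.nroots, ∃ p v rest, d.embAt c = (p, v) :: rest ∧
    p < D.rank + D.nroots ∧ (v = 1 ∨ v = -1) ∧ (∀ e ∈ rest, e.1 ≠ p) ∧
      ∀ c' < D'.rank + D'.nroots, c' ≠ c → ∀ e ∈ d.embAt c', e.1 ≠ p
  inter : ∀ i < D'.rank, ∀ a ∈ [D'.simple i, A'.neg (D'.simple i)], ∀ c < D'.rank + D'.nroots,
    seq' ((d.orbAt a).foldr (appP A D.rank D.nroots) ((d.embAt c).map fun p => ((p.1, 0), p.2)))
      (((d.embAt c).map fun p => ((p.1, 0), p.2)) ++
        (A'.col D'.rank D'.nroots a c).flatMap fun q =>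
          (d.embAt q.1).map fun p => ((p.1, q.2.2), q.2.1 * p.2)) = true

theorem getD_mem_flatten {L : List (List ℕ)} {a : ℕ} {r : ℕ} (h : r ∈ L.getD a []) :
    r ∈ L.flatten := by
  rw [List.getD_eq_getElem?_getD] at h
  rcases ha : L[a]? with _ | l
  · simp [ha] at h
  · simp only [ha, Option.getD_some] at h
    exact List.mem_flatten.2 ⟨l, List.mem_of_getElem? ha, h⟩

theorem getD_flatten_spec {L : List (List ℕ)} (hnd : L.flatten.Nodup) :
    (∀ a, (L.getD a []).Nodup) ∧ (∀ r ∈ L.flatten, ∃ a < L.length, r ∈ L.getD a []) ∧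
      ∀ a b r, r ∈ L.getD a [] → r ∈ L.getD b [] → a = b := by
  obtain ⟨h1, h2⟩ := List.nodup_flatten.1 hnd
  refine ⟨fun a => ?_, fun r hr => ?_, fun a b r ha hb => ?_⟩
  · rw [List.getD_eq_getElem?_getD]
    rcases ha : L[a]? with _ | l
    · simp
    · exact h1 l (List.mem_of_getElem? ha)
  · obtain ⟨l, hl, hr⟩ := List.mem_flatten.1 hr
    obtain ⟨a, ha, rfl⟩ := List.getElem_of_mem hl
    exact ⟨a, ha, by simpa [List.getD_eq_getElem?_getD, ha] using hr⟩
  · rw [List.getD_eq_getElem?_getD] at ha hb
    rcases hla : L[a]? with _ | la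
    · simp [hla] at ha
    rcases hlb : L[b]? with _ | lb
    · simp [hlb] at hb
    simp only [hla, hlb, Option.getD_some] at ha hb
    obtain ⟨ha', ea⟩ := List.getElem?_eq_some_iff.1 hla
    obtain ⟨hb', eb⟩ := List.getElem?_eq_some_iff.1 hlb
    by_contra hne
    rcases Nat.lt_or_gt_of_ne hne with hab | hab
    · exact List.pairwise_iff_getElem.1 h2 a b ha' hb' hab (ea ▸ ha) (eb ▸ hb)
    · exact List.pairwise_iff_getElem.1 h2 b a hb' ha' hab (eb ▸ hb) (ea ▸ ha)

theorem foldOK_of_chk (hc : foldChk D A D' A' d = true) : FoldOK D A D' A' d := by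
  simp only [foldChk, Bool.and_eq_true] at hc
  obtain ⟨⟨⟨⟨⟨⟨h1, h2⟩, h3⟩, h4⟩, h5⟩, h6⟩, h7⟩ := hc
  simp only [orbChk, Bool.and_eq_true, beq_iff_eq, List.all_eq_true, List.mem_range,
    List.isPerm_iff, decide_eq_true_eq, Bool.not_eq_true', List.isEmpty_eq_false_iff] at h1
  obtain ⟨⟨⟨⟨⟨hol, hop⟩, hnl⟩, hnp⟩, hoh⟩, hos⟩ := h1
  obtain ⟨ho1, ho2, ho3⟩ := getD_flatten_spec (hop.nodup_iff.2 List.nodup_range)
  obtain ⟨hn1, hn2, -⟩ := getD_flatten_spec (hnp.nodup_iff.2 List.nodup_range)
  simp only [orthChk, List.all_eq_true, List.mem_range, Bool.or_eq_true, beq_iff_eq,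
    Bool.and_eq_true, bne_iff_ne, List.isEmpty_iff] at h2
  simp only [reflChk, Bool.and_eq_true, List.all_eq_true, List.mem_range, beq_iff_eq,
    List.isPerm_iff, decide_eq_true_eq] at h3
  simp only [pivotChk, Bool.and_eq_true, beq_iff_eq, List.all_eq_true, List.mem_range] at h4
  simp only [interChk, List.all_eq_true, List.mem_range] at h5
  exact
    { gcd := h6
      gcd' := h7
      orb_lt := fun a _ r hr => List.mem_range.1 (hop.subset (getD_mem_flatten hr))
      orb_ne := fun a ha => (hoh a ha).1
      orb_nodup := fun a _ => ho1 a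
      orb_cover := fun r hr => by
        obtain ⟨a, ha, h⟩ := ho2 r (hop.symm.subset (List.mem_range.2 hr))
        exact ⟨a, hol ▸ ha, h⟩
      orb_unique := fun a _ b _ r => ho3 a b r
      orb_ht := fun a ha => (hoh a ha).2
      node_lt := fun i _ j hj => List.mem_range.1 (hnp.subset (getD_mem_flatten hj))
      node_nodup := fun i _ => hn1 i
      node_cover := fun j hj => by
        obtain ⟨a, ha, h⟩ := hn2 j (hnp.symm.subset (List.mem_range.2 hj))
        exact ⟨a, hnl ▸ ha, h⟩
      orb_simple := fun i hi => (hos i hi).1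
      orb_neg := fun i hi => (hos i hi).2
      orth := fun i hi j hj k hk hjk => by
        have h := (h2 i hi j hj k hk).resolve_left hjk
        exact ⟨h.1, fun a ha b hb => ⟨(h.2 a ha b hb).1.1, (h.2 a ha b hb).1.2, (h.2 a ha b hb).2⟩⟩
      square := fun i hi => (h3.1 i hi).1
      refl := fun i hi => (h3.1 i hi).2
      cart := h3.2
      emb_len := h4.1
      pivot := fun c hc => by
        have h := h4.2 c hc
        rcases he : d.embAt c with _ | ⟨⟨p, v⟩, rest⟩
        · rw [he] at h; simp at h
        simp only [he, Bool.and_eq_true, Bool.or_eq_true, beq_iff_eq, List.all_eq_true,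
          List.mem_range, Nat.blt_eq] at h
        refine ⟨p, v, rest, rfl, h.1.1, h.1.2, ?_, fun c' hc' hne => ?_⟩
        · have := h.2 c hc
          simpa using this
        · have := h.2 c' hc'
          simpa [beq_eq_false_iff_ne.2 hne] using this
      inter := h5 }

variable (F) in
/-- The embedding matrix. -/
noncomputable def embM (D D' : ChevalleyDatum) (d : Fold) : Matrix D.Idx D'.Idx F :=
  fun x y => sval (ev D F) (d.embAt (idx D' y)) x

theorem embM_mulVec (ok : FoldOK D A D' A' d) (c : ℕ) :
    embM F D D' d *ᵥ ev D' F c = sval (ev D F) (d.embAt c) := by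
  rcases lt_or_ge c (D'.rank + D'.nroots) with hc | hc
  · obtain ⟨y, rfl⟩ := exists_idx hc
    funext x
    simp [Matrix.mulVec, dotProduct, ev_single, Pi.single_apply, embM]
  · rw [ev_eq_zero hc, Matrix.mulVec_zero, Fold.embAt,
      List.getD_eq_default _ _ (show d.emb.length ≤ c by have := ok.emb_len; omega), sval_nil]

theorem sval_ev_apply_eq_zero {x : D.Idx} : ∀ {l : List (ℕ × ℤ)},
    (∀ e ∈ l, e.1 ≠ idx D x) → sval (ev D F) l x = 0
  | [], _ => by simp [sval]
  | e :: l, h => by
    rw [sval_cons, Pi.add_apply, sval_ev_apply_eq_zero fun e' he' => h e' (List.mem_cons_of_mem _ he'),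
      add_zero]
    simp [ev, Ne.symm (h e List.mem_cons_self)]

theorem embM_cancel (ok : FoldOK D A D' A' d) {z z' : Matrix D'.Idx D'.Idx F}
    (e : embM F D D' d * z = embM F D D' d * z') : z = z' := by
  ext y w
  obtain ⟨p, v, rest, he, hp, hv, hrest, hoth⟩ := ok.pivot _ (idx_lt y)
  obtain ⟨x, rfl⟩ := exists_idx hp
  have key : ∀ u : Matrix D'.Idx D'.Idx F, (embM F D D' d * u) x w = (v : F) * u y w := by
    intro u
    rw [Matrix.mul_apply, Finset.sum_eq_single y]
    · congr 1
      rw [embM, he, sval_cons, Pi.add_apply, show sval (ev D F) rest x = 0 from ?_, add_zero]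
      · simp [ev]
      · exact sval_ev_apply_eq_zero hrest
    · intro y' _ hne
      have h0 : embM F D D' d x y' = 0 := by
        have hall := hoth _ (idx_lt y') fun e => hne (idx_inj e)
        exact sval_ev_apply_eq_zero hall
      rw [h0, zero_mul]
    · simp
  have h1 := congrFun (congrFun e x) w
  rw [key, key] at h1
  rcases hv with rfl | rfl <;> simpa using h1

variable (D F) in
/-- A coordinate vector scaled by a power of `t`. -/
noncomputable def ev2 (t : F) (k : ℕ × ℕ) : D.Idx → F := t ^ k.2 • ev D F k.1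

theorem sval_appP (g : Good D A) {r : ℕ} (hr : r < D.nroots) (t : F) (v : List ((ℕ × ℕ) × ℤ)) :
    sval (ev2 D F t) (appP A D.rank D.nroots r v) = D.x F r t *ᵥ sval (ev2 D F t) v := by
  rw [appP, sval_scompact]
  induction v with
  | nil => simp [sval]
  | cons p v ih =>
    rw [List.flatMap_cons, sval_append, ih, sval_cons, sval_cons, Matrix.mulVec_add]
    congr 1
    rw [Matrix.mulVec_smul]
    conv_rhs => rw [ev2, Matrix.mulVec_smul, x_mulVec g hr, smul_add, smul_add]
    congr 1
    simp only [sval, tval, List.map_map, List.smul_sum, Function.comp_def, ev2]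
    congr 1
    refine List.map_congr_left fun q _ => ?_
    rw [← Int.cast_smul_eq_zsmul F, ← Int.cast_smul_eq_zsmul F, smul_smul, smul_smul, smul_smul]
    push_cast
    congr 1
    ring

/-- The product of the root elements of an orbit, with one parameter. -/
noncomputable def XL (g : Good D A) (L : List ℕ) (t : F) : GL D.Idx F :=
  (L.map fun r => xG g r t).prod

theorem sval_foldr (g : Good D A) (t : F) : ∀ {L : List ℕ}, (∀ r ∈ L, r < D.nroots) →
    ∀ v : List ((ℕ × ℕ) × ℤ), sval (ev2 D F t) (L.foldr (appP A D.rank D.nroots) v) =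
      ((XL g L t : GL D.Idx F) : Matrix D.Idx D.Idx F) *ᵥ sval (ev2 D F t) v
  | [], _, v => by simp [XL]
  | r :: L, h, v => by
    rw [List.foldr_cons, sval_appP g (h r List.mem_cons_self),
      sval_foldr g t (fun s hs => h s (List.mem_cons_of_mem _ hs)) v, XL, XL, List.map_cons,
      List.prod_cons, Units.val_mul, xG_val, Matrix.mulVec_mulVec]

/-- The orbit product of `±` a fundamental root intertwines with the root element. -/
theorem inter (g : Good D A) (g' : Good D' A') (ok : FoldOK D A D' A' d) {i a : ℕ}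
    (hi : i < D'.rank) (ha : a ∈ [D'.simple i, A'.neg (D'.simple i)]) (t : F) :
    ((XL g (d.orbAt a) t : GL D.Idx F) : Matrix D.Idx D.Idx F) * embM F D D' d =
      embM F D D' d * D'.x F a t := by
  have ha' : a < D'.nroots := by
    simp only [List.mem_cons, List.not_mem_nil, or_false] at ha
    rcases ha with rfl | rfl
    exacts [g'.simple_lt i hi, g'.neg_lt _ (g'.simple_lt i hi)]
  ext x y
  have h1 : ∀ c, sval (ev2 D F t) ((d.embAt c).map fun p => ((p.1, 0), p.2)) =
      embM F D D' d *ᵥ ev D' F c := by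
    intro c
    rw [embM_mulVec ok]
    simp [sval, List.map_map, Function.comp_def, ev2]
  have h2 : ∀ M : List (ℕ × ℤ × ℕ), sval (ev2 D F t) (M.flatMap fun q =>
      (d.embAt q.1).map fun p => ((p.1, q.2.2), q.2.1 * p.2)) =
        embM F D D' d *ᵥ tval D' t M := by
    intro M
    induction M with
    | nil => simp [sval, tval]
    | cons q M ih =>
      rw [List.flatMap_cons, sval_append, ih, tval_cons, Matrix.mulVec_add, Matrix.mulVec_smul,
        embM_mulVec ok]
      congr 1
      simp only [sval, List.map_map, Function.comp_def, ev2, List.smul_sum]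
      congr 1
      refine List.map_congr_left fun p _ => ?_
      rw [← Int.cast_smul_eq_zsmul F, ← Int.cast_smul_eq_zsmul F, smul_smul, smul_smul]
      push_cast
      congr 1
      ring
  have h3 := sval_eq_of_seq (ev2 D F t) (ok.inter i hi a ha _ (idx_lt y))
  rw [sval_foldr g t (ok.orb_lt a ha'), sval_append, h1, h2, ← Matrix.mulVec_add,
    ← x_mulVec g' ha', Matrix.mulVec_mulVec, Matrix.mulVec_mulVec, ev_single] at h3
  simpa [Matrix.mulVec_single] using congrFun h3 x

end CfsgLib.KnownB.ChevFold
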