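import Mathlib

/-!
Characters of elementary abelian subgroups occurring in a representation in cross characteristic.
-/

set_option autoImplicit false

namespace CfsgLib.KnownB.CrossBound

open Matrix

variable {F : Type*} [Field F] [Fintype F] {K : Type*} [Field K]

theorem exists_addChar (hK : ringChar K ≠ ringChar F) :
    ∃ ψ : AddChar F (AlgebraicClosure K), ψ ≠ 1 := by
  let P := AddChar.FiniteField.primitiveChar F K hK
  haveI : Module.Finite K (CyclotomicField P.n K) := inferInstanceAs (Module.Finite K (Polynomial.SplittingField (Polynomial.cyclotomic (P.n : ℕ) K)))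
  let i : CyclotomicField P.n K →ₐ[K] AlgebraicClosure K := IsAlgClosed.lift
  refine ⟨(i : CyclotomicField P.n K →+* AlgebraicClosure K).toMonoidHom.compAddChar P.char, fun h => ?_⟩
  have h1 : P.char ≠ 1 := by
    intro h1
    exact P.prim one_ne_zero (by ext x; simp [AddChar.mulShift_apply, h1])
  obtain ⟨x, hx⟩ := AddChar.ne_one_iff.1 h1
  apply hx
  have := DFunLike.congr_fun h x
  rw [AddChar.one_apply] at this
  exact (i : CyclotomicField P.n K →+* AlgebraicClosure K).injective (by rw [map_one]; exact this)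

variable [DecidableEq F]

theorem sum_char {L : Type*} [Field L] {ψ : AddChar F L} (hψ : ψ ≠ 1) {m : ℕ} (x : Fin m → F) :
    ∑ a : Fin m → F, ψ (a ⬝ᵥ x) = if x = 0 then (Fintype.card (Fin m → F) : L) else 0 := by
  split_ifs with h
  · subst h; simp
  · obtain ⟨i, hi⟩ : ∃ i, x i ≠ 0 := by
      by_contra hc
      push Not at hc
      exact h (funext hc)
    obtain ⟨t, ht⟩ := AddChar.ne_one_iff.1 hψ
    let χ : AddChar (Fin m → F) L :=
      { toFun := fun a => ψ (a ⬝ᵥ x)
        map_zero_eq_one' := by simp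
        map_add_eq_mul' := fun a b => by rw [add_dotProduct, AddChar.map_add_eq_mul] }
    have hχ : χ ≠ 0 := by
      intro h0
      apply ht
      have := DFunLike.congr_fun h0 (Pi.single i (t / x i))
      rw [AddChar.zero_apply] at this
      have e : (Pi.single i (t / x i) : Fin m → F) ⬝ᵥ x = t := by
        rw [single_dotProduct, div_mul_cancel₀ _ hi]
      calc ψ t = χ (Pi.single i (t / x i)) := by show ψ t = ψ _; rw [e]
        _ = 1 := this
    exact AddChar.sum_eq_zero_of_ne_one hχ

/-- The functionals occurring in a representation of `F^m`. -/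
theorem exists_spectrum (hK : ringChar K ≠ ringChar F) {m d : ℕ} (f : (Fin m → F) → GL (Fin d) K)
    (hadd : ∀ x y, f (x + y) = f x * f y) :
    ∃ S : Finset (Fin m → F), S.card ≤ d ∧ (∀ y, f y ≠ 1 → ∃ a ∈ S, a ⬝ᵥ y ≠ 0) ∧
      ∀ (h : GL (Fin d) K) (N : Matrix (Fin m) (Fin m) F), IsUnit N → (∀ x, f (N *ᵥ x) * h = h * f x) →
        ∀ a, Nᵀ *ᵥ a ∈ S → a ∈ S := by
  classical
  obtain ⟨ψ, hψ⟩ := exists_addChar (F := F) hK
  let φ : GL (Fin d) K →* Matrix (Fin d) (Fin d) (AlgebraicClosure K) :=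
    (RingHom.mapMatrix (algebraMap K (AlgebraicClosure K))).toMonoidHom.comp (Units.coeHom _)
  have hf0 : f 0 = 1 := by
    have := hadd 0 0
    rw [add_zero] at this
    exact left_eq_mul.1 this
  let ρ : (Fin m → F) → Matrix (Fin d) (Fin d) (AlgebraicClosure K) := fun x => φ (f x)
  have hρadd : ∀ x y, ρ (x + y) = ρ x * ρ y := fun x y => by
    show φ _ = φ _ * φ _
    rw [hadd, map_mul]
  have hρ0 : ρ 0 = 1 := by show φ (f 0) = 1; rw [hf0, map_one]
  have hcard : (Fintype.card (Fin m → F) : (AlgebraicClosure K)) ≠ 0 := by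
    intro h
    rw [Fintype.card_fun, Fintype.card_fin, Nat.cast_pow] at h
    have h' := eq_zero_of_pow_eq_zero h
    obtain ⟨k, -, hk⟩ := FiniteField.card F (ringChar F)
    rw [hk, Nat.cast_pow] at h'
    have h'' : ((ringChar F : ℕ) : K) = 0 := by
      apply (algebraMap K (AlgebraicClosure K)).injective
      rw [map_natCast, map_zero]
      exact eq_zero_of_pow_eq_zero h'
    have hp : (ringChar F).Prime := CharP.char_is_prime F _
    rcases hp.eq_one_or_self_of_dvd _ (ringChar.dvd h'') with h1 | h1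
    · exact CharP.ringChar_ne_one h1
    · exact hK h1
  let e : (Fin m → F) → Matrix (Fin d) (Fin d) (AlgebraicClosure K) := fun a =>
    (Fintype.card (Fin m → F) : (AlgebraicClosure K))⁻¹ • ∑ x, ψ (-(a ⬝ᵥ x)) • ρ x
  have hρe : ∀ a y, ρ y * e a = ψ (a ⬝ᵥ y) • e a := by
    intro a y
    show ρ y * (_ • ∑ x, ψ (-(a ⬝ᵥ x)) • ρ x) = _ • (_ • ∑ x, ψ (-(a ⬝ᵥ x)) • ρ x)
    rw [Matrix.mul_smul, smul_comm, Finset.mul_sum, Finset.smul_sum (r := ψ (a ⬝ᵥ y))]
    congr 1
    refine Fintype.sum_equiv (Equiv.addLeft y) _ _ fun x => ?_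
    rw [Matrix.mul_smul, ← hρadd, smul_smul, Equiv.coe_addLeft, dotProduct_add, neg_add, AddChar.map_add_eq_mul,
      ← mul_assoc, ← AddChar.map_add_eq_mul, add_neg_cancel, AddChar.map_zero_eq_one, one_mul]
  have hsum : ∑ a, e a = 1 := by
    show ∑ a : Fin m → F, _ • ∑ x, ψ (-(a ⬝ᵥ x)) • ρ x = 1
    rw [← Finset.smul_sum, Finset.sum_comm]
    have h1 : ∀ x, ∑ a : Fin m → F, ψ (-(a ⬝ᵥ x)) • ρ x =
        (if x = 0 then (Fintype.card (Fin m → F) : (AlgebraicClosure K)) else 0) • ρ x := by
      intro x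
      rw [← Finset.sum_smul]
      have h2 := sum_char hψ (-x)
      simp only [dotProduct_neg, neg_eq_zero] at h2
      rw [h2]
    simp only [h1, ite_smul, zero_smul, Finset.sum_ite_eq', Finset.mem_univ, if_true, hρ0, smul_smul,
      inv_mul_cancel₀ hcard, one_smul]
  have hev : ∀ (v : Fin d → (AlgebraicClosure K)) (a b : Fin m → F), (∀ x, ρ x *ᵥ v = ψ (a ⬝ᵥ x) • v) →
      e b *ᵥ v = if a = b then v else 0 := by
    intro v a b hv
    show (_ • ∑ x, ψ (-(b ⬝ᵥ x)) • ρ x) *ᵥ v = _
    rw [Matrix.smul_mulVec, Matrix.sum_mulVec]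
    simp only [Matrix.smul_mulVec, hv, smul_smul, ← AddChar.map_add_eq_mul]
    rw [← Finset.sum_smul, smul_smul]
    have h2 := sum_char hψ (a - b)
    have e2 : ∀ x, -(b ⬝ᵥ x) + a ⬝ᵥ x = x ⬝ᵥ (a - b) := fun x => by
      rw [dotProduct_sub, dotProduct_comm x a, dotProduct_comm x b]; ring
    simp only [e2]
    rw [h2]
    simp only [sub_eq_zero]
    split_ifs
    · rw [inv_mul_cancel₀ hcard, one_smul]
    · rw [mul_zero, zero_smul]
  let S : Finset (Fin m → F) := Finset.univ.filter fun a => ∃ v : Fin d → (AlgebraicClosure K), v ≠ 0 ∧ ∀ x, ρ x *ᵥ v = ψ (a ⬝ᵥ x) • v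
  refine ⟨S, ?_, ?_, ?_⟩
  · choose v hv0 hv using fun a : S => (Finset.mem_filter.1 a.2).2
    have hli : LinearIndependent (AlgebraicClosure K) v := by
      rw [Fintype.linearIndependent_iff]
      intro g hg b
      have h1 := congrArg (fun z => e b.1 *ᵥ z) hg
      simp only [Matrix.mulVec_sum, Matrix.mulVec_smul, Matrix.mulVec_zero, hev _ _ b.1 (hv _)] at h1
      rw [Finset.sum_eq_single b (fun a _ hab => by rw [if_neg (fun h => hab (Subtype.ext h)), smul_zero]) (by simp),
        if_pos rfl] at h1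
      exact (smul_eq_zero.1 h1).resolve_right (hv0 b)
    simpa using hli.fintype_card_le_finrank
  · intro y hy
    by_contra hc
    push Not at hc
    apply hy
    have hρy : ρ y = 1 := by
      refine Matrix.toLin'.injective (LinearMap.ext fun w => ?_)
      rw [Matrix.toLin'_apply, Matrix.toLin'_one, LinearMap.id_apply]
      have hw : ∑ a, e a *ᵥ w = w := by rw [← Matrix.sum_mulVec, hsum, Matrix.one_mulVec]
      calc ρ y *ᵥ w = ∑ a, ψ (a ⬝ᵥ y) • (e a *ᵥ w) := by
            conv_lhs => rw [← hw]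
            rw [Matrix.mulVec_sum]
            simp only [Matrix.mulVec_mulVec, hρe, Matrix.smul_mulVec]
        _ = ∑ a, e a *ᵥ w := by
            refine Finset.sum_congr rfl fun a _ => ?_
            by_cases ha : e a *ᵥ w = 0
            · rw [ha, smul_zero]
            · have : a ∈ S := Finset.mem_filter.2 ⟨Finset.mem_univ _, e a *ᵥ w, ha, fun x => by
                rw [Matrix.mulVec_mulVec, hρe, Matrix.smul_mulVec]⟩
              rw [hc a this, AddChar.map_zero_eq_one, one_smul]
        _ = w := hw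
    apply Units.ext
    rw [Units.val_one]
    exact Matrix.map_injective (algebraMap K (AlgebraicClosure K)).injective (hρy.trans (Matrix.map_one _ (map_zero _) (map_one _)).symm)
  · intro h N hN hh a ha
    obtain ⟨v, hv0, hv⟩ := (Finset.mem_filter.1 ha).2
    refine Finset.mem_filter.2 ⟨Finset.mem_univ _, φ h *ᵥ v, fun h0 => hv0 ?_, fun y => ?_⟩
    · have := congrArg (fun z => φ h⁻¹ *ᵥ z) h0
      simpa [Matrix.mulVec_mulVec, ← map_mul] using this
    · obtain ⟨x, rfl⟩ := Matrix.mulVec_surjective_iff_isUnit.2 hN y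
      have e1 : ρ (N *ᵥ x) * φ h = φ h * ρ x := by
        show φ _ * φ h = φ h * φ _
        rw [← map_mul, ← map_mul, hh]
      rw [Matrix.mulVec_mulVec, e1, ← Matrix.mulVec_mulVec, hv, Matrix.mulVec_smul, Matrix.dotProduct_mulVec,
        ← Matrix.mulVec_transpose]

/-- `SL` moves any nonzero vector to any other. -/
theorem exists_det_one {m : ℕ} (hm : 2 ≤ m) {a b : Fin m → F} (ha : a ≠ 0) (hb : b ≠ 0) :
    ∃ M : Matrix (Fin m) (Fin m) F, M.det = 1 ∧ M *ᵥ a = b := by
  have key : ∀ a b : Fin m → F, b ∉ Submodule.span F {a} → a ≠ 0 →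
      ∃ M : Matrix (Fin m) (Fin m) F, M.det = 1 ∧ M *ᵥ a = b := by
    intro a b hab ha
    have hna : a ∉ Submodule.span F {b - a} := by
      intro h
      obtain ⟨c, hc⟩ := Submodule.mem_span_singleton.1 h
      rcases eq_or_ne c 0 with rfl | hc0
      · exact ha (by simpa using hc.symm)
      · apply hab
        rw [Submodule.mem_span_singleton]
        refine ⟨1 + c⁻¹, ?_⟩
        have h2 : b - a = c⁻¹ • a := (eq_inv_smul_iff₀ hc0).2 hc
        rw [add_smul, one_smul, ← h2, add_sub_cancel]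
    obtain ⟨g, hga, hgb⟩ := Submodule.exists_dual_map_eq_bot_of_notMem hna inferInstance
    set r : Fin m → F := fun i => (g a)⁻¹ * g (Pi.single i 1) with hr
    have hrx : ∀ x, r ⬝ᵥ x = (g a)⁻¹ * g x := by
      intro x
      have hx : x = ∑ i, x i • (Pi.single i 1 : Fin m → F) := by
        funext j; simp [Pi.single_apply]
      conv_rhs => rw [hx, map_sum, Finset.mul_sum]
      simp only [dotProduct, hr, map_smul, smul_eq_mul]
      exact Finset.sum_congr rfl fun i _ => by ring
    have hgz : g (b - a) = 0 := by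
      have : g (b - a) ∈ (Submodule.span F {b - a}).map g := Submodule.mem_map_of_mem (Submodule.mem_span_singleton_self _)
      rwa [hgb, Submodule.mem_bot] at this
    refine ⟨1 + Matrix.vecMulVec (b - a) r, ?_, ?_⟩
    · rw [Matrix.vecMulVec_eq Unit, Matrix.det_one_add_replicateCol_mul_replicateRow, hrx, hgz, mul_zero, add_zero]
    · rw [Matrix.add_mulVec, Matrix.one_mulVec, Matrix.vecMulVec_mulVec, hrx, inv_mul_cancel₀ hga]
      simp
  by_cases hab : b ∈ Submodule.span F {a}
  · obtain ⟨c, hc⟩ : ∃ c, c ∉ Submodule.span F {a} := by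
      by_contra h
      push Not at h
      have h1 : Module.finrank F (Submodule.span F {a}) = 1 := finrank_span_singleton ha
      rw [Submodule.eq_top_iff'.2 h, finrank_top, Module.finrank_fin_fun] at h1
      omega
    have hc0 : c ≠ 0 := fun h => hc (h ▸ Submodule.zero_mem _)
    obtain ⟨M1, h1, h1a⟩ := key a c hc ha
    have hbc : b ∉ Submodule.span F {c} := fun h => by
      obtain ⟨t, ht⟩ := Submodule.mem_span_singleton.1 h
      rcases eq_or_ne t 0 with rfl | ht0
      · exact hb (by simpa using ht.symm)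
      · exact hc (by rw [← inv_smul_smul₀ ht0 c, ht]; exact Submodule.smul_mem _ _ hab)
    obtain ⟨M2, h2, h2a⟩ := key c b hbc hc0
    exact ⟨M2 * M1, by rw [Matrix.det_mul, h1, h2, one_mul], by rw [← Matrix.mulVec_mulVec, h1a, h2a]⟩
  · exact key a b hab ha

end CfsgLib.KnownB.CrossBound
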