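import Mathlib

/-!
Elements of alternating groups with prescribed cycle lengths.
-/

set_option autoImplicit false

namespace CfsgLib.KnownB.Cycles

open Equiv Equiv.Perm

theorem lcm_mem_range (n : ℕ) (m : Multiset ℕ) (h2 : ∀ a ∈ m, 2 ≤ a) (hsum : m.sum ≤ n)
    (heven : Even (m.sum + m.card)) : m.lcm ∈ Set.range (orderOf : alternatingGroup (Fin n) → ℕ) := by
  obtain ⟨g, hg⟩ := (Equiv.Perm.exists_with_cycleType_iff (Fin n)).2 ⟨by rwa [Fintype.card_fin], h2⟩
  refine ⟨⟨g, mem_alternatingGroup.2 ?_⟩, ?_⟩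
  · rw [sign_of_cycleType, hg]
    exact heven.neg_one_pow
  · rw [← Subgroup.orderOf_coe]
    change orderOf g = _
    rw [← lcm_cycleType g, hg]

theorem exists_cycleType (n : ℕ) (σ : alternatingGroup (Fin n)) :
    ∃ m : Multiset ℕ, (∀ a ∈ m, 2 ≤ a) ∧ m.sum ≤ n ∧ Even (m.sum + m.card) ∧ m.lcm = orderOf σ := by
  refine ⟨(σ : Perm (Fin n)).cycleType, fun a ha => two_le_of_mem_cycleType ha, ?_, ?_, ?_⟩
  · rw [sum_cycleType]
    exact (Finset.card_le_univ _).trans_eq (Fintype.card_fin n)
  · have hs := mem_alternatingGroup.1 σ.2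
    rw [sign_of_cycleType] at hs
    exact (neg_one_pow_eq_one_iff_even (by decide)).1 hs
  · rw [lcm_cycleType, Subgroup.orderOf_coe]

/-- A part whose length is divisible by a prime dividing the order. -/
theorem exists_part {r : ℕ} (hr : r.Prime) {m : Multiset ℕ} (h : r ∣ m.lcm) : ∃ a ∈ m, r ∣ a := by
  induction m using Multiset.induction_on with
  | empty => simp [hr.ne_one] at h
  | cons a s ih =>
    rw [Multiset.lcm_cons] at h
    rcases hr.dvd_mul.1 (h.trans (lcm_dvd (dvd_mul_right a s.lcm) (dvd_mul_left s.lcm a))) with h | h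
    · exact ⟨a, Multiset.mem_cons_self a s, h⟩
    · obtain ⟨b, hb, hrb⟩ := ih h
      exact ⟨b, Multiset.mem_cons_of_mem hb, hrb⟩

theorem exists_second_even {m : Multiset ℕ} (h : Even (m.sum + m.card)) {a : ℕ} (ha : Even a)
    (ham : a ∈ m) : ∃ b ∈ m.erase a, Even b := by
  by_contra hc
  push Not at hc
  have key : ∀ s : Multiset ℕ, (∀ b ∈ s, ¬ Even b) → Even (s.sum + s.card) := by
    intro s
    induction s using Multiset.induction_on with
    | empty => simp
    | cons b t ih =>
      intro hb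
      have h1 := ih fun c hc => hb c (Multiset.mem_cons_of_mem hc)
      have h2 := hb b (Multiset.mem_cons_self b t)
      rw [Multiset.sum_cons, Multiset.card_cons]
      rw [Nat.even_iff] at h1 h2 ⊢
      omega
  have h1 := key _ hc
  rw [← Multiset.cons_erase ham, Multiset.sum_cons, Multiset.card_cons] at h
  rw [Nat.even_iff] at h1 h ha
  omega

end CfsgLib.KnownB.Cycles
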