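import Cfsg.Agent.Lib.KnownB.RestrictScalars
import Cfsg.Agent.Lib.Geometry.FormTypes
import Cfsg.Agent.Lib.Classical.OrthStd

/-! The symmetric group of degree `4k+4` on even sets modulo the full set. -/

set_option autoImplicit false

namespace CfsgLib.KnownB.EvenSets

open Finset QuadraticMap CfsgLib.Geometry

abbrev K2 := ZMod 2

variable {n : ℕ}

noncomputable def pairSum {N : ℕ} (w w' : Fin N → K2) : K2 := ∑ i, ∑ j, if i < j then w i * w' j else 0

def wt {N : ℕ} (w : Fin N → K2) : ℕ := ∑ i, (w i).val

lemma val_sq (a : K2) : a.val * a.val = a.val := by fin_cases a <;> rfl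

theorem pairSum_self {N : ℕ} (w : Fin N → K2) : pairSum w w = ((wt w * (wt w - 1) / 2 : ℕ) : K2) := by
  classical
  have key : 2 * (∑ i, ∑ j, if i < j then (w i).val * (w j).val else 0) + wt w = wt w * wt w := by
    rw [wt, Finset.sum_mul_sum, two_mul]
    conv_lhs => arg 1; arg 2; rw [Finset.sum_comm]
    rw [← Finset.sum_add_distrib, ← Finset.sum_add_distrib]
    refine Finset.sum_congr rfl fun i _ => ?_
    rw [← Finset.sum_add_distrib]
    have hd : (w i).val = ∑ j, if j = i then (w i).val * (w j).val else 0 := by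
      rw [Finset.sum_ite_eq' Finset.univ i]; simp [val_sq]
    conv_lhs => arg 2; rw [hd]
    rw [← Finset.sum_add_distrib]
    refine Finset.sum_congr rfl fun j _ => ?_
    rcases lt_trichotomy i j with h | h | h
    · simp [h, h.ne', h.not_gt]
    · simp [h]
    · simp [h, h.ne, h.not_gt, mul_comm]
  have : wt w * (wt w - 1) / 2 = ∑ i, ∑ j, if i < j then (w i).val * (w j).val else 0 := by
    rw [Nat.mul_sub, mul_one]; omega
  rw [this, pairSum]
  push_cast
  simp

theorem wt_comp {N : ℕ} (w : Fin N → K2) (g : Equiv.Perm (Fin N)) : wt (w ∘ g) = wt w :=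
  Equiv.sum_comp g (fun i => (w i).val)

theorem wt_even {N : ℕ} {w : Fin N → K2} (h : ∑ i, w i = 0) : 2 ∣ wt w := by
  rw [← ZMod.natCast_eq_zero_iff (wt w) 2, wt]
  push_cast
  simpa using h

theorem pairSum_compl {N : ℕ} (hN : 4 ∣ N) {w : Fin N → K2} (h : ∑ i, w i = 0) (c : K2) :
    pairSum (fun i => w i + c) (fun i => w i + c) = pairSum w w := by
  rcases (show c = 0 ∨ c = 1 by revert c; decide) with rfl | rfl
  · simp
  rw [pairSum_self, pairSum_self]
  have e : wt (fun i => w i + 1) + wt w = N := by
    rw [wt, wt, ← Finset.sum_add_distrib]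
    have : ∀ a : K2, (a + 1).val + a.val = 1 := by decide
    simp [this]
  obtain ⟨a, ha⟩ := wt_even h
  obtain ⟨b, hb⟩ := hN
  have e2 : wt (fun i => w i + 1) = 2 * (2 * b - a) := by omega
  show (((wt fun i => w i + 1) * ((wt fun i => w i + 1) - 1) / 2 : ℕ) : K2) = _
  rw [e2, ha, mul_assoc, Nat.mul_div_cancel_left _ (by norm_num), mul_assoc, Nat.mul_div_cancel_left _ (by norm_num),
    ZMod.natCast_eq_natCast_iff']
  rw [Nat.mul_mod, Nat.mul_mod a]
  have h1 : (2 * (2 * b - a) - 1) % 2 = 1 ∨ 2 * b - a = 0 := by omega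
  have h2 : (2 * a - 1) % 2 = 1 ∨ a = 0 := by omega
  rcases h1 with h1 | h1 <;> rcases h2 with h2 | h2
  · rw [h1, h2]; omega
  · rw [h1, h2]; simp
  · rw [h1, h2]; simp; omega
  · rw [h1, h2]

def ext (v : Fin n → K2) : Fin (n + 2) → K2 := Fin.snoc (Fin.snoc v (∑ i, v i)) 0

def res (w : Fin (n + 2) → K2) : Fin n → K2 := fun i => w i.castSucc.castSucc + w (Fin.last (n + 1))

theorem sum_ext (v : Fin n → K2) : ∑ i, ext v i = 0 := by
  simp [ext, Fin.sum_univ_castSucc, CharTwo.add_self_eq_zero]

theorem ext_last (v : Fin n → K2) : ext v (Fin.last (n + 1)) = 0 := by simp [ext]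

theorem res_ext (v : Fin n → K2) : res (ext v) = v := by
  funext i; simp [res, ext]

theorem ext_res (hn : Even n) {w : Fin (n + 2) → K2} (h : ∑ i, w i = 0) :
    ext (res w) = fun i => w i + w (Fin.last (n + 1)) := by
  funext i
  induction i using Fin.lastCases with
  | last => simp [ext, CharTwo.add_self_eq_zero]
  | cast i =>
    induction i using Fin.lastCases with
    | last =>
      simp only [ext, res, Fin.snoc_castSucc, Fin.snoc_last, Finset.sum_add_distrib, Finset.sum_const, Finset.card_univ, Fintype.card_fin, nsmul_eq_mul]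
      rw [(ZMod.natCast_eq_zero_iff n 2).2 hn.two_dvd, zero_mul, add_zero]
      rw [Fin.sum_univ_castSucc, Fin.sum_univ_castSucc] at h
      linear_combination h - CharTwo.add_self_eq_zero (w (Fin.last (n + 1))) - CharTwo.add_self_eq_zero (w (Fin.last n).castSucc)
    | cast i => simp [ext, res]

noncomputable def extL : (Fin n → K2) →ₗ[K2] (Fin (n + 2) → K2) where
  toFun := ext
  map_add' v w := by
    funext i
    induction i using Fin.lastCases with
    | last => simp [ext]
    | cast i =>
      induction i using Fin.lastCases with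
      | last => simp [ext, Finset.sum_add_distrib]
      | cast i => simp [ext]
  map_smul' c v := by
    funext i
    induction i using Fin.lastCases with
    | last => simp [ext]
    | cast i =>
      induction i using Fin.lastCases with
      | last => simp [ext, Finset.mul_sum]
      | cast i => simp [ext]

noncomputable def pairBilin : LinearMap.BilinForm K2 (Fin n → K2) :=
  LinearMap.mk₂ K2 (fun v u => pairSum (ext v) (ext u))
    (fun a b u => by
      show pairSum (extL (a + b)) _ = pairSum (extL a) _ + pairSum (extL b) _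
      simp only [map_add, pairSum, Pi.add_apply, ← Finset.sum_add_distrib, ite_add_ite, add_zero, add_mul])
    (fun c a u => by
      show pairSum (extL (c • a)) _ = c • pairSum (extL a) _
      simp only [map_smul, pairSum, Pi.smul_apply, smul_eq_mul, Finset.mul_sum, mul_ite, mul_zero, mul_assoc])
    (fun v a b => by
      show pairSum _ (extL (a + b)) = pairSum _ (extL a) + pairSum _ (extL b)
      simp only [map_add, pairSum, Pi.add_apply, ← Finset.sum_add_distrib, ite_add_ite, add_zero, mul_add])
    (fun c v a => by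
      show pairSum _ (extL (c • a)) = c • pairSum _ (extL a)
      simp only [map_smul, pairSum, Pi.smul_apply, smul_eq_mul, Finset.mul_sum, mul_ite, mul_zero, mul_left_comm])

noncomputable def form : QuadraticForm K2 (Fin n → K2) := LinearMap.BilinMap.toQuadraticMap pairBilin

theorem form_apply (v : Fin n → K2) : form v = pairSum (ext v) (ext v) := rfl

theorem polar_form (v u : Fin n → K2) : polar form v u = ∑ i, ext v i * ext u i := by
  rw [form, LinearMap.BilinMap.polar_toQuadraticMap]
  show pairSum (ext v) (ext u) + pairSum (ext u) (ext v) = _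
  have h : (∑ i, ext v i) * (∑ j, ext u j) = pairSum (ext v) (ext u) + pairSum (ext u) (ext v) + ∑ i, ext v i * ext u i := by
    rw [Finset.sum_mul_sum, pairSum, pairSum]
    conv_rhs => arg 1; arg 2; rw [Finset.sum_comm]
    rw [← Finset.sum_add_distrib, ← Finset.sum_add_distrib]
    refine Finset.sum_congr rfl fun i _ => ?_
    rw [← Finset.sum_add_distrib]
    have hd : ext v i * ext u i = ∑ j, if j = i then ext v i * ext u j else 0 := by
      rw [Finset.sum_ite_eq' Finset.univ i]; simp
    rw [hd, ← Finset.sum_add_distrib]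
    refine Finset.sum_congr rfl fun j _ => ?_
    rcases lt_trichotomy i j with h | h | h
    · simp [h, h.ne', h.not_gt]
    · simp [h]
    · simp [h, h.ne, h.not_gt, mul_comm]
  rw [sum_ext, zero_mul] at h
  linear_combination -h - CharTwo.add_self_eq_zero (∑ i, ext v i * ext u i)

theorem nondeg (hn : Even n) : (polarBilin (form (n := n))).Nondegenerate := by
  classical
  refine LinearMap.IsRefl.nondegenerate_iff_separatingLeft (B := polarBilin (form (n := n)))
    (fun x y h => by rw [polarBilin_apply_apply, polar_comm]; exact h) |>.2 fun v hv => ?_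
  have hs : ∀ l, v l = ∑ i, v i := by
    intro l
    have := hv (Pi.single l 1)
    rw [polarBilin_apply_apply, polar_form, Fin.sum_univ_castSucc, Fin.sum_univ_castSucc] at this
    simp [ext, Pi.single_apply] at this
    exact CharTwo.add_eq_zero.1 this
  have h0 : ∑ i, v i = 0 := by
    conv_lhs => rw [Finset.sum_congr rfl (fun l _ => hs l)]
    simp [(ZMod.natCast_eq_zero_iff n 2).2 hn.two_dvd]
  funext l
  rw [hs l, h0]; rfl

/-- the permutation action -/
def act (g : Equiv.Perm (Fin (n + 2))) (v : Fin n → K2) : Fin n → K2 := res (ext v ∘ g.symm)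

theorem res_add_const (w : Fin (n + 2) → K2) (c : K2) : res (fun i => w i + c) = res w := by
  funext i; simp only [res]
  linear_combination CharTwo.add_self_eq_zero c

theorem act_mul (hn : Even n) (g h : Equiv.Perm (Fin (n + 2))) (v : Fin n → K2) : act (g * h) v = act g (act h v) := by
  have hsum : ∑ i, (ext v ∘ h.symm) i = 0 := by rw [← sum_ext v]; exact h.symm.sum_comp (ext v)
  simp only [act]
  rw [ext_res hn hsum]
  exact (res_add_const (ext v ∘ (g * h).symm) _).symm

theorem form_act (hn : Even n) (hN : 4 ∣ n + 2) (g : Equiv.Perm (Fin (n + 2))) (v : Fin n → K2) :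
    form (act g v) = form v := by
  have hsum : ∑ i, (ext v ∘ g.symm) i = 0 := by rw [← sum_ext v]; exact g.symm.sum_comp (ext v)
  rw [form_apply, form_apply, act, ext_res hn hsum, pairSum_compl hN hsum, pairSum_self, pairSum_self, wt_comp]

noncomputable def actEquiv (hn : Even n) : Equiv.Perm (Fin (n + 2)) →* ((Fin n → K2) ≃ₗ[K2] (Fin n → K2)) where
  toFun g :=
    { toFun := act g
      invFun := act g⁻¹
      map_add' := fun v w => by
        funext i
        show res (extL (v + w) ∘ g.symm) i = (res (extL v ∘ g.symm) + res (extL w ∘ g.symm)) i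
        rw [map_add]; simp [res]; ring
      map_smul' := fun c v => by
        funext i
        show res (extL (c • v) ∘ g.symm) i = (c • res (extL v ∘ g.symm)) i
        rw [map_smul]; simp [res]; ring
      left_inv := fun v => by
        rw [← act_mul hn, inv_mul_cancel]
        exact res_ext v
      right_inv := fun v => by
        rw [← act_mul hn, mul_inv_cancel]
        exact res_ext v }
  map_one' := LinearEquiv.ext fun v => res_ext v
  map_mul' g h := LinearEquiv.ext fun v => act_mul hn g h v

theorem actEquiv_injective (hn : Even n) (h6 : 6 ≤ n) : Function.Injective (actEquiv (n := n) hn) := by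
  classical
  rw [injective_iff_map_eq_one]
  intro g hg
  ext i : 1
  rw [Equiv.Perm.one_apply]
  have key : ∀ j, j ≠ i → g i = i ∨ g i = j := by
    intro j hj
    let w : Fin (n + 2) → K2 := fun l => if l = i ∨ l = j then 1 else 0
    have hw : ∑ l, w l = 0 := by
      simp only [w]
      rw [Finset.sum_boole, show (Finset.univ.filter fun l => l = i ∨ l = j) = {i, j} by ext; simp, Finset.card_pair hj.symm]
      rfl
    have h1 := congrArg ext (LinearEquiv.congr_fun hg (res w))
    have hsum : ∑ l, (ext (res w) ∘ g.symm) l = 0 := by rw [← sum_ext (res w)]; exact g.symm.sum_comp (ext (res w))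
    change ext (act g (res w)) = ext (res w) at h1
    rw [act, ext_res hn hsum, ext_res hn hw] at h1
    obtain ⟨c, hc⟩ : ∃ c, ∀ l, w (g.symm l) = w l + c := ⟨w (g.symm (Fin.last (n + 1))) + w (Fin.last (n + 1)), fun l => by
      have := congrFun h1 l
      simp only [Function.comp_apply] at this
      linear_combination this - CharTwo.add_self_eq_zero (w (Fin.last (n + 1))) - CharTwo.add_self_eq_zero (w (g.symm (Fin.last (n + 1))))⟩
    obtain ⟨l, hl⟩ : ∃ l, l ∉ ({i, j, g i, g j} : Finset (Fin (n + 2))) := by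
      by_contra hcon
      push Not at hcon
      have := Finset.card_le_card (fun x (_ : x ∈ Finset.univ) => hcon x)
      rw [Finset.card_univ, Fintype.card_fin] at this
      have h4 : ({i, j, g i, g j} : Finset (Fin (n + 2))).card ≤ 4 := Finset.card_le_four
      omega
    simp only [Finset.mem_insert, Finset.mem_singleton, not_or] at hl
    have hc0 : c = 0 := by
      have := hc l
      have e1 : g.symm l ≠ i := fun e => hl.2.2.1 (by rw [← e]; simp)
      have e2 : g.symm l ≠ j := fun e => hl.2.2.2 (by rw [← e]; simp)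
      simp [w, hl.1, hl.2.1, e1, e2] at this
      exact this.symm
    have := hc (g i)
    simp only [hc0, add_zero, Equiv.symm_apply_apply, w, true_or, if_true] at this
    by_contra hcon
    push Not at hcon
    simp [hcon.1, hcon.2] at this
  by_contra hgi
  obtain ⟨j, hj⟩ : ∃ j, j ∉ ({i, g i} : Finset (Fin (n + 2))) := by
    by_contra hcon
    push Not at hcon
    have := Finset.card_le_card (fun x (_ : x ∈ Finset.univ) => hcon x)
    rw [Finset.card_univ, Fintype.card_fin] at this
    have h2 : ({i, g i} : Finset (Fin (n + 2))).card ≤ 2 := Finset.card_le_two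
    omega
  simp only [Finset.mem_insert, Finset.mem_singleton, not_or] at hj
  rcases key j hj.1 with h | h
  · exact hgi h
  · exact hj.2 h.symm

/-- the character sum of the form -/
theorem sum_sign (k : ℕ) :
    ∑ v : Fin (4 * k + 2) → K2, (-1 : ℂ) ^ (form v).val = (-1) ^ (k + 1) * 2 ^ (2 * k + 1) := by
  classical
  have hn : Even (4 * k + 2) := ⟨2 * k + 1, by ring⟩
  have hsgn : ∀ w : Fin (4 * k + 2 + 2) → K2, (∑ i, w i) = 0 → Complex.I ^ wt w = (-1 : ℂ) ^ (pairSum w w).val := by
    intro w hw
    obtain ⟨a, ha⟩ := wt_even hw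
    rw [pairSum_self, ha, pow_mul, Complex.I_sq, mul_assoc, Nat.mul_div_cancel_left _ (by norm_num), ZMod.val_natCast,
      neg_one_pow_eq_pow_mod_two]
    congr 1
    rcases a with _ | a
    · rfl
    · rw [Nat.mul_mod]; have : (2 * (a + 1) - 1) % 2 = 1 := by omega
      rw [this, mul_one, Nat.mod_mod]
  let Φ : ((Fin (4 * k + 2) → K2) × K2) → (Fin (4 * k + 2 + 2) → K2) := fun p i => ext p.1 i + p.2
  have hΦ : ∀ p, ∑ i, Φ p i = 0 := fun p => by
    simp only [Φ, Finset.sum_add_distrib, sum_ext, Finset.sum_const, Finset.card_univ, Fintype.card_fin, nsmul_eq_mul, zero_add]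
    rw [(ZMod.natCast_eq_zero_iff _ 2).2 (by omega), zero_mul]
  have htot : ∑ w ∈ Finset.univ.filter (fun w : Fin (4 * k + 2 + 2) → K2 => ∑ i, w i = 0), Complex.I ^ wt w =
      2 * ∑ v : Fin (4 * k + 2) → K2, (-1 : ℂ) ^ (form v).val := by
    rw [Finset.mul_sum]
    symm
    calc ∑ v : Fin (4 * k + 2) → K2, 2 * (-1 : ℂ) ^ (form v).val
        = ∑ p : (Fin (4 * k + 2) → K2) × K2, (-1 : ℂ) ^ (form p.1).val := by
          rw [Fintype.sum_prod_type]; simp [Finset.mul_sum]
      _ = _ := by
          refine Finset.sum_bij (fun p _ => Φ p) (fun p _ => by simp [hΦ p]) (fun p _ p' _ h => ?_) (fun w hw => ?_) (fun p _ => ?_)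
          · have hl := congrFun h (Fin.last _)
            simp [Φ, ext_last] at hl
            have : ext p.1 = ext p'.1 := funext fun i => by
              have := congrFun h i
              simp only [Φ, hl] at this
              exact add_right_cancel this
            exact Prod.ext (by simpa [res_ext] using congrArg res this) hl
          · simp only [Finset.mem_filter, Finset.mem_univ, true_and] at hw
            refine ⟨(res w, w (Fin.last _)), Finset.mem_univ _, funext fun i => ?_⟩
            simp only [Φ, ext_res hn hw]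
            linear_combination CharTwo.add_self_eq_zero (w (Fin.last _))
          · rw [hsgn _ (hΦ p)]
            show _ = (-1 : ℂ) ^ (pairSum (fun i => ext p.1 i + p.2) (fun i => ext p.1 i + p.2)).val
            rw [pairSum_compl (by omega) (sum_ext _), ← form_apply]
  have hgauss : ∀ z : ℂ, ∑ w : Fin (4 * k + 2 + 2) → K2, z ^ wt w = (1 + z) ^ (4 * k + 4) := by
    intro z
    simp only [wt, ← Finset.prod_pow_eq_pow_sum]
    rw [← Fintype.prod_sum (fun (_ : Fin (4 * k + 2 + 2)) (a : K2) => z ^ a.val)]
    rw [Finset.prod_const, Finset.card_univ, Fintype.card_fin]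
    congr 1
    show ∑ a : Fin 2, z ^ (a : ℕ) = 1 + z
    simp [Fin.sum_univ_two]
  have hfil : ∑ w ∈ Finset.univ.filter (fun w : Fin (4 * k + 2 + 2) → K2 => ∑ i, w i = 0), Complex.I ^ wt w =
      ((1 + Complex.I) ^ (4 * k + 4) + (1 + -Complex.I) ^ (4 * k + 4)) / 2 := by
    rw [← hgauss, ← hgauss, ← Finset.sum_add_distrib, Finset.sum_div, Finset.sum_filter]
    refine Finset.sum_congr rfl fun w _ => ?_
    rw [neg_pow Complex.I]
    split_ifs with h
    · rw [Even.neg_one_pow (even_iff_two_dvd.2 (wt_even h))]; ring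
    · have : Odd (wt w) := by
        rw [← Nat.not_even_iff_odd, even_iff_two_dvd, ← ZMod.natCast_eq_zero_iff]
        intro h0; apply h
        rw [← h0, wt]; push_cast; simp
      rw [this.neg_one_pow]; ring
  rw [htot] at hfil
  have h4 : (1 + Complex.I) ^ 4 = -4 ∧ (1 + -Complex.I) ^ 4 = -4 := by
    constructor
    · linear_combination (Complex.I ^ 2 + 4 * Complex.I + 5) * Complex.I_sq
    · linear_combination (Complex.I ^ 2 - 4 * Complex.I + 5) * Complex.I_sq
  rw [show 4 * k + 4 = 4 * (k + 1) by ring, pow_mul, pow_mul, h4.1, h4.2, neg_pow (4 : ℂ),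
    show (4 : ℂ) = 2 ^ 2 by norm_num, ← pow_mul] at hfil
  apply mul_left_cancel₀ (two_ne_zero (α := ℂ))
  rw [hfil, show 2 * (k + 1) = (2 * k + 1) + 1 by ring, pow_succ]
  ring

theorem card_zeros (k : ℕ) :
    (Nat.card {v : Fin (4 * k + 2) → K2 // form v = 0} : ℤ) = 2 ^ (4 * k + 1) + (-1) ^ (k + 1) * 2 ^ (2 * k) := by
  classical
  have h := sum_sign k
  have : ∀ v : Fin (4 * k + 2) → K2, (-1 : ℂ) ^ (form v).val = (if form v = 0 then 2 else 0) - 1 := by
    intro v
    generalize form v = a
    rcases (show a = 0 ∨ a = 1 by revert a; decide) with rfl | rfl <;> norm_num [ZMod.val_one]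
  simp only [this, Finset.sum_sub_distrib, Finset.sum_ite, Finset.sum_const, nsmul_eq_mul, mul_zero, mul_one, add_zero,
    Finset.card_univ, Fintype.card_fun, ZMod.card, Fintype.card_fin] at h
  rw [← Fintype.card_subtype, ← Nat.card_eq_fintype_card] at h
  have h2 : (2 : ℤ) * (Nat.card {v : Fin (4 * k + 2) → K2 // form v = 0}) - 2 ^ (4 * k + 2) = (-1) ^ (k + 1) * 2 ^ (2 * k + 1) := by
    have hc : ((((2 : ℤ) * (Nat.card {v : Fin (4 * k + 2) → K2 // form v = 0}) - 2 ^ (4 * k + 2)) : ℤ) : ℂ) = (((-1) ^ (k + 1) * 2 ^ (2 * k + 1) : ℤ) : ℂ) := by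
      push_cast at h ⊢
      linear_combination h
    exact_mod_cast hc
  rw [show 4 * k + 2 = (4 * k + 1) + 1 by ring, pow_succ, pow_succ _ (2 * k)] at h2
  linarith

theorem main (k : ℕ) (hk : 1 ≤ k) :
    (Odd k → ∃ φ : Equiv.Perm (Fin (4 * k + 4)) →* ↥(Cfsg.isometryGroup K2 (Cfsg.quadFormPlus (2 * k + 1) K2)), Function.Injective φ) ∧
    (Even k → ∃ φ : Equiv.Perm (Fin (4 * k + 4)) →* ↥(Cfsg.isometryGroup K2 (Cfsg.quadFormMinus (2 * k) K2 1 1)), Function.Injective φ) := by
  classical
  have hn : Even (4 * k + 2) := ⟨2 * k + 1, by ring⟩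
  have hc1 : ∀ c : K2, c ≠ 0 → c = 1 := by decide
  have hz := card_zeros k
  have hZ : ∀ {κ : Type} [Fintype κ] [DecidableEq κ] (R : (κ → K2) → K2) (E : (κ → K2) ≃ₗ[K2] (Fin (4 * k + 2) → K2)),
      (∀ v, form (E v) = R v) → Nat.card {v // R v = 0} = Nat.card {v : Fin (4 * k + 2) → K2 // form v = 0} := fun R E hE =>
    Nat.card_congr (E.toEquiv.subtypeEquiv fun v => by simp [hE v])
  have hb : ∀ a b : K2, (∀ z₁ z₂ : K2, z₁ ^ 2 + a * z₁ * z₂ + b * z₂ ^ 2 = 0 → z₁ = 0 ∧ z₂ = 0) → a = 1 ∧ b = 1 := by decide
  have mk : ∀ {κ : Type} [Fintype κ] [DecidableEq κ] (R : (κ → K2) → K2) (E : (κ → K2) ≃ₗ[K2] (Fin (4 * k + 2) → K2)),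
      (∀ v, form (E v) = R v) → ∃ φ : Equiv.Perm (Fin (4 * k + 4)) →* ↥(Cfsg.isometryGroup K2 R), Function.Injective φ := fun R E hE =>
    CfsgLib.KnownB.RestrictScalars.quad_embed (actEquiv hn) (actEquiv_injective hn (by omega)) _
      (fun g x => form_act hn (by omega) g x) R E hE
  rcases isSimTo_even (form (n := 4 * k + 2)) (nondeg hn) (m := 2 * k) (by simp; omega) with ⟨E, c, hc, hE⟩ | ⟨a, b, hab, E, c, hc, hE⟩
  · obtain rfl := hc1 c hc
    simp only [one_mul] at hE
    refine ⟨fun _ => mk _ E hE, fun he => ?_⟩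
    exfalso
    have h := CfsgLib.Classical.card_zeros_plus (F := K2) (2 * k + 1)
    rw [hZ _ E hE, Nat.card_zmod] at h
    have h' := congrArg (Nat.cast (R := ℤ)) h
    push_cast at h'
    rw [hz, (Even.add_one he).neg_one_pow] at h'
    have : (0 : ℤ) < 2 ^ (2 * k) := by positivity
    rw [show 2 * (2 * k + 1) = 4 * k + 1 + 1 by ring, show 2 * k + 1 + 1 = 2 * k + 2 by ring] at h'
    simp only [pow_succ] at h'
    linarith
  · obtain rfl := hc1 c hc
    simp only [one_mul] at hE
    obtain ⟨rfl, rfl⟩ := hb a b hab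
    refine ⟨fun ho => ?_, fun _ => mk _ E hE⟩
    exfalso
    have h := CfsgLib.Classical.card_zeros_minus (F := K2) (2 * k) (a := 1) (b := 1) hab
    rw [hZ _ E hE, Nat.card_zmod] at h
    have h' := congrArg (Nat.cast (R := ℤ)) h
    push_cast at h'
    rw [hz, (Odd.add_one ho).neg_one_pow] at h'
    have : (0 : ℤ) < 2 ^ (2 * k) := by positivity
    rw [show 2 * (2 * k) + 2 = 4 * k + 1 + 1 by ring, show 2 * k + 2 = 2 * k + 1 + 1 by ring] at h'
    simp only [pow_succ] at h'
    linarith

end CfsgLib.KnownB.EvenSets
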