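import Mathlib
import Cfsg.Prelude.Def_Classical

/-!
The quadratic forms over `ZMod 2` polarising to a fixed alternating form.
-/

set_option autoImplicit false

namespace CfsgLib.KnownB.F2Forms

variable {m : ℕ}

local notation "V" => (Fin m ⊕ Fin m → ZMod 2)

/-- The polar form of the plus-type form. -/
def pol (u v : V) : ZMod 2 :=
  Cfsg.quadFormPlus m (ZMod 2) (u + v) - Cfsg.quadFormPlus m (ZMod 2) u - Cfsg.quadFormPlus m (ZMod 2) v

theorem pol_eq (u v : V) : pol u v = ∑ i : Fin m, (u (.inl i) * v (.inr i) + v (.inl i) * u (.inr i)) := by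
  rw [pol, Cfsg.quadFormPlus, Cfsg.quadFormPlus, Cfsg.quadFormPlus, ← Finset.sum_sub_distrib, ← Finset.sum_sub_distrib]
  exact Finset.sum_congr rfl fun i _ => by simp; ring

theorem pol_comm (u v : V) : pol u v = pol v u := by
  rw [pol_eq, pol_eq]
  exact Finset.sum_congr rfl fun i _ => by ring

theorem pol_add_left (u u' v : V) : pol (u + u') v = pol u v + pol u' v := by
  rw [pol_eq, pol_eq, pol_eq, ← Finset.sum_add_distrib]
  exact Finset.sum_congr rfl fun i _ => by simp; ring

theorem pol_add_right (u v v' : V) : pol u (v + v') = pol u v + pol u v' := by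
  rw [pol_comm, pol_add_left, pol_comm v, pol_comm v']

theorem pol_smul_left (c : ZMod 2) (u v : V) : pol (c • u) v = c * pol u v := by
  rw [pol_eq, pol_eq, Finset.mul_sum]
  exact Finset.sum_congr rfl fun i _ => by simp; ring

theorem pol_self (u : V) : pol u u = 0 := by
  rw [pol_eq]
  exact Finset.sum_eq_zero fun i _ => by rw [mul_comm (u (.inl i))]; exact CharTwo.add_self_eq_zero _

/-- `q` polarises to `pol`. -/
def IsPol (q : V → ZMod 2) : Prop := ∀ u v, q (u + v) = q u + q v + pol u v

theorem isPol_plus : IsPol (Cfsg.quadFormPlus m (ZMod 2) : V → ZMod 2) := fun u v => by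
  rw [pol]; ring

theorem IsPol.map_zero {q : V → ZMod 2} (hq : IsPol q) : q 0 = 0 := by
  have h := hq 0 0
  rw [add_zero, pol_self, add_zero] at h
  rw [h]
  exact CharTwo.add_self_eq_zero _

theorem IsPol.add_pol {q : V → ZMod 2} (hq : IsPol q) (w : V) : IsPol (fun v => q v + pol v w) := fun u v => by
  show q (u + v) + pol (u + v) w = _
  rw [hq, pol_add_left]
  ring

theorem exists_eq_add_pol {q : V → ZMod 2} (hq : IsPol q) :
    ∃ w : V, ∀ v, q v = Cfsg.quadFormPlus m (ZMod 2) v + pol v w := by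
  let L : V →ₗ[ZMod 2] ZMod 2 :=
    (AddMonoidHom.mk' (fun v => q v - Cfsg.quadFormPlus m (ZMod 2) v) (fun u v => by
      rw [hq, isPol_plus u v]; ring)).toZModLinearMap 2
  let a : Fin m ⊕ Fin m → ZMod 2 := fun z => L (Pi.single z 1)
  refine ⟨fun z => a z.swap, fun v => ?_⟩
  have h : L v = pol v (fun z => a z.swap) := by
    have hz : ∀ z, L (Pi.single z (v z)) = v z * a z := fun z => by
      rw [show (Pi.single z (v z) : V) = v z • Pi.single z 1 by rw [← Pi.single_smul', smul_eq_mul, mul_one],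
        map_smul]
      rfl
    conv_lhs => rw [← Finset.univ_sum_single v, map_sum]
    rw [Finset.sum_congr rfl fun z _ => hz z, Fintype.sum_sum_type, pol_eq, Finset.sum_add_distrib]
    refine congrArg₂ (· + ·) (Finset.sum_congr rfl fun i _ => ?_) (Finset.sum_congr rfl fun i _ => ?_)
    · rfl
    · exact mul_comm _ _
  rw [← h]
  show q v = _ + (q v - _)
  ring

theorem add_pol_injective {q : V → ZMod 2} {w w' : V} (h : ∀ v, q v + pol v w = q v + pol v w') : w = w' := by
  have h' : ∀ v, pol v w = pol v w' := fun v => add_left_cancel (h v)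
  funext z
  rcases z with i | i
  · have := h' (Pi.single (.inr i) 1)
    rw [pol_eq, pol_eq, Finset.sum_eq_single i (fun j _ hj => by simp [hj, hj.symm]) (by simp),
      Finset.sum_eq_single i (fun j _ hj => by simp [hj, hj.symm]) (by simp)] at this
    simpa using this
  · have := h' (Pi.single (.inl i) 1)
    rw [pol_eq, pol_eq, Finset.sum_eq_single i (fun j _ hj => by simp [hj, hj.symm]) (by simp),
      Finset.sum_eq_single i (fun j _ hj => by simp [hj, hj.symm]) (by simp)] at this
    simpa using this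

theorem exists_equiv_add_pol {q : V → ZMod 2} (hq : IsPol q) {u : V} (hu : q u = 0) :
    ∃ g : V ≃ₗ[ZMod 2] V, ∀ v, q v + pol v u = q (g v) := by
  let T : V →ₗ[ZMod 2] V :=
    { toFun := fun v => v + pol v u • u
      map_add' := fun a b => by rw [pol_add_left, add_smul]; abel
      map_smul' := fun c a => by
        show c • a + pol (c • a) u • u = c • (a + pol a u • u)
        rw [pol_smul_left, smul_add, smul_smul] }
  have hT : T ∘ₗ T = LinearMap.id := by
    refine LinearMap.ext fun v => ?_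
    show v + pol v u • u + pol (v + pol v u • u) u • u = v
    rw [pol_add_left, pol_smul_left, pol_self, mul_zero, add_zero, add_assoc, ← add_smul, CharTwo.add_self_eq_zero,
      zero_smul, add_zero]
  refine ⟨LinearEquiv.ofLinearMap T T hT hT, fun v => ?_⟩
  show _ = q (v + pol v u • u)
  rcases (by decide : ∀ c : ZMod 2, c = 0 ∨ c = 1) (pol v u) with h | h
  · rw [h, zero_smul, add_zero, add_zero]
  · rw [h, one_smul, hq, hu, h, add_zero]

theorem card_zeros : (Finset.univ.filter fun v : V => Cfsg.quadFormPlus m (ZMod 2) v = 0).card * 2 =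
    2 ^ (2 * m) + 2 ^ m := by
  let χ : ZMod 2 → ℤ := fun c => if c = 0 then 1 else -1
  have hχ : ∀ a b, χ (a + b) = χ a * χ b := by decide
  let χh : Multiplicative (ZMod 2) →* ℤ :=
    { toFun := fun c => χ c.toAdd
      map_one' := by decide
      map_mul' := fun a b => hχ _ _ }
  have hprod : ∀ v : V, χ (Cfsg.quadFormPlus m (ZMod 2) v) = ∏ i : Fin m, χ (v (.inl i) * v (.inr i)) := fun v => by
    rw [Cfsg.quadFormPlus]
    exact map_prod χh (fun i => Multiplicative.ofAdd (v (.inl i) * v (.inr i))) Finset.univ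
  have hS : ∑ v : V, χ (Cfsg.quadFormPlus m (ZMod 2) v) = 2 ^ m := by
    simp only [hprod]
    rw [← ((Equiv.sumArrowEquivProdArrow (Fin m) (Fin m) (ZMod 2)).trans (Equiv.arrowProdEquivProdArrow (Fin m) (fun _ => ZMod 2) (fun _ => ZMod 2)).symm).symm.sum_comp]
    change ∑ x : Fin m → ZMod 2 × ZMod 2, ∏ i, χ ((x i).1 * (x i).2) = _
    refine (Fintype.prod_sum (fun (_ : Fin m) (y : ZMod 2 × ZMod 2) => χ (y.1 * y.2))).symm.trans ?_
    rw [show ∑ y : ZMod 2 × ZMod 2, χ (y.1 * y.2) = 2 by decide]
    simp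
  set A := (Finset.univ.filter fun v : V => Cfsg.quadFormPlus m (ZMod 2) v = 0)
  have h1 : ∑ v : V, (χ (Cfsg.quadFormPlus m (ZMod 2) v) + 1) = 2 * (A.card : ℤ) := by
    rw [Finset.card_filter, Nat.cast_sum, Finset.mul_sum]
    exact Finset.sum_congr rfl fun v _ => by simp only [χ]; split_ifs <;> simp
  rw [Finset.sum_add_distrib, hS, Finset.sum_const, nsmul_one, Finset.card_univ, Fintype.card_fun,
    Fintype.card_sum, ZMod.card, Fintype.card_fin] at h1
  have : (A.card * 2 : ℤ) = 2 ^ (2 * m) + 2 ^ m := by rw [two_mul m]; push_cast at h1; omega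
  exact_mod_cast this

theorem card_ones_ne : (Finset.univ.filter fun v : V => Cfsg.quadFormPlus m (ZMod 2) v = 1).card ≠
    (Finset.univ.filter fun v : V => Cfsg.quadFormPlus m (ZMod 2) v = 0).card := by
  intro h
  have hz := card_zeros (m := m)
  have h2 := Finset.card_filter_add_card_filter_not (s := (Finset.univ : Finset V))
    (fun v : V => Cfsg.quadFormPlus m (ZMod 2) v = 0)
  rw [show (Finset.univ.filter fun v : V => ¬ Cfsg.quadFormPlus m (ZMod 2) v = 0) =
      Finset.univ.filter fun v : V => Cfsg.quadFormPlus m (ZMod 2) v = 1 from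
    Finset.filter_congr fun v _ => (by decide : ∀ c : ZMod 2, ¬ c = 0 ↔ c = 1) _, h, Finset.card_univ,
    Fintype.card_fun, Fintype.card_sum, ZMod.card, Fintype.card_fin] at h2
  have : 0 < 2 ^ m := Nat.two_pow_pos m
  rw [two_mul m] at hz
  omega

/-- `Q + f(·, w)` has the type of `Q` exactly when `Q w = 0`. -/
theorem equiv_plus_iff (w : V) :
    (∃ g : V ≃ₗ[ZMod 2] V, ∀ v, Cfsg.quadFormPlus m (ZMod 2) v + pol v w = Cfsg.quadFormPlus m (ZMod 2) (g v)) ↔
      Cfsg.quadFormPlus m (ZMod 2) w = 0 := by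
  refine ⟨fun ⟨g, hg⟩ => ?_, fun h => exists_equiv_add_pol isPol_plus h⟩
  by_contra h
  have h1 := (by decide : ∀ c : ZMod 2, c ≠ 0 → c = 1) _ h
  refine card_ones_ne (m := m) (Finset.card_equiv ((Equiv.addRight w).trans g.toEquiv) fun v => ?_)
  simp only [Finset.mem_filter, Finset.mem_univ, true_and, Equiv.trans_apply, Equiv.coe_addRight,
    LinearEquiv.coe_toEquiv]
  rw [← hg, isPol_plus v w, h1, pol_add_left, pol_self, add_zero,
    add_assoc, CharTwo.add_self_eq_zero, add_zero]
  exact (by decide : ∀ c : ZMod 2, c = 1 ↔ c + 1 = 0) _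

end CfsgLib.KnownB.F2Forms
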