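import Cfsg.Agent.Lib.KnownB.PrimeGraphForm

/-!
A bound on the projective orders of isometries: some power `k` with `(q - 1) k ≤ q^(m+1)` is scalar.
-/

set_option autoImplicit false
set_option linter.unusedSectionVars false

namespace CfsgLib.KnownB.IsometryOrder

open Polynomial Matrix UniqueFactorizationMonoid CfsgLib.KnownB.PrimeGraph

universe u

theorem lcm_bound : ∀ (S q : ℕ) (A : Finset ℕ), 2 ≤ q → (∀ a ∈ A, 0 < a) → ∑ a ∈ A, a = S →
    (q - 1) * A.lcm (fun a => q ^ a + 1) ≤ q ^ (S + 1) := by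
  intro S
  induction S using Nat.strong_induction_on with
  | _ S ih =>
  intro q A hq hA hS
  rcases A.eq_empty_or_nonempty with rfl | hne
  · simp only [Finset.lcm_empty, mul_one, Finset.sum_empty] at *
    subst hS
    simp
  set O := A.filter (fun a => Odd a)
  set E := A.filter (fun a => ¬ Odd a)
  set E' := E.image (fun a => a / 2)
  have hsum : ∑ a ∈ O, a + ∑ a ∈ E, a = S := by rw [Finset.sum_filter_add_sum_filter_not, hS]
  have hEeven : ∀ a ∈ E, a / 2 * 2 = a := fun a ha =>
    Nat.div_mul_cancel (Nat.not_odd_iff_even.1 (Finset.mem_filter.1 ha).2).two_dvd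
  have hE'sum : (∑ a ∈ E', a) * 2 = ∑ a ∈ E, a := by
    rw [Finset.sum_image fun x hx y hy h => ?_, Finset.sum_mul, Finset.sum_congr rfl hEeven]
    rw [← hEeven x hx, ← hEeven y hy, h]
  have hE'pos : ∀ a ∈ E', 0 < a := by
    intro a ha
    obtain ⟨b, hb, rfl⟩ := Finset.mem_image.1 ha
    have := hA b (Finset.mem_filter.1 hb).1
    have := hEeven b hb
    omega
  have hSpos : 0 < S := by
    obtain ⟨a, ha⟩ := hne
    exact hS ▸ (hA a ha).trans_le (Finset.single_le_sum (fun x _ => Nat.zero_le x) ha)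
  have hIH := ih (∑ a ∈ E', a) (by omega) (q ^ 2) E'
    (hq.trans (Nat.le_self_pow two_ne_zero q)) hE'pos rfl
  set Le := E'.lcm (fun a => (q ^ 2) ^ a + 1)
  rw [← pow_mul] at hIH
  have hE : ∀ a ∈ E, q ^ a + 1 ∣ Le := fun a ha => by
    have := Finset.dvd_lcm (f := fun a => (q ^ 2) ^ a + 1) (Finset.mem_image_of_mem (fun a => a / 2) ha)
    rwa [← pow_mul, mul_comm, hEeven a ha] at this
  have hq2 : q ^ 2 - 1 = (q + 1) * (q - 1) := by simpa using Nat.sq_sub_sq q 1
  rw [hq2] at hIH
  have hexp : 2 * (∑ a ∈ E', a + 1) = ∑ a ∈ E, a + 2 := by omega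
  rw [hexp] at hIH
  rcases O.eq_empty_or_nonempty with hO | hO
  · have hdvd : A.lcm (fun a => q ^ a + 1) ∣ Le := Finset.lcm_dvd fun a ha => hE a
      (Finset.mem_filter.2 ⟨ha, fun h => Finset.eq_empty_iff_forall_notMem.1 hO a
        (Finset.mem_filter.2 ⟨ha, h⟩)⟩)
    have hLe : 0 < Le := Nat.pos_of_ne_zero fun h => by
      obtain ⟨a, -, ha⟩ := Finset.lcm_eq_zero_iff.1 h
      simp at ha
    refine le_trans (Nat.mul_le_mul_left _ (Nat.le_of_dvd hLe hdvd)) ?_
    have hS' : ∑ a ∈ E, a = S := by rw [← hsum, hO, Finset.sum_empty, zero_add]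
    rw [hS', pow_succ] at hIH
    refine Nat.le_of_mul_le_mul_left (?_ : (q + 1) * _ ≤ (q + 1) * _) (by omega)
    calc (q + 1) * ((q - 1) * Le) = (q + 1) * (q - 1) * Le := (mul_assoc _ _ _).symm
      _ ≤ q ^ (S + 1) * q := hIH
      _ ≤ (q + 1) * q ^ (S + 1) := by rw [mul_comm]; exact Nat.mul_le_mul_right _ (Nat.le_succ q)
  · set P := ∏ a ∈ O, (q ^ a + 1) / (q + 1)
    have hdiv : ∀ a ∈ O, q + 1 ∣ q ^ a + 1 := fun a ha => by
      simpa using (Finset.mem_filter.1 ha).2.nat_add_dvd_pow_add_pow q 1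
    have hdvd : A.lcm (fun a => q ^ a + 1) ∣ (q + 1) * P * Le := by
      refine Finset.lcm_dvd fun a ha => ?_
      by_cases ho : Odd a
      · refine dvd_mul_of_dvd_left ?_ _
        have hmem : a ∈ O := Finset.mem_filter.2 ⟨ha, ho⟩
        rw [← Nat.mul_div_cancel' (hdiv a hmem)]
        exact mul_dvd_mul_left _ (Finset.dvd_prod_of_mem (fun a => (q ^ a + 1) / (q + 1)) hmem)
      · exact dvd_mul_of_dvd_right (hE a (Finset.mem_filter.2 ⟨ha, ho⟩)) _
    have hP : P ≤ q ^ (∑ a ∈ O, (a - 1)) := by
      rw [← Finset.prod_pow_eq_pow_sum]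
      refine Finset.prod_le_prod (fun _ _ => Nat.zero_le _) fun a ha => ?_
      have ha0 := hA a (Finset.mem_filter.1 ha).1
      have h1 : 1 ≤ q ^ (a - 1) := Nat.one_le_pow _ _ (by omega)
      refine Nat.div_le_of_le_mul ?_
      rw [Nat.succ_mul, ← pow_succ', Nat.sub_add_cancel ha0]
      omega
    have hOsum : ∑ a ∈ O, (a - 1) + 1 ≤ ∑ a ∈ O, a := by
      obtain ⟨a, ha⟩ := hO
      rw [← Finset.add_sum_erase O (fun a => a - 1) ha, ← Finset.add_sum_erase O (fun a => a) ha]
      have := hA a (Finset.mem_filter.1 ha).1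
      have := Finset.sum_le_sum (s := O.erase a) (f := fun a => a - 1) (g := fun a => a)
        fun x _ => Nat.sub_le x 1
      omega
    have hpos : 0 < (q + 1) * P * Le := by
      refine Nat.mul_pos (Nat.mul_pos (Nat.succ_pos q) (Finset.prod_pos fun a ha =>
        Nat.div_pos (Nat.le_of_dvd (Nat.succ_pos _) (hdiv a ha)) (Nat.succ_pos q))) ?_
      exact Nat.pos_of_ne_zero fun h => by
        obtain ⟨a, -, ha⟩ := Finset.lcm_eq_zero_iff.1 h
        simp at ha
    calc (q - 1) * A.lcm (fun a => q ^ a + 1) ≤ (q - 1) * ((q + 1) * P * Le) :=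
          Nat.mul_le_mul_left _ (Nat.le_of_dvd hpos hdvd)
      _ = P * ((q + 1) * (q - 1) * Le) := by ring
      _ ≤ q ^ (∑ a ∈ O, (a - 1)) * q ^ (∑ a ∈ E, a + 2) := Nat.mul_le_mul hP hIH
      _ ≤ q ^ (S + 1) := by
          rw [← pow_add]
          exact Nat.pow_le_pow_right (by omega) (by omega)

/-- The unipotent exponent needs room. -/
theorem exp_le {p s M : ℕ} (hp : 2 ≤ p) (hs : 0 < s) (h : p ^ (s - 1) + 1 ≤ 2 * M + 1)
    (h2 : p = 2 → p ^ (s - 1) + 1 ≤ 2 * M) : s ≤ M := by
  have hlt : ∀ b j, 2 ≤ b → j < b ^ j := fun b j hb => Nat.lt_pow_self hb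
  obtain ⟨j, rfl⟩ : ∃ j, s = j + 1 := ⟨s - 1, by omega⟩
  rw [Nat.add_sub_cancel] at h h2
  rcases Nat.lt_or_ge 2 p with hp3 | hp2
  · have h3 : 2 * j + 1 ≤ p ^ j := by
      clear h h2 hs
      induction j with
      | zero => simp
      | succ j ih => rw [pow_succ]; nlinarith
    omega
  · have := h2 (by omega)
    rcases j with _ | j
    · simp at this; omega
    · rw [pow_succ] at this
      have := hlt p j hp
      nlinarith

theorem lt_exp {p s : ℕ} (hp : 2 ≤ p) : s ≤ p ^ (s - 1) := by
  have := Nat.lt_pow_self (n := s - 1) (show 1 < p by omega)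
  omega

variable {F : Type u} [Field F] [Fintype F]

/-- The roots of an irreducible polynomial of degree `h` other than `X`. -/
theorem dvd_X_pow_card_pow_sub_one {f : F[X]} (hf : Irreducible f) (hf0 : f.coeff 0 ≠ 0) :
    f ∣ X ^ (Fintype.card F ^ f.natDegree - 1) - 1 := by
  classical
  haveI := Fact.mk hf
  haveI : Module.Finite F (AdjoinRoot f) := (AdjoinRoot.powerBasis hf.ne_zero).finite
  haveI : Finite (AdjoinRoot f) := Module.finite_of_finite F
  haveI := Fintype.ofFinite (AdjoinRoot f)
  refine AdjoinRoot.mk_eq_zero.1 ?_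
  rw [map_sub, map_pow, AdjoinRoot.mk_X, map_one, sub_eq_zero]
  have hc : Fintype.card (AdjoinRoot f) = Fintype.card F ^ f.natDegree := by
    rw [Module.card_eq_pow_finrank (K := F), (AdjoinRoot.powerBasis hf.ne_zero).finrank,
      AdjoinRoot.powerBasis_dim]
  rw [← hc]
  refine FiniteField.pow_card_sub_one_eq_one _ fun h0 => hf0 ?_
  have h1 : f ∣ X := AdjoinRoot.mk_eq_zero.1 (by rw [AdjoinRoot.mk_X]; exact h0)
  exact X_dvd_iff.1 ((hf.associated_of_dvd irreducible_X h1).symm.dvd)

theorem revM_mul {f g : F[X]} (hf : f.coeff 0 ≠ 0) (hg : g.coeff 0 ≠ 0) :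
    revM (f * g) = revM f * revM g := by
  rw [revM, revM, revM, reverse_mul_of_domain, mul_coeff_zero, mul_inv, C_mul]
  ring

theorem revM_pow {f : F[X]} (hf : f.coeff 0 ≠ 0) (e : ℕ) : revM (f ^ e) = revM f ^ e := by
  induction e with
  | zero => simp [revM, Polynomial.reverse]
  | succ e ih =>
    rw [pow_succ, revM_mul (by rw [coeff_zero_eq_eval_zero, eval_pow, ← coeff_zero_eq_eval_zero]
                               exact pow_ne_zero _ hf) hf, ih, pow_succ]

variable {ι : Type*} [Fintype ι] [DecidableEq ι]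

theorem coeff_zero_minpoly {A : Matrix ι ι F} (hA : IsUnit A) : (minpoly F A).coeff 0 ≠ 0 := by
  intro h0
  obtain ⟨c, hc⟩ := X_dvd_iff.2 h0
  have hint : IsIntegral F A := Matrix.isIntegral A
  have hc0 : c ≠ 0 := fun h => minpoly.ne_zero hint (by rw [hc, h, mul_zero])
  have h1 : aeval A c = 0 := hA.mul_left_cancel (b := aeval A c) (c := 0) (by
    rw [mul_zero]
    have := minpoly.aeval F A
    rwa [hc, map_mul, aeval_X] at this)
  have h2 := natDegree_le_of_dvd (minpoly.dvd F A h1) hc0
  rw [hc, natDegree_mul X_ne_zero hc0, natDegree_X] at h2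
  omega

/-- A small power of an isometry is scalar. -/
theorem exists_scalar_pow (p : ℕ) [Fact p.Prime] [CharP F p] {A Jm : Matrix ι ι F} (hJ : IsUnit Jm)
    (hA : Aᵀ * Jm * A = Jm) {m : ℕ} (hm : 2 ≤ m) (hN : Fintype.card ι ≤ 2 * m + 1)
    (hN2 : p = 2 → Fintype.card ι ≤ 2 * m) (hsmall : Fintype.card ι ≤ 2 * m ∨ 3 ≤ m) :
    ∃ k, 0 < k ∧ (Fintype.card F - 1) * k ≤ Fintype.card F ^ (m + 1) ∧ ∃ c : F, A ^ k = algebraMap F _ c := by
  classical
  have hp := (Fact.out : p.Prime)
  set q := Fintype.card F with hq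
  have hq2 : 2 ≤ q := Fintype.one_lt_card
  have hpq : p ≤ q := by
    obtain ⟨a, -, ha⟩ := FiniteField.card F p
    exact hq ▸ ha ▸ Nat.le_self_pow a.ne_zero p
  have hAu : IsUnit A := by
    rw [Matrix.isUnit_iff_isUnit_det, isUnit_iff_ne_zero]
    intro h0
    have := congrArg Matrix.det hA
    rw [Matrix.det_mul, h0, mul_zero] at this
    exact ((Matrix.isUnit_iff_isUnit_det Jm).1 hJ).ne_zero this.symm
  have hint : IsIntegral F A := Matrix.isIntegral A
  set μ := minpoly F A with hμ
  have hμm : μ.Monic := minpoly.monic hint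
  have hμ0 : μ ≠ 0 := hμm.ne_zero
  set fs := normalizedFactors μ with hfs
  set P := fs.toFinset with hPdef
  have hirr : ∀ f ∈ P, Irreducible f := fun f hf => irreducible_of_normalized_factor f (Multiset.mem_toFinset.1 hf)
  have hmon : ∀ f ∈ P, f.Monic := fun f hf => by
    have h := normalize_normalized_factor f (Multiset.mem_toFinset.1 hf)
    rw [← h]
    exact Polynomial.monic_normalize (hirr f hf).ne_zero
  have hc0 : ∀ f ∈ P, f.coeff 0 ≠ 0 := fun f hf =>
    coeff_zero_ne_of_dvd (dvd_of_mem_normalizedFactors (Multiset.mem_toFinset.1 hf)) (coeff_zero_minpoly hAu)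
  let e : F[X] → ℕ := fun f => fs.count f
  have hprod : μ = ∏ f ∈ P, f ^ e f := by
    rw [← Finset.prod_multiset_count, prod_normalizedFactors_eq hμ0, hμm.normalize_eq_self]
  have hdeg : ∑ f ∈ P, e f * f.natDegree ≤ Fintype.card ι := by
    have h1 : μ.natDegree = ∑ f ∈ P, e f * f.natDegree := by
      rw [hprod, natDegree_prod _ _ fun f hf => pow_ne_zero _ (hirr f hf).ne_zero]
      exact Finset.sum_congr rfl fun f _ => natDegree_pow f _
    rw [← h1, ← A.charpoly_natDegree_eq_dim]
    exact natDegree_le_of_dvd A.minpoly_dvd_charpoly A.charpoly_monic.ne_zero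
  have he1 : ∀ f ∈ P, 1 ≤ e f := fun f hf => Multiset.one_le_count_iff_mem.2 (Multiset.mem_toFinset.1 hf)
  -- reversal preserves the multiplicities
  have hrevP : ∀ f ∈ P, revM f ∈ P ∧ e f ≤ e (revM f) := by
    intro f hf
    have hd : f ^ e f ∣ μ := hprod ▸ Finset.dvd_prod_of_mem (fun f => f ^ e f) hf
    have h1 : revM f ^ e f ∣ μ := by
      rw [← revM_pow (hc0 f hf)]
      exact revM_dvd_minpoly hJ hA (coeff_zero_ne_of_dvd hd (coeff_zero_minpoly hAu)) hd
    have hi := irreducible_revM (hirr f hf) (hc0 f hf)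
    rw [dvd_iff_normalizedFactors_le_normalizedFactors (pow_ne_zero _ hi.ne_zero) hμ0, hi.normalizedFactors_pow,
      (revM_monic (hc0 f hf)).normalize_eq_self] at h1
    have h2 := Multiset.le_count_iff_replicate_le.2 h1
    exact ⟨Multiset.mem_toFinset.2 (Multiset.count_pos.1 ((he1 f hf).trans h2)), h2⟩
  -- the exponent
  set s := Nat.clog p (P.sup e) with hs
  have hse : ∀ f ∈ P, e f ≤ p ^ s := fun f hf =>
    (Finset.le_sup hf).trans (Nat.le_pow_clog hp.one_lt _)
  have hs0 : 0 < s → ∃ f ∈ P, p ^ (s - 1) + 1 ≤ e f := fun h => by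
    have h1 : 1 < P.sup e := by
      by_contra hle
      rw [hs, Nat.clog_of_right_le_one (Nat.le_of_not_lt hle)] at h
      omega
    obtain ⟨f, hf, hfe⟩ := Finset.exists_mem_eq_sup P (Finset.nonempty_iff_ne_empty.2 fun h0 => by
      rw [h0, Finset.sup_empty] at h1; exact absurd h1 (by simp)) e
    exact ⟨f, hf, hfe ▸ Nat.pow_pred_clog_lt_self hp.one_lt h1⟩
  -- annihilation
  have hann : ∀ L : ℕ, (∀ f ∈ P, f ∣ X ^ L - 1) → A ^ (L * p ^ s) = 1 := by
    intro L hL
    have hdvd : μ ∣ (X ^ L - 1) ^ p ^ s := by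
      rw [hprod]
      refine Finset.prod_dvd_of_coprime (fun f hf g hg hfg => IsCoprime.pow
        ((hirr f hf).coprime_iff_not_dvd.2 fun h => hfg
          (eq_of_monic_of_associated (hmon f hf) (hmon g hg) ((hirr f hf).associated_of_dvd (hirr g hg) h)))) ?_
      intro f hf
      exact (pow_dvd_pow f (hse f hf)).trans (pow_dvd_pow_of_dvd (hL f hf) _)
    obtain ⟨c, hc⟩ := hdvd
    have h := congrArg (aeval A) hc
    rw [map_mul, minpoly.aeval, zero_mul, sub_pow_expChar_pow, one_pow, ← pow_mul, map_sub, map_pow,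
      aeval_X, map_one, sub_eq_zero] at h
    exact h
  set K := P.filter (fun f => f ≠ X - C 1 ∧ f ≠ X - C (-1)) with hKdef
  have hnotK : ∀ f ∈ P, f ∉ K → ∃ c : F, f = X - C c ∧ (c = 1 ∨ c = -1) := fun f hf hfK => by
    rcases not_and_or.1 (fun h => hfK (Finset.mem_filter.2 ⟨hf, h⟩)) with h | h
    · exact ⟨1, not_not.1 h, Or.inl rfl⟩
    · exact ⟨-1, not_not.1 h, Or.inr rfl⟩
  rcases K.eq_empty_or_nonempty with hK | hK
  · have hlin : ∀ f ∈ P, ∃ c : F, f = X - C c ∧ (c = 1 ∨ c = -1) := fun f hf =>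
      hnotK f hf (by simp [hK])
    by_cases hone : ∀ f ∈ P, ∀ g ∈ P, f = g
    · -- one eigenvalue
      refine ⟨p ^ s, pow_pos hp.pos s, ?_, ?_⟩
      · have hsm : s ≤ m := by
          rcases Nat.eq_zero_or_pos s with h0 | h0
          · omega
          obtain ⟨f, hf, hfe⟩ := hs0 h0
          have h1 : e f * f.natDegree ≤ Fintype.card ι :=
            (Finset.single_le_sum (f := fun f => e f * f.natDegree) (fun _ _ => Nat.zero_le _) hf).trans hdeg
          have hd1 := (hirr f hf).natDegree_pos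
          have h2 : e f ≤ Fintype.card ι := (Nat.le_mul_of_pos_right _ hd1).trans h1
          exact exp_le hp.two_le h0 (by omega) fun h => by have := hN2 h; omega
        calc (q - 1) * p ^ s ≤ q * q ^ m :=
              Nat.mul_le_mul (Nat.sub_le q 1) ((Nat.pow_le_pow_left hpq s).trans
                (Nat.pow_le_pow_right (by omega) hsm))
          _ = q ^ (m + 1) := (pow_succ' q m).symm
      · by_cases hPne : P.Nonempty
        · obtain ⟨f, hf⟩ := hPne
          obtain ⟨c, hfc, -⟩ := hlin f hf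
          refine ⟨c ^ p ^ s, ?_⟩
          have hdvd : μ ∣ f ^ p ^ s := by
            rw [hprod, show P = {f} from Finset.eq_singleton_iff_unique_mem.2 ⟨hf, fun g hg => hone g hg f hf⟩,
              Finset.prod_singleton]
            exact pow_dvd_pow f (hse f hf)
          obtain ⟨t, ht⟩ := hdvd
          have h := congrArg (aeval A) ht
          rw [map_mul, minpoly.aeval, zero_mul, hfc, sub_pow_expChar_pow, ← C_pow, map_sub, map_pow, aeval_X,
            aeval_C, sub_eq_zero] at h
          exact h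
        · rw [Finset.not_nonempty_iff_eq_empty] at hPne
          rw [hPne, Finset.prod_empty] at hprod
          have := minpoly.aeval F A
          rw [← hμ, hprod, map_one] at this
          exact ⟨1, @Subsingleton.elim _ (subsingleton_of_zero_eq_one this.symm) _ _⟩
    · -- two eigenvalues
      push Not at hone
      obtain ⟨f, hf, g, hg, hfg⟩ := hone
      obtain ⟨c, rfl, hc⟩ := hlin f hf
      obtain ⟨d, rfl, hd⟩ := hlin g hg
      have hp2 : p ≠ 2 := by
        rintro rfl
        haveI : CharP F 2 := inferInstance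
        refine hfg ?_
        rcases hc with rfl | rfl <;> rcases hd with rfl | rfl <;> simp [CharTwo.neg_eq]
      refine ⟨2 * p ^ s, Nat.mul_pos two_pos (pow_pos hp.pos s), ?_, 1, ?_⟩
      · have hsm : s ≤ m - 1 := by
          rcases Nat.eq_zero_or_pos s with h0 | h0
          · omega
          obtain ⟨f', hf', hfe⟩ := hs0 h0
          obtain ⟨g', hg', hne⟩ : ∃ g' ∈ P, g' ≠ f' := by
            by_cases h : X - C c = f'
            · exact ⟨_, hg, fun h' => hfg (h.trans h'.symm)⟩
            · exact ⟨_, hf, h⟩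
          have h1 := (Finset.sum_le_sum_of_subset (f := fun f => e f * f.natDegree)
            (show ({g', f'} : Finset F[X]) ⊆ P by simp [Finset.insert_subset_iff, hg', hf'])).trans hdeg
          rw [Finset.sum_pair hne] at h1
          have h2 := Nat.le_mul_of_pos_right (e f') (hirr f' hf').natDegree_pos
          have h3 := Nat.le_mul_of_pos_right (e g') (hirr g' hg').natDegree_pos
          have h4 := he1 g' hg'
          have h5 : p ^ (s - 1) + 2 ≤ Fintype.card ι := by omega
          by_contra hsm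
          have h6 : p ^ (m - 1) ≤ p ^ (s - 1) := Nat.pow_le_pow_right hp.pos (by omega)
          rcases Nat.lt_or_ge 2 m with hm3 | hm2
          · have h7 : ∀ j, 2 * (j + 3) ≤ 3 ^ (j + 2) := fun j => by
              induction j with
              | zero => norm_num
              | succ j ih => rw [pow_succ]; omega
            have h8 := h7 (m - 3)
            rw [show m - 3 + 2 = m - 1 by omega] at h8
            have h9 := Nat.pow_le_pow_left (show 3 ≤ p by have := hp.two_le; omega) (m - 1)
            omega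
          · obtain rfl : m = 2 := by omega
            norm_num at h6
            have := hp.two_le
            omega
        calc (q - 1) * (2 * p ^ s) ≤ q * (q * q ^ (m - 1)) :=
              Nat.mul_le_mul (Nat.sub_le q 1) (Nat.mul_le_mul hq2 ((Nat.pow_le_pow_left hpq s).trans
                (Nat.pow_le_pow_right (by omega) hsm)))
          _ = q ^ (m + 1) := by rw [← pow_succ', ← pow_succ']; congr 1; omega
      · rw [map_one]
        refine hann 2 fun f hf => ?_
        obtain ⟨c, rfl, hc⟩ := hlin f hf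
        rw [Polynomial.dvd_iff_isRoot, IsRoot.def, eval_sub, eval_pow, eval_X, eval_one]
        rcases hc with rfl | rfl <;> simp
  · -- tori
    have hKP : ∀ f ∈ K, f ∈ P := fun f hf => (Finset.mem_filter.1 hf).1
    have hnotsq : ∀ f ∈ K, ¬ f ∣ X ^ 2 - 1 := by
      intro f hf h
      obtain ⟨hfP, h1, h2⟩ := Finset.mem_filter.1 hf
      rw [show (X ^ 2 - 1 : F[X]) = (X - C 1) * (X - C (-1)) by simp; ring] at h
      rcases (hirr f hfP).prime.dvd_or_dvd h with h | h
      · exact h1 (eq_of_monic_of_associated (hmon f hfP) (monic_X_sub_C _)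
          ((hirr f hfP).associated_of_dvd (irreducible_X_sub_C _) h))
      · exact h2 (eq_of_monic_of_associated (hmon f hfP) (monic_X_sub_C _)
          ((hirr f hfP).associated_of_dvd (irreducible_X_sub_C _) h))
    have hself : ∀ f ∈ K, revM f = f →
        ∃ h, f.natDegree = 2 * h ∧ f ∣ X ^ (q ^ h + 1) - 1 := fun f hf hs' =>
      selfdual (hirr f (hKP f hf)) (hc0 f (hKP f hf)) (by
        have h := (associated_revM (hc0 f (hKP f hf))).dvd
        rwa [hs'] at h) (hnotsq f hf)
    have hrevrev : ∀ f ∈ K, revM f ≠ f → revM f ∈ K ∧ revM f ≠ f := by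
      intro f hf hne
      refine ⟨Finset.mem_filter.2 ⟨(hrevP f (hKP f hf)).1, ?_, ?_⟩, hne⟩ <;> intro h
      all_goals
        apply hnotsq f hf
        have h0 := hc0 f (hKP f hf)
        have hd : revM f ∣ X ^ 2 - 1 := by
          rw [h, show (X ^ 2 - 1 : F[X]) = (X - C 1) * (X - C (-1)) by simp; ring]
          first | exact dvd_mul_right _ _ | exact dvd_mul_left _ _
        have hd' := revM_dvd_X_pow_sub_one two_pos hd
        refine dvd_trans ?_ hd'
        have hr0 : (revM f).coeff 0 ≠ 0 := coeff_zero_ne_of_dvd hd (coeff_zero_X_pow_sub_one two_pos)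
        refine dvd_trans ?_ (associated_revM hr0).symm.dvd
        rw [revM, reverse_mul_of_domain]
        refine dvd_mul_of_dvd_right ?_ _
        have hrr : (f.reverse).reverse = f := by
          ext i
          rw [coeff_reverse, coeff_reverse, reverse_natDegree, natTrailingDegree_eq_zero h0, Nat.sub_zero,
            revAt_invol]
        rw [hrr]
    set A₁ := (K.filter (fun f => revM f = f)).image (fun f => f.natDegree / 2) with hA₁
    set B := (K.filter (fun f => ¬ revM f = f)).image (fun f => f.natDegree) with hB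
    set L := A₁.lcm (fun a => q ^ a + 1) * ∏ b ∈ B, (q ^ b - 1) with hLdef
    have hA₁pos : ∀ a ∈ A₁, 0 < a := by
      intro a ha
      obtain ⟨f, hf, rfl⟩ := Finset.mem_image.1 ha
      obtain ⟨hfK, hs'⟩ := Finset.mem_filter.1 hf
      obtain ⟨h, hd, -⟩ := hself f hfK hs'
      have := (hirr f (hKP f hfK)).natDegree_pos
      omega
    have hBpos : ∀ b ∈ B, 0 < b := by
      intro b hb
      obtain ⟨f, hf, rfl⟩ := Finset.mem_image.1 hb
      exact (hirr f (hKP f (Finset.mem_filter.1 hf).1)).natDegree_pos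
    have hLpos : 0 < L := Nat.mul_pos (Nat.pos_of_ne_zero fun h => by
        obtain ⟨a, -, ha⟩ := Finset.lcm_eq_zero_iff.1 h
        simp at ha)
      (Finset.prod_pos fun b hb => Nat.sub_pos_of_lt (Nat.one_lt_pow (hBpos b hb).ne' hq2))
    -- the weight
    have hR : 2 * (∑ a ∈ A₁, a + ∑ b ∈ B, b) ≤ ∑ f ∈ K, f.natDegree := by
      rw [mul_add, ← Finset.sum_filter_add_sum_filter_not K (fun f => revM f = f)]
      refine Nat.add_le_add ?_ ?_
      · rw [Finset.mul_sum]
        refine le_trans (Finset.sum_image_le_of_nonneg (f := fun a => 2 * a)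
          (g := fun f : F[X] => f.natDegree / 2) fun u _ => Nat.zero_le _) (Finset.sum_le_sum fun f _ => ?_)
        exact Nat.mul_div_le _ 2
      · rw [Finset.mul_sum, ← Finset.sum_fiberwise_of_maps_to (t := B)
          (g := fun f : F[X] => f.natDegree) (fun f hf => Finset.mem_image_of_mem _ hf) (fun f => f.natDegree)]
        refine Finset.sum_le_sum fun b hb => ?_
        obtain ⟨f, hf, rfl⟩ := Finset.mem_image.1 hb
        obtain ⟨hfK, hne⟩ := Finset.mem_filter.1 hf
        obtain ⟨hrK, -⟩ := hrevrev f hfK hne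
        have hne2 : ¬ revM (revM f) = revM f := fun h => by
          have h0 := hc0 f (hKP f hfK)
          have hi := irreducible_revM (hirr f (hKP f hfK)) h0
          have hr0 : (revM f).coeff 0 ≠ 0 := hc0 _ (hKP _ hrK)
          refine hne (eq_of_monic_of_associated (revM_monic h0) (hmon f (hKP f hfK))
            ((hirr f (hKP f hfK)).associated_of_dvd hi ?_).symm)
          rw [← h]
          refine dvd_trans ?_ (associated_revM hr0).symm.dvd
          rw [revM, reverse_mul_of_domain]
          refine dvd_mul_of_dvd_right ?_ _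
          have hrr : (f.reverse).reverse = f := by
            ext i
            rw [coeff_reverse, coeff_reverse, reverse_natDegree, natTrailingDegree_eq_zero h0, Nat.sub_zero,
              revAt_invol]
          rw [hrr]
        refine le_trans ?_ (Finset.sum_le_sum_of_subset (s := {revM f, f}) (fun x hx => ?_))
        · rw [Finset.sum_pair hne, natDegree_revM (hc0 f (hKP f hfK))]
          omega
        · rcases Finset.mem_insert.1 hx with rfl | hx
          · exact Finset.mem_filter.2 ⟨Finset.mem_filter.2 ⟨hrK, hne2⟩, natDegree_revM (hc0 f (hKP f hfK))⟩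
          · rw [Finset.mem_singleton.1 hx]
            exact Finset.mem_filter.2 ⟨hf, rfl⟩
    set R := ∑ a ∈ A₁, a + ∑ b ∈ B, b with hRdef
    have hbound : R + s ≤ m := by
      let w := fun f => (e f - if f ∈ K then 1 else 0) * f.natDegree
      have hsplit : ∑ f ∈ P, e f * f.natDegree = ∑ f ∈ K, f.natDegree + ∑ f ∈ P, w f := by
        simp only [w]
        rw [show ∑ f ∈ K, f.natDegree = ∑ f ∈ P, if f ∈ K then f.natDegree else 0 by
          rw [Finset.sum_ite_mem, Finset.inter_eq_right.2 (show K ⊆ P from hKP)], ← Finset.sum_add_distrib]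
        refine Finset.sum_congr rfl fun f hf => ?_
        by_cases hfK : f ∈ K
        · rw [if_pos hfK, if_pos hfK]
          conv_rhs => arg 1; rw [← one_mul f.natDegree]
          rw [← add_mul, Nat.add_sub_cancel' (he1 f hf)]
        · rw [if_neg hfK, if_neg hfK, zero_add, Nat.sub_zero]
      have hKdeg : ∑ f ∈ K, f.natDegree ≤ Fintype.card ι := by omega
      rcases Nat.eq_zero_or_pos s with h0 | h0
      · omega
      obtain ⟨f, hf, hfe⟩ := hs0 h0
      by_cases hfK : f ∈ K
      · have hw : 2 * p ^ (s - 1) ≤ ∑ f ∈ P, w f := by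
          by_cases hs' : revM f = f
          · obtain ⟨h, hd, -⟩ := hself f hfK hs'
            refine le_trans ?_ (Finset.single_le_sum (f := w) (fun _ _ => Nat.zero_le _) hf)
            simp only [w, if_pos hfK, hd]
            have h1 : 1 ≤ h := by have := (hirr f hf).natDegree_pos; omega
            calc 2 * p ^ (s - 1) ≤ (e f - 1) * 2 := by omega
              _ ≤ (e f - 1) * (2 * h) := Nat.mul_le_mul_left _ (by omega)
          · obtain ⟨hrK, -⟩ := hrevrev f hfK hs'
            refine le_trans ?_ (Finset.sum_le_sum_of_subset (f := w) (s := {revM f, f})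
              (by simp [Finset.insert_subset_iff, hKP _ hrK, hf]))
            rw [Finset.sum_pair hs']
            simp only [w, if_pos hfK, if_pos hrK]
            have h1 := (hrevP f hf).2
            have h2 := Nat.le_mul_of_pos_right (e f - 1) (hirr f hf).natDegree_pos
            have h3 := Nat.le_mul_of_pos_right (e (revM f) - 1) (hirr _ (hKP _ hrK)).natDegree_pos
            omega
        have h4 := lt_exp (s := s) hp.two_le
        omega
      · have hw : p ^ (s - 1) + 1 ≤ ∑ f ∈ P, w f := by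
          refine le_trans ?_ (Finset.single_le_sum (f := w) (fun _ _ => Nat.zero_le _) hf)
          simp only [w, if_neg hfK, Nat.sub_zero]
          exact hfe.trans (Nat.le_mul_of_pos_right _ (hirr f hf).natDegree_pos)
        have h5 : 2 * R + (p ^ (s - 1) + 1) ≤ Fintype.card ι := by omega
        have h6 := exp_le (M := m - R) hp.two_le h0 (by omega) (fun h => by have := hN2 h; omega)
        omega
    refine ⟨L * p ^ s, Nat.mul_pos hLpos (pow_pos hp.pos s), ?_, 1, ?_⟩
    · have h1 := lcm_bound _ q A₁ hq2 hA₁pos rfl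
      have h2 : ∏ b ∈ B, (q ^ b - 1) ≤ q ^ ∑ b ∈ B, b := by
        rw [← Finset.prod_pow_eq_pow_sum]
        exact Finset.prod_le_prod (fun _ _ => Nat.zero_le _) fun b _ => Nat.sub_le _ 1
      calc (q - 1) * (L * p ^ s) = (q - 1) * A₁.lcm (fun a => q ^ a + 1) * (∏ b ∈ B, (q ^ b - 1)) * p ^ s := by
            rw [hLdef]; ring
        _ ≤ q ^ (∑ a ∈ A₁, a + 1) * q ^ (∑ b ∈ B, b) * q ^ s :=
            Nat.mul_le_mul (Nat.mul_le_mul h1 h2) (Nat.pow_le_pow_left hpq s)
        _ ≤ q ^ (m + 1) := by
            rw [← pow_add, ← pow_add]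
            exact Nat.pow_le_pow_right (by omega) (by omega)
    · rw [map_one]
      refine hann L fun f hf => ?_
      have hK' : ∀ g ∈ K, ∃ T, g ∣ X ^ T - 1 ∧ T ∣ L ∧ (Odd q → Even T) := by
        intro g hg
        by_cases hs' : revM g = g
        · obtain ⟨h, hd, hdvd⟩ := hself g hg hs'
          refine ⟨q ^ h + 1, hdvd, dvd_mul_of_dvd_left ?_ _, fun ho => ho.pow.add_one⟩
          refine Finset.dvd_lcm (f := fun a => q ^ a + 1) (Finset.mem_image.2 ⟨g, Finset.mem_filter.2 ⟨hg, hs'⟩, ?_⟩)
          omega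
        · refine ⟨q ^ g.natDegree - 1, dvd_X_pow_card_pow_sub_one (hirr g (hKP g hg)) (hc0 g (hKP g hg)),
            dvd_mul_of_dvd_right ?_ _, fun ho => Nat.Odd.sub_odd ho.pow odd_one⟩
          exact Finset.dvd_prod_of_mem (fun b => q ^ b - 1) (Finset.mem_image.2 ⟨g, Finset.mem_filter.2 ⟨hg, hs'⟩, rfl⟩)
      by_cases hfK : f ∈ K
      · obtain ⟨T, hT, ⟨j, hj⟩, -⟩ := hK' f hfK
        rw [hj]
        exact hT.trans (by simpa [← pow_mul] using sub_dvd_pow_sub_pow (X ^ T : F[X]) 1 j)
      · obtain ⟨c, rfl, hc⟩ := hnotK f hf hfK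
        rw [Polynomial.dvd_iff_isRoot, IsRoot.def, eval_sub, eval_pow, eval_X, eval_one, sub_eq_zero]
        rcases hc with rfl | rfl
        · exact one_pow L
        rcases Nat.even_or_odd q with heven | hoddq
        · haveI : CharP F 2 := ringChar.of_eq (FiniteField.even_card_iff_char_two.2 (Nat.even_iff.1 heven))
          rw [CharTwo.neg_eq, one_pow]
        · obtain ⟨g, hg⟩ := hK
          obtain ⟨T, -, hTL, hTe⟩ := hK' g hg
          exact (even_iff_two_dvd.2 ((hTe hoddq).two_dvd.trans hTL)).neg_one_pow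

end CfsgLib.KnownB.IsometryOrder

namespace CfsgLib.KnownB.IsometryOrder

open Matrix

universe v

/-- The bound for a group of isometries modulo its centre. -/
theorem orderOf_quotient_center_le {F : Type v} [Field F] [Fintype F] {ι : Type*} [Fintype ι] [DecidableEq ι]
    {G : Type*} [Group G] (φ : G →* Matrix ι ι F) (hφ : Function.Injective φ) {Jm : Matrix ι ι F}
    (hJ : IsUnit Jm) (hiso : ∀ g, (φ g)ᵀ * Jm * φ g = Jm) {m : ℕ} (hm : 2 ≤ m)
    (hN : Fintype.card ι ≤ 2 * m + 1) (hN2 : (2 : F) = 0 → Fintype.card ι ≤ 2 * m)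
    (hsmall : Fintype.card ι ≤ 2 * m ∨ 3 ≤ m) (x : G ⧸ Subgroup.center G) :
    (Fintype.card F - 1) * orderOf x ≤ Fintype.card F ^ (m + 1) := by
  obtain ⟨p, hp⟩ := CharP.exists F
  haveI := Fact.mk (CharP.char_is_prime F p)
  obtain ⟨g, rfl⟩ := QuotientGroup.mk_surjective x
  obtain ⟨k, hk, hle, c, hc⟩ := exists_scalar_pow p hJ (hiso g) hm hN
    (fun h => hN2 (by subst h; exact_mod_cast CharP.cast_eq_zero F 2)) hsmall
  refine le_trans (Nat.mul_le_mul_left _ (Nat.le_of_dvd hk (orderOf_dvd_of_pow_eq_one ?_))) hle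
  rw [← QuotientGroup.mk_pow, QuotientGroup.eq_one_iff, Subgroup.mem_center_iff]
  intro h
  refine hφ ?_
  rw [map_mul, map_mul, map_pow, hc]
  exact (Algebra.commutes c (φ h)).symm

end CfsgLib.KnownB.IsometryOrder
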