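import Cfsg.Agent.Lib.KnownB.IsometryOrderBound

/-!
The shape of the order of an isometry in even dimension: tori of total rank `R` and a unipotent part of rank `M`
with `R + M ≤ m`.
-/

set_option autoImplicit false
set_option linter.unusedSectionVars false

namespace CfsgLib.KnownB.IsometryOrder

open Polynomial Matrix UniqueFactorizationMonoid CfsgLib.KnownB.PrimeGraph

universe u

variable {F : Type u} [Field F] [Fintype F] {ι : Type*} [Fintype ι] [DecidableEq ι]

theorem exists_shape (p : ℕ) [Fact p.Prime] [CharP F p] {A Jm : Matrix ι ι F} (hJ : IsUnit Jm)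
    (hA : Aᵀ * Jm * A = Jm) {m : ℕ} (hN : Fintype.card ι ≤ 2 * m) :
    ∃ (T₁ T₂ : Finset ℕ) (s M : ℕ), (∀ a ∈ T₁, 0 < a) ∧ (∀ b ∈ T₂, 0 < b) ∧
      ∑ a ∈ T₁, a + ∑ b ∈ T₂, b + M ≤ m ∧ (0 < s → p ^ (s - 1) < 2 * M) ∧ (s = 0 → M = 0) ∧
      A ^ (2 * Nat.lcm (T₁.lcm fun a => Fintype.card F ^ a + 1) (T₂.lcm fun b => Fintype.card F ^ b - 1) * p ^ s) = 1 := by
  classical
  have hp := (Fact.out : p.Prime)
  set q := Fintype.card F with hq
  have hAu : IsUnit A := by
    rw [Matrix.isUnit_iff_isUnit_det, isUnit_iff_ne_zero]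
    intro h0
    have := congrArg Matrix.det hA
    rw [Matrix.det_mul, h0, mul_zero] at this
    exact ((Matrix.isUnit_iff_isUnit_det Jm).1 hJ).ne_zero this.symm
  have hint : IsIntegral F A := Matrix.isIntegral A
  set μ := minpoly F A with hμ
  have hμm : μ.Monic := minpoly.monic hint
  have hμ0 : μ ≠ 0 := hμm.ne_zero
  set fs := normalizedFactors μ with hfs
  set P := fs.toFinset with hPdef
  have hirr : ∀ f ∈ P, Irreducible f := fun f hf => irreducible_of_normalized_factor f (Multiset.mem_toFinset.1 hf)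
  have hmon : ∀ f ∈ P, f.Monic := fun f hf => by
    have h := normalize_normalized_factor f (Multiset.mem_toFinset.1 hf)
    rw [← h]
    exact Polynomial.monic_normalize (hirr f hf).ne_zero
  have hc0 : ∀ f ∈ P, f.coeff 0 ≠ 0 := fun f hf =>
    coeff_zero_ne_of_dvd (dvd_of_mem_normalizedFactors (Multiset.mem_toFinset.1 hf)) (coeff_zero_minpoly hAu)
  let e : F[X] → ℕ := fun f => fs.count f
  have hprod : μ = ∏ f ∈ P, f ^ e f := by
    rw [← Finset.prod_multiset_count, prod_normalizedFactors_eq hμ0, hμm.normalize_eq_self]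
  have hdeg : ∑ f ∈ P, e f * f.natDegree ≤ Fintype.card ι := by
    have h1 : μ.natDegree = ∑ f ∈ P, e f * f.natDegree := by
      rw [hprod, natDegree_prod _ _ fun f hf => pow_ne_zero _ (hirr f hf).ne_zero]
      exact Finset.sum_congr rfl fun f _ => natDegree_pow f _
    rw [← h1, ← A.charpoly_natDegree_eq_dim]
    exact natDegree_le_of_dvd A.minpoly_dvd_charpoly A.charpoly_monic.ne_zero
  have he1 : ∀ f ∈ P, 1 ≤ e f := fun f hf => Multiset.one_le_count_iff_mem.2 (Multiset.mem_toFinset.1 hf)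
  -- reversal preserves the multiplicities
  have hrevP : ∀ f ∈ P, revM f ∈ P ∧ e f ≤ e (revM f) := by
    intro f hf
    have hd : f ^ e f ∣ μ := hprod ▸ Finset.dvd_prod_of_mem (fun f => f ^ e f) hf
    have h1 : revM f ^ e f ∣ μ := by
      rw [← revM_pow (hc0 f hf)]
      exact revM_dvd_minpoly hJ hA (coeff_zero_ne_of_dvd hd (coeff_zero_minpoly hAu)) hd
    have hi := irreducible_revM (hirr f hf) (hc0 f hf)
    rw [dvd_iff_normalizedFactors_le_normalizedFactors (pow_ne_zero _ hi.ne_zero) hμ0, hi.normalizedFactors_pow,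
      (revM_monic (hc0 f hf)).normalize_eq_self] at h1
    have h2 := Multiset.le_count_iff_replicate_le.2 h1
    exact ⟨Multiset.mem_toFinset.2 (Multiset.count_pos.1 ((he1 f hf).trans h2)), h2⟩
  -- the exponent
  set s := Nat.clog p (P.sup e) with hs
  have hse : ∀ f ∈ P, e f ≤ p ^ s := fun f hf =>
    (Finset.le_sup hf).trans (Nat.le_pow_clog hp.one_lt _)
  have hs0 : 0 < s → ∃ f ∈ P, p ^ (s - 1) + 1 ≤ e f := fun h => by
    have h1 : 1 < P.sup e := by
      by_contra hle
      rw [hs, Nat.clog_of_right_le_one (Nat.le_of_not_lt hle)] at h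
      omega
    obtain ⟨f, hf, hfe⟩ := Finset.exists_mem_eq_sup P (Finset.nonempty_iff_ne_empty.2 fun h0 => by
      rw [h0, Finset.sup_empty] at h1; exact absurd h1 (by simp)) e
    exact ⟨f, hf, hfe ▸ Nat.pow_pred_clog_lt_self hp.one_lt h1⟩
  -- annihilation
  have hann : ∀ L : ℕ, (∀ f ∈ P, f ∣ X ^ L - 1) → A ^ (L * p ^ s) = 1 := by
    intro L hL
    have hdvd : μ ∣ (X ^ L - 1) ^ p ^ s := by
      rw [hprod]
      refine Finset.prod_dvd_of_coprime (fun f hf g hg hfg => IsCoprime.pow
        ((hirr f hf).coprime_iff_not_dvd.2 fun h => hfg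
          (eq_of_monic_of_associated (hmon f hf) (hmon g hg) ((hirr f hf).associated_of_dvd (hirr g hg) h)))) ?_
      intro f hf
      exact (pow_dvd_pow f (hse f hf)).trans (pow_dvd_pow_of_dvd (hL f hf) _)
    obtain ⟨c, hc⟩ := hdvd
    have h := congrArg (aeval A) hc
    rw [map_mul, minpoly.aeval, zero_mul, sub_pow_expChar_pow, one_pow, ← pow_mul, map_sub, map_pow,
      aeval_X, map_one, sub_eq_zero] at h
    exact h
  set K := P.filter (fun f => f ≠ X - C 1 ∧ f ≠ X - C (-1)) with hKdef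
  have hnotK : ∀ f ∈ P, f ∉ K → ∃ c : F, f = X - C c ∧ (c = 1 ∨ c = -1) := fun f hf hfK => by
    rcases not_and_or.1 (fun h => hfK (Finset.mem_filter.2 ⟨hf, h⟩)) with h | h
    · exact ⟨1, not_not.1 h, Or.inl rfl⟩
    · exact ⟨-1, not_not.1 h, Or.inr rfl⟩
  have hKP : ∀ f ∈ K, f ∈ P := fun f hf => (Finset.mem_filter.1 hf).1
  have hnotsq : ∀ f ∈ K, ¬ f ∣ X ^ 2 - 1 := by
    intro f hf h
    obtain ⟨hfP, h1, h2⟩ := Finset.mem_filter.1 hf
    rw [show (X ^ 2 - 1 : F[X]) = (X - C 1) * (X - C (-1)) by simp; ring] at h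
    rcases (hirr f hfP).prime.dvd_or_dvd h with h | h
    · exact h1 (eq_of_monic_of_associated (hmon f hfP) (monic_X_sub_C _)
        ((hirr f hfP).associated_of_dvd (irreducible_X_sub_C _) h))
    · exact h2 (eq_of_monic_of_associated (hmon f hfP) (monic_X_sub_C _)
        ((hirr f hfP).associated_of_dvd (irreducible_X_sub_C _) h))
  have hself : ∀ f ∈ K, revM f = f →
      ∃ h, f.natDegree = 2 * h ∧ f ∣ X ^ (q ^ h + 1) - 1 := fun f hf hs' =>
    selfdual (hirr f (hKP f hf)) (hc0 f (hKP f hf)) (by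
      have h := (associated_revM (hc0 f (hKP f hf))).dvd
      rwa [hs'] at h) (hnotsq f hf)
  have hrevrev : ∀ f ∈ K, revM f ≠ f → revM f ∈ K ∧ revM f ≠ f := by
    intro f hf hne
    refine ⟨Finset.mem_filter.2 ⟨(hrevP f (hKP f hf)).1, ?_, ?_⟩, hne⟩ <;> intro h
    all_goals
      apply hnotsq f hf
      have h0 := hc0 f (hKP f hf)
      have hd : revM f ∣ X ^ 2 - 1 := by
        rw [h, show (X ^ 2 - 1 : F[X]) = (X - C 1) * (X - C (-1)) by simp; ring]
        first | exact dvd_mul_right _ _ | exact dvd_mul_left _ _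
      have hd' := revM_dvd_X_pow_sub_one two_pos hd
      refine dvd_trans ?_ hd'
      have hr0 : (revM f).coeff 0 ≠ 0 := coeff_zero_ne_of_dvd hd (coeff_zero_X_pow_sub_one two_pos)
      refine dvd_trans ?_ (associated_revM hr0).symm.dvd
      rw [revM, reverse_mul_of_domain]
      refine dvd_mul_of_dvd_right ?_ _
      have hrr : (f.reverse).reverse = f := by
        ext i
        rw [coeff_reverse, coeff_reverse, reverse_natDegree, natTrailingDegree_eq_zero h0, Nat.sub_zero,
          revAt_invol]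
      rw [hrr]
  set A₁ := (K.filter (fun f => revM f = f)).image (fun f => f.natDegree / 2) with hA₁
  set B := (K.filter (fun f => ¬ revM f = f)).image (fun f => f.natDegree) with hB
  have hA₁pos : ∀ a ∈ A₁, 0 < a := by
    intro a ha
    obtain ⟨f, hf, rfl⟩ := Finset.mem_image.1 ha
    obtain ⟨hfK, hs'⟩ := Finset.mem_filter.1 hf
    obtain ⟨h, hd, -⟩ := hself f hfK hs'
    have := (hirr f (hKP f hfK)).natDegree_pos
    omega
  have hBpos : ∀ b ∈ B, 0 < b := by
    intro b hb
    obtain ⟨f, hf, rfl⟩ := Finset.mem_image.1 hb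
    exact (hirr f (hKP f (Finset.mem_filter.1 hf).1)).natDegree_pos
  -- the weight
  have hR : 2 * (∑ a ∈ A₁, a + ∑ b ∈ B, b) ≤ ∑ f ∈ K, f.natDegree := by
    rw [mul_add, ← Finset.sum_filter_add_sum_filter_not K (fun f => revM f = f)]
    refine Nat.add_le_add ?_ ?_
    · rw [Finset.mul_sum]
      refine le_trans (Finset.sum_image_le_of_nonneg (f := fun a => 2 * a)
        (g := fun f : F[X] => f.natDegree / 2) fun u _ => Nat.zero_le _) (Finset.sum_le_sum fun f _ => ?_)
      exact Nat.mul_div_le _ 2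
    · rw [Finset.mul_sum, ← Finset.sum_fiberwise_of_maps_to (t := B)
        (g := fun f : F[X] => f.natDegree) (fun f hf => Finset.mem_image_of_mem _ hf) (fun f => f.natDegree)]
      refine Finset.sum_le_sum fun b hb => ?_
      obtain ⟨f, hf, rfl⟩ := Finset.mem_image.1 hb
      obtain ⟨hfK, hne⟩ := Finset.mem_filter.1 hf
      obtain ⟨hrK, -⟩ := hrevrev f hfK hne
      have hne2 : ¬ revM (revM f) = revM f := fun h => by
        have h0 := hc0 f (hKP f hfK)
        have hi := irreducible_revM (hirr f (hKP f hfK)) h0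
        have hr0 : (revM f).coeff 0 ≠ 0 := hc0 _ (hKP _ hrK)
        refine hne (eq_of_monic_of_associated (revM_monic h0) (hmon f (hKP f hfK))
          ((hirr f (hKP f hfK)).associated_of_dvd hi ?_).symm)
        rw [← h]
        refine dvd_trans ?_ (associated_revM hr0).symm.dvd
        rw [revM, reverse_mul_of_domain]
        refine dvd_mul_of_dvd_right ?_ _
        have hrr : (f.reverse).reverse = f := by
          ext i
          rw [coeff_reverse, coeff_reverse, reverse_natDegree, natTrailingDegree_eq_zero h0, Nat.sub_zero,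
            revAt_invol]
        rw [hrr]
      refine le_trans ?_ (Finset.sum_le_sum_of_subset (s := {revM f, f}) (fun x hx => ?_))
      · rw [Finset.sum_pair hne, natDegree_revM (hc0 f (hKP f hfK))]
        omega
      · rcases Finset.mem_insert.1 hx with rfl | hx
        · exact Finset.mem_filter.2 ⟨Finset.mem_filter.2 ⟨hrK, hne2⟩, natDegree_revM (hc0 f (hKP f hfK))⟩
        · rw [Finset.mem_singleton.1 hx]
          exact Finset.mem_filter.2 ⟨hf, rfl⟩
  set R := ∑ a ∈ A₁, a + ∑ b ∈ B, b with hRdef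
  have hann' : A ^ (2 * Nat.lcm (A₁.lcm fun a => q ^ a + 1) (B.lcm fun b => q ^ b - 1) * p ^ s) = 1 := by
    refine hann _ fun f hf => ?_
    set L := Nat.lcm (A₁.lcm fun a => q ^ a + 1) (B.lcm fun b => q ^ b - 1) with hLdef
    by_cases hfK : f ∈ K
    · have hT : ∃ T, f ∣ X ^ T - 1 ∧ T ∣ L := by
        by_cases hs' : revM f = f
        · obtain ⟨h, hd, hdvd⟩ := hself f hfK hs'
          refine ⟨q ^ h + 1, hdvd, dvd_trans ?_ (Nat.dvd_lcm_left _ _)⟩
          exact Finset.dvd_lcm (f := fun a => q ^ a + 1)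
            (Finset.mem_image.2 ⟨f, Finset.mem_filter.2 ⟨hfK, hs'⟩, by omega⟩)
        · exact ⟨q ^ f.natDegree - 1, dvd_X_pow_card_pow_sub_one (hirr f hf) (hc0 f hf),
            (Finset.dvd_lcm (f := fun b => q ^ b - 1)
              (Finset.mem_image.2 ⟨f, Finset.mem_filter.2 ⟨hfK, hs'⟩, rfl⟩)).trans (Nat.dvd_lcm_right _ _)⟩
      obtain ⟨T, hT1, hT2⟩ := hT
      obtain ⟨j, hj⟩ := hT2.mul_left 2
      rw [hj]
      exact hT1.trans (by simpa [← pow_mul] using sub_dvd_pow_sub_pow (X ^ T : F[X]) 1 j)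
    · obtain ⟨c, rfl, hc⟩ := hnotK f hf hfK
      rw [Polynomial.dvd_iff_isRoot, IsRoot.def, eval_sub, eval_pow, eval_X, eval_one, sub_eq_zero]
      rcases hc with rfl | rfl
      · exact one_pow _
      · exact (even_two_mul L).neg_one_pow
  let w := fun f => (e f - if f ∈ K then 1 else 0) * f.natDegree
  have hsplit : ∑ f ∈ P, e f * f.natDegree = ∑ f ∈ K, f.natDegree + ∑ f ∈ P, w f := by
    simp only [w]
    rw [show ∑ f ∈ K, f.natDegree = ∑ f ∈ P, if f ∈ K then f.natDegree else 0 by
      rw [Finset.sum_ite_mem, Finset.inter_eq_right.2 (show K ⊆ P from hKP)], ← Finset.sum_add_distrib]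
    refine Finset.sum_congr rfl fun f hf => ?_
    by_cases hfK : f ∈ K
    · rw [if_pos hfK, if_pos hfK]
      conv_rhs => arg 1; rw [← one_mul f.natDegree]
      rw [← add_mul, Nat.add_sub_cancel' (he1 f hf)]
    · rw [if_neg hfK, if_neg hfK, zero_add, Nat.sub_zero]
  refine ⟨A₁, B, s, ?_⟩
  rcases Nat.eq_zero_or_pos s with h0 | h0
  · exact ⟨0, hA₁pos, hBpos, by omega, fun h => by omega, fun _ => rfl, hann'⟩
  obtain ⟨f, hf, hfe⟩ := hs0 h0
  by_cases hfK : f ∈ K
  · have hw : 2 * (e f - 1) ≤ ∑ f ∈ P, w f := by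
      by_cases hs' : revM f = f
      · obtain ⟨h, hd, -⟩ := hself f hfK hs'
        refine le_trans ?_ (Finset.single_le_sum (f := w) (fun _ _ => Nat.zero_le _) hf)
        simp only [w, if_pos hfK, hd]
        have h1 : 1 ≤ h := by have := (hirr f hf).natDegree_pos; omega
        rw [mul_comm 2]
        exact Nat.mul_le_mul_left _ (by omega)
      · obtain ⟨hrK, -⟩ := hrevrev f hfK hs'
        refine le_trans ?_ (Finset.sum_le_sum_of_subset (f := w) (s := {revM f, f})
          (by simp [Finset.insert_subset_iff, hKP _ hrK, hf]))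
        rw [Finset.sum_pair hs']
        simp only [w, if_pos hfK, if_pos hrK]
        have h1 := (hrevP f hf).2
        have h2 := Nat.le_mul_of_pos_right (e f - 1) (hirr f hf).natDegree_pos
        have h3 := Nat.le_mul_of_pos_right (e (revM f) - 1) (hirr _ (hKP _ hrK)).natDegree_pos
        omega
    have hpos := Nat.one_le_pow (s - 1) p hp.pos
    exact ⟨e f - 1, hA₁pos, hBpos, by omega, fun _ => by omega, fun h => by omega, hann'⟩
  · have hw : e f ≤ ∑ f ∈ P, w f := by
      refine le_trans ?_ (Finset.single_le_sum (f := w) (fun _ _ => Nat.zero_le _) hf)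
      simp only [w, if_neg hfK, Nat.sub_zero]
      exact Nat.le_mul_of_pos_right _ (hirr f hf).natDegree_pos
    exact ⟨m - R, hA₁pos, hBpos, by omega, fun _ => by omega, fun h => by omega, hann'⟩

end CfsgLib.KnownB.IsometryOrder
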