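import Cfsg.Prelude.Def_JordanBlocks
import Mathlib

/-!
The centraliser of a unipotent matrix of a given Jordan type in the general linear group.
-/

set_option autoImplicit false
set_option linter.unusedSectionVars false

namespace CfsgLib.KnownB.JordanCent

open Matrix

universe u

variable {F : Type u} [Field F] {t : ℕ} (d : Fin t → ℕ)

/-- The index type. -/
abbrev Idx : Type := (k : Fin t) × Fin (d k)

/-- The free coordinates: row `p`, generating column `l`. -/
abbrev Par : Type := {z : Idx d × Fin t // d z.1.1 ≤ (z.1.2 : ℕ) + d z.2}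

/-- The coordinates of the diagonal blocks. -/
abbrev Diag (i : ℕ) : Type := {k : Fin t // d k = i}

/-- The coordinates off the diagonal blocks. -/
abbrev Rest : Type := {z : Idx d × Fin t // d z.1.1 ≤ (z.1.2 : ℕ) + d z.2 ∧ ¬((z.1.2 : ℕ) = 0 ∧ d z.1.1 = d z.2)}

/-- The nilpotent shift. -/
def shift (F : Type u) [Field F] : Matrix (Idx d) (Idx d) F :=
  Matrix.of fun p p' => if p.1 = p'.1 ∧ (p.2 : ℕ) = p'.2 + 1 then 1 else 0

theorem jordan_eq : Cfsg.jordanTypeMatrix d F = 1 + shift d F := by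
  ext ⟨k, a⟩ ⟨k', c⟩
  rw [Cfsg.jordanTypeMatrix, Matrix.blockDiagonal'_apply, Matrix.add_apply, shift, Matrix.of_apply]
  by_cases h : k = k'
  · subst h
    rw [dif_pos rfl]
    simp only [cast_eq, Cfsg.jordanBlock, Matrix.of_apply, Matrix.one_apply, true_and, Sigma.mk.injEq, heq_eq_eq, Fin.ext_iff]
    split_ifs <;> first | (simp; done) | (exfalso; omega)
  · rw [dif_neg h, if_neg (fun hh => h hh.1), Matrix.one_apply_ne (fun hh => h (congrArg Sigma.fst hh)), add_zero]

/-- The matrix with the given coordinates. -/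
def mk (v : Par d → F) : Matrix (Idx d) (Idx d) F :=
  Matrix.of fun p p' =>
    if h : (p'.2 : ℕ) ≤ p.2 ∧ d p.1 ≤ (p.2 : ℕ) - p'.2 + d p'.1 then
      v ⟨(⟨p.1, ⟨(p.2 : ℕ) - p'.2, lt_of_le_of_lt (Nat.sub_le _ _) p.2.isLt⟩⟩, p'.1), h.2⟩
    else 0

theorem mul_shift_apply (M : Matrix (Idx d) (Idx d) F) (p p' : Idx d) :
    (M * shift d F) p p' = if h : (p'.2 : ℕ) + 1 < d p'.1 then M p ⟨p'.1, ⟨_, h⟩⟩ else 0 := by
  rw [Matrix.mul_apply]
  split_ifs with h
  · rw [Finset.sum_eq_single (⟨p'.1, ⟨_, h⟩⟩ : Idx d)]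
    · simp [shift]
    · rintro ⟨k, x⟩ _ hne
      rw [shift, Matrix.of_apply, if_neg, mul_zero]
      rintro ⟨h1, h2⟩
      apply hne
      change k = p'.1 at h1
      subst h1
      exact congrArg (Sigma.mk _) (Fin.ext h2)
    · simp
  · refine Finset.sum_eq_zero fun ⟨k, x⟩ _ => ?_
    rw [shift, Matrix.of_apply, if_neg, mul_zero]
    rintro ⟨h1, h2⟩
    change k = p'.1 at h1
    subst h1
    change (x : ℕ) = p'.2 + 1 at h2
    exact h (h2 ▸ x.isLt)

theorem shift_mul_apply (M : Matrix (Idx d) (Idx d) F) (p p' : Idx d) :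
    (shift d F * M) p p' =
      if 0 < (p.2 : ℕ) then M ⟨p.1, ⟨(p.2 : ℕ) - 1, lt_of_le_of_lt (Nat.sub_le _ _) p.2.isLt⟩⟩ p' else 0 := by
  rw [Matrix.mul_apply]
  split_ifs with h
  · rw [Finset.sum_eq_single (⟨p.1, ⟨(p.2 : ℕ) - 1, lt_of_le_of_lt (Nat.sub_le _ _) p.2.isLt⟩⟩ : Idx d)]
    · rw [shift, Matrix.of_apply, if_pos ⟨rfl, by show (p.2 : ℕ) = (p.2 : ℕ) - 1 + 1; omega⟩, one_mul]
    · rintro ⟨k, x⟩ _ hne
      rw [shift, Matrix.of_apply, if_neg, zero_mul]
      rintro ⟨h1, h2⟩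
      apply hne
      change p.1 = k at h1
      subst h1
      exact congrArg (Sigma.mk _) (Fin.ext (by show (x : ℕ) = (p.2 : ℕ) - 1; change (p.2 : ℕ) = x + 1 at h2; omega))
    · simp
  · refine Finset.sum_eq_zero fun ⟨k, x⟩ _ => ?_
    rw [shift, Matrix.of_apply, if_neg, zero_mul]
    rintro ⟨h1, h2⟩
    change (p.2 : ℕ) = x + 1 at h2
    omega

theorem commute_mk (v : Par d → F) : mk d v * shift d F = shift d F * mk d v := by
  ext ⟨k, x⟩ ⟨l, b⟩
  rw [mul_shift_apply, shift_mul_apply]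
  have hx := x.isLt
  have hb := b.isLt
  simp only [mk, Matrix.of_apply]
  split_ifs <;> first
    | rfl
    | (exfalso; omega)
    | (exfalso; rename_i h1 h2; obtain ⟨h2a, h2b⟩ := h2; omega)
    | (congr 1; apply Subtype.ext; refine Prod.ext ?_ rfl; exact congrArg (Sigma.mk k) (Fin.ext (by simp; omega)))

theorem entry_zero (hd : ∀ k, 1 ≤ d k) {M : Matrix (Idx d) (Idx d) F} (hM : M * shift d F = shift d F * M)
    (b : ℕ) : ∀ (l : Fin t) (hb : b < d l) (p : Idx d),
      M p ⟨l, ⟨b, hb⟩⟩ = if b ≤ (p.2 : ℕ) then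
        M ⟨p.1, ⟨(p.2 : ℕ) - b, lt_of_le_of_lt (Nat.sub_le _ _) p.2.isLt⟩⟩ ⟨l, ⟨0, hd l⟩⟩ else 0 := by
  induction b with
  | zero =>
    intro l hb p
    rw [if_pos (Nat.zero_le _)]
    rfl
  | succ b ih =>
    intro l hb p
    have h := congrFun (congrFun hM p) ⟨l, ⟨b, by omega⟩⟩
    rw [mul_shift_apply, shift_mul_apply, dif_pos (show b + 1 < d l from hb)] at h
    rw [show M p ⟨l, ⟨b + 1, hb⟩⟩ = _ from h]
    by_cases hp : 0 < (p.2 : ℕ)
    · rw [if_pos hp, ih]
      by_cases hbp : b + 1 ≤ (p.2 : ℕ)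
      · rw [if_pos hbp, if_pos (show b ≤ (p.2 : ℕ) - 1 by omega)]
        exact congrArg (fun a => M ⟨p.1, a⟩ _) (Fin.ext (by show (p.2 : ℕ) - 1 - b = (p.2 : ℕ) - (b + 1); omega))
      · rw [if_neg hbp, if_neg (show ¬ b ≤ (p.2 : ℕ) - 1 by omega)]
    · rw [if_neg hp, if_neg (by omega)]

theorem kill (hd : ∀ k, 1 ≤ d k) {M : Matrix (Idx d) (Idx d) F} (hM : M * shift d F = shift d F * M)
    (p : Idx d) (l : Fin t) (h : (p.2 : ℕ) + d l < d p.1) : M p ⟨l, ⟨0, hd l⟩⟩ = 0 := by
  have hl := hd l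
  have h1 := congrFun (congrFun hM ⟨p.1, ⟨(p.2 : ℕ) + d l, h⟩⟩) ⟨l, ⟨d l - 1, by omega⟩⟩
  rw [mul_shift_apply, shift_mul_apply, dif_neg (show ¬ d l - 1 + 1 < d l by omega),
    if_pos (show 0 < (p.2 : ℕ) + d l by omega), entry_zero d hd hM,
    if_pos (show d l - 1 ≤ (p.2 : ℕ) + d l - 1 by omega)] at h1
  rw [h1]
  exact congrArg (fun a => M ⟨p.1, a⟩ _) (Fin.ext (by show (p.2 : ℕ) = (p.2 : ℕ) + d l - 1 - (d l - 1); omega))

/-- The commutant in coordinates. -/
noncomputable def commutant (hd : ∀ k, 1 ≤ d k) :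
    {M : Matrix (Idx d) (Idx d) F // M * shift d F = shift d F * M} ≃ (Par d → F) where
  toFun M z := M.1 z.1.1 ⟨z.1.2, ⟨0, hd z.1.2⟩⟩
  invFun v := ⟨mk d v, commute_mk d v⟩
  left_inv M := by
    refine Subtype.ext ?_
    ext ⟨k, x⟩ ⟨l, b⟩
    simp only [mk, Matrix.of_apply]
    rw [entry_zero d hd M.2 b l b.isLt ⟨k, x⟩]
    by_cases hb : (b : ℕ) ≤ x
    · rw [if_pos hb]
      by_cases hk : d k ≤ (x : ℕ) - b + d l
      · rw [dif_pos ⟨hb, hk⟩]
      · rw [dif_neg (fun h => hk h.2), kill d hd M.2 _ l (show (x : ℕ) - b + d l < d k by omega)]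
    · rw [if_neg hb, dif_neg (fun h => hb h.1)]
  right_inv v := by
    funext z
    simp only [mk, Matrix.of_apply]
    rw [dif_pos ⟨Nat.zero_le _, by simpa using z.2⟩]
    rfl

/-- The blocks of a coordinate vector. -/
def blk (hd : ∀ k, 1 ≤ d k) (v : Par d → F) (i : ℕ) : Matrix (Diag d i) (Diag d i) F :=
  Matrix.of fun k l => v ⟨(⟨k.1, ⟨0, hd k.1⟩⟩, l.1), by show d k.1 ≤ 0 + d l.1; rw [k.2, l.2, zero_add]⟩

theorem det_mk_ne_zero_iff (hd : ∀ k, 1 ≤ d k) (v : Par d → F) :
    (mk d v).det ≠ 0 ↔ ∀ i, (blk d hd v i).det ≠ 0 := by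
  classical
  obtain ⟨D, hD⟩ : ∃ D, D = Finset.univ.sup d := ⟨_, rfl⟩
  have hle : ∀ k, d k ≤ D := fun k => hD ▸ Finset.le_sup (Finset.mem_univ k)
  let key : Idx d → ℕ := fun p => (D + 1) * (D - p.2) + d p.1
  have htri : (mk d v).BlockTriangular key := by
    rintro ⟨k, x⟩ ⟨l, b⟩ hlt
    simp only [mk, Matrix.of_apply]
    rw [dif_neg]
    rintro ⟨h1, h2⟩
    have hkD := hle k
    have hlD := hle l
    have hx := x.isLt
    change (D + 1) * (D - (b : ℕ)) + d l < (D + 1) * (D - (x : ℕ)) + d k at hlt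
    change (b : ℕ) ≤ (x : ℕ) at h1
    rcases eq_or_lt_of_le h1 with e | hlt'
    · have : d k ≤ d l := by rw [e, Nat.sub_self, zero_add] at h2; exact h2
      rw [e] at hlt
      omega
    · have h3 : (D + 1) * (D - (x : ℕ)) + (D + 1) ≤ (D + 1) * (D - (b : ℕ)) := by
        rw [← Nat.mul_succ]
        exact Nat.mul_le_mul_left _ (by omega)
      omega
  have hkey : ∀ p p', key p = key p' → (p.2 : ℕ) = p'.2 ∧ d p.1 = d p'.1 := by
    rintro ⟨k, x⟩ ⟨l, b⟩ h
    change (D + 1) * (D - (x : ℕ)) + d k = (D + 1) * (D - (b : ℕ)) + d l at h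
    have hkD := hle k
    have hlD := hle l
    have hx := x.isLt
    have hb := b.isLt
    rcases lt_trichotomy (D - (x : ℕ)) (D - (b : ℕ)) with h1 | h1 | h1
    · have : (D + 1) * (D - (x : ℕ)) + (D + 1) ≤ (D + 1) * (D - (b : ℕ)) := by
        rw [← Nat.mul_succ]; exact Nat.mul_le_mul_left _ h1
      omega
    · refine ⟨by show (x : ℕ) = b; omega, ?_⟩
      rw [h1] at h
      show d k = d l
      omega
    · have : (D + 1) * (D - (b : ℕ)) + (D + 1) ≤ (D + 1) * (D - (x : ℕ)) := by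
        rw [← Nat.mul_succ]; exact Nat.mul_le_mul_left _ h1
      omega
  have hblock : ∀ p0 : Idx d, ((mk d v).toSquareBlock key (key p0)).det = (blk d hd v (d p0.1)).det := by
    intro p0
    let e : Diag d (d p0.1) ≃ {p : Idx d // key p = key p0} :=
      { toFun := fun k => ⟨⟨k.1, ⟨p0.2, by rw [k.2]; exact p0.2.isLt⟩⟩, by
          show (D + 1) * (D - (p0.2 : ℕ)) + d k.1 = _; rw [k.2]⟩
        invFun := fun p => ⟨p.1.1, (hkey _ _ p.2).2⟩
        left_inv := fun k => rfl
        right_inv := fun ⟨⟨k, x⟩, hp⟩ => Subtype.ext (congrArg (Sigma.mk k) (Fin.ext (hkey _ _ hp).1.symm)) }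
    rw [← Matrix.det_submatrix_equiv_self e]
    congr 1
    ext k l
    simp only [Matrix.submatrix_apply, Matrix.toSquareBlock_def, Matrix.of_apply, mk, e, Equiv.coe_fn_mk, blk]
    rw [dif_pos ⟨le_rfl, by rw [Nat.sub_self, zero_add, k.2, l.2]⟩]
    congr 1
    exact Subtype.ext (Prod.ext (congrArg (Sigma.mk k.1) (Fin.ext (Nat.sub_self _))) rfl)
  rw [htri.det, Finset.prod_ne_zero_iff]
  constructor
  · intro h i
    rcases isEmpty_or_nonempty (Diag d i) with he | ⟨⟨k, hk⟩⟩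
    · rw [Matrix.det_isEmpty]; exact one_ne_zero
    · have := h (key ⟨k, ⟨0, hd k⟩⟩) (Finset.mem_image_of_mem _ (Finset.mem_univ _))
      rw [hblock] at this
      subst hk
      exact this
  · intro h z hz
    obtain ⟨p0, -, rfl⟩ := Finset.mem_image.1 hz
    rw [hblock]
    exact h _

theorem sum_classes (g : ℕ → ℕ → ℕ) :
    ∑ k : Fin t, ∑ l : Fin t, g (d k) (d l) = ∑ i ∈ Finset.range (Finset.univ.sup d + 1), ∑ j ∈ Finset.range (Finset.univ.sup d + 1),
      (Finset.univ.filter fun k => d k = i).card * ((Finset.univ.filter fun k => d k = j).card * g i j) := by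
  have hm : ∀ k ∈ (Finset.univ : Finset (Fin t)), d k ∈ Finset.range (Finset.univ.sup d + 1) := fun k _ =>
    Finset.mem_range.2 (Nat.lt_succ_of_le (Finset.le_sup (Finset.mem_univ k)))
  have h1 : ∀ h : ℕ → ℕ, ∑ k : Fin t, h (d k) =
      ∑ i ∈ Finset.range (Finset.univ.sup d + 1), (Finset.univ.filter fun k => d k = i).card * h i := by
    intro h
    rw [← Finset.sum_fiberwise_of_maps_to hm fun k => h (d k)]
    refine Finset.sum_congr rfl fun i _ => ?_
    rw [Finset.sum_congr rfl (g := fun _ => h i) fun k hk => by rw [(Finset.mem_filter.1 hk).2], Finset.sum_const,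
      smul_eq_mul]
  rw [h1 fun a => ∑ l : Fin t, g a (d l)]
  refine Finset.sum_congr rfl fun i _ => ?_
  rw [h1 (g i), Finset.mul_sum]

theorem card_rest (hd : ∀ k, 1 ≤ d k) : Nat.card (Rest d) =
    2 * (∑ i ∈ Finset.range (Finset.univ.sup d + 1), ∑ j ∈ Finset.range (Finset.univ.sup d + 1),
      if i < j then i * (Finset.univ.filter (fun k : Fin t => d k = i)).card * (Finset.univ.filter (fun k : Fin t => d k = j)).card else 0) +
      ∑ i ∈ Finset.range (Finset.univ.sup d + 1), (i - 1) * (Finset.univ.filter (fun k : Fin t => d k = i)).card ^ 2 := by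
  classical
  obtain ⟨R, hR⟩ : ∃ R, R = Finset.range (Finset.univ.sup d + 1) := ⟨_, rfl⟩
  have hfib : ∀ k l : Fin t, (Finset.univ.filter fun x : Fin (d k) =>
      d k ≤ (x : ℕ) + d l ∧ ¬((x : ℕ) = 0 ∧ d k = d l)).card = min (d k) (d l) - (if d k = d l then 1 else 0) := by
    intro k l
    rw [← Finset.card_map Fin.valEmbedding]
    have hl := hd l
    have hk := hd k
    have hset : ((Finset.univ.filter fun x : Fin (d k) => d k ≤ (x : ℕ) + d l ∧ ¬((x : ℕ) = 0 ∧ d k = d l)).map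
        Fin.valEmbedding) = Finset.Ico (if d k = d l then 1 else d k - d l) (d k) := by
      ext x
      simp only [Finset.mem_map, Finset.mem_filter, Finset.mem_univ, true_and, Finset.mem_Ico, Fin.valEmbedding_apply]
      constructor
      · rintro ⟨y, ⟨h1, h2⟩, rfl⟩
        have := y.isLt
        split_ifs with h
        · exact ⟨Nat.one_le_iff_ne_zero.2 fun h0 => h2 ⟨h0, h⟩, this⟩
        · omega
      · rintro ⟨h1, h2⟩
        refine ⟨⟨x, h2⟩, ⟨?_, ?_⟩, rfl⟩ <;> split_ifs at h1 with h <;> simp <;> omega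
    rw [hset, Nat.card_Ico]
    split_ifs <;> omega
  have hRest : Nat.card (Rest d) = ∑ k, ∑ l, (min (d k) (d l) - (if d k = d l then 1 else 0)) := by
    let e : Rest d ≃ (k : Fin t) × (l : Fin t) × {x : Fin (d k) // d k ≤ (x : ℕ) + d l ∧ ¬((x : ℕ) = 0 ∧ d k = d l)} :=
      { toFun := fun z => ⟨z.1.1.1, z.1.2, z.1.1.2, z.2⟩
        invFun := fun w => ⟨(⟨w.1, w.2.2.1⟩, w.2.1), w.2.2.2⟩
        left_inv := fun z => rfl
        right_inv := fun w => rfl }
    rw [Nat.card_congr e, Nat.card_sigma]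
    refine Finset.sum_congr rfl fun k _ => ?_
    rw [Nat.card_sigma]
    refine Finset.sum_congr rfl fun l _ => ?_
    rw [← hfib, Nat.card_eq_fintype_card, Fintype.card_subtype]
  rw [hRest, sum_classes d fun a b => min a b - (if a = b then 1 else 0)]
  obtain ⟨m, hm⟩ : ∃ m : ℕ → ℕ, ∀ i, (Finset.univ.filter fun k => d k = i).card = m i := ⟨_, fun i => rfl⟩
  simp only [hm, ← hR]
  have hsplit : ∀ i j, m i * (m j * (min i j - (if i = j then 1 else 0))) =
      (if i < j then i * m i * m j else 0) + (if j < i then j * m j * m i else 0) +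
        (if i = j then (i - 1) * m i ^ 2 else 0) := by
    intro i j
    rcases lt_trichotomy i j with h | rfl | h
    · rw [if_neg h.ne, if_pos h, if_neg (not_lt.2 h.le), if_neg h.ne, min_eq_left h.le]; ring_nf; simp
    · simp only [lt_irrefl, if_false, if_true, min_self]; ring
    · rw [if_neg h.ne', if_neg (not_lt.2 h.le), if_pos h, if_neg h.ne', min_eq_right h.le]; ring_nf; simp
  simp only [hsplit, Finset.sum_add_distrib]
  rw [Finset.sum_comm (f := fun i j => if j < i then j * m j * m i else 0), two_mul]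
  congr 1
  refine Finset.sum_congr rfl fun i hi => ?_
  rw [Finset.sum_ite_eq, if_pos hi]

theorem card_centraliser [Fintype F] (hd : ∀ k, 1 ≤ d k) :
    Nat.card {g : GL (Idx d) F // (g : Matrix (Idx d) (Idx d) F) * Cfsg.jordanTypeMatrix d F =
        Cfsg.jordanTypeMatrix d F * (g : Matrix (Idx d) (Idx d) F)} =
      Fintype.card F ^ (2 * (∑ i ∈ Finset.range (Finset.univ.sup d + 1), ∑ j ∈ Finset.range (Finset.univ.sup d + 1),
          if i < j then i * (Finset.univ.filter (fun k : Fin t => d k = i)).card * (Finset.univ.filter (fun k : Fin t => d k = j)).card else 0) +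
          ∑ i ∈ Finset.range (Finset.univ.sup d + 1), (i - 1) * (Finset.univ.filter (fun k : Fin t => d k = i)).card ^ 2) *
        ∏ i ∈ Finset.range (Finset.univ.sup d + 1), ∏ j : Fin ((Finset.univ.filter (fun k : Fin t => d k = i)).card),
          (Fintype.card F ^ (Finset.univ.filter (fun k : Fin t => d k = i)).card - Fintype.card F ^ (j : ℕ)) := by
  classical
  obtain ⟨R, hR⟩ : ∃ R, R = Finset.range (Finset.univ.sup d + 1) := ⟨_, rfl⟩
  have hdR : ∀ k, d k ∈ R := fun k => hR ▸ Finset.mem_range.2 (Nat.lt_succ_of_le (Finset.le_sup (Finset.mem_univ k)))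
  have hcomm : ∀ M : Matrix (Idx d) (Idx d) F, M * Cfsg.jordanTypeMatrix d F = Cfsg.jordanTypeMatrix d F * M ↔
      M * shift d F = shift d F * M := fun M => by
    rw [jordan_eq, mul_add, add_mul, mul_one, one_mul, add_right_inj]
  -- units of the commutant
  have e1 : {g : GL (Idx d) F // (g : Matrix (Idx d) (Idx d) F) * Cfsg.jordanTypeMatrix d F =
        Cfsg.jordanTypeMatrix d F * (g : Matrix (Idx d) (Idx d) F)} ≃ {v : Par d → F // (mk d v).det ≠ 0} :=
    { toFun := fun g => ⟨commutant d hd ⟨_, (hcomm _).1 g.2⟩, by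
        have h := congrArg Subtype.val ((commutant d hd).symm_apply_apply ⟨_, (hcomm _).1 g.2⟩)
        change mk d _ = _ at h
        rw [h]
        exact ((Matrix.isUnit_iff_isUnit_det _).1 g.1.isUnit).ne_zero⟩
      invFun := fun v => ⟨Matrix.GeneralLinearGroup.mkOfDetNeZero (mk d v.1) v.2, (hcomm _).2 (commute_mk d v.1)⟩
      left_inv := fun g => Subtype.ext (Units.ext (congrArg Subtype.val
        ((commutant d hd).symm_apply_apply ⟨_, (hcomm _).1 g.2⟩)))
      right_inv := fun v => Subtype.ext ((commutant d hd).apply_symm_apply v.1) }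
  -- split off the diagonal blocks
  have e2 : {v : Par d → F // (mk d v).det ≠ 0} ≃ ((i : R) → GL (Diag d i) F) × (Rest d → F) :=
    { toFun := fun v => (fun i => Matrix.GeneralLinearGroup.mkOfDetNeZero (blk d hd v.1 i) ((det_mk_ne_zero_iff d hd v.1).1 v.2 i),
        fun z => v.1 ⟨z.1, z.2.1⟩)
      invFun := fun a => ⟨fun z => if h : (z.1.1.2 : ℕ) = 0 ∧ d z.1.1.1 = d z.1.2 then
          (a.1 ⟨d z.1.1.1, hdR _⟩ : Matrix (Diag d (d z.1.1.1)) (Diag d (d z.1.1.1)) F) ⟨z.1.1.1, rfl⟩ ⟨z.1.2, h.2.symm⟩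
          else a.2 ⟨z.1, z.2, h⟩, (det_mk_ne_zero_iff d hd _).2 fun i => by
        rcases isEmpty_or_nonempty (Diag d i) with he | ⟨⟨k, hk⟩⟩
        · rw [Matrix.det_isEmpty]; exact one_ne_zero
        · subst hk
          refine (congrArg Matrix.det ?_).trans_ne ((Matrix.isUnit_iff_isUnit_det _).1 (a.1 ⟨d k, hdR k⟩).isUnit).ne_zero
          ext k' l'
          simp only [blk, Matrix.of_apply]
          rw [dif_pos ⟨trivial, k'.2.trans l'.2.symm⟩]
          obtain ⟨k', hk'⟩ := k'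
          obtain ⟨l', hl'⟩ := l'
          have key : ∀ (i j : ℕ) (hij : i = j) (hi : i ∈ R) (hj : j ∈ R) (h1 : d k' = i) (h2 : d l' = i),
              (a.1 ⟨i, hi⟩ : Matrix (Diag d i) (Diag d i) F) ⟨k', h1⟩ ⟨l', h2⟩ =
                (a.1 ⟨j, hj⟩ : Matrix (Diag d j) (Diag d j) F) ⟨k', h1.trans hij⟩ ⟨l', h2.trans hij⟩ := by
            rintro i j rfl hi hj h1 h2
            rfl
          exact key (d k') (d k) hk' (hdR k') (hdR k) rfl (hl'.trans hk'.symm)⟩
      left_inv := fun v => Subtype.ext (funext fun z => by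
        obtain ⟨⟨⟨k, x⟩, l⟩, hz⟩ := z
        dsimp only
        by_cases h : (x : ℕ) = 0 ∧ d k = d l
        · rw [dif_pos h]
          show blk d hd v.1 (d k) _ _ = _
          simp only [blk, Matrix.of_apply]
          exact congrArg v.1 (Subtype.ext (Prod.ext (congrArg (Sigma.mk k) (Fin.ext h.1.symm)) rfl))
        · rw [dif_neg h])
      right_inv := fun a => by
        refine Prod.ext (funext fun i => Units.ext ?_) (funext fun z => ?_)
        · ext ⟨k', hk'⟩ ⟨l', hl'⟩
          show blk d hd _ i _ _ = _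
          simp only [blk, Matrix.of_apply]
          rw [dif_pos ⟨trivial, hk'.trans hl'.symm⟩]
          have key : ∀ (i' j' : R) (hij : i' = j') (h1 : d k' = i') (h2 : d l' = i'),
              (a.1 i' : Matrix (Diag d i') (Diag d i') F) ⟨k', h1⟩ ⟨l', h2⟩ =
                (a.1 j' : Matrix (Diag d j') (Diag d j') F) ⟨k', hij ▸ h1⟩ ⟨l', hij ▸ h2⟩ := by
            rintro i' j' rfl h1 h2
            rfl
          exact key ⟨d k', hdR k'⟩ i (Subtype.ext hk') rfl (hl'.trans hk'.symm)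
        · dsimp only
          rw [dif_neg z.2.2] }
  rw [Nat.card_congr (e1.trans e2), Nat.card_prod, Nat.card_pi, Nat.card_fun, mul_comm, Nat.card_eq_fintype_card (α := F)]
  congr 1
  · congr 1
    exact card_rest d hd
  · rw [← hR, ← Finset.prod_coe_sort R]
    refine Finset.prod_congr rfl fun i _ => ?_
    let e : Diag d i ≃ Fin ((Finset.univ.filter (fun k : Fin t => d k = (i : ℕ))).card) :=
      Fintype.equivFinOfCardEq (Fintype.card_subtype _)
    rw [Nat.card_congr (Units.mapEquiv (Matrix.reindexAlgEquiv F F e).toMulEquiv).toEquiv, Matrix.card_GL_field]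

end CfsgLib.KnownB.JordanCent
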