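import Cfsg.Agent.Lib.KnownB.Jordan

/-!
Counting classes of elements of order `p` by Jordan type.
-/

set_option autoImplicit false
set_option maxHeartbeats 1000000

namespace CfsgLib.KnownB.Jordan

open Matrix

variable {F : Type*} [Field F]

theorem card_classes_order_p {G : Type*} [Group G] (p : ℕ) [Fact p.Prime] [CharP F p] {n : ℕ}
    (φ : G →* GL (Fin n) F) (hφ : Function.Injective φ)
    (hconj : ∀ a b : G, IsConj ((φ a : GL (Fin n) F) : Matrix (Fin n) (Fin n) F) (φ b : Matrix (Fin n) (Fin n) F) → IsConj a b)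
    (hex : ∀ A : GL (Fin n) F, IsNilpotent ((A : Matrix (Fin n) (Fin n) F) - 1) →
      ∃ g : G, IsConj (A : Matrix (Fin n) (Fin n) F) (φ g : Matrix (Fin n) (Fin n) F)) :
    Nat.card {C : ConjClasses G // ∃ g : G, ConjClasses.mk g = C ∧ orderOf g = p} =
      (Finset.univ.filter (fun μ : Nat.Partition n => ∀ a ∈ μ.parts, a ≤ p)).card - 1 := by
  classical
  have hp : p.Prime := Fact.out
  rcases Nat.eq_zero_or_pos n with rfl | hn
  · haveI : IsEmpty {C : ConjClasses G // ∃ g : G, ConjClasses.mk g = C ∧ orderOf g = p} := ⟨fun ⟨C, g, _, hg⟩ => by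
      have : g = 1 := hφ (Units.ext (Subsingleton.elim _ _))
      rw [this, orderOf_one] at hg
      exact hp.one_lt.ne hg⟩
    rw [Nat.card_of_isEmpty]
    have : (Finset.univ.filter (fun μ : Nat.Partition 0 => ∀ a ∈ μ.parts, a ≤ p)).card ≤ 1 :=
      Finset.card_le_one_of_subsingleton _
    omega
  haveI : Nonempty (Fin n) := ⟨⟨0, hn⟩⟩
  -- elements of order p
  have hord : ∀ g : G, orderOf g = p ↔ ((φ g : Matrix (Fin n) (Fin n) F) - 1) ^ p = 0 ∧ (φ g : Matrix (Fin n) (Fin n) F) ≠ 1 := by
    intro g
    rw [sub_pow_char_of_commute p (Commute.one_right _), one_pow, sub_eq_zero, ← Units.val_pow_eq_pow_val,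
      Units.val_eq_one, ← map_pow, ← map_one φ, hφ.eq_iff, ne_eq, Units.val_eq_one, ← map_one φ, hφ.eq_iff]
    exact ⟨fun h => ⟨h ▸ pow_orderOf_eq_one g, fun h1 => hp.one_lt.ne (by rw [← h, h1, orderOf_one])⟩,
      fun h => orderOf_eq_prime h.1 h.2⟩
  let ones : Nat.Partition n := Nat.Partition.ofSums n (Multiset.replicate n 1) (by simp)
  have hones : ∀ μ : Nat.Partition n, μ = ones ↔ ∀ a ∈ μ.parts, a = 1 := by
    intro μ
    have h1 : ones.parts = Multiset.replicate n 1 := by
      simp only [ones, Nat.Partition.ofSums_parts]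
      exact Multiset.filter_eq_self.2 fun a ha => by rw [Multiset.eq_of_mem_replicate ha]; exact one_ne_zero
    constructor
    · rintro rfl a ha
      rw [h1] at ha
      exact Multiset.eq_of_mem_replicate ha
    · intro h
      apply Nat.Partition.ext
      rw [h1, Multiset.eq_replicate_card.2 h]
      congr 1
      have := μ.parts_sum
      rw [Multiset.eq_replicate_card.2 h] at this
      simpa using this
  -- the type of each class
  have htype : ∀ C : {C : ConjClasses G // ∃ g : G, ConjClasses.mk g = C ∧ orderOf g = p},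
      ∃ (μ : Nat.Partition n) (g : G) (t : ℕ) (d : Fin t → ℕ) (e : ((k : Fin t) × Fin (d k)) ≃ Fin n),
        ConjClasses.mk g = C.1 ∧ (∀ k, 1 ≤ d k) ∧ μ.parts = Multiset.map d (Finset.univ : Finset (Fin t)).val ∧
        IsConj (Matrix.reindex e e (Cfsg.jordanTypeMatrix d F)) (φ g : Matrix (Fin n) (Fin n) F) ∧ orderOf g = p := by
    rintro ⟨C, g, hg, ho⟩
    obtain ⟨t, d, e, hd, he⟩ := exists_type (φ g : Matrix (Fin n) (Fin n) F) ⟨p, ((hord g).1 ho).1⟩
    refine ⟨⟨Multiset.map d (Finset.univ : Finset (Fin t)).val, ?_, ?_⟩, g, t, d, e, hg, hd, rfl, he, ho⟩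
    · intro i hi
      obtain ⟨k, -, rfl⟩ := Multiset.mem_map.1 hi
      exact hd k
    · have := Fintype.card_congr e
      rw [Fintype.card_sigma, Fintype.card_fin] at this
      simp only [Fintype.card_fin] at this
      exact this
  choose Ψ g t d e hC hd hparts hJ ho using htype
  have hinj : Function.Injective Ψ := by
    intro C C' h
    apply Subtype.ext
    rw [← hC C, ← hC C', ConjClasses.mk_eq_mk_iff_isConj]
    refine hconj _ _ (isConj_of_rank ⟨p, ((hord _).1 (ho C)).1⟩ ⟨p, ((hord _).1 (ho C')).1⟩ fun j => ?_)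
    rw [rank_pow_conj (hJ C), rank_pow_conj (hJ C')]
    have h' := congrArg Nat.Partition.parts h
    rw [hparts, hparts] at h'
    have := congrArg (fun s : Multiset ℕ => (s.map (fun a => a - j)).sum) h'
    simp only [Multiset.map_map, Function.comp_def] at this
    exact this
  have hrange : Set.range Ψ = ((Finset.univ.filter (fun μ : Nat.Partition n => ∀ a ∈ μ.parts, a ≤ p)).erase ones : Finset (Nat.Partition n)) := by
    ext μ
    rw [Finset.mem_coe, Finset.mem_erase, Finset.mem_filter]
    constructor
    · rintro ⟨C, rfl⟩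
      obtain ⟨h1, h2⟩ := (hord _).1 (ho C)
      refine ⟨fun h => h2 ?_, Finset.mem_univ _, ?_⟩
      · rw [hones, hparts] at h
        have h0 := rank_pow_conj (hJ C) 1
        rw [pow_one, Finset.sum_eq_zero (fun k _ => Nat.sub_eq_zero_of_le (h _ (Multiset.mem_map_of_mem _ (Finset.mem_univ k))).le)] at h0
        have hr : LinearMap.range (Matrix.mulVecLin ((φ (g C) : Matrix (Fin n) (Fin n) F) - 1)) = ⊥ := Submodule.finrank_eq_zero.1 h0
        refine sub_eq_zero.1 (Matrix.toLin'.injective ?_)
        rw [map_zero]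
        exact LinearMap.range_eq_bot.1 hr
      · rw [hparts]
        intro a ha
        obtain ⟨k, -, rfl⟩ := Multiset.mem_map.1 ha
        have h0 := rank_pow_conj (hJ C) p
        rw [h1, Matrix.rank_zero, eq_comm, Finset.sum_eq_zero_iff] at h0
        have := h0 k (Finset.mem_univ _)
        omega
    · rintro ⟨hne, -, hle⟩
      set l := μ.parts.toList with hl
      let d0 : Fin l.length → ℕ := fun k => l[k]
      have hmap : Multiset.map d0 (Finset.univ : Finset (Fin l.length)).val = μ.parts := by
        have hz : (Finset.univ : Finset (Fin l.length)).val = ((List.finRange l.length : List (Fin l.length)) : Multiset (Fin l.length)) := rfl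
        rw [hz, Multiset.map_coe]
        have : (List.finRange l.length).map d0 = l := by
          apply List.ext_getElem <;> simp [d0]
        rw [this, hl, Multiset.coe_toList]
      have hd0 : ∀ k, 1 ≤ d0 k := fun k => μ.parts_pos (Multiset.mem_toList.1 (hl ▸ List.getElem_mem k.2))
      have hcard : Fintype.card ((k : Fin l.length) × Fin (d0 k)) = Fintype.card (Fin n) := by
        rw [Fintype.card_sigma, Fintype.card_fin]
        have h := μ.parts_sum
        rw [← hmap] at h
        simp only [Fintype.card_fin]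
        exact h
      let e0 := Fintype.equivOfCardEq hcard
      set A := Matrix.reindex e0 e0 (Cfsg.jordanTypeMatrix d0 F) with hA
      have hle0 : ∀ k, d0 k ≤ p := fun k => hle _ (Multiset.mem_toList.1 (hl ▸ List.getElem_mem k.2))
      have hrk : ∀ j, ((A - 1) ^ j).rank = ∑ k, (d0 k - j) := fun j => rank_pow_conj (IsConj.refl A) j
      have hA0 : (A - 1) ^ p = 0 := by
        have h0 : ((A - 1) ^ p).rank = 0 := by
          rw [hrk]; exact Finset.sum_eq_zero fun k _ => by have := hle0 k; omega
        have hr : LinearMap.range (Matrix.mulVecLin ((A - 1) ^ p)) = ⊥ := Submodule.finrank_eq_zero.1 h0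
        exact Matrix.toLin'.injective (by rw [map_zero]; exact LinearMap.range_eq_bot.1 hr)
      have hAu : IsUnit A := by
        have : IsNilpotent (A - 1) := ⟨p, hA0⟩
        simpa using this.isUnit_one_add
      obtain ⟨g0, hg0⟩ := hex hAu.unit ⟨p, hA0⟩
      have hg0' : IsConj A (φ g0 : Matrix (Fin n) (Fin n) F) := hg0
      have hord0 : orderOf g0 = p := by
        rw [hord]
        obtain ⟨P, hP⟩ := hg0'
        refine ⟨?_, fun h1 => ?_⟩
        · have : (φ g0 : Matrix (Fin n) (Fin n) F) - 1 = (P : Matrix (Fin n) (Fin n) F) * (A - 1) * ((P⁻¹ : GL (Fin n) F) : Matrix (Fin n) (Fin n) F) := by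
            rw [mul_sub, hP.eq, mul_one, sub_mul, mul_assoc, Units.mul_inv, mul_one]
          rw [this, Units.conj_pow, hA0, mul_zero, zero_mul]
        · apply hne
          rw [hones]
          intro a ha
          rw [← hmap] at ha
          obtain ⟨k, -, rfl⟩ := Multiset.mem_map.1 ha
          have hA1 : A = 1 := P.isUnit.mul_left_cancel (by rw [hP.eq, h1, one_mul, mul_one])
          have h0 := hrk 1
          rw [hA1, sub_self, pow_one, Matrix.rank_zero, eq_comm, Finset.sum_eq_zero_iff] at h0
          have := h0 k (Finset.mem_univ _)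
          have := hd0 k
          omega
      refine ⟨⟨ConjClasses.mk g0, g0, rfl, hord0⟩, Nat.Partition.ext ?_⟩
      set C : {C : ConjClasses G // ∃ g : G, ConjClasses.mk g = C ∧ orderOf g = p} := ⟨ConjClasses.mk g0, g0, rfl, hord0⟩
      rw [hparts C, ← hmap]
      refine type_eq (hd C) hd0 fun j => ?_
      rw [← rank_pow_conj (hJ C) j]
      have hc : IsConj (g C) g0 := ConjClasses.mk_eq_mk_iff_isConj.1 (hC C)
      have hc' : IsConj (φ (g C) : Matrix (Fin n) (Fin n) F) (φ g0 : Matrix (Fin n) (Fin n) F) :=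
        (Units.coeHom _).map_isConj (φ.map_isConj hc)
      exact rank_pow_conj (hg0'.trans hc'.symm) j
  have hcard := congrArg Set.ncard hrange
  rw [Set.ncard_range_of_injective hinj, Set.ncard_coe_finset, Finset.card_erase_of_mem] at hcard
  · exact hcard
  · rw [Finset.mem_filter]
    exact ⟨Finset.mem_univ _, fun a ha => by rw [(hones ones).1 rfl a ha]; exact hp.one_lt.le⟩

end CfsgLib.KnownB.Jordan
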