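import Mathlib

/-!
Fixed bases of bijective Frobenius-semilinear maps over algebraically closed fields; Lang's theorem for `GL_n`.
-/

set_option autoImplicit false

namespace CfsgLib.KnownB.Lang

open Polynomial

variable {K : Type*} [Field K]

/-- The iterated polynomials of the Frobenius-companion system. -/
noncomputable def P (q : ℕ) (a : ℕ → K) : ℕ → K[X]
  | 0 => C (a 0) * X ^ q
  | i + 1 => P q a i ^ q + C (a (i + 1)) * X ^ q

theorem derivative_P {q : ℕ} (hq : (q : K) = 0) (a : ℕ → K) : ∀ i, derivative (P q a i) = 0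
  | 0 => by simp [P, derivative_X_pow, hq]
  | i + 1 => by simp [P, derivative_pow, derivative_P hq a i, hq]

theorem natDegree_P {q : ℕ} (hq : 2 ≤ q) (a : ℕ → K) :
    ∀ i, (∃ j ≤ i, a j ≠ 0) → q ≤ (P q a i).natDegree
  | 0, ⟨j, hj, h⟩ => by
    obtain rfl : j = 0 := by omega
    rw [P, natDegree_C_mul_X_pow q _ h]
  | i + 1, ⟨j, hj, h⟩ => by
    rw [P]
    by_cases h' : ∃ j ≤ i, a j ≠ 0
    · have h1 := natDegree_P hq a i h'
      have h2 : (C (a (i + 1)) * X ^ q).natDegree < (P q a i ^ q).natDegree := by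
        refine (natDegree_C_mul_X_pow_le _ _).trans_lt ?_
        rw [natDegree_pow]
        have : q * 2 ≤ q * (P q a i).natDegree := Nat.mul_le_mul_left q (hq.trans h1)
        omega
      rw [natDegree_add_eq_left_of_natDegree_lt h2, natDegree_pow]
      exact Nat.le_mul_of_pos_right q (by omega)
    · push Not at h'
      have hP : ∀ k ≤ i, P q a k = 0 := by
        intro k hk
        induction k with
        | zero => simp [P, h' 0 hk]
        | succ k ih => simp [P, h' _ hk, ih (by omega), show q ≠ 0 by omega]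
      have hj' : j = i + 1 := by
        rcases Nat.lt_or_ge j (i + 1) with hlt | hge
        · exact absurd (h' j (by omega)) h
        · omega
      subst hj'
      rw [hP i le_rfl, zero_pow (by omega), zero_add, natDegree_C_mul_X_pow q _ h]

theorem eval_P_zero {q : ℕ} (hq : q ≠ 0) (a : ℕ → K) : ∀ i, (P q a i).eval 0 = 0
  | 0 => by simp [P, hq]
  | i + 1 => by simp [P, hq, eval_P_zero hq a i]

/-- A non-zero solution of the companion system. -/
theorem exists_root [IsAlgClosed K] {q : ℕ} (hq : 2 ≤ q) (hqK : (q : K) = 0) (a : ℕ → K) (m : ℕ)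
    (ha : ∃ j ≤ m, a j ≠ 0) : ∃ y : K, y ≠ 0 ∧ (P q a m).eval y = y := by
  obtain ⟨R, hR⟩ : X ∣ P q a m - X := by
    rw [X_dvd_iff, coeff_zero_eq_eval_zero, eval_sub, eval_P_zero (by omega), eval_X, sub_zero]
  have hd := natDegree_P hq a m ha
  have hdeg : (P q a m - X).natDegree = (P q a m).natDegree :=
    natDegree_sub_eq_left_of_natDegree_lt (by rw [natDegree_X]; omega)
  have hR0 : R ≠ 0 := by
    rintro rfl
    rw [mul_zero] at hR
    rw [hR, natDegree_zero] at hdeg
    omega
  rw [hR, natDegree_X_mul hR0] at hdeg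
  obtain ⟨y, hy⟩ := IsAlgClosed.exists_root R
    (fun h => by rw [natDegree_eq_zero_iff_degree_le_zero.2 h.le] at hdeg; omega)
  refine ⟨y, ?_, ?_⟩
  · rintro rfl
    have hd' := congrArg (fun f : K[X] => (derivative f).eval 0) hR
    simp [derivative_P hqK, hy.eq_zero] at hd'
  · have := congrArg (fun f : K[X] => f.eval y) hR
    simpa [hy.eq_zero, sub_eq_zero] using this

variable {V : Type*} [AddCommGroup V] [Module K V]

/-- Over an algebraically closed field a bijective `q`-semilinear map has a spanning set of fixed vectors. -/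
theorem span_fixed [IsAlgClosed K] [FiniteDimensional K V] {q : ℕ} (hq : 2 ≤ q) (hqK : (q : K) = 0)
    {σ : K →+* K} (hσ : ∀ x, σ x = x ^ q) (φ : V →ₛₗ[σ] V) (hφ : Function.Injective φ) :
    Submodule.span K {v | φ v = v} = ⊤ := by
  classical
  set S : Set V := {v | φ v = v}
  set W := Submodule.span K S
  have hW : ∀ z ∈ W, φ z ∈ W ∧ (∃ z' ∈ W, φ z' = z) ∧ ∃ z' ∈ W, φ z' - z' = z := by
    intro z hz
    have hcl : ∀ (c : K) (s : V), s ∈ S → φ (c • s) ∈ W ∧ (∃ z' ∈ W, φ z' = c • s) ∧ ∃ z' ∈ W, φ z' - z' = c • s := by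
      intro c s hs
      have hsW : s ∈ W := Submodule.subset_span hs
      have hφs : ∀ d : K, φ (d • s) = d ^ q • s := fun d => by
        rw [map_smulₛₗ, hσ, show φ s = s from hs]
      refine ⟨by rw [hφs]; exact W.smul_mem _ hsW, ?_, ?_⟩
      · obtain ⟨d, hd⟩ := IsAlgClosed.exists_pow_nat_eq c (show 0 < q by omega)
        exact ⟨d • s, W.smul_mem _ hsW, by rw [hφs, hd]⟩
      · have hdeg : (X ^ q - X - C c : K[X]).natDegree = q := by
          rw [natDegree_sub_C, natDegree_sub_eq_left_of_natDegree_lt (by rw [natDegree_X, natDegree_X_pow]; omega),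
            natDegree_X_pow]
        obtain ⟨d, hd⟩ := IsAlgClosed.exists_root (X ^ q - X - C c : K[X])
          (fun h => by rw [natDegree_eq_zero_iff_degree_le_zero.2 h.le] at hdeg; omega)
        refine ⟨d • s, W.smul_mem _ hsW, ?_⟩
        rw [hφs, ← sub_smul]
        congr 1
        simpa [sub_eq_zero] using hd.eq_zero
    let T : AddSubmonoid V :=
      { carrier := {z | φ z ∈ W ∧ (∃ z' ∈ W, φ z' = z) ∧ ∃ z' ∈ W, φ z' - z' = z}
        zero_mem' := ⟨by simp, ⟨0, zero_mem _, map_zero _⟩, ⟨0, zero_mem _, by simp⟩⟩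
        add_mem' := by
          rintro x y ⟨hx1, ⟨x', hx', hx2⟩, ⟨x'', hx'', hx3⟩⟩ ⟨hy1, ⟨y', hy', hy2⟩, ⟨y'', hy'', hy3⟩⟩
          refine ⟨by rw [map_add]; exact add_mem hx1 hy1, ⟨x' + y', add_mem hx' hy', by rw [map_add, hx2, hy2]⟩,
            ⟨x'' + y'', add_mem hx'' hy'', ?_⟩⟩
          rw [map_add, ← hx3, ← hy3]
          abel }
    show z ∈ T
    have hall : ∀ z ∈ W, ∀ c : K, c • z ∈ T := by
      intro z hz
      induction hz using Submodule.span_induction with
      | mem x hx => exact fun c => hcl c x hx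
      | zero => intro c; rw [smul_zero]; exact zero_mem _
      | add x y _ _ hx hy => intro c; rw [smul_add]; exact add_mem (hx c) (hy c)
      | smul d x _ hx => intro c; rw [smul_smul]; exact hx _
    simpa using hall z hz 1
  by_contra hne
  obtain ⟨v, hv⟩ : ∃ v, v ∉ W := by
    by_contra h
    push Not at h
    exact hne (eq_top_iff.2 fun v _ => h v)
  have hiter : ∀ k, φ^[k] v ∉ W := by
    intro k
    induction k with
    | zero => exact hv
    | succ k ih =>
      rw [Function.iterate_succ_apply']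
      intro h
      obtain ⟨z', hz', he⟩ := (hW _ h).2.1
      exact ih (hφ he ▸ hz')
  let U : ℕ → Submodule K V := fun k => W ⊔ Submodule.span K (Set.range fun i : Fin k => φ^[(i : ℕ)] v)
  have hex : ∃ m, φ^[m] v ∈ U m := by
    by_contra h
    push Not at h
    have hmono : ∀ k, k ≤ Module.finrank K (U k) := by
      intro k
      induction k with
      | zero => omega
      | succ k ih =>
        have hle : U k ≤ U (k + 1) := sup_le le_sup_left
          (Submodule.span_le.2 (by
            rintro _ ⟨i, rfl⟩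
            exact Submodule.mem_sup_right (Submodule.subset_span ⟨i.castSucc, rfl⟩)))
        have hlt : U k < U (k + 1) := lt_of_le_not_ge hle fun h' =>
          h k (h' (Submodule.mem_sup_right (Submodule.subset_span ⟨Fin.last k, rfl⟩)))
        have := Submodule.finrank_lt_finrank_of_lt hlt
        omega
    have := (hmono (Module.finrank K V + 1)).trans (Submodule.finrank_le _)
    omega
  obtain ⟨M, hM⟩ : ∃ M, Nat.find hex = M + 1 := by
    refine Nat.exists_eq_succ_of_ne_zero fun h0 => ?_
    have := Nat.find_spec hex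
    rw [h0] at this
    simp [U] at this
    exact hiter 0 this
  have hmem := Nat.find_spec hex
  rw [hM] at hmem
  obtain ⟨w0, hw0, t, ht, htot⟩ := Submodule.mem_sup.1 hmem
  obtain ⟨a, rfl⟩ := Submodule.mem_span_range_iff_exists_fun K |>.1 ht
  let a' : ℕ → K := fun i => if h : i < M + 1 then a ⟨i, h⟩ else 0
  have hsum : (∑ i : Fin (M + 1), a i • φ^[(i : ℕ)] v) = ∑ i ∈ Finset.range (M + 1), a' i • φ^[i] v := by
    rw [← Fin.sum_univ_eq_sum_range (fun i => a' i • φ^[i] v)]
    refine Finset.sum_congr rfl fun i _ => ?_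
    simp [a', i.isLt, Fin.is_le]
  rw [hsum] at htot
  have hnz : ∃ j ≤ M, a' j ≠ 0 := by
    by_contra h
    push Not at h
    rw [Finset.sum_eq_zero (fun i hi => by rw [h i (Nat.le_of_lt_succ (Finset.mem_range.1 hi)), zero_smul]), add_zero] at htot
    exact hiter _ (htot ▸ hw0)
  obtain ⟨y, hy0, hy⟩ := exists_root hq hqK a' M hnz
  let x : ℕ → K := fun i => (P q a' i).eval y
  set w := ∑ i ∈ Finset.range (M + 1), x i • φ^[i] v with hw
  have hdiff : φ w - w ∈ W := by
    have e1 : φ w = ∑ i ∈ Finset.range (M + 1), x i ^ q • φ^[i + 1] v := by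
      rw [hw, map_sum]
      refine Finset.sum_congr rfl fun i _ => ?_
      rw [map_smulₛₗ, hσ, Function.iterate_succ_apply']
    have e2 : φ w - w = y ^ q • w0 := by
      rw [e1, hw, Finset.sum_range_succ, ← htot, smul_add, Finset.smul_sum,
        show x M ^ q = y ^ q by simp only [x, hy]]
      rw [Finset.sum_range_succ' (fun i => y ^ q • (a' i • φ^[i] v)) M, Finset.sum_range_succ' (fun i => x i • φ^[i] v) M]
      simp only [x, P, eval_add, eval_pow, eval_mul, eval_C, eval_X, add_smul, Finset.sum_add_distrib, smul_smul,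
        mul_comm (y ^ q)]
      abel
    rw [e2]
    exact W.smul_mem _ hw0
  obtain ⟨z, hz, hzz⟩ := (hW _ hdiff).2.2
  have hfix : w - z ∈ W := Submodule.subset_span (show φ (w - z) = w - z by
    rw [map_sub]
    linear_combination (norm := abel) (-1 : ℤ) • hzz)
  have hwW : w ∈ W := by simpa using add_mem hfix hz
  have hmin := Nat.find_min hex (m := M) (by omega)
  refine hmin ?_
  have hy' : x M = y := hy
  rw [hw, Finset.sum_range_succ, hy'] at hwW
  have h1 : y • φ^[M] v ∈ U M := by
    have h2 : (∑ i ∈ Finset.range M, x i • φ^[i] v) ∈ U M := Submodule.sum_mem _ fun i hi =>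
      Submodule.smul_mem _ _ (Submodule.mem_sup_right (Submodule.subset_span ⟨⟨i, Finset.mem_range.1 hi⟩, rfl⟩))
    simpa using sub_mem (Submodule.mem_sup_left hwW : _ ∈ U M) h2
  simpa [smul_smul, inv_mul_cancel₀ hy0] using Submodule.smul_mem (U M) y⁻¹ h1

/-- Lang's theorem for `GL_n`. -/
theorem lang_GL [IsAlgClosed K] {q : ℕ} (hq : 2 ≤ q) (hqK : (q : K) = 0) {σ : K →+* K} (hσ : ∀ x, σ x = x ^ q)
    {n : ℕ} (g : GL (Fin n) K) :
    ∃ x : GL (Fin n) K, (g : Matrix (Fin n) (Fin n) K) * (x : Matrix (Fin n) (Fin n) K).map σ = x := by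
  classical
  let φ : (Fin n → K) →ₛₗ[σ] (Fin n → K) :=
    { toFun := fun v => (g : Matrix (Fin n) (Fin n) K).mulVec (σ ∘ v)
      map_add' := fun u v => by rw [← Matrix.mulVec_add]; congr 1; funext i; simp
      map_smul' := fun c v => by rw [← Matrix.mulVec_smul]; congr 1; funext i; simp }
  have hφ : Function.Injective φ := fun u v h => by
    have h1 : σ ∘ u = σ ∘ v := Matrix.mulVec_injective_iff_isUnit.2 g.isUnit h
    exact funext fun i => σ.injective (congrFun h1 i)
  have hspan := span_fixed hq hqK hσ φ hφ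
  obtain ⟨b, hbS, hbspan, hbli⟩ := exists_linearIndependent K {v | φ v = v}
  rw [hspan] at hbspan
  let B : Module.Basis b K (Fin n → K) := Module.Basis.mk hbli (by simp [hbspan])
  haveI : Fintype b := FiniteDimensional.fintypeBasisIndex B
  let e : Fin n ≃ b := Fintype.equivOfCardEq (by
    rw [← Module.finrank_eq_card_basis B, Module.finrank_fin_fun, Fintype.card_fin])
  let Q : Matrix (Fin n) (Fin n) K := Matrix.of fun i j => (e j : Fin n → K) i
  have hQ : IsUnit Q := by
    rw [← Matrix.linearIndependent_cols_iff_isUnit]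
    exact hbli.comp e e.injective
  refine ⟨hQ.unit, ?_⟩
  rw [IsUnit.unit_spec]
  ext i j
  exact congrFun (hbS (e j).2 : φ (e j : Fin n → K) = _) i

end CfsgLib.KnownB.Lang
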