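import Cfsg.Prelude.Def_Spor_Mathieu
import Cfsg.Agent.Lib.Spor.GolayFacts
import Cfsg.Agent.Lib.Spor.M24Gens
import Mathlib

/-!
A non-split extension of `M₂₃` by the 11-dimensional cocode module, built from the sign cocycle
of the Parker loop.
-/

set_option autoImplicit false
set_option maxRecDepth 100000
set_option maxHeartbeats 2000000

namespace CfsgLib.KnownB.M23Cocode

open Cfsg CfsgLib.Spor
open scoped Pointwise

theorem two_zero : (2 : ZMod 2) = 0 := by decide

def piv : List ℕ := [1, 2, 3, 4, 5, 6, 7, 8, 9, 10, 11]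
def cmask : List ℕ := [4845570, 1302533, 7221256, 6053905, 7417889, 2854977, 2019456, 4038912, 8077824, 7767041, 2422785]
def betaT : List ℕ := [512, 4, 0, 32, 64, 0, 0, 0, 1024, 0, 0]
def upT : List (List ℕ) := [[0, 1668, 536, 800, 576, 704, 1536, 512, 1536, 1024, 0], [1668, 0, 2040, 1072, 192, 512, 768, 0, 1024, 0, 0], [538, 2040, 0, 160, 1088, 320, 0, 1024, 1536, 0, 0], [804, 1076, 160, 0, 608, 1984, 384, 0, 1024, 0, 0], [580, 204, 1088, 608, 0, 1088, 1920, 256, 1536, 0, 0], [712, 524, 328, 2000, 1088, 0, 0, 256, 1024, 1024, 0], [1584, 788, 48, 432, 1952, 0, 0, 512, 1024, 0, 0], [546, 20, 1032, 96, 320, 256, 512, 0, 1024, 1024, 0], [1544, 1092, 1568, 1120, 1728, 1152, 1024, 1024, 0, 1024, 0], [1534, 100, 256, 48, 320, 1024, 128, 1024, 1024, 0, 0], [834, 268, 400, 288, 352, 768, 256, 768, 512, 0, 0]]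
def imgT : List (List ℕ) := [[2, 5, 8, 17, 33, 65, 128, 256, 512, 1025, 1], [343, 1372, 1061, 148, 773, 1345, 1105, 324, 1296, 1088, 85], [384, 1824, 1420, 778, 896, 1153, 1688, 776, 1536, 1608, 392]]
def dT : List (List ℕ) := [[0, 268, 0, 288, 352, 768, 0, 0, 1536, 0, 0], [128, 116, 536, 1472, 1984, 768, 1664, 1280, 1024, 1024, 0], [804, 1828, 1472, 608, 320, 1344, 1280, 512, 1024, 0, 0]]
def gDa : ℕ := 983435072843990828779021698901151808
def cert : List (ℕ × List (Fin 3 × ℕ)) :=
  [(1, [(2, 1440), (2, 1154), (2, 1288), (2, 384), (2, 1)]),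
   (34, [(1, 613), (2, 567), (1, 533), (2, 372), (1, 1668), (2, 132), (1, 1704), (2, 1026), (1, 929), (2, 34)]),
   (4, [(0, 1026), (2, 409), (0, 204), (2, 644), (0, 1346), (2, 520), (0, 260), (2, 389), (0, 194), (2, 792), (0, 1420), (2, 4)]),
   (3, [(0, 1025), (2, 1201), (2, 1122), (0, 1585), (2, 226), (2, 1674), (0, 1861), (2, 548), (2, 150), (0, 75), (2, 1576), (2, 147), (0, 73), (2, 1696), (2, 3)]),
   (8, [(1, 1858), (1, 273), (2, 224), (1, 76), (1, 258), (2, 1048), (1, 130), (1, 329), (2, 560), (1, 276), (1, 1344), (2, 640), (1, 1176), (1, 778), (2, 8)]),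
   (8, [(1, 1858), (1, 273), (1, 1152), (2, 1408), (1, 1064), (1, 1670), (1, 537), (2, 96), (1, 964), (1, 1048), (1, 130), (2, 1049), (1, 1122), (1, 101), (1, 516), (2, 1284), (1, 640), (1, 1176), (1, 778), (2, 8)]),
   (2, [(0, 1), (0, 1024), (2, 273), (2, 224), (1, 76), (2, 1557), (0, 778), (0, 389), (2, 180), (2, 1478), (1, 169), (2, 162), (0, 1105), (0, 552), (2, 386), (2, 137), (1, 42), (2, 283), (0, 141), (0, 70), (2, 668), (2, 1092), (1, 1824), (2, 2)]),
   (2, [(0, 1), (1, 1248), (1, 300), (2, 22), (2, 1101), (2, 676), (0, 338), (1, 449), (1, 712), (2, 1920), (2, 257), (2, 304), (0, 152), (1, 618), (1, 343), (2, 636), (2, 582), (2, 653), (0, 326), (1, 577), (1, 144), (2, 1345), (2, 1824), (2, 2)])]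

abbrev V := Fin 11 → ZMod 2

def bit (m j : ℕ) : ZMod 2 := if m.testBit j then 1 else 0
def bv (m : ℕ) : V := fun i => bit m i
def ev (i : Fin 11) : V := Pi.single i 1
def cw (i : Fin 11) : GolayPt → ZMod 2 := word (cmask.getD i 0)
def emb (v : V) : GolayPt → ZMod 2 := ∑ i, v i • cw i
def κ (a : GolayPt → ZMod 2) : V := fun i => a (pt (piv.getD i 0))

theorem emb_add (u v : V) : emb (u + v) = emb u + emb v := by
  simp [emb, add_smul, Finset.sum_add_distrib]

theorem emb_smul (r : ZMod 2) (v : V) : emb (r • v) = r • emb v := by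
  simp [emb, Finset.smul_sum, smul_smul]

theorem emb_ev (i : Fin 11) : emb (ev i) = cw i := by
  simp [emb, ev, Pi.single_apply]

theorem basis_check : ((cmask.all fun m => inCode m && Nat.blt m (2 ^ 24) && !m.testBit 23) &&
    (List.range 11).all fun i => (List.range 11).all fun j =>
      (cmask.getD j 0).testBit (piv.getD i 0) == (i == j)) = true := by decide +kernel

theorem piv_lt : ∀ i : Fin 11, piv.getD i 0 < 23 := by decide

theorem cw_none (i : Fin 11) : cw i none = 0 := by
  revert i; decide +kernel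

theorem cw_mem (i : Fin 11) : cw i ∈ golayCode := by
  refine word_mem_of_mem_codeList (mem_codeList_iff.2 ?_)
  revert i; decide +kernel

theorem emb_mem (v : V) : emb v ∈ golayCode :=
  Submodule.sum_mem _ fun i _ => Submodule.smul_mem _ _ (cw_mem i)

theorem emb_none (v : V) : emb v none = 0 := by
  simp [emb, Finset.sum_apply, cw_none]

theorem κ_cw : ∀ j : Fin 11, κ (cw j) = ev j := by decide +kernel

theorem κ_add (a b : GolayPt → ZMod 2) : κ (a + b) = κ a + κ b := rfl

theorem κ_emb (v : V) : κ (emb v) = v := by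
  have h : κ (emb v) = ∑ j, v j • κ (cw j) := by
    funext i
    simp [κ, emb, Finset.sum_apply]
  rw [h]
  funext i
  simp [κ_cw, ev, Finset.sum_apply, Pi.single_apply]

theorem emb_injective : Function.Injective emb := fun u v h => by rw [← κ_emb u, h, κ_emb]

theorem low_check : (codeList.all fun m => (piv.any fun p => m.testBit p) || m.testBit 23 || m == 0) = true := by
  decide +kernel

theorem emb_κ {a : GolayPt → ZMod 2} (ha : a ∈ golayCode) (h0 : a none = 0) : emb (κ a) = a := by
  have hs : emb (κ a) + a ∈ golayCode := add_mem (emb_mem _) ha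
  have hz : ∀ i : Fin 11, (emb (κ a) + a) (pt (piv.getD i 0)) = 0 := fun i => by
    show κ (emb (κ a)) i + κ a i = 0
    rw [κ_emb]
    exact CharTwo.add_self_eq_zero _
  have hn : (emb (κ a) + a) none = 0 := by simp [emb_none, h0]
  set b := emb (κ a) + a with hb
  have hl := List.all_eq_true.1 low_check _ (mem_golayCode_iff.1 hs)
  have htest : ∀ p : GolayPt, b p = 0 → (mask (support₂ b)).testBit (idx p) = false := fun p hp => by
    rw [testBit_mask]; simp [support₂, hp]
  have h23 : (mask (support₂ b)).testBit 23 = false := htest none hn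
  have hany : (piv.any fun p => (mask (support₂ b)).testBit p) = false := by
    rw [List.any_eq_false]
    intro p hp
    obtain ⟨i, hi, rfl⟩ := List.getElem_of_mem hp
    have h1 := htest _ (hz ⟨i, hi⟩)
    rw [show List.getD piv (((⟨i, hi⟩ : Fin 11) : ℕ)) 0 = piv[i] from List.getD_eq_getElem _ _ hi,
      idx_pt (by have := piv_lt ⟨i, hi⟩; rw [List.getD_eq_getElem _ _ hi] at this; omega)] at h1
    simp [h1]
  rw [hany, h23] at hl
  simp at hl
  have : b = 0 := by rw [← word_mask_support₂ b, hl, word_zero]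
  rw [hb] at this
  exact CharTwo.add_eq_zero.1 this

theorem mem_M24_apply {π : Equiv.Perm GolayPt} (hπ : π ∈ M24) {a : GolayPt → ZMod 2} (ha : a ∈ golayCode) :
    (a ∘ ⇑π⁻¹) ∈ golayCode := by
  have hs : support₂ (a ∘ ⇑π⁻¹) = π • support₂ a := by
    ext p
    rw [← Finset.inv_smul_mem_iff]
    simp [support₂, Equiv.Perm.smul_def]
  rw [mem_golayCode_iff, hs]
  exact mem_M24_iff.1 hπ _ (mem_golayCode_iff.1 ha)

theorem fix_none (π : Spor.M23) : (π : Equiv.Perm GolayPt) none = none :=
  MulAction.mem_stabilizer_iff.1 π.2.2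

theorem inv_fix_none (π : Spor.M23) : (π : Equiv.Perm GolayPt)⁻¹ none = none :=
  fix_none π⁻¹

/-- The action on coordinates. -/
def act (π : Equiv.Perm GolayPt) (v : V) : V := κ (emb v ∘ ⇑π⁻¹)

theorem act_add (π : Equiv.Perm GolayPt) (u v : V) : act π (u + v) = act π u + act π v := by
  rw [act, emb_add]; rfl

theorem act_zero (π : Equiv.Perm GolayPt) : act π 0 = 0 := by
  funext i; simp [act, κ, emb]

theorem emb_act (π : Spor.M23) (v : V) : emb (act π v) = emb v ∘ ⇑(π : Equiv.Perm GolayPt)⁻¹ :=
  emb_κ (mem_M24_apply π.2.1 (emb_mem v))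
    (by rw [Function.comp_apply, inv_fix_none, emb_none])

theorem act_mul (π σ : Spor.M23) (v : V) :
    act ((π * σ : Spor.M23) : Equiv.Perm GolayPt) v = act π (act σ v) := by
  apply emb_injective
  rw [emb_act, emb_act, emb_act]
  funext p
  simp

theorem act_one (v : V) : act 1 v = v := by
  rw [act, inv_one]
  exact κ_emb v

/-- triple intersection parity -/
def t3 (u v w : V) : ZMod 2 := ∑ p, emb u p * emb v p * emb w p

theorem t3_act (π : Spor.M23) (u v w : V) : t3 (act π u) (act π v) (act π w) = t3 u v w := by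
  simp only [t3, emb_act, Function.comp_apply]
  exact Equiv.sum_comp (π : Equiv.Perm GolayPt)⁻¹ (fun p => emb u p * emb v p * emb w p)

theorem t3_self (u v : V) : t3 u u v = 0 := by
  rw [t3, show (fun p => emb u p * emb u p * emb v p) = fun p => emb u p * emb v p by
    funext p
    rcases (show ∀ x : ZMod 2, x = 0 ∨ x = 1 by decide) (emb u p) with h | h <;> simp [h]]
  exact orth (emb_mem u) (emb_mem v)

def num (a b : GolayPt → ZMod 2) : ℕ := ∑ p, (a p).val * (b p).val

def hh (u v : V) : ZMod 2 := ((num (emb u) (emb v) / 2 : ℕ) : ZMod 2)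
def qq (u : V) : ZMod 2 := ((num (emb u) (emb u) / 4 : ℕ) : ZMod 2)

theorem hh_comm (u v : V) : hh u v = hh v u := by simp [hh, num, mul_comm]

theorem hh_act (π : Spor.M23) (u v : V) : hh (act π u) (act π v) = hh u v := by
  simp only [hh, num, emb_act, Function.comp_apply]
  rw [Equiv.sum_comp (π : Equiv.Perm GolayPt)⁻¹ (fun p => (emb u p).val * (emb v p).val)]

theorem num_self (a : GolayPt → ZMod 2) : num a a = hammingNorm a := by
  rw [num, hammingNorm, Finset.card_filter]
  refine Finset.sum_congr rfl fun p _ => ?_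
  rcases (show ∀ x : ZMod 2, x = 0 ∨ x = 1 by decide) (a p) with h | h <;> simp [h, ZMod.val_one]

theorem num_even (u v : V) : 2 ∣ num (emb u) (emb v) := by
  rw [← ZMod.natCast_eq_zero_iff, num, Nat.cast_sum]
  simpa using orth (emb_mem u) (emb_mem v)

theorem num_four (u : V) : 4 ∣ num (emb u) (emb u) := by
  rw [num_self]
  rcases weight_cases (emb_mem u) with h | h | h | h | h <;> rw [h] <;> norm_num

theorem hh_add (u u' v : V) : hh (u + u') v = hh u v + hh u' v + t3 u u' v := by
  have key : num (emb (u + u')) (emb v) + 2 * (∑ p, (emb u p).val * (emb u' p).val * (emb v p).val) =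
      num (emb u) (emb v) + num (emb u') (emb v) := by
    rw [num, num, num, Finset.mul_sum, ← Finset.sum_add_distrib, ← Finset.sum_add_distrib, emb_add]
    refine Finset.sum_congr rfl fun p _ => ?_
    rw [Pi.add_apply]
    exact (show ∀ x y z : ZMod 2, (x + y).val * z.val + 2 * (x.val * y.val * z.val) = x.val * z.val + y.val * z.val by decide) _ _ _
  obtain ⟨a, ha⟩ := num_even (u + u') v
  obtain ⟨b, hb⟩ := num_even u v
  obtain ⟨c, hc⟩ := num_even u' v
  set s := ∑ p, (emb u p).val * (emb u' p).val * (emb v p).val with hs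
  have ht : t3 u u' v = (s : ZMod 2) := by
    rw [hs, t3, Nat.cast_sum]
    exact Finset.sum_congr rfl fun p _ => by rw [Nat.cast_mul, Nat.cast_mul, ZMod.natCast_zmod_val, ZMod.natCast_zmod_val, ZMod.natCast_zmod_val]
  rw [hh, hh, hh, ht, ha, hb, hc, Nat.mul_div_cancel_left _ two_pos, Nat.mul_div_cancel_left _ two_pos,
    Nat.mul_div_cancel_left _ two_pos]
  rw [ha, hb, hc] at key
  have h2 : a + s = b + c := by omega
  have h3 := congrArg (fun n : ℕ => (n : ZMod 2)) h2
  push_cast at h3
  rw [← h3, add_assoc, CharTwo.add_self_eq_zero, add_zero]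

theorem qq_add (u v : V) : qq (u + v) = qq u + qq v + hh u v := by
  have key : num (emb (u + v)) (emb (u + v)) + 2 * num (emb u) (emb v) =
      num (emb u) (emb u) + num (emb v) (emb v) := by
    rw [num, num, num, num, Finset.mul_sum, ← Finset.sum_add_distrib, ← Finset.sum_add_distrib, emb_add]
    refine Finset.sum_congr rfl fun p _ => ?_
    rw [Pi.add_apply]
    exact (show ∀ x y : ZMod 2, (x + y).val * (x + y).val + 2 * (x.val * y.val) = x.val * x.val + y.val * y.val by decide) _ _
  obtain ⟨a, ha⟩ := num_four (u + v)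
  obtain ⟨b, hb⟩ := num_four u
  obtain ⟨c, hc⟩ := num_four v
  obtain ⟨d, hd⟩ := num_even u v
  rw [qq, qq, qq, hh, ha, hb, hc, hd, Nat.mul_div_cancel_left _ (by norm_num : 0 < 4),
    Nat.mul_div_cancel_left _ (by norm_num : 0 < 4), Nat.mul_div_cancel_left _ (by norm_num : 0 < 4),
    Nat.mul_div_cancel_left _ two_pos]
  rw [ha, hb, hc, hd] at key
  have h2 : a + d = b + c := by omega
  have h3 := congrArg (fun n : ℕ => (n : ZMod 2)) h2
  push_cast at h3
  rw [← h3, add_assoc, CharTwo.add_self_eq_zero, add_zero]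

/-- A function additive in a variable is determined on the coordinates. -/
theorem additive_expand {f : V → ZMod 2} (h : ∀ u v, f (u + v) = f u + f v) (u : V) :
    f u = ∑ i, u i * f (ev i) := by
  let F : V →+ ZMod 2 := AddMonoidHom.mk' f h
  have hu : u = ∑ i, (Pi.single i (u i) : V) := (Finset.univ_sum_single u).symm
  conv_lhs => rw [hu]
  show F _ = _
  rw [map_sum]
  refine Finset.sum_congr rfl fun i _ => ?_
  rcases (show ∀ x : ZMod 2, x = 0 ∨ x = 1 by decide) (u i) with h0 | h0
  · rw [h0, Pi.single_zero, map_zero, zero_mul]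
  · rw [h0, one_mul]; rfl

def upper (M : Fin 11 → Fin 11 → ZMod 2) (u v : V) : ZMod 2 :=
  ∑ i, ∑ j, if i < j then u i * v j * M i j else 0

theorem upper_add_swap (M : Fin 11 → Fin 11 → ZMod 2) (hs : ∀ i j, M i j = M j i) (hd : ∀ i, M i i = 0) (u v : V) :
    upper M u v + upper M v u = ∑ i, ∑ j, u i * v j * M i j := by
  rw [upper, upper, Finset.sum_comm (f := fun i j => if i < j then v i * u j * M i j else 0), ← Finset.sum_add_distrib]
  refine Finset.sum_congr rfl fun i _ => ?_
  rw [← Finset.sum_add_distrib]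
  refine Finset.sum_congr rfl fun j _ => ?_
  rcases lt_trichotomy i j with h | h | h
  · rw [if_pos h, if_neg (not_lt.2 h.le), add_zero]
  · subst h; simp [hd]
  · rw [if_neg (not_lt.2 h.le), if_pos h, zero_add, hs]; ring

theorem upper_add_left (M : Fin 11 → Fin 11 → ZMod 2) (u u' v : V) :
    upper M (u + u') v = upper M u v + upper M u' v := by
  simp only [upper, ← Finset.sum_add_distrib]
  refine Finset.sum_congr rfl fun i _ => Finset.sum_congr rfl fun j _ => ?_
  split_ifs <;> simp [add_mul]

theorem upper_add_right (M : Fin 11 → Fin 11 → ZMod 2) (u v v' : V) :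
    upper M u (v + v') = upper M u v + upper M u v' := by
  simp only [upper, ← Finset.sum_add_distrib]
  refine Finset.sum_congr rfl fun i _ => Finset.sum_congr rfl fun j _ => ?_
  split_ifs <;> simp [mul_add, add_mul]

def betaM (i j : Fin 11) : ZMod 2 := bit (betaT.getD i 0) j
def tC (i j k : Fin 11) : ZMod 2 :=
  if j < k then bit ((upT.getD i []).getD j 0) k else if k < j then bit ((upT.getD i []).getD k 0) j else 0

def θ (u v : V) : ZMod 2 := ∑ i, u i * ((∑ j, v j * betaM i j) + upper (tC i) v v)

theorem tC_symm (i j k : Fin 11) : tC i j k = tC i k j := by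
  unfold tC
  rcases lt_trichotomy j k with h | h | h
  · simp [h, not_lt.2 h.le]
  · subst h; rfl
  · simp [h, not_lt.2 h.le]

theorem tC_self (i j : Fin 11) : tC i j j = 0 := by simp [tC]

theorem t3_basis (i j k : Fin 11) : t3 (ev i) (ev j) (ev k) = tC i j k := by
  have h : t3 (ev i) (ev j) (ev k) =
      ((pop (cmask.getD i 0 &&& cmask.getD j 0 &&& cmask.getD k 0) : ℕ) : ZMod 2) := by
    rw [t3, emb_ev, emb_ev, emb_ev, natCast_pop_and]
    refine Finset.sum_congr rfl fun p _ => ?_
    simp only [cw, word, Nat.testBit_and]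
    cases (cmask.getD i 0).testBit (idx p) <;> cases (cmask.getD j 0).testBit (idx p) <;> simp
  rw [h]
  revert i j k
  decide +kernel

theorem t3_add₁ (u u' v w : V) : t3 (u + u') v w = t3 u v w + t3 u' v w := by
  simp [t3, emb_add, add_mul, Finset.sum_add_distrib]

theorem t3_add₂ (u v v' w : V) : t3 u (v + v') w = t3 u v w + t3 u v' w := by
  simp [t3, emb_add, add_mul, mul_add, Finset.sum_add_distrib]

theorem t3_add₃ (u v w w' : V) : t3 u v (w + w') = t3 u v w + t3 u v w' := by
  simp [t3, emb_add, mul_add, Finset.sum_add_distrib]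

theorem t3_expand (u v w : V) : t3 u v w = ∑ i, u i * ∑ j, ∑ k, v j * w k * tC i j k := by
  have h1 : t3 u v w = ∑ i, u i * t3 (ev i) v w :=
    @additive_expand (fun u => t3 u v w) (fun a b => t3_add₁ a b v w) u
  have h2 : ∀ i, t3 (ev i) v w = ∑ j, v j * t3 (ev i) (ev j) w := fun i =>
    @additive_expand (fun v => t3 (ev i) v w) (fun a b => t3_add₂ _ a b w) v
  have h3 : ∀ i j, t3 (ev i) (ev j) w = ∑ k, w k * t3 (ev i) (ev j) (ev k) := fun i j =>
    @additive_expand (fun w => t3 (ev i) (ev j) w) (fun a b => t3_add₃ _ _ a b) w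
  simp only [h1, h2, h3, t3_basis, Finset.mul_sum, mul_assoc]

theorem θ_add_left (u u' v : V) : θ (u + u') v = θ u v + θ u' v := by
  simp [θ, add_mul, Finset.sum_add_distrib]

theorem θ_add_right (u v v' : V) : θ u (v + v') = θ u v + θ u v' + t3 u v v' := by
  rw [t3_expand, θ, θ, θ, ← Finset.sum_add_distrib, ← Finset.sum_add_distrib]
  refine Finset.sum_congr rfl fun i _ => ?_
  have e1 : ∑ j, (v + v') j * betaM i j = (∑ j, v j * betaM i j) + ∑ j, v' j * betaM i j := by
    simp [add_mul, Finset.sum_add_distrib]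
  rw [e1, upper_add_left, upper_add_right, upper_add_right, ← upper_add_swap (tC i) (tC_symm i) (tC_self i)]
  ring

theorem θ_basis_check : ∀ i j : Fin 11, θ (ev i) (ev j) + θ (ev j) (ev i) = hh (ev i) (ev j) ∧
    θ (ev i) (ev i) = qq (ev i) := by
  have hb : ∀ i j : Fin 11, θ (ev i) (ev j) = betaM i j := by
    intro i j
    rw [θ, Finset.sum_eq_single i (fun k _ hk => by simp [ev, hk]) (by simp),
      Finset.sum_eq_single j (fun k _ hk => by simp [ev, hk]) (by simp)]
    have hu : upper (tC i) (ev j) (ev j) = 0 := by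
      refine Finset.sum_eq_zero fun a _ => Finset.sum_eq_zero fun b _ => ?_
      split_ifs with h
      · by_cases ha : a = j
        · subst ha; simp [ev, h.ne']
        · simp [ev, ha]
      · rfl
    rw [hu]
    simp [ev]
  have hn : ∀ i j : Fin 11, num (emb (ev i)) (emb (ev j)) = pop (cmask.getD i 0 &&& cmask.getD j 0) := by
    intro i j
    rw [emb_ev, emb_ev, cw, cw]
    revert i j
    decide +kernel
  intro i j
  rw [hb, hb, hb, hh, qq, hn, hn]
  revert i j
  decide +kernel

theorem G_zero (u v : V) : θ u v + θ v u = hh u v := by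
  have add1 : ∀ v a b, θ (a + b) v + θ v (a + b) + hh (a + b) v =
      (θ a v + θ v a + hh a v) + (θ b v + θ v b + hh b v) := by
    intro v a b
    rw [θ_add_left, θ_add_right, hh_add]
    have : t3 v a b = t3 a b v := by simp only [t3]; exact Finset.sum_congr rfl fun p _ => by ring
    rw [this]
    linear_combination (t3 a b v) * two_zero
  have h0 : ∀ a b, θ a b + θ b a + hh a b = 0 := by
    intro a b
    rw [additive_expand (f := fun a => θ a b + θ b a + hh a b) (add1 b) a]
    refine Finset.sum_eq_zero fun i _ => ?_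
    have e2 : θ (ev i) b + θ b (ev i) + hh (ev i) b = θ b (ev i) + θ (ev i) b + hh b (ev i) := by
      rw [hh_comm b]; ring
    rw [e2, additive_expand (f := fun x => θ x (ev i) + θ (ev i) x + hh x (ev i)) (add1 _) b,
      Finset.sum_eq_zero, mul_zero]
    intro j _
    rw [(θ_basis_check j i).1, CharTwo.add_self_eq_zero, mul_zero]
  exact CharTwo.add_eq_zero.1 (h0 u v)

theorem θ_diag (u : V) : θ u u = qq u := by
  have add : ∀ a b, θ (a + b) (a + b) + qq (a + b) = (θ a a + qq a) + (θ b b + qq b) := by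
    intro a b
    rw [θ_add_left, θ_add_right, θ_add_right, qq_add, ← G_zero a b, t3_self]
    have : t3 b a b = 0 := by
      rw [← t3_self b a]
      simp only [t3]; exact Finset.sum_congr rfl fun p _ => by ring
    rw [this]
    linear_combination (θ a b + θ b a) * two_zero
  apply CharTwo.add_eq_zero.1
  rw [additive_expand (f := fun a => θ a a + qq a) add u]
  refine Finset.sum_eq_zero fun i _ => ?_
  rw [(θ_basis_check i i).2, CharTwo.add_self_eq_zero, mul_zero]

theorem qq_act (π : Spor.M23) (u : V) : qq (act π u) = qq u := by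
  simp only [qq, num, emb_act, Function.comp_apply]
  rw [Equiv.sum_comp (π : Equiv.Perm GolayPt)⁻¹ (fun p => (emb u p).val * (emb u p).val)]

def DD (π : Equiv.Perm GolayPt) (u v : V) : ZMod 2 := θ (act π u) (act π v) + θ u v

theorem DD_symm (π : Spor.M23) (u v : V) : DD π u v = DD π v u := by
  apply CharTwo.add_eq_zero.1
  have h1 := G_zero (act π u) (act π v)
  have h2 := G_zero u v
  rw [hh_act] at h1
  simp only [DD]
  linear_combination h1 + h2 + (hh u v) * two_zero

theorem DD_self (π : Spor.M23) (u : V) : DD π u u = 0 := by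
  rw [DD, θ_diag, θ_diag, qq_act, CharTwo.add_self_eq_zero]

theorem DD_add_left (π : Equiv.Perm GolayPt) (u u' v : V) : DD π (u + u') v = DD π u v + DD π u' v := by
  simp only [DD, act_add, θ_add_left]; ring

theorem DD_add_right (π : Spor.M23) (u v v' : V) : DD π u (v + v') = DD π u v + DD π u v' := by
  rw [DD_symm, DD_add_left, DD_symm π v, DD_symm π v']

/-- The canonical solution of the cocycle equation. -/
def f0 (π : Equiv.Perm GolayPt) (v : V) : ZMod 2 := upper (fun i j => DD π (ev i) (ev j)) v v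

theorem f0_spec (π : Spor.M23) (u v : V) : f0 π (u + v) = f0 π u + f0 π v + DD π u v := by
  have h := upper_add_swap (fun i j => DD π (ev i) (ev j)) (fun i j => DD_symm π _ _) (fun i => DD_self π _) u v
  have hD : DD π u v = ∑ i, ∑ j, u i * v j * DD π (ev i) (ev j) := by
    rw [additive_expand (f := fun u => DD π u v) (fun a b => DD_add_left π a b v) u]
    refine Finset.sum_congr rfl fun i _ => ?_
    rw [additive_expand (f := fun v => DD π (ev i) v) (fun a b => DD_add_right π _ a b) v, Finset.mul_sum]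
    exact Finset.sum_congr rfl fun j _ => by ring
  rw [hD, ← h, f0, f0, f0, upper_add_left, upper_add_right, upper_add_right]
  ring

/-- The extension. -/
@[ext]
structure E where
  π : Spor.M23
  f : V → ZMod 2
  cond : ∀ u v, f (u + v) = f u + f v + DD (π : Equiv.Perm GolayPt) u v

namespace E

theorem act_inv_act (π : Spor.M23) (v : V) :
    act ((π⁻¹ : Spor.M23) : Equiv.Perm GolayPt) (act π v) = v := by
  rw [← act_mul, inv_mul_cancel, OneMemClass.coe_one, act_one]

theorem act_act_inv (π : Spor.M23) (v : V) :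
    act π (act ((π⁻¹ : Spor.M23) : Equiv.Perm GolayPt) v) = v := by
  rw [← act_mul, mul_inv_cancel, OneMemClass.coe_one, act_one]

instance : Mul E := ⟨fun x y => ⟨x.π * y.π, fun v => x.f (act y.π v) + y.f v, fun u v => by
  rw [act_add, x.cond, y.cond]
  simp only [DD, act_mul]
  linear_combination (θ (act y.π u) (act y.π v)) * two_zero⟩⟩

instance : One E := ⟨⟨1, fun _ => 0, fun u v => by
  simp only [DD, OneMemClass.coe_one, act_one, CharTwo.add_self_eq_zero, add_zero]⟩⟩

instance : Inv E := ⟨fun x => ⟨x.π⁻¹, fun v => x.f (act ((x.π⁻¹ : Spor.M23) : Equiv.Perm GolayPt) v), fun u v => by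
  rw [act_add, x.cond]
  simp only [DD, act_act_inv]
  ring⟩⟩

theorem mul_π (x y : E) : (x * y).π = x.π * y.π := rfl
theorem mul_f (x y : E) (v : V) : (x * y).f v = x.f (act y.π v) + y.f v := rfl
theorem one_π : (1 : E).π = 1 := rfl
theorem one_f (v : V) : (1 : E).f v = 0 := rfl

instance : Group E := Group.ofLeftAxioms
  (fun x y z => E.ext (mul_assoc _ _ _) (funext fun v => by
    simp only [mul_f, mul_π, act_mul]; ring))
  (fun x => E.ext (one_mul _) (funext fun v => by rw [mul_f, one_f, zero_add]))
  (fun x => E.ext (inv_mul_cancel _) (funext fun v => by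
    rw [mul_f, one_f]
    show x.f (act ((x.π⁻¹ : Spor.M23) : Equiv.Perm GolayPt) (act x.π v)) + x.f v = 0
    rw [act_inv_act, CharTwo.add_self_eq_zero]))

instance : Finite E := Finite.of_injective (fun x => (x.π, x.f)) fun x y h => by
  exact E.ext (congrArg Prod.fst h) (congrArg Prod.snd h)

end E

def proj : E →* Spor.M23 where
  toFun x := x.π
  map_one' := rfl
  map_mul' _ _ := rfl

theorem proj_surjective : Function.Surjective proj := fun π => ⟨⟨π, f0 π, f0_spec π⟩, rfl⟩

theorem ker_additive {x : E} (hx : x.π = 1) (u v : V) : x.f (u + v) = x.f u + x.f v := by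
  rw [x.cond, hx]
  simp [DD, act_one, CharTwo.add_self_eq_zero]

def pair (w : GolayPt → ZMod 2) (v : V) : ZMod 2 := ∑ p, w p * emb v p

def thetaElt (w : GolayPt → ZMod 2) : E := ⟨1, pair w, fun u v => by
  simp [pair, emb_add, mul_add, Finset.sum_add_distrib, DD, act_one, CharTwo.add_self_eq_zero]⟩

def thetaHom : (GolayPt → ZMod 2) →+ Additive ↥proj.ker :=
  AddMonoidHom.mk' (fun w => Additive.ofMul ⟨thetaElt w, rfl⟩) fun w w' =>
    congrArg Additive.ofMul (Subtype.ext (E.ext (one_mul _).symm (funext fun v => by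
      show pair (w + w') v = pair w (act ((1 : Spor.M23) : Equiv.Perm GolayPt) v) + pair w' v
      rw [OneMemClass.coe_one, act_one]
      simp [pair, add_mul, Finset.sum_add_distrib])))

theorem thetaHom_surjective : Function.Surjective thetaHom := by
  intro x
  obtain ⟨⟨y, hy⟩, rfl⟩ := Additive.ofMul.surjective x
  refine ⟨∑ j : Fin 11, (Pi.single (pt (piv.getD j 0)) (y.f (ev j)) : GolayPt → ZMod 2), ?_⟩
  refine congrArg Additive.ofMul (Subtype.ext (E.ext hy.symm (funext fun v => ?_)))
  show pair _ v = y.f v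
  have h1 : pair (∑ j : Fin 11, (Pi.single (pt (piv.getD j 0)) (y.f (ev j)) : GolayPt → ZMod 2)) v =
      ∑ j : Fin 11, y.f (ev j) * κ (emb v) j := by
    simp only [pair, Finset.sum_apply, Finset.sum_mul]
    rw [Finset.sum_comm]
    refine Finset.sum_congr rfl fun j _ => ?_
    simp [Pi.single_apply, κ]
  rw [h1, κ_emb, additive_expand (fun a b => ker_additive hy a b) v]
  exact Finset.sum_congr rfl fun j _ => mul_comm _ _

theorem mem_of_orth {w : GolayPt → ZMod 2} (h : ∀ a ∈ golayCode, ∑ p, w p * a p = 0) : w ∈ golayCode := by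
  rw [mem_golayCode_iff, mem_codeList_iff, inCode_iff]
  refine ⟨mask_lt _, fun b hb => ?_⟩
  rw [word_mask_support₂]
  refine h _ (word_mem_of_mem_codeList ?_)
  rw [mem_codeList_iff]
  revert b
  decide +kernel

theorem thetaHom_eq_zero (w : GolayPt → ZMod 2) :
    thetaHom w = 0 ↔ (w ∈ golayCode ∨ w + Pi.single none 1 ∈ golayCode) := by
  have hiff : thetaHom w = 0 ↔ ∀ v, pair w v = 0 := by
    constructor
    · intro h v
      have := congrArg (fun z : Additive ↥proj.ker => (z.toMul : E).f v) h
      exact this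
    · intro h
      exact congrArg Additive.ofMul (Subtype.ext (E.ext rfl (funext h)))
  rw [hiff]
  constructor
  · intro h
    set s := ∑ p, w p with hs
    have key : w + s • (Pi.single none 1 : GolayPt → ZMod 2) ∈ golayCode := by
      refine mem_of_orth fun a ha => ?_
      have h1 : (1 : GolayPt → ZMod 2) ∈ golayCode := Submodule.subset_span (Or.inr rfl)
      have hb : a + a none • (1 : GolayPt → ZMod 2) ∈ golayCode := add_mem ha (Submodule.smul_mem _ _ h1)
      have hb0 : (a + a none • (1 : GolayPt → ZMod 2)) none = 0 := by simp [CharTwo.add_self_eq_zero]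
      have h2 := h (κ (a + a none • (1 : GolayPt → ZMod 2)))
      rw [pair, emb_κ hb hb0] at h2
      simp only [Pi.add_apply, Pi.smul_apply, Pi.one_apply, smul_eq_mul, mul_one, mul_add, Finset.sum_add_distrib,
        ← Finset.sum_mul] at h2
      simp only [Pi.add_apply, Pi.smul_apply, Pi.single_apply, smul_eq_mul, add_mul, Finset.sum_add_distrib,
        mul_ite, mul_one, mul_zero, ite_mul, zero_mul, Finset.sum_ite_eq', Finset.mem_univ, if_true]
      exact h2
    rcases (show ∀ x : ZMod 2, x = 0 ∨ x = 1 by decide) s with h0 | h0 <;> rw [h0] at key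
    · left; simpa using key
    · right; simpa using key
  · rintro (h | h) v
    · exact orth h (emb_mem v)
    · have h2 := orth h (emb_mem v)
      simp only [Pi.add_apply, Pi.single_apply, add_mul, Finset.sum_add_distrib, ite_mul, one_mul, zero_mul,
        Finset.sum_ite_eq', Finset.mem_univ, if_true, emb_none, add_zero] at h2
      exact h2

/-! The certificate of non-splitting. -/

def gDperm : Equiv.Perm GolayPt where
  toFun := fun p => match p with | none => none | some x => some (2 * x)
  invFun := fun p => match p with | none => none | some x => some (12 * x)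
  left_inv := by decide
  right_inv := by decide

theorem rep_gD : Rep gDperm gDa := by decide +kernel

theorem gD_mem : gDperm ∈ M24 := rep_gD.mem_M24 (by decide +kernel)

def gpack : Fin 3 → ℕ := ![gTa, gDa, gCa]

noncomputable def gperm : Fin 3 → Equiv.Perm GolayPt := ![gT, gDperm, cubeTwist]

theorem rep_gperm (g : Fin 3) : Rep (gperm g) (gpack g) := by
  fin_cases g
  exacts [rep_gT, rep_gD, rep_cubeTwist]

noncomputable def gens (g : Fin 3) : Spor.M23 := ⟨gperm g, by
  refine ⟨?_, MulAction.mem_stabilizer_iff.2 ?_⟩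
  · fin_cases g
    exacts [gT_mem, gD_mem, cubeTwist_mem]
  · fin_cases g <;> rfl⟩

def actT (g : Fin 3) (v : V) : V := ∑ i : Fin 11, v i • bv ((imgT.getD g []).getD i 0)

def fT (g : Fin 3) (v : V) : ZMod 2 := upper (fun i j => bit ((dT.getD g []).getD i 0) j) v v

theorem img_check : ∀ (g : Fin 3) (i k : Fin 11),
    (actP (gpack g) (cmask.getD i 0)).testBit (piv.getD k 0) = ((imgT.getD g []).getD i 0).testBit k := by
  decide +kernel

theorem act_ev (g : Fin 3) (i : Fin 11) : act (gens g : Equiv.Perm GolayPt) (ev i) = bv ((imgT.getD g []).getD i 0) := by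
  funext k
  show (emb (ev i)) ((gperm g)⁻¹ (pt (piv.getD k 0))) = bit _ k
  rw [emb_ev, cw, bit, ← img_check g i k]
  have h := (rep_gperm g).toSet_actP (cmask.getD i 0)
  have h2 : ∀ p : GolayPt, (actP (gpack g) (cmask.getD i 0)).testBit (idx p) =
      (cmask.getD i 0).testBit (idx ((gperm g)⁻¹ p)) := by
    intro p
    have := Finset.ext_iff.1 h p
    rw [mem_toSet, ← Finset.inv_smul_mem_iff, mem_toSet, Equiv.Perm.smul_def] at this
    exact Bool.eq_iff_iff.2 this
  have h3 := h2 (pt (piv.getD k 0))
  rw [idx_pt (by have := piv_lt k; omega)] at h3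
  rw [word, h3]

theorem act_eq (g : Fin 3) (v : V) : act (gens g : Equiv.Perm GolayPt) v = actT g v := by
  funext k
  rw [additive_expand (f := fun v => act (gens g : Equiv.Perm GolayPt) v k)
    (fun a b => by rw [act_add]; rfl) v, actT, Finset.sum_apply]
  refine Finset.sum_congr rfl fun i _ => ?_
  rw [act_ev]; rfl

theorem dT_check : ∀ (g : Fin 3) (i j : Fin 11), i < j →
    θ (bv ((imgT.getD g []).getD i 0)) (bv ((imgT.getD g []).getD j 0)) + betaM i j =
      bit ((dT.getD g []).getD i 0) j := by
  decide +kernel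

theorem θ_ev_ev (i j : Fin 11) : θ (ev i) (ev j) = betaM i j := by
  rw [θ, Finset.sum_eq_single i (fun k _ hk => by simp [ev, hk]) (by simp),
    Finset.sum_eq_single j (fun k _ hk => by simp [ev, hk]) (by simp)]
  have hu : upper (tC i) (ev j) (ev j) = 0 := by
    refine Finset.sum_eq_zero fun a _ => Finset.sum_eq_zero fun b _ => ?_
    split_ifs with h'
    · by_cases ha : a = j
      · subst ha; simp [ev, h'.ne']
      · simp [ev, ha]
    · rfl
  rw [hu]
  simp [ev]

theorem DD_gen (g : Fin 3) (i j : Fin 11) (h : i < j) :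
    DD (gens g : Equiv.Perm GolayPt) (ev i) (ev j) = bit ((dT.getD g []).getD i 0) j := by
  rw [DD, act_ev, act_ev, θ_ev_ev]
  exact dT_check g i j h

theorem upper_congr {M M' : Fin 11 → Fin 11 → ZMod 2} (h : ∀ i j, i < j → M i j = M' i j) (u v : V) :
    upper M u v = upper M' u v := by
  refine Finset.sum_congr rfl fun i _ => Finset.sum_congr rfl fun j _ => ?_
  split_ifs with hij
  · rw [h i j hij]
  · rfl

theorem f0_eq (g : Fin 3) (v : V) : f0 (gens g : Equiv.Perm GolayPt) v = fT g v := by
  rw [f0, fT]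
  exact upper_congr (DD_gen g) v v

/-- The state reached after applying a word. -/
def top (x : ℕ) : List (Fin 3 × ℕ) → V
  | [] => bv x
  | (g, m) :: _ => actT g (bv m)

def linked (x : ℕ) : List (Fin 3 × ℕ) → Bool
  | [] => true
  | (_, m) :: rest => (bv m == top x rest) && linked x rest

def packProd : List (Fin 3 × ℕ) → ℕ
  | [] => packL (List.range 24)
  | (g, _) :: rest => compP (gpack g) (packProd rest)

theorem cert_ok : ∀ r ∈ cert, linked r.1 r.2 = true ∧ top r.1 r.2 = bv r.1 ∧ packProd r.2 = packL (List.range 24) := by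
  decide +kernel

theorem cert_lin : ∀ g : Fin 3, (((cert.flatMap Prod.snd).filter fun s => s.1 == g).map fun s => bv s.2).sum = 0 := by
  decide +kernel

theorem cert_val : ((cert.flatMap Prod.snd).map fun s => fT s.1 (bv s.2)).sum = 1 := by
  decide +kernel

section Lifts

variable (h : Fin 3 → E) (hh' : ∀ g, (h g).π = gens g)

noncomputable def word' : List (Fin 3 × ℕ) → E
  | [] => 1
  | (g, _) :: rest => h g * word' rest

include hh' in
theorem word_spec (x : ℕ) : ∀ L : List (Fin 3 × ℕ), linked x L = true →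
    Rep ((word' h L).π : Equiv.Perm GolayPt) (packProd L) ∧
      act (word' h L).π (bv x) = top x L ∧
      (word' h L).f (bv x) = (L.map fun s => (h s.1).f (bv s.2)).sum
  | [], _ => ⟨rep_one, by simp [word', top, E.one_π, act_one], rfl⟩
  | (g, m) :: rest, hL => by
    simp only [linked, Bool.and_eq_true, beq_iff_eq] at hL
    obtain ⟨ih1, ih2, ih3⟩ := word_spec x rest hL.2
    refine ⟨?_, ?_, ?_⟩
    · show Rep (((h g).π * (word' h rest).π : Spor.M23) : Equiv.Perm GolayPt) (compP (gpack g) (packProd rest))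
      rw [hh']
      exact (rep_gperm g).mul ih1
    · show act ((h g).π * (word' h rest).π : Spor.M23) (bv x) = actT g (bv m)
      rw [act_mul, ih2, ← hL.1, hh', act_eq]
    · show (h g * word' h rest).f (bv x) = _
      rw [E.mul_f, ih2, ← hL.1, ih3, List.map_cons, List.sum_cons]

end Lifts

theorem word'_mem {h : Fin 3 → E} {H : Subgroup E} (hH : ∀ g, h g ∈ H) : ∀ L, word' h L ∈ H
  | [] => H.one_mem
  | (g, _) :: rest => H.mul_mem (hH g) (word'_mem hH rest)

theorem nonsplit (H : Subgroup E) (hbot : H ⊓ proj.ker = ⊥) : H ⊔ proj.ker ≠ ⊤ := by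
  intro htop
  have hlift : ∀ g, ∃ x ∈ H, x.π = gens g := by
    intro g
    obtain ⟨y, hy⟩ := proj_surjective (gens g)
    obtain ⟨a, ha, b, hb, hab⟩ := Subgroup.mem_sup_of_normal_right.1 (htop ▸ Subgroup.mem_top y : y ∈ H ⊔ proj.ker)
    refine ⟨a, ha, ?_⟩
    rw [← hy, ← hab, map_mul, MonoidHom.mem_ker.1 hb, mul_one]
    rfl
  choose h hH hπ using hlift
  let φ : Fin 3 → V →+ ZMod 2 := fun g => AddMonoidHom.mk' (fun v => (h g).f v + fT g v) fun a b => by
    rw [(h g).cond, hπ, ← f0_eq, ← f0_eq, ← f0_eq, f0_spec]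
    linear_combination (DD (gens g : Equiv.Perm GolayPt) a b) * two_zero
  have hrel : ∀ r ∈ cert, (r.2.map fun s => (h s.1).f (bv s.2)).sum = 0 := by
    intro r hr
    obtain ⟨h1, -, h3⟩ := cert_ok r hr
    obtain ⟨hrep, -, hf⟩ := word_spec h hπ r.1 r.2 h1
    rw [h3] at hrep
    have hone : (word' h r.2).π = 1 := Subtype.ext (hrep.inj rep_one)
    have hb : word' h r.2 ∈ H ⊓ proj.ker := ⟨word'_mem hH _, hone⟩
    rw [hbot, Subgroup.mem_bot] at hb
    rw [← hf, hb, E.one_f]
  have hall : ((cert.flatMap Prod.snd).map fun s => (h s.1).f (bv s.2)).sum = 0 := by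
    rw [List.map_flatMap, List.flatMap, List.sum_flatten, List.map_map]
    exact List.sum_eq_zero fun z hz => by
      obtain ⟨r, hr, rfl⟩ := List.mem_map.1 hz
      exact hrel r hr
  have hsplit : ∀ L : List (Fin 3 × ℕ), (L.map fun s => (h s.1).f (bv s.2)).sum =
      (∑ g, φ g (((L.filter fun s => s.1 == g).map fun s => bv s.2).sum)) + (L.map fun s => fT s.1 (bv s.2)).sum := by
    intro L
    induction L with
    | nil => simp
    | cons s L ih =>
      have hstep : ∀ g, φ g ((((s :: L).filter fun z => z.1 == g).map fun z => bv z.2).sum) =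
          (if s.1 = g then φ g (bv s.2) else 0) + φ g (((L.filter fun z => z.1 == g).map fun z => bv z.2).sum) := by
        intro g
        by_cases hg : s.1 = g <;> simp [hg]
      simp only [List.map_cons, List.sum_cons, ih, hstep, Finset.sum_add_distrib, Finset.sum_ite_eq, Finset.mem_univ, if_true]
      show (h s.1).f (bv s.2) + _ = (h s.1).f (bv s.2) + fT s.1 (bv s.2) + _ + _
      linear_combination (-fT s.1 (bv s.2)) * two_zero
  rw [hsplit, cert_val] at hall
  simp [cert_lin] at hall

end CfsgLib.KnownB.M23Cocode
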