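import Cfsg.Agent.Lib.Classical.OrthStd

/-! An elliptic orthogonal group embeds in the hyperbolic one over the quadratic extension. -/

set_option autoImplicit false

namespace CfsgLib.KnownB.MinusIntoPlus

open Polynomial CfsgLib.Classical CfsgLib.Geometry

theorem exists_root {F K : Type*} [Field F] [Fintype F] [Field K] [Fintype K]
    (hK : Fintype.card K = Fintype.card F ^ 2) (a c : F)
    (hac : ∀ z₁ z₂ : F, z₁ ^ 2 + a * z₁ * z₂ + c * z₂ ^ 2 = 0 → z₁ = 0 ∧ z₂ = 0) :
    ∃ (ι : F →+* K) (t : K), t ^ 2 + ι a * t + ι c = 0 := by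
  classical
  set f : F[X] := X ^ 2 + C a * X + C c
  have hdeg : f.natDegree = 2 := by simp only [f]; compute_degree!
  have hmon : f.Monic := by simp only [f]; monicity!
  have hirr : Irreducible f := by
    rw [hmon.irreducible_iff_roots_eq_zero_of_degree_le_three (by omega) (by omega)]
    apply Multiset.eq_zero_of_forall_notMem
    intro x hx
    rw [mem_roots hmon.ne_zero] at hx
    simp only [f, IsRoot.def, eval_add, eval_mul, eval_pow, eval_X, eval_C] at hx
    exact one_ne_zero (hac x 1 (by linear_combination hx)).2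
  have := Fact.mk hirr
  let pb := AdjoinRoot.powerBasis' hmon
  have : Fintype (AdjoinRoot f) := Fintype.ofEquiv _ pb.basis.equivFun.toEquiv.symm
  have hcard : Fintype.card (AdjoinRoot f) = Fintype.card K := by
    rw [hK, Module.card_fintype pb.basis, Fintype.card_fin]
    simp [pb, hdeg]
  let e := FiniteField.ringEquivOfCardEq hcard
  refine ⟨e.toRingHom.comp (AdjoinRoot.of f), e (AdjoinRoot.root f), ?_⟩
  have h := AdjoinRoot.eval₂_root f
  simp only [f, eval₂_add, eval₂_mul, eval₂_pow, eval₂_X, eval₂_C] at h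
  have h' := congrArg e h
  simpa using h'

theorem map_isometry {F K : Type*} [Field F] [Field K] (ι : F →+* K) (k : ℕ) (a c : F)
    (g : Matrix ((Fin k ⊕ Fin k) ⊕ Fin 2) ((Fin k ⊕ Fin k) ⊕ Fin 2) F)
    (hg : ∀ v, Cfsg.quadFormMinus k F a c (g.mulVec v) = Cfsg.quadFormMinus k F a c v)
    (x : (Fin k ⊕ Fin k) ⊕ Fin 2 → K) :
    Cfsg.quadFormMinus k K (ι a) (ι c) ((g.map ι).mulVec x) = Cfsg.quadFormMinus k K (ι a) (ι c) x := by
  classical
  set Q : QuadraticForm K ((Fin k ⊕ Fin k) ⊕ Fin 2 → K) := splitForm k (binForm (ι a) (ι c))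
  have hQ : ∀ v : (Fin k ⊕ Fin k) ⊕ Fin 2 → F, Q (ι ∘ v) = ι (Cfsg.quadFormMinus k F a c v) := by
    intro v
    rw [← quadFormMinus_eq]
    simp [Cfsg.quadFormMinus, map_sum]
  set f := (g.map ι).mulVecLin
  have hv : ∀ v : (Fin k ⊕ Fin k) ⊕ Fin 2 → F, Q (f (ι ∘ v)) = Q (ι ∘ v) := by
    intro v
    have : f (ι ∘ v) = ι ∘ g.mulVec v := by
      funext i; exact (RingHom.map_mulVec ι g v i).symm
    rw [this, hQ, hQ, hg]
  let b := Pi.basisFun K ((Fin k ⊕ Fin k) ⊕ Fin 2)
  have : LinearOrder ((Fin k ⊕ Fin k) ⊕ Fin 2) := linearOrderOfSTO WellOrderingRel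
  have hb : ∀ i, b i = ι ∘ (Pi.single i 1) := by
    intro i; funext j
    by_cases h : j = i
    · subst h; simp [b]
    · simp [b, h]
  have heq : (Q.comp f).toBilin b = Q.toBilin b := by
    refine LinearMap.BilinForm.ext_basis b fun i j => ?_
    have hp : QuadraticMap.polar (Q.comp f) (b i) (b j) = QuadraticMap.polar Q (b i) (b j) := by
      have e : b i + b j = ι ∘ (Pi.single i 1 + Pi.single j 1) := by
        rw [hb, hb]; funext l; simp
      simp only [QuadraticMap.polar, QuadraticMap.comp_apply, e]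
      rw [hb, hb, hv, hv, hv]
    simp only [QuadraticMap.toBilin_apply]
    split_ifs with h1 h2
    · subst h1
      rw [QuadraticMap.comp_apply, hb, hv]
    · exact hp
    · rfl
  have := congrArg (fun B => LinearMap.BilinMap.toQuadraticMap B) heq
  simp only [QuadraticMap.toQuadraticMap_toBilin] at this
  rw [quadFormMinus_eq, quadFormMinus_eq]
  exact QuadraticMap.congr_fun this x

/-- index split -/
def idx (k : ℕ) : Fin (k + 1) ⊕ Fin (k + 1) ≃ (Fin k ⊕ Fin k) ⊕ Fin 2 where
  toFun := Sum.elim (fun i => Fin.lastCases (Sum.inr 0) (fun j => Sum.inl (Sum.inl j)) i)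
    (fun i => Fin.lastCases (Sum.inr 1) (fun j => Sum.inl (Sum.inr j)) i)
  invFun := Sum.elim (Sum.map Fin.castSucc Fin.castSucc) ![Sum.inl (Fin.last k), Sum.inr (Fin.last k)]
  left_inv := by
    rintro (i | i) <;> induction i using Fin.lastCases <;> simp
  right_inv := by
    rintro ((j | j) | z)
    · simp
    · simp
    · fin_cases z <;> simp

theorem main {F K : Type*} [Field F] [Fintype F] [Field K] [Fintype K]
    (hK : Fintype.card K = Fintype.card F ^ 2) (k : ℕ) (a c : F)
    (hac : ∀ z₁ z₂ : F, z₁ ^ 2 + a * z₁ * z₂ + c * z₂ ^ 2 = 0 → z₁ = 0 ∧ z₂ = 0) :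
    ∃ φ : ↥(Cfsg.isometryGroup F (Cfsg.quadFormMinus k F a c)) →* ↥(Cfsg.isometryGroup K (Cfsg.quadFormPlus (k + 1) K)),
      Function.Injective φ := by
  classical
  obtain ⟨ι, t, ht⟩ := exists_root hK a c hac
  set s := -ι a - t
  have hts : s - t ≠ 0 := by
    intro h
    have h2t : (2 : K) * t = -ι a := by linear_combination -h
    by_cases h2 : (2 : F) = 0
    · have ha : a = 0 := ι.injective (by
        rw [map_zero]
        have h20 : (2 : K) = 0 := by rw [← map_ofNat ι, h2, map_zero]
        linear_combination (-1 : K) * h2t + (t + ι a) * h20)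
      obtain ⟨r, hr⟩ := FiniteField.isSquare_of_char_two
        ((CharP.ringChar_of_prime_eq_zero Nat.prime_two (by exact_mod_cast h2))) c
      exact one_ne_zero (hac r 1 (by rw [ha, hr]; linear_combination (r * r) * h2)).2
    · apply one_ne_zero (α := F)
      refine (hac (-a / 2) 1 ?_).2
      apply ι.injective
      have h2K : (2 : K) ≠ 0 := fun e => h2 (ι.injective (by rw [map_ofNat, map_zero, e]))
      have e : ι (-a / 2) = t := by
        rw [map_div₀, map_neg, map_ofNat, div_eq_iff h2K]; linear_combination -h2t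
      simp only [map_add, map_mul, map_pow, map_one, map_zero, e]
      linear_combination ht
  let P : (Fin 2 → K) ≃ₗ[K] (Fin 2 → K) :=
    { toFun := fun v => ![(s * v 0 - t * v 1) / (s - t), (v 0 - v 1) / (s - t)]
      invFun := fun v => ![v 0 - t * v 1, v 0 - s * v 1]
      map_add' := fun v w => by funext i; fin_cases i <;> simp <;> ring
      map_smul' := fun r v => by funext i; fin_cases i <;> simp <;> ring
      left_inv := fun v => by funext i; fin_cases i <;> simp <;> field_simp <;> ring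
      right_inv := fun v => by funext i; fin_cases i <;> simp <;> field_simp <;> ring }
  let S := LinearEquiv.sumArrowLequivProdArrow (Fin k ⊕ Fin k) (Fin 2) K K
  let L : (Fin (k + 1) ⊕ Fin (k + 1) → K) ≃ₗ[K] ((Fin k ⊕ Fin k) ⊕ Fin 2 → K) :=
    ((LinearEquiv.funCongrLeft K K (idx k).symm).trans S).trans
      (((LinearEquiv.refl K _).prodCongr P).trans S.symm)
  have hL : ∀ v, Cfsg.quadFormMinus k K (ι a) (ι c) (L v) = Cfsg.quadFormPlus (k + 1) K v := by
    intro v
    simp only [Cfsg.quadFormMinus, Cfsg.quadFormPlus, Fin.sum_univ_castSucc, L, S, P, LinearEquiv.trans_apply]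
    simp [idx, LinearEquiv.funCongrLeft, LinearEquiv.sumArrowLequivProdArrow, Equiv.sumArrowEquivProdArrow, LinearMap.funLeft]
    have e1 : ι a = -t - s := by simp only [s]; ring
    have e2 : ι c = t * s := by simp only [s]; linear_combination ht
    rw [e1, e2]
    field_simp
    ring
  let Φ : Matrix ((Fin k ⊕ Fin k) ⊕ Fin 2) ((Fin k ⊕ Fin k) ⊕ Fin 2) F →*
      Matrix (Fin (k + 1) ⊕ Fin (k + 1)) (Fin (k + 1) ⊕ Fin (k + 1)) K :=
    { toFun := fun g => LinearMap.toMatrix' (L.symm.toLinearMap ∘ₗ (g.map ι).mulVecLin ∘ₗ L.toLinearMap)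
      map_one' := by simp [Matrix.map_one]
      map_mul' := fun g h => by
        rw [← LinearMap.toMatrix'_comp, Matrix.map_mul, Matrix.mulVecLin_mul]
        congr 1
        ext v
        simp }
  have happ : ∀ g v, (Φ g).mulVec v = L.symm ((g.map ι).mulVec (L v)) := fun g v => by
    show (LinearMap.toMatrix' _).mulVec v = _
    rw [LinearMap.toMatrix'_mulVec]; rfl
  let ψ := (Units.map Φ).comp (Cfsg.isometryGroup F (Cfsg.quadFormMinus k F a c)).subtype
  refine ⟨ψ.codRestrict _ fun g => fun v w => ?_, ?_⟩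
  · show Cfsg.quadFormPlus (k + 1) K ((Φ g.1.1).mulVec v) = Cfsg.quadFormPlus (k + 1) K v
    rw [happ, ← hL, LinearEquiv.apply_symm_apply, map_isometry ι k a c g.1.1 (fun u => g.2 u u), hL]
  · intro g h e
    have hm : Φ g.1.1 = Φ h.1.1 := congrArg (fun z => Units.val (Subtype.val z)) e
    refine Subtype.ext (Units.ext (Matrix.map_injective ι.injective (Matrix.ext_iff_mulVec.2 fun v => ?_)))
    have := congrArg (fun M => L (M.mulVec (L.symm v))) hm
    simpa [happ] using this

end CfsgLib.KnownB.MinusIntoPlus
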