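import Mathlib

/-!
`-1` as an `n`-th power in a finite field of odd order.
-/

set_option autoImplicit false

namespace CfsgLib.KnownB.NegOne

variable {F : Type*} [Field F] [Fintype F]

theorem neg_one_ne_one (hq : Odd (Fintype.card F)) : (-1 : F) ≠ 1 :=
  Ring.neg_one_ne_one_of_char_ne_two fun h => by
    have h' := FiniteField.even_card_of_char_two h
    rw [Nat.odd_iff.1 hq] at h'
    exact one_ne_zero h'

theorem card_sub_one_eq (hq : Odd (Fintype.card F)) :
    ∃ m, Odd m ∧ 1 ≤ padicValNat 2 (Fintype.card F - 1) ∧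
      Fintype.card F - 1 = 2 ^ padicValNat 2 (Fintype.card F - 1) * m := by
  have h1 : 1 < Fintype.card F := Fintype.one_lt_card
  obtain ⟨e, m, hm, he⟩ := Nat.exists_eq_two_pow_mul_odd (n := Fintype.card F - 1) (by omega)
  have hv : padicValNat 2 (Fintype.card F - 1) = e := by
    rw [he, padicValNat.mul (by positivity) (Nat.pos_iff_ne_zero.1 hm.pos), padicValNat.prime_pow,
      padicValNat.eq_zero_of_not_dvd hm.not_two_dvd_nat, add_zero]
  rw [hv]
  refine ⟨m, hm, ?_, he⟩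
  by_contra hc
  obtain rfl : e = 0 := by omega
  obtain ⟨k, hk⟩ := hq
  obtain ⟨l, hl⟩ := hm
  omega

theorem exists_pow_eq_neg_one_iff (hq : Odd (Fintype.card F)) {n : ℕ} (hn : n ≠ 0) :
    (∃ c : F, c ^ n = -1) ↔ padicValNat 2 n < padicValNat 2 (Fintype.card F - 1) := by
  obtain ⟨m, hm, he1, he⟩ := card_sub_one_eq hq
  obtain ⟨a, b, hb, rfl⟩ := Nat.exists_eq_two_pow_mul_odd hn
  have hv : padicValNat 2 (2 ^ a * b) = a := by
    rw [padicValNat.mul (by positivity) (Nat.pos_iff_ne_zero.1 hb.pos), padicValNat.prime_pow,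
      padicValNat.eq_zero_of_not_dvd hb.not_two_dvd_nat, add_zero]
  rw [hv]
  set e := padicValNat 2 (Fintype.card F - 1)
  constructor
  · rintro ⟨c, hc⟩
    by_contra hlt
    push Not at hlt
    have hc0 : c ≠ 0 := fun h0 => by
      rw [h0, zero_pow hn] at hc
      exact neg_ne_zero.2 one_ne_zero hc.symm
    have h1 : c ^ (2 ^ (a + 1) * b) = 1 := by
      rw [pow_succ', mul_assoc, mul_comm 2, pow_mul, hc, neg_one_sq]
    have h2 : c ^ (2 ^ a * m) = 1 := by
      rw [← Nat.sub_add_cancel hlt, pow_add, mul_assoc, ← he, pow_mul', FiniteField.pow_card_sub_one_eq_one c hc0,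
        one_pow]
    have hg : Nat.gcd (2 ^ (a + 1) * b) (2 ^ a * m) ∣ 2 ^ a * b := by
      rw [pow_succ, mul_assoc, Nat.gcd_mul_left]
      refine mul_dvd_mul_left _ ?_
      exact (Nat.Coprime.dvd_of_dvd_mul_left ((Nat.coprime_two_right.2 hm).coprime_dvd_left (Nat.gcd_dvd_right _ _)) (Nat.gcd_dvd_left _ _))
    have h3 : c ^ (2 ^ a * b) = 1 := by
      obtain ⟨k, hk⟩ := hg
      rw [hk, pow_mul, pow_gcd_eq_one.2 ⟨h1, h2⟩, one_pow]
    exact neg_one_ne_one hq (hc.symm.trans h3)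
  · intro hlt
    obtain ⟨ζ, hζ⟩ := IsCyclic.exists_ofOrder_eq_natCard (α := Fˣ)
    rw [Nat.card_units, Nat.card_eq_fintype_card, he] at hζ
    refine ⟨((ζ ^ (2 ^ (e - (a + 1)) * m) : Fˣ) : F), ?_⟩
    have hz : orderOf (ζ ^ (2 ^ (e - (a + 1)) * m)) = 2 ^ (a + 1) := by
      have hd : 2 ^ e * m = 2 ^ (a + 1) * (2 ^ (e - (a + 1)) * m) := by
        rw [← mul_assoc, ← pow_add, Nat.add_sub_cancel' hlt]
      rw [orderOf_pow_of_dvd (by have := hm.pos; positivity) (by rw [hζ, hd]; exact dvd_mul_left _ _), hζ, hd,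
        Nat.mul_div_cancel _ (by have := hm.pos; positivity)]
    set z := ζ ^ (2 ^ (e - (a + 1)) * m)
    have hw : ((z ^ 2 ^ a : Fˣ) : F) = -1 := by
      have h2 : ((z ^ 2 ^ a : Fˣ) : F) ^ 2 = 1 := by
        rw [← Units.val_pow_eq_pow_val, ← pow_mul, ← pow_succ, ← hz, pow_orderOf_eq_one, Units.val_one]
      refine (sq_eq_one_iff.1 h2).resolve_left fun h1 => ?_
      have : orderOf z ∣ 2 ^ a := orderOf_dvd_of_pow_eq_one (Units.ext h1)
      rw [hz, Nat.pow_dvd_pow_iff_le_right (by norm_num)] at this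
      omega
    rw [pow_mul, ← Units.val_pow_eq_pow_val, hw, hb.neg_one_pow]

end CfsgLib.KnownB.NegOne
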