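import Mathlib

/-! No set of collineations of a projective space is sharply two-transitive. -/

set_option autoImplicit false

namespace CfsgLib.KnownB.NoSharpTwo

variable {F : Type*} [Field F] [Finite F] {V : Type*} [AddCommGroup V] [Module F V] [Finite V]

open scoped LinearAlgebra.Projectivization

def pts (W : Submodule F V) : Set (ℙ F V) := {x | x.submodule ≤ W}

omit [Finite F] [Finite V] in
lemma mem_pts {W : Submodule F V} (v : V) (hv : v ≠ 0) : Projectivization.mk F v hv ∈ pts W ↔ v ∈ W := by
  simp [pts, Projectivization.submodule_mk]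

noncomputable def ptsEquiv (W : Submodule F V) : ℙ F W ≃ pts W :=
  Equiv.ofBijective (fun x => ⟨Projectivization.map W.subtype W.injective_subtype x, by
      induction x using Projectivization.ind with
      | h v hv => rw [Projectivization.map_mk]; exact (mem_pts _ _).2 v.2⟩)
    ⟨fun x y h => Projectivization.map_injective W.subtype W.injective_subtype (congrArg Subtype.val h), fun ⟨x, hx⟩ => by
      induction x using Projectivization.ind with
      | h v hv =>
        refine ⟨Projectivization.mk F ⟨v, (mem_pts v hv).1 hx⟩ (by simpa using hv), Subtype.ext ?_⟩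
        simp [Projectivization.map_mk]⟩

lemma card_pts_mod (W : Submodule F V) (hW : W ≠ ⊥) : (Nat.card (pts W) : ZMod (Nat.card F)) = 1 := by
  rw [← Nat.card_congr (ptsEquiv W), Projectivization.card_of_finrank F W rfl]
  have hpos : 0 < Module.finrank F W := Submodule.one_le_finrank_iff.2 hW
  obtain ⟨m, hm⟩ : ∃ m, Module.finrank F W = m + 1 := ⟨_, (Nat.succ_pred_eq_of_pos hpos).symm⟩
  rw [hm, Finset.sum_range_succ', Nat.cast_add, Nat.cast_sum]
  simp

omit [Finite F] [Finite V] in
lemma pts_inf (W U : Submodule F V) : pts (W ⊓ U) = pts W ∩ pts U := by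
  ext x; simp [pts]

lemma main (a : V) (ha : a ≠ 0) (La L H : Submodule F V)
    (hla : a ∈ La) (hl : a ∉ L) (hh : a ∉ H) (hH : H ≠ ⊥) (hL : L ≠ ⊥)
    (hdla : Module.finrank F V < Module.finrank F La + Module.finrank F H)
    (hdl : Module.finrank F V < Module.finrank F L + Module.finrank F H)
    (S : Set (Equiv.Perm (ℙ F V)))
    (hS : ∀ s ∈ S, ∃ (σ : F ≃+* F) (f : V →ₛₗ[(σ : F →+* F)] V) (hf : Function.Injective f),
      ∀ x, s x = Projectivization.map f hf x)
    (h2 : ∀ a b c d : ℙ F V, a ≠ b → c ≠ d → ∃! s, s ∈ S ∧ s a = c ∧ s b = d) : False := by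
  classical
  let A := Projectivization.mk F a ha
  let S' := {s : Equiv.Perm (ℙ F V) // s ∈ S ∧ s A = A}
  have hAL : A ∉ pts L := fun h => hl ((mem_pts a ha).1 h)
  have hAH : A ∉ pts H := fun h => hh ((mem_pts a ha).1 h)
  -- the double count
  have count : ∀ C : Set (ℙ F V), A ∉ C → (Nat.card (Σ s : S', {x : C // s.1 (x : ℙ F V) ∈ pts H}) : ℕ) = Nat.card C * Nat.card (pts H) := by
    intro C hC
    rw [← Nat.card_prod]
    apply Nat.card_congr
    refine Equiv.ofBijective (fun p => (p.2.1, (⟨p.1.1 p.2.1, p.2.2⟩ : pts H))) ⟨?_, ?_⟩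
    · rintro ⟨⟨s, hs⟩, ⟨⟨x, hx⟩, hsx⟩⟩ ⟨⟨t, ht⟩, ⟨⟨y, hy⟩, hty⟩⟩ h
      simp only [Prod.mk.injEq, Subtype.mk.injEq] at h
      obtain ⟨rfl, h⟩ := h
      have hne : A ≠ x := fun e => hC (e ▸ hx)
      have hne' : A ≠ s x := fun e => hne (s.injective (hs.2.trans e))
      have : s = t := (h2 A x A (s x) hne hne').unique ⟨hs.1, hs.2, rfl⟩ ⟨ht.1, ht.2, h.symm⟩
      subst this
      rfl
    · rintro ⟨⟨x, hx⟩, ⟨y, hy⟩⟩
      obtain ⟨s, ⟨hsS, hsA, hsx⟩, -⟩ := h2 A x A y (fun e => hC (e ▸ hx)) (fun e => hAH (e ▸ hy))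
      exact ⟨⟨⟨s, hsS, hsA⟩, ⟨⟨x, hx⟩, show s x ∈ pts H from hsx ▸ hy⟩⟩, by simp [hsx]⟩
  -- each term is one modulo q
  have image : ∀ (s : S') (W : Submodule F V), W ≠ ⊥ → Module.finrank F V < Module.finrank F W + Module.finrank F H →
      (Nat.card {x : pts W // s.1 (x : ℙ F V) ∈ pts H} : ZMod (Nat.card F)) = 1 := by
    intro s W hW hd
    obtain ⟨σ, f, hf, he⟩ := hS s.1 s.2.1
    have : RingHomInvPair (σ : F →+* F) (σ.symm : F →+* F) := RingHomInvPair.of_ringEquiv σ
    have : RingHomInvPair (σ.symm : F →+* F) (σ : F →+* F) := RingHomInvPair.of_ringEquiv σ.symm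
    have : RingHomSurjective (σ : F →+* F) := ⟨σ.surjective⟩
    let W' : Submodule F V := W.map f
    have hcard : Nat.card W' = Nat.card W := Nat.card_congr (Submodule.equivMapOfInjective f hf W).toEquiv.symm
    have hdim : Module.finrank F W' = Module.finrank F W := by
      have h1 := Module.natCard_eq_pow_finrank (K := F) (V := W')
      have h2' := Module.natCard_eq_pow_finrank (K := F) (V := W)
      rw [hcard, h2'] at h1
      exact (Nat.pow_right_injective Finite.one_lt_card h1).symm
    have hne : W' ⊓ H ≠ ⊥ := by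
      intro hbot
      have h1 := Submodule.finrank_sup_add_finrank_inf_eq W' H
      rw [hbot, finrank_bot, hdim] at h1
      have := Submodule.finrank_le (W' ⊔ H)
      omega
    rw [← card_pts_mod _ hne]
    congr 1
    apply Nat.card_congr
    refine Equiv.ofBijective (fun x => ⟨s.1 x.1, ?_⟩) ⟨?_, ?_⟩
    · rw [pts_inf]
      refine ⟨?_, x.2⟩
      obtain ⟨⟨z, hz⟩, -⟩ := x
      induction z using Projectivization.ind with
      | h v hv =>
        show s.1 (Projectivization.mk F v hv) ∈ pts W'
        rw [he, Projectivization.map_mk]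
        exact (mem_pts _ _).2 (Submodule.mem_map_of_mem ((mem_pts v hv).1 hz))
    · intro x y h
      exact Subtype.ext (Subtype.ext (s.1.injective (congrArg Subtype.val h)))
    · rintro ⟨y, hy⟩
      rw [pts_inf] at hy
      induction y using Projectivization.ind with
      | h v hv =>
        obtain ⟨w, hw, rfl⟩ := (mem_pts _ _).1 hy.1
        have hw0 : w ≠ 0 := fun e => hv (by simp [e])
        refine ⟨⟨⟨Projectivization.mk F w hw0, (mem_pts _ _).2 hw⟩, ?_⟩, Subtype.ext ?_⟩
        · show s.1 _ ∈ pts H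
          rw [he, Projectivization.map_mk]; exact hy.2
        · show s.1 _ = _
          rw [he, Projectivization.map_mk]
  -- sum up
  have hL' : (Nat.card S' : ZMod (Nat.card F)) = 1 := by
    have h := congrArg (Nat.cast (R := ZMod (Nat.card F))) (count (pts L) hAL)
    have := Fintype.ofFinite S'
    rw [Nat.card_sigma, Nat.cast_sum, Nat.cast_mul, card_pts_mod L hL, card_pts_mod H hH, one_mul] at h
    rw [← h, Finset.sum_congr rfl (fun s _ => image s L hL hdl)]
    simp [Nat.card_eq_fintype_card]
  have hLa : (Nat.card S' : ZMod (Nat.card F)) = 0 := by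
    have hla0 : La ≠ ⊥ := fun e => ha (by simpa [e] using hla)
    have hmem : A ∈ pts La := (mem_pts a ha).2 hla
    have hC : (Nat.card ↥(pts La \ {A} : Set (ℙ F V)) : ZMod (Nat.card F)) = 0 := by
      have h1 := card_pts_mod La hla0
      rw [Nat.card_coe_set_eq, Set.ncard_sdiff (by simpa using hmem), Set.ncard_singleton] 
      rw [Nat.card_coe_set_eq] at h1
      rw [Nat.cast_sub ((Set.ncard_pos).2 ⟨A, hmem⟩), h1]
      simp
    have h := congrArg (Nat.cast (R := ZMod (Nat.card F))) (count (pts La \ {A}) (by simp))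
    have := Fintype.ofFinite S'
    rw [Nat.card_sigma, Nat.cast_sum, Nat.cast_mul, hC, zero_mul] at h
    rw [← h, Finset.sum_congr rfl (g := fun _ => (1 : ZMod (Nat.card F))) (fun s _ => ?_)]
    · simp [Nat.card_eq_fintype_card]
    · rw [← image s La hla0 hdla]
      congr 1
      apply Nat.card_congr
      exact
        { toFun := fun x => ⟨⟨x.1.1, x.1.2.1⟩, x.2⟩
          invFun := fun x => ⟨⟨x.1.1, x.1.2, fun e => hAH (by
            have := x.2
            rw [show (x.1 : ℙ F V) = A from e, s.2.2] at this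
            exact this)⟩, x.2⟩
          left_inv := fun x => rfl
          right_inv := fun x => rfl }
  have : Fact (1 < Nat.card F) := ⟨Finite.one_lt_card⟩
  exact one_ne_zero (hL'.symm.trans hLa)

end CfsgLib.KnownB.NoSharpTwo
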