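import Cfsg.Agent.Lib.KnownB.NormTrick

/-!
Self-adjoint units are norms on the corner cut out by a self-adjoint idempotent.
-/

set_option autoImplicit false

namespace CfsgLib.KnownB.NormTrick

universe u

/-- The commutative subring of self-adjoint elements generated by commuting self-adjoint elements. -/
theorem closure_facts {S : Type u} [Ring S] {st : S → S} (h : IsInvol st) {s : Set S}
    (hc : ∀ x ∈ s, ∀ y ∈ s, x * y = y * x) (hst : ∀ x ∈ s, st x = x) :
    (∀ x ∈ Subring.closure s, ∀ y ∈ Subring.closure s, x * y = y * x) ∧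
    (∀ x ∈ Subring.closure s, st x = x) ∧
    (∀ g, (∀ x ∈ s, Commute g x) → ∀ x ∈ Subring.closure s, Commute g x) := by
  have hz : st 0 = 0 := by
    have := h.map_add 0 0
    rw [add_zero] at this
    exact left_eq_add.1 this
  have hneg : ∀ x, st (-x) = - st x := fun x => by
    have := h.map_add x (-x)
    rw [add_neg_cancel, hz] at this
    exact eq_neg_of_add_eq_zero_right this.symm
  have hcent : ∀ g, (∀ x ∈ s, Commute g x) → ∀ y ∈ Subring.closure s, Commute g y := fun g hg y hy => by
    induction hy using Subring.closure_induction with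
    | mem z hz => exact hg z hz
    | zero => exact Commute.zero_right g
    | one => exact Commute.one_right g
    | add x y _ _ hx hy => exact hx.add_right hy
    | neg x _ hx => exact hx.neg_right
    | mul x y _ _ hx hy => exact hx.mul_right hy
  have hcomm : ∀ x ∈ Subring.closure s, ∀ y ∈ Subring.closure s, x * y = y * x := fun x hx y hy =>
    (hcent x (fun z hz => (hcent z (fun w hw => hc z hz w hw) x hx).symm) y hy).eq
  refine ⟨hcomm, fun x hx => ?_, hcent⟩
  induction hx using Subring.closure_induction with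
  | mem z hz' => exact hst z hz'
  | zero => exact hz
  | one => exact h.map_one
  | add x y _ _ hx hy => rw [h.map_add, hx, hy]
  | neg x _ hx => rw [hneg, hx]
  | mul x y hxR hyR hx hy => rw [h.map_mul, hx, hy, hcomm y hyR x hxR]

/-- `exists_factor` on a corner: `c* c = a e + (1 - e)`. -/
theorem exists_factor_corner {S : Type u} [Ring S] [Finite S] {st : S → S} (h : IsInvol st) {a θ e w : S}
    (hee : e * e = e) (hse : st e = e) (ha : st a = a) (hau : IsUnit a) (hae : Commute a e) (hθa : Commute θ a)
    (hθe : Commute θ e) (hθθ : Commute θ (st θ)) (hθ1 : θ + st θ = e) (heθ : θ * e = θ)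
    (hw : (θ - st θ) * w = e) (hwe : e * w = w) :
    ∃ c : S, IsUnit c ∧ st c * c = a * e + (1 - e) ∧ Commute c e ∧
      ∀ g, Commute g a → Commute g e → Commute g θ → Commute g (st θ) → Commute g c := by
  set e' := (1 : S) - e with he'
  have hst1e : st e' = e' := by
    have h1 := h.map_add e' e
    rw [he', sub_add_cancel, h.map_one, hse] at h1
    exact eq_sub_of_add_eq h1.symm
  have hse' : Commute (st θ) e := by
    have := congrArg st hθe.eq
    rw [h.map_mul, h.map_mul, hse] at this
    exact this.symm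
  have hsa : Commute (st θ) a := by
    have := congrArg st hθa.eq
    rw [h.map_mul, h.map_mul, ha] at this
    exact this.symm
  have heθ' : e * θ = θ := by rw [← hθe.eq, heθ]
  have hse1 : st θ * e = st θ := by
    have := congrArg st heθ'
    rwa [h.map_mul, hse] at this
  have hee0 : e * e' = 0 := by rw [he', mul_sub, mul_one, hee, sub_self]
  have he'e : e' * e = 0 := by rw [he', sub_mul, one_mul, hee, sub_self]
  have he'e' : e' * e' = e' := by conv_lhs => rw [he', sub_mul, one_mul, ← he', hee0, sub_zero]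
  -- corrected unit and discriminant
  set a' := a * e + e' with ha'
  set ν := θ * st θ with hν
  have hνe : ν * e = ν := by rw [hν, mul_assoc, hse1]
  have hνst : st ν = ν := by rw [hν, h.map_mul, h.invol]
  have haν : Commute a ν := hθa.symm.mul_right hsa.symm
  have heν : Commute e ν := hθe.symm.mul_right hse'.symm
  have hgen : ∀ x ∈ ({a, ν, e} : Set S), ∀ y ∈ ({a, ν, e} : Set S), x * y = y * x := by
    intro x hx y hy
    simp only [Set.mem_insert_iff, Set.mem_singleton_iff] at hx hy
    rcases hx with rfl | rfl | rfl <;> rcases hy with rfl | rfl | rfl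
    exacts [rfl, haν.eq, hae.eq, haν.eq.symm, rfl, heν.eq.symm, hae.eq.symm, heν.eq, rfl]
  obtain ⟨hcomm, hst, hcent⟩ := closure_facts h hgen (by
    intro x hx
    simp only [Set.mem_insert_iff, Set.mem_singleton_iff] at hx
    rcases hx with rfl | rfl | rfl
    exacts [ha, hνst, hse])
  set R := Subring.closure ({a, ν, e} : Set S)
  let : CommRing R := { (inferInstance : Ring R) with mul_comm := fun x y => Subtype.ext (hcomm x x.2 y y.2) }
  have haR : a ∈ R := Subring.subset_closure (Or.inl rfl)
  have hνR : ν ∈ R := Subring.subset_closure (Or.inr (Or.inl rfl))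
  have heR : e ∈ R := Subring.subset_closure (Or.inr (Or.inr rfl))
  have ha'R : a' ∈ R := R.add_mem (R.mul_mem haR heR) (R.sub_mem R.one_mem heR)
  have hunit : ∀ (x : S) (hx : x ∈ R), IsUnit x → IsUnit (⟨x, hx⟩ : R) := fun x hx hxu => by
    have hinj : Function.Injective fun y : R => (⟨x, hx⟩ : R) * y := fun y z hyz =>
      Subtype.ext (hxu.mul_left_cancel (congrArg Subtype.val hyz))
    obtain ⟨y, hy⟩ := (Finite.injective_iff_surjective.1 hinj) 1
    exact IsUnit.of_mul_eq_one y hy
  have ha'u : IsUnit a' := by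
    obtain ⟨u, rfl⟩ := hau
    refine IsUnit.of_mul_eq_one (((u⁻¹ : Sˣ) : S) * e + e') ?_
    have hie : Commute e ((u⁻¹ : Sˣ) : S) := (show Commute e (u : S) from hae.symm).units_inv_right
    rw [ha', add_mul, mul_add, mul_add]
    have t1 : (u : S) * e * (((u⁻¹ : Sˣ) : S) * e) = e := by
      rw [mul_assoc, ← mul_assoc e, hie.eq, mul_assoc _ e, hee, Units.mul_inv_cancel_left]
    have t2 : (u : S) * e * e' = 0 := by rw [mul_assoc, hee0, mul_zero]
    have t3 : e' * (((u⁻¹ : Sˣ) : S) * e) = 0 := by rw [← hie.eq, ← mul_assoc, he'e, zero_mul]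
    rw [t1, t2, t3, he'e', he']
    abel
  have hθst : st θ = e - θ := eq_sub_of_add_eq' hθ1
  have hd : IsUnit (1 - 4 * (⟨ν, hνR⟩ : R)) := by
    refine hunit _ (1 - 4 * (⟨ν, hνR⟩ : R)).2 ?_
    have e4 : ((1 - 4 * (⟨ν, hνR⟩ : R) : R) : S) = ((θ - st θ) + e') * ((θ - st θ) + e') := by
      rw [show (4 : R) = 1 + 1 + 1 + 1 by norm_num]
      simp only [AddSubgroupClass.coe_sub, Subring.coe_mul, Subring.coe_add, Subring.coe_one]
      have d1 : (θ - st θ) * e' = 0 := by
        rw [he', mul_sub, mul_one, sub_mul, heθ, hse1, sub_self]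
      have d2 : e' * (θ - st θ) = 0 := by
        rw [he', sub_mul, one_mul, mul_sub, heθ', ← hse'.eq, hse1, sub_self]
      conv_rhs => rw [add_mul, mul_add, mul_add, d1, d2, he'e', add_zero, zero_add]
      rw [hν, he']
      have d3 : (θ - st θ) * (θ - st θ) = e - 4 * (θ * st θ) := by
        rw [hθst]
        simp only [mul_sub, sub_mul, heθ, heθ', hee]
        noncomm_ring
      rw [d3]
      noncomm_ring
    rw [e4]
    have hu : IsUnit ((θ - st θ) + e') := by
      refine IsUnit.of_mul_eq_one (w + e') ?_
      have d1 : (θ - st θ) * e' = 0 := by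
        rw [he', mul_sub, mul_one, sub_mul, heθ, hse1, sub_self]
      have d4 : e' * w = 0 := by rw [he', sub_mul, one_mul, hwe, sub_self]
      rw [add_mul, mul_add, mul_add, hw, d1, d4, he'e', he']
      abel
    exact hu.mul hu
  obtain ⟨x, y, hxy⟩ := ring_step hd (hunit a' ha'R ha'u)
  have hxy' : (x : S) * x + (x : S) * y + ν * ((y : S) * y) = a' := by
    have := congrArg Subtype.val hxy
    simpa [sq] using this
  have hgs : ∀ g, Commute g a → Commute g e → Commute g ν → ∀ z ∈ R, Commute g z := fun g h1 h2 h3 => hcent g (by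
    intro x hx
    simp only [Set.mem_insert_iff, Set.mem_singleton_iff] at hx
    rcases hx with rfl | rfl | rfl
    exacts [h1, h3, h2])
  have hθν : Commute θ ν := (Commute.refl θ).mul_right hθθ
  have hθR : ∀ z ∈ R, Commute θ z := hgs θ hθa hθe hθν
  have hsR : ∀ z ∈ R, Commute (st θ) z := hgs (st θ) hsa hse' (hθθ.symm.mul_right (Commute.refl _))
  set d := (x : S) * e + θ * y with hd'
  have hde : d * e = d := by
    rw [hd', add_mul, mul_assoc, hee, mul_assoc, hcomm y y.2 e heR, ← mul_assoc, heθ]
  have hed : e * d = d := by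
    rw [hd', mul_add, ← mul_assoc, hcomm e heR x x.2, mul_assoc, hee, ← mul_assoc, heθ']
  have hst0 : st d = e * x + y * st θ := by
    rw [hd', h.map_add, h.map_mul, h.map_mul, hse, hst x x.2, hst y y.2]
  have hdd : st d * d = a * e := by
    have ea : a' * e = a * e := by rw [ha', add_mul, mul_assoc, hee, he'e, add_zero]
    rw [hst0, hd', ← ea, ← hxy']
    have q0 : e * (x : S) * ((x : S) * e) = (x : S) * x * e := by
      rw [← mul_assoc, mul_assoc e (x : S) (x : S), hcomm e heR _ (R.mul_mem x.2 x.2), mul_assoc, hee]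
    have q1 : e * (x : S) * (θ * y) = θ * (x * y) := by
      rw [← mul_assoc, mul_assoc e (x : S) θ, ← (hθR x x.2).eq, ← mul_assoc e, heθ', mul_assoc]
    have q2 : (y : S) * st θ * (x * e) = st θ * (x * y) := by
      rw [← (hsR y y.2).eq, mul_assoc, ← mul_assoc (y : S), hcomm y y.2 x x.2,
        hcomm _ (R.mul_mem x.2 y.2) e heR, ← mul_assoc (st θ), hse1]
    have q3 : (y : S) * st θ * (θ * y) = ν * (y * y) := by
      rw [← (hsR y y.2).eq, mul_assoc (st θ), ← mul_assoc (y : S) θ, ← (hθR y y.2).eq, mul_assoc θ, ← mul_assoc,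
        ← hθθ.eq, ← hν]
    rw [add_mul, mul_add, mul_add, q0, q1, q2, q3, add_mul, add_mul]
    have e2 : θ * ((x : S) * y) + st θ * (x * y) = x * y * e := by
      rw [← add_mul, hθ1, hcomm e heR _ (R.mul_mem x.2 y.2)]
    have e3 : ν * ((y : S) * y) * e = ν * (y * y) := by
      rw [mul_assoc, hcomm _ (R.mul_mem y.2 y.2) e heR, ← mul_assoc, hνe]
    rw [e3]
    linear_combination (norm := abel) e2
  clear_value d
  have hde' : d * e' = 0 := by rw [he', mul_sub, mul_one, hde, sub_self]
  have hsde : e' * d = 0 := by rw [he', sub_mul, one_mul, hed, sub_self]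
  have hsd : st d * e' = 0 := by
    have h0 := congrArg st hsde
    rw [h.map_mul, hst1e] at h0
    rw [h0]
    have := h.map_add 0 0
    rw [add_zero] at this
    exact left_eq_add.1 this
  have hcc : st (d + e') * (d + e') = a * e + e' := by
    rw [h.map_add, hst1e, add_mul, mul_add, mul_add, hdd, hsd, hsde, he'e', add_zero, zero_add]
  refine ⟨d + e', ?_, hcc, ?_, fun g h1 h2 h3 h4 => ?_⟩
  · obtain ⟨b, hb⟩ := ha'u.exists_left_inv
    exact IsUnit.of_mul_eq_one_right (b * st (d + e')) (by rw [mul_assoc, hcc]; exact hb)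
  · show (d + e') * e = e * (d + e')
    rw [add_mul, mul_add, hde, hed, he'e, hee0]
  · have hg := hgs g h1 h2 (h3.mul_right h4)
    rw [hd', he']
    exact (((hg x x.2).mul_right h2).add_right (h3.mul_right (hg y y.2))).add_right ((Commute.one_right g).sub_right h2)

end CfsgLib.KnownB.NormTrick
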