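import Cfsg.Agent.Lib.KnownB.BilinConjClassical
import Cfsg.Agent.Lib.KnownB.Semisimple

/-!
Matrix forms of the conjugacy theorems for symplectic and orthogonal groups.
-/

set_option autoImplicit false

namespace CfsgLib.KnownB.BilinConj

open CfsgLib.Geometry QuadraticMap Matrix

universe u

variable {F : Type u} [Field F] [Finite F] (p : ℕ) [Fact p.Prime] [CharP F p] {m : ℕ}

local notation "I2" => Fin m ⊕ Fin m

theorem sp_conj (A B : Matrix.symplecticGroup (Fin m) F) (hA : (orderOf A).Coprime p)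
    (h : IsConj (A : Matrix I2 I2 F) (B : Matrix I2 I2 F)) : IsConj A B := by
  obtain ⟨c, hc⟩ := h
  obtain ⟨k, hk, hkc⟩ := exists_conj_alt p (sympBilin m F) (sympBilin_nondegenerate m F) (sympBilin_isAlt m F)
    (f := Matrix.toLinAlgEquiv' (A : Matrix I2 I2 F)) (g := Matrix.toLinAlgEquiv' (B : Matrix I2 I2 F))
    (h := Matrix.toLinAlgEquiv' (c : Matrix I2 I2 F)) (m := orderOf A)
    ((Fact.out : p.Prime).coprime_iff_not_dvd.1 hA.symm)
    (by rw [← map_pow, ← SubmonoidClass.coe_pow, pow_orderOf_eq_one, OneMemClass.coe_one, map_one])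
    (fun x y => (mem_sp_iff m F _).1 A.2 x y) (fun x y => (mem_sp_iff m F _).1 B.2 x y)
    (c.isUnit.map Matrix.toLinAlgEquiv') (by rw [← map_mul, ← map_mul, hc.eq])
  obtain ⟨S, hS⟩ := exists_spEquiv_eq m F k hk
  refine isConj_iff.2 ⟨S, ?_⟩
  rw [mul_inv_eq_iff_eq_mul]
  refine Subtype.ext (matrix_eq_of_mulVec fun v => ?_)
  rw [MulMemClass.coe_mul, MulMemClass.coe_mul, ← Matrix.mulVec_mulVec, ← Matrix.mulVec_mulVec,
    ← spEquiv_apply m F S, ← spEquiv_apply m F S, hS]
  exact LinearMap.congr_fun hkc v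

theorem orth_conj {n : ℕ} (Q : QuadraticForm F (Fin n → F)) (hQ : (QuadraticMap.polarBilin Q).Nondegenerate)
    (A B : ↥(Cfsg.isometryGroup F ⇑Q)) (hodd : Odd (orderOf A)) (hA : (orderOf A).Coprime p)
    (h : IsConj ((A : GL (Fin n) F) : Matrix (Fin n) (Fin n) F) ((B : GL (Fin n) F) : Matrix (Fin n) (Fin n) F)) :
    IsConj A B := by
  obtain ⟨c, hc⟩ := h
  have hQA : ∀ (C : ↥(Cfsg.isometryGroup F ⇑Q)) x,
      Q (((C : GL (Fin n) F) : Matrix (Fin n) (Fin n) F).mulVec x) = Q x := fun C x => by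
    rw [← isomEquiv_apply]
    exact (isomEquiv Q C).2 x
  obtain ⟨k, hk, hkc⟩ := exists_conj_quad Q hQ
    (f := Matrix.toLinAlgEquiv' ((A : GL (Fin n) F) : Matrix (Fin n) (Fin n) F))
    (g := Matrix.toLinAlgEquiv' ((B : GL (Fin n) F) : Matrix (Fin n) (Fin n) F))
    (h := Matrix.toLinAlgEquiv' (c : Matrix (Fin n) (Fin n) F)) hodd
    (by rw [Ne, CharP.cast_eq_zero_iff F p]; exact (Fact.out : p.Prime).coprime_iff_not_dvd.1 hA.symm)
    (by rw [← map_pow, ← Units.val_pow_eq_pow_val, ← SubmonoidClass.coe_pow, pow_orderOf_eq_one, OneMemClass.coe_one,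
      Units.val_one, map_one])
    (hQA A) (hQA B) (c.isUnit.map Matrix.toLinAlgEquiv') (by rw [← map_mul, ← map_mul, hc.eq])
  refine isConj_iff.2 ⟨(isomEquiv Q).symm ⟨k, hk⟩, ?_⟩
  rw [mul_inv_eq_iff_eq_mul]
  refine Subtype.ext (Units.ext (matrix_eq_of_mulVec fun v => ?_))
  rw [MulMemClass.coe_mul, MulMemClass.coe_mul, Units.val_mul, Units.val_mul, ← Matrix.mulVec_mulVec,
    ← Matrix.mulVec_mulVec, isomEquiv_symm_mulVec, isomEquiv_symm_mulVec]
  exact LinearMap.congr_fun hkc v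

theorem sp_charpoly (g h : Matrix.symplecticGroup (Fin m) F) (hg : (orderOf g).Coprime p) (hh : (orderOf h).Coprime p)
    (hc : (g : Matrix I2 I2 F).charpoly = (h : Matrix I2 I2 F).charpoly) : IsConj g h := by
  let j : Matrix.symplecticGroup (Fin m) F →* GL I2 F := (Submonoid.subtype _).toHomUnits
  have hj : Function.Injective j := fun a b hab => Subtype.ext (congrArg Units.val hab)
  refine sp_conj p g h hg ?_
  obtain ⟨c, hc'⟩ := isConj_iff.1 (Semisimple.isConj_of_charpoly (A := j g) (B := j h)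
    (Semisimple.isSemisimple_of_coprime p (by rwa [orderOf_injective j hj]))
    (Semisimple.isSemisimple_of_coprime p (by rwa [orderOf_injective j hj])) hc)
  exact ⟨c, congrArg Units.val (mul_inv_eq_iff_eq_mul.1 hc')⟩

end CfsgLib.KnownB.BilinConj
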