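import Cfsg.Agent.Lib.KnownB.RestrictScalars
import Cfsg.Agent.Lib.KnownB.SymplConj
import Cfsg.Agent.Lib.KnownB.MinusIntoPlus

/-! The centraliser of a fixed point free element of order three in a symplectic group. -/

set_option autoImplicit false

namespace CfsgLib.KnownB.OrderThreeSp

open Matrix Polynomial CfsgLib.Classical.Unitary CfsgLib.KnownB.RestrictScalars

variable {F : Type*} [Field F]

/-- a monic polynomial with a single monic irreducible divisor is a power of it -/
theorem eq_pow_of_unique (f : F[X]) (hf : f.Monic) (hfi : Irreducible f) :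
    ∀ (n : ℕ) (g : F[X]), g.natDegree = n → g.Monic → (∀ P : F[X], P.Monic → Irreducible P → P ∣ g → P = f) →
      ∃ k, g = f ^ k := by
  intro n
  induction n using Nat.strong_induction_on with
  | _ n ih =>
    intro g hn hg hP
    by_cases h1 : g = 1
    · exact ⟨0, by simpa using h1⟩
    obtain ⟨P, hPm, hPi, hPd⟩ := g.exists_monic_irreducible_factor (fun hu => h1 (hg.eq_one_of_isUnit hu))
    obtain rfl := hP P hPm hPi hPd
    obtain ⟨g', rfl⟩ := hPd
    have hg' : g'.Monic := hf.of_mul_monic_left hg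
    have hdeg : g'.natDegree < n := by
      rw [← hn, hf.natDegree_mul hg']
      have := hfi.natDegree_pos
      omega
    obtain ⟨k, hk⟩ := ih _ hdeg g' rfl hg' fun Q hQ hQi hQd => hP Q hQ hQi (dvd_mul_of_dvd_right hQd _)
    exact ⟨k + 1, by rw [hk, pow_succ']⟩

theorem charpoly_eq [Fintype F] (hq : Fintype.card F % 3 = 2) {m : ℕ}
    (A : Matrix (Fin m ⊕ Fin m) (Fin m ⊕ Fin m) F) (hA : A * A + A + 1 = 0) :
    A.charpoly = (X ^ 2 + X + C (1 : F)) ^ m := by
  classical
  have hno : ∀ x : F, x ^ 2 + x + 1 ≠ 0 := by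
    intro x hx
    have h3 : x ^ 3 = 1 := by linear_combination (x - 1) * hx
    have hx0 : x ≠ 0 := fun e => by rw [e] at h3; simp at h3
    have hq1 := FiniteField.pow_card_sub_one_eq_one x hx0
    obtain ⟨r, hr⟩ : ∃ r, Fintype.card F - 1 = 3 * r + 1 := ⟨(Fintype.card F - 2) / 3, by omega⟩
    rw [hr, pow_succ, pow_mul, h3, one_pow, one_mul] at hq1
    rw [hq1] at hx
    have h30 : ((3 : ℕ) : F) = 0 := by push_cast; linear_combination hx
    obtain ⟨p, hp⟩ := CharP.exists F
    have := CharP.char_is_prime F p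
    have h3p : p = 3 := (Nat.prime_dvd_prime_iff_eq this Nat.prime_three).1 ((CharP.cast_eq_zero_iff F p 3).1 h30)
    obtain ⟨n, -, hn⟩ := FiniteField.card F p
    rw [hn, h3p, Nat.pow_mod] at hq
    simp [zero_pow n.ne_zero] at hq
  set f := (X ^ 2 + X + C (1 : F))
  have hmon : f.Monic := by simp only [f]; monicity!
  have hdeg : f.natDegree = 2 := by simp only [f]; compute_degree!
  have hirr : Irreducible f := by
    rw [hmon.irreducible_iff_roots_eq_zero_of_degree_le_three (by omega) (by omega)]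
    apply Multiset.eq_zero_of_forall_notMem
    intro x hx
    rw [mem_roots hmon.ne_zero] at hx
    simp only [f, IsRoot.def, eval_add, eval_pow, eval_X, eval_C] at hx
    exact hno x hx
  have key : ∀ P : F[X], P.Monic → Irreducible P → P ∣ A.charpoly → P = f := by
    intro P hP hPi hPd
    let L := AlgebraicClosure F
    obtain ⟨μ, hμ⟩ := IsAlgClosed.exists_aeval_eq_zero L P (fun h => hPi.natDegree_pos.ne' (natDegree_eq_zero_iff_degree_le_zero.2 h.le))
    have hc : (A.map (algebraMap F L)).charpoly.eval μ = 0 := by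
      rw [Matrix.charpoly_map, eval_map, ← aeval_def]
      obtain ⟨R, hR⟩ := hPd
      rw [hR, map_mul, hμ, zero_mul]
    rw [Matrix.eval_charpoly] at hc
    obtain ⟨v, hv0, hv⟩ := Matrix.exists_mulVec_eq_zero_iff.2 hc
    rw [sub_mulVec, sub_eq_zero] at hv
    have hAv : (A.map (algebraMap F L)) *ᵥ v = μ • v := by
      rw [← hv]; funext i; simp [Matrix.scalar_apply, mulVec_diagonal]
    have hA' : (A.map (algebraMap F L)) * (A.map (algebraMap F L)) + A.map (algebraMap F L) + 1 = 0 := by
      have := congrArg (algebraMap F L).mapMatrix hA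
      simpa [map_add, map_mul] using this
    have h0 := congrArg (fun M => M *ᵥ v) hA'
    simp only [add_mulVec, ← mulVec_mulVec, hAv, mulVec_smul, one_mulVec, zero_mulVec] at h0
    have hroot : μ ^ 2 + μ + 1 = 0 := by
      have : (μ ^ 2 + μ + 1) • v = 0 := by rw [← h0]; simp [add_smul, smul_smul, pow_two]
      exact (smul_eq_zero.1 this).resolve_right hv0
    have e1 := minpoly.eq_of_irreducible_of_monic hPi hμ hP
    have e2 := minpoly.eq_of_irreducible_of_monic hirr (x := μ) (by simpa [f] using hroot) hmon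
    rw [e1, e2]
  obtain ⟨k, hk⟩ := eq_pow_of_unique f hmon hirr _ A.charpoly rfl A.charpoly_monic key
  have := A.charpoly_natDegree_eq_dim
  rw [hk, natDegree_pow, hdeg] at this
  simp at this
  rw [hk, show k = m by omega]

set_option maxHeartbeats 1000000 in
theorem main [Fintype F] (hq : Fintype.card F % 3 = 2) {m : ℕ} (x : Matrix.symplecticGroup (Fin m) F)
    (hx3 : x ^ 3 = 1) (hfpf : IsUnit ((x : Matrix (Fin m ⊕ Fin m) (Fin m ⊕ Fin m) F) - 1)) :
    (Nat.card ↥(Subgroup.centralizer ({x} : Set ↥(Matrix.symplecticGroup (Fin m) F))) : ℤ) =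
      (Fintype.card F : ℤ) ^ (m * (m - 1) / 2) * ∏ i : Fin m, ((Fintype.card F : ℤ) ^ ((i : ℕ) + 1) - (-1) ^ ((i : ℕ) + 1)) := by
  classical
  set q := Fintype.card F
  obtain ⟨p, hp⟩ := CharP.exists F
  have hpF : Fact p.Prime := ⟨CharP.char_is_prime F p⟩
  have hp3 : p ≠ 3 := by
    intro h
    obtain ⟨n, -, hn⟩ := FiniteField.card F p
    rw [show q = p ^ (n : ℕ) from hn, h, Nat.pow_mod] at hq
    simp [zero_pow n.ne_zero] at hq
  have h30 : (3 : F) ≠ 0 := by
    intro h
    exact hp3 ((Nat.prime_dvd_prime_iff_eq hpF.out Nat.prime_three).1 ((CharP.cast_eq_zero_iff F p 3).1 (by exact_mod_cast h)))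
  -- the extension field
  have hac : ∀ z₁ z₂ : F, z₁ ^ 2 + 1 * z₁ * z₂ + 1 * z₂ ^ 2 = 0 → z₁ = 0 ∧ z₂ = 0 := by
    intro a b hab
    by_cases hb : b = 0
    · subst hb; simpa using hab
    exfalso
    have hz : (a / b) ^ 2 + a / b + 1 = 0 := by field_simp; linear_combination hab
    have h3 : (a / b) ^ 3 = 1 := by linear_combination (a / b - 1) * hz
    have hx0 : a / b ≠ 0 := fun e => by rw [e] at h3; simp at h3
    have hq1 := FiniteField.pow_card_sub_one_eq_one _ hx0
    obtain ⟨r, hr⟩ : ∃ r, Fintype.card F - 1 = 3 * r + 1 := ⟨(Fintype.card F - 2) / 3, by omega⟩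
    rw [hr, pow_succ, pow_mul, h3, one_pow, one_mul] at hq1
    exact h30 (by rw [hq1] at hz; linear_combination hz)
  have : Fact (Irreducible (X ^ 2 + C (1 : F) * X + C (1 : F))) := ⟨by
    have hmon : (X ^ 2 + C (1 : F) * X + C (1 : F)).Monic := by monicity!
    have hd2 : (X ^ 2 + C (1 : F) * X + C (1 : F)).natDegree = 2 := by compute_degree!
    rw [hmon.irreducible_iff_roots_eq_zero_of_degree_le_three (by omega) (by omega)]
    apply Multiset.eq_zero_of_forall_notMem
    intro z hz
    rw [mem_roots hmon.ne_zero] at hz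
    simp only [IsRoot.def, eval_add, eval_mul, eval_pow, eval_X, eval_C] at hz
    exact one_ne_zero (hac z 1 (by linear_combination hz)).2⟩
  set f := (X ^ 2 + C (1 : F) * X + C (1 : F))
  have hfm : f.Monic := by simp only [f]; monicity!
  let K := AdjoinRoot f
  let pb := AdjoinRoot.powerBasis' hfm
  have : Fintype K := Fintype.ofEquiv _ pb.basis.equivFun.toEquiv.symm
  have hd : f.natDegree = 2 := by simp only [f]; compute_degree!
  have hK : Fintype.card K = q ^ 2 := by
    rw [Module.card_fintype pb.basis, Fintype.card_fin]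
    simp [pb, hd, q]
  set ω : K := AdjoinRoot.root f
  have hω : ω ^ 2 + ω + 1 = 0 := by
    have h := AdjoinRoot.eval₂_root f
    simp only [f, eval₂_add, eval₂_pow, eval₂_X, map_one, one_mul, eval₂_one] at h
    exact h
  have hω0 : ω ≠ 0 := fun e => by rw [e] at hω; simp at hω
  have hω3 : ω ^ 3 = 1 := by linear_combination (ω - 1) * hω
  have hωF : ∀ c : F, algebraMap F K c ≠ ω := by
    intro c e
    refine one_ne_zero (hac c 1 ((algebraMap F K).injective ?_)).2
    rw [map_zero]
    simp only [map_add, map_mul, map_pow, map_one, e]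
    linear_combination hω
  obtain ⟨σ, hσ⟩ := exists_uFrob (F := K) (q := q) (by rw [Nat.card_eq_fintype_card, hK])
  obtain ⟨θ, E, hθ, hE⟩ := gu_coords (m := m) hK hσ
  -- the scalar element
  have hωN : ω * σ ω = 1 := by
    rw [hσ.pow, ← pow_succ']
    obtain ⟨r, hr⟩ : ∃ r, q + 1 = 3 * r := ⟨(q + 1) / 3, by omega⟩
    rw [hr, pow_mul, hω3, one_pow]
  let φ : ↥(Cfsg.GU m K q) →* Matrix.symplecticGroup (Fin m) F :=
    (matHom (guHom m q) E).codRestrict _ fun g => (CfsgLib.Geometry.mem_sp_iff m F _).2 fun u v => by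
      rw [matHom_mulVec, matHom_mulVec, ← hE, LinearEquiv.apply_symm_apply, LinearEquiv.apply_symm_apply, guHom_uh hσ, hE]
  let wG : ↥(Cfsg.GU m K q) := ⟨Units.map (Matrix.scalar (Fin m)).toMonoidHom (Units.mk0 ω hω0), fun u v => by
    show Cfsg.hermForm m K q (Matrix.scalar (Fin m) ω *ᵥ u) (Matrix.scalar (Fin m) ω *ᵥ v) = _
    have : ∀ u : Fin m → K, Matrix.scalar (Fin m) ω *ᵥ u = ω • u := fun u => by
      funext i; simp [Matrix.scalar_apply, mulVec_diagonal]
    rw [this, this, hσ.hermForm_eq, hσ.hermForm_eq, uh_smul_left, uh_smul_right, ← mul_assoc, hωN, one_mul]⟩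
  have hw : ∀ v, (guHom (F := F) m q wG) v = ω • v := fun v => by
    show CfsgLib.Geometry.glEquiv (wG : GL (Fin m) K) v = _
    rw [CfsgLib.Geometry.glEquiv_apply]
    funext i
    show (Matrix.scalar (Fin m) ω *ᵥ v) i = _
    simp [Matrix.scalar_apply, mulVec_diagonal]
  -- centraliser of the scalar element
  have hcard : Nat.card ↥(Subgroup.centralizer ({φ wG} : Set ↥(Matrix.symplecticGroup (Fin m) F))) = Nat.card ↥(Cfsg.GU m K q) := by
    symm
    have hcomm : ∀ g, φ g ∈ Subgroup.centralizer ({φ wG} : Set ↥(Matrix.symplecticGroup (Fin m) F)) := fun g => by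
      rw [Subgroup.mem_centralizer_singleton_iff, ← map_mul, ← map_mul]
      congr 1
      apply Subtype.ext
      apply Units.ext
      exact ((Matrix.scalar_commute ω (fun r => mul_comm _ r) _).eq).symm
    refine Nat.card_congr (Equiv.ofBijective (fun g => ⟨φ g, hcomm g⟩) ⟨?_, ?_⟩)
    · intro g h e
      exact matHom_injective (guHom m q) guHom_injective E (congrArg (fun z => z.1.1) e)
    rintro ⟨A, hA⟩
    rw [Subgroup.mem_centralizer_singleton_iff] at hA
    let T : (Fin m → K) ≃ₗ[F] (Fin m → K) := E.symm.trans ((CfsgLib.Geometry.spEquiv m F A).trans E)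
    have hTω : ∀ v, T (ω • v) = ω • T v := by
      intro v
      have := congrArg (fun M => (M : Matrix.symplecticGroup (Fin m) F).1 *ᵥ E.symm v) hA
      simp only [Submonoid.coe_mul, ← mulVec_mulVec] at this
      have h2 : (φ wG).1 *ᵥ E.symm v = E.symm (ω • v) := by
        show (matHom (guHom m q) E wG) *ᵥ _ = _
        rw [matHom_mulVec, LinearEquiv.apply_symm_apply, hw]
      have h3 : ∀ u, (φ wG).1 *ᵥ u = E.symm (ω • E u) := fun u => by
        show (matHom (guHom m q) E wG) *ᵥ _ = _
        rw [matHom_mulVec, hw]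
      rw [h2, h3] at this
      have := congrArg E this
      simpa [T] using this
    have hTK : ∀ (c : K) v, T (c • v) = c • T v := by
      intro c v
      have hli : LinearIndependent F ![(1 : K), ω] := by
        rw [LinearIndependent.pair_iff]
        intro s t hst
        by_cases ht : t = 0
        · subst ht; simp at hst; exact ⟨hst, rfl⟩
        · exfalso
          apply hωF (-s / t)
          rw [map_div₀, map_neg, div_eq_iff ((_root_.map_ne_zero _).2 ht)]
          simp only [Algebra.smul_def, mul_one] at hst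
          linear_combination -hst
      obtain ⟨r, rfl⟩ : ∃ r : Fin 2 → F, r 0 • (1 : K) + r 1 • ω = c := by
        let b := basisOfLinearIndependentOfCardEqFinrank hli (by rw [finrank_two hK]; simp)
        refine ⟨b.repr c, ?_⟩
        have := b.sum_repr c
        simpa [b, Fin.sum_univ_two] using this
      rw [add_smul, add_smul, smul_one_smul, smul_one_smul, smul_assoc, smul_assoc, map_add, map_smul, map_smul, hTω]
    let TK : (Fin m → K) ≃ₗ[K] (Fin m → K) := { T with map_smul' := hTK }
    have hTuh : ∀ u v, uh σ (T u) (T v) = uh σ u v := by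
      intro u v
      rw [← sub_eq_zero]
      refine (mul_eq_zero.1 (?_ : θ * (uh σ (T u) (T v) - uh σ u v) = 0)).resolve_left hθ
      refine trace_separates (F := F) fun c => ?_
      have h1 : ∀ v, Algebra.trace F K (θ * uh σ (T u) (T v)) = Algebra.trace F K (θ * uh σ u v) := by
        intro v
        have h2 := (CfsgLib.Geometry.mem_sp_iff m F _).1 A.2 (E.symm u) (E.symm v)
        rw [← hE, ← hE, LinearEquiv.apply_symm_apply, LinearEquiv.apply_symm_apply] at h2
        exact h2
      have := h1 (σ c • v)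
      rw [hTK, uh_smul_right, uh_smul_right, hσ.invol] at this
      rw [show c * (θ * (uh σ (T u) (T v) - uh σ u v)) = θ * (c * uh σ (T u) (T v)) - θ * (c * uh σ u v) by ring, map_sub, this, sub_self]
    refine ⟨⟨CfsgLib.Geometry.glEquiv.symm TK, fun u v => ?_⟩, Subtype.ext (Subtype.ext (CfsgLib.Geometry.matrix_eq_of_mulVec fun u => ?_))⟩
    · show Cfsg.hermForm m K q (((CfsgLib.Geometry.glEquiv.symm TK : GL (Fin m) K) : Matrix _ _ K) *ᵥ u) (((CfsgLib.Geometry.glEquiv.symm TK : GL (Fin m) K) : Matrix _ _ K) *ᵥ v) = _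
      rw [CfsgLib.Geometry.glEquiv_symm_mulVec, CfsgLib.Geometry.glEquiv_symm_mulVec, hσ.hermForm_eq, hσ.hermForm_eq]
      exact hTuh u v
    · show (matHom (guHom m q) E _) *ᵥ u = _
      rw [matHom_mulVec]
      show E.symm (CfsgLib.Geometry.glEquiv (CfsgLib.Geometry.glEquiv.symm TK) (E u)) = _
      rw [MulEquiv.apply_symm_apply]
      show E.symm (E (A.1 *ᵥ E.symm (E u))) = _
      simp
  -- `x` is conjugate to the scalar element
  set y := φ wG
  have hxA : x.1 * x.1 + x.1 + 1 = 0 := by
    apply hfpf.mul_left_cancel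
    rw [mul_zero]
    have h := congrArg Subtype.val hx3
    rw [SubmonoidClass.coe_pow, pow_succ, pow_two, OneMemClass.coe_one] at h
    calc (x.1 - 1) * (x.1 * x.1 + x.1 + 1) = x.1 * x.1 * x.1 - 1 := by noncomm_ring
      _ = 0 := by rw [h, sub_self]
  have hyA : y.1 * y.1 + y.1 + 1 = 0 := by
    refine CfsgLib.Geometry.matrix_eq_of_mulVec fun u => ?_
    have h3 : ∀ u, y.1 *ᵥ u = E.symm (ω • E u) := fun u => by
      show (matHom (guHom m q) E wG) *ᵥ _ = _
      rw [matHom_mulVec, hw]
    rw [add_mulVec, add_mulVec, ← mulVec_mulVec, h3, h3, one_mulVec, zero_mulVec, LinearEquiv.apply_symm_apply, smul_smul]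
    conv_lhs => arg 2; rw [← E.symm_apply_apply u]
    rw [← map_add, ← map_add]
    have : (ω * ω) • E u + ω • E u + E u = (ω ^ 2 + ω + 1) • E u := by rw [add_smul, add_smul, one_smul, pow_two]
    rw [this, hω, zero_smul, map_zero]
  have hcop : ∀ z : Matrix.symplecticGroup (Fin m) F, z.1 * z.1 + z.1 + 1 = 0 → (orderOf z).Coprime p := by
    intro z hz
    have hz3 : z ^ 3 = 1 := by
      apply Subtype.ext
      rw [SubmonoidClass.coe_pow, pow_succ, pow_two, OneMemClass.coe_one, ← sub_eq_zero]
      calc z.1 * z.1 * z.1 - 1 = (z.1 - 1) * (z.1 * z.1 + z.1 + 1) := by noncomm_ring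
        _ = 0 := by rw [hz, mul_zero]
    exact Nat.Coprime.coprime_dvd_left (orderOf_dvd_of_pow_eq_one hz3) ((Nat.coprime_primes Nat.prime_three hpF.out).2 (Ne.symm hp3))
  obtain ⟨c, hc⟩ := isConj_iff.1 (CfsgLib.KnownB.BilinConj.sp_charpoly p x y (hcop x hxA) (hcop y hyA)
    ((charpoly_eq hq x.1 hxA).trans (charpoly_eq hq y.1 hyA).symm))
  have hconj : Nat.card ↥(Subgroup.centralizer ({x} : Set ↥(Matrix.symplecticGroup (Fin m) F))) = Nat.card ↥(Subgroup.centralizer ({y} : Set ↥(Matrix.symplecticGroup (Fin m) F))) := by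
    refine Nat.card_congr ((MulAut.conj c).toEquiv.subtypeEquiv fun z => ?_)
    show z ∈ Subgroup.centralizer {x} ↔ MulAut.conj c z ∈ Subgroup.centralizer {y}
    rw [Subgroup.mem_centralizer_singleton_iff, Subgroup.mem_centralizer_singleton_iff, ← hc, ← MulAut.conj_apply,
      ← map_mul, ← map_mul]
    exact ⟨fun e => by rw [e], fun e => (MulAut.conj c).injective e⟩
  rw [hconj, hcard, CfsgLib.Classical.card_GU (by rw [Nat.card_eq_fintype_card, hK]), Nat.cast_mul, Nat.cast_pow, Nat.cast_prod,
    Finset.prod_range]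
  congr 1
  refine Finset.prod_congr rfl fun i _ => ?_
  split_ifs with he
  · rw [Odd.neg_one_pow (Even.add_one he)]; push_cast; ring
  · rw [Even.neg_one_pow (Odd.add_one (Nat.not_even_iff_odd.1 he)), Nat.cast_sub (Nat.one_le_pow _ _ Fintype.card_pos)]; push_cast; ring

end CfsgLib.KnownB.OrderThreeSp
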