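import Cfsg.Agent.Lib.KnownB.OrthPrime

/-!
Counting the multiplicity functions allowed in orthogonal groups.
-/

set_option autoImplicit false
set_option linter.unusedSectionVars false

namespace CfsgLib.KnownB.OrthPrime

open CfsgLib.KnownB.PrimeCharpoly CfsgLib.KnownB.PrimeOrder

theorem card_cond {α : Type*} [Fintype α] {i N : ℕ} (hi0 : 0 < i) (S : (α → ℕ) → Prop) (P : Prop) [Decidable P] :
    Nat.card {μ : α → ℕ // i * ∑ a, μ a ≤ N ∧ (S μ ∧ (i * ∑ a, μ a = N → P))} =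
      Nat.card {μ : α → ℕ // i * ∑ a, μ a ≤ N ∧ S μ} -
        (if P then 0 else Nat.card {μ : α → ℕ // i * ∑ a, μ a = N ∧ S μ}) := by
  classical
  haveI : Finite {μ : α → ℕ // i * ∑ a, μ a ≤ N ∧ S μ} := by
    let f : {μ : α → ℕ // i * ∑ a, μ a ≤ N ∧ S μ} → (α → Fin (N + 1)) := fun μ a => ⟨μ.1 a, by
      have h1 := Finset.single_le_sum (f := μ.1) (fun a _ => Nat.zero_le _) (Finset.mem_univ a)
      have h2 := Nat.le_mul_of_pos_left (∑ a, μ.1 a) hi0
      have := μ.2.1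
      omega⟩
    exact Finite.of_injective f fun a b h => Subtype.ext (funext fun c => congrArg Fin.val (congrFun h c))
  by_cases hP : P
  · rw [if_pos hP, Nat.sub_zero]
    exact Nat.card_congr (Equiv.subtypeEquivRight fun μ => ⟨fun h => ⟨h.1, h.2.1⟩, fun h => ⟨h.1, h.2, fun _ => hP⟩⟩)
  · haveI := Fintype.ofFinite {μ : α → ℕ // i * ∑ a, μ a ≤ N ∧ S μ}
    rw [if_neg hP,
      Nat.card_congr (show {μ : α → ℕ // i * ∑ a, μ a = N ∧ S μ} ≃
          {μ : {μ : α → ℕ // i * ∑ a, μ a ≤ N ∧ S μ} // i * ∑ a, μ.1 a = N} from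
        { toFun := fun μ => ⟨⟨μ.1, μ.2.1.le, μ.2.2⟩, μ.2.1⟩
          invFun := fun μ => ⟨μ.1.1, μ.2, μ.1.2.2⟩
          left_inv := fun μ => rfl
          right_inv := fun μ => rfl }),
      Nat.card_congr (show {μ : α → ℕ // i * ∑ a, μ a ≤ N ∧ (S μ ∧ (i * ∑ a, μ a = N → P))} ≃
          {μ : {μ : α → ℕ // i * ∑ a, μ a ≤ N ∧ S μ} // ¬ i * ∑ a, μ.1 a = N} from
        { toFun := fun μ => ⟨⟨μ.1, μ.2.1, μ.2.2.1⟩, fun h => hP (μ.2.2.2 h)⟩
          invFun := fun μ => ⟨μ.1.1, μ.1.2.1, μ.1.2.2, fun h => absurd h μ.2⟩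
          left_inv := fun μ => rfl
          right_inv := fun μ => rfl }),
      Nat.card_eq_fintype_card, Fintype.card_subtype_compl, Nat.card_eq_fintype_card, Nat.card_eq_fintype_card]

theorem card_fun_eq {α : Type*} [Fintype α] (π : α → α) (hα : 0 < Fintype.card α) {i N : ℕ} (hi : 0 < i)
    (hid : ∀ a, π a = a) :
    Nat.card {μ : α → ℕ // i * ∑ a, μ a = N ∧ ∀ a, μ (π a) = μ a} =
      if i ∣ N then Nat.choose (N / i + Fintype.card α - 1) (Fintype.card α - 1) else 0 := by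
  split_ifs with h
  · rw [← card_sum_eq α hα (N / i)]
    refine Nat.card_congr (Equiv.subtypeEquivRight fun μ => ⟨fun h1 => ?_, fun h1 => ⟨?_, fun a => by rw [hid]⟩⟩)
    · rw [← h1.1, Nat.mul_div_cancel_left _ hi]
    · rw [h1, Nat.mul_div_cancel' h]
  · haveI : IsEmpty {μ : α → ℕ // i * ∑ a, μ a = N ∧ ∀ a, μ (π a) = μ a} := ⟨fun μ => h ⟨_, μ.2.1.symm⟩⟩
    exact Nat.card_of_isEmpty

theorem card_fun_eq_free {α : Type*} [Fintype α] (π : α → α) (hπ : ∀ a, π (π a) = a) (hfree : ∀ a, π a ≠ a)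
    (hα : 0 < Fintype.card α) {i m : ℕ} (hi : 0 < i) :
    Nat.card {μ : α → ℕ // i * ∑ a, μ a = 2 * m ∧ ∀ a, μ (π a) = μ a} =
      if i ∣ m then Nat.choose (m / i + Fintype.card α / 2 - 1) (Fintype.card α / 2 - 1) else 0 := by
  obtain ⟨β, _, hβ, h⟩ := exists_half π hπ hfree
  rw [Nat.card_congr (Equiv.subtypeEquivRight fun μ => and_comm), h fun S => i * S = 2 * m,
    show Fintype.card α / 2 = Fintype.card β by omega]
  split_ifs with hd
  · rw [← card_sum_eq β (by omega) (m / i)]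
    refine Nat.card_congr (Equiv.subtypeEquivRight fun ν => ⟨fun h1 => ?_, fun h1 => ?_⟩)
    · rw [mul_left_comm] at h1
      rw [← Nat.eq_of_mul_eq_mul_left (by norm_num) h1, Nat.mul_div_cancel_left _ hi]
    · rw [mul_left_comm, h1, Nat.mul_div_cancel' hd]
  · haveI : IsEmpty {ν : β → ℕ // i * (2 * ∑ b, ν b) = 2 * m} := ⟨fun ν => hd ⟨∑ b, ν.1 b, by
      have := ν.2
      rw [mul_left_comm] at this
      exact (Nat.eq_of_mul_eq_mul_left (by norm_num) this).symm⟩⟩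
    exact Nat.card_of_isEmpty

variable {F : Type*} [Field F] [Fintype F] [DecidableEq F] {r : ℕ} [Fact r.Prime]

/-- The functions of full weight fixed by `star`. -/
theorem card_full (p : ℕ) [Fact p.Prime] [CharP F p] (hrF : (r : F) ≠ 0) (hr2 : r ≠ 2) {i : ℕ}
    (hi : i = orderOf ((Fintype.card F : ℕ) : ZMod r)) (hi0 : 0 < i) (m : ℕ) {t : ℕ} (ht : t * i = r - 1) :
    Nat.card {μ : ↥(factors F r) → ℕ // i * ∑ Q, μ Q = 2 * m ∧
        ∀ Q, μ (starF (σ := RingHom.id F) (fun _ => rfl) (Fact.out : r.Prime).ne_zero Q) = μ Q} =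
      if Odd i then (if i ∣ m then Nat.choose (m / i + t / 2 - 1) (t / 2 - 1) else 0)
      else (if i ∣ 2 * m then Nat.choose (2 * m / i + t - 1) (t - 1) else 0) := by
  have hP : (factors F r).card = t :=
    Nat.eq_of_mul_eq_mul_right hi0 (by rw [ht]; exact hi ▸ card_factors hrF)
  have hiff : (∃ k : ℕ, ((Fintype.card F : ℕ) : ZMod r) ^ k = -((1 : ℕ) : ZMod r)) ↔ Even i := by
    rw [Nat.cast_one]
    exact neg_one_mem_powers_iff hr2 hi hi0
  have hcrit := fun Q => star_eq_iff (σ := RingHom.id F) (fun _ => rfl) hrF p 0 (q₀ := 1) (pow_zero p).symm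
    (fun x => (pow_one x).symm) Q
  have ht0 : 0 < Fintype.card ↥(factors F r) := by
    rw [Fintype.card_coe, hP]
    rcases Nat.eq_zero_or_pos t with h | h
    · rw [h, zero_mul] at ht
      have := (Fact.out : r.Prime).two_le
      omega
    · exact h
  by_cases ho : Odd i
  · rw [if_pos ho, card_fun_eq_free _ (starF_starF (σ := RingHom.id F) (fun _ => rfl) (Fact.out : r.Prime).ne_zero)
      (fun Q hQ => Nat.not_even_iff_odd.2 ho (hiff.1 ((hcrit Q).1 hQ))) ht0 hi0, Fintype.card_coe, hP]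
  · rw [if_neg ho, card_fun_eq _ ht0 hi0 (fun Q => (hcrit Q).2 (hiff.2 (Nat.not_odd_iff_even.1 ho))),
      Fintype.card_coe, hP]

/-- The value of `q ^ m` when `i ∣ 2 m`. -/
theorem pow_half (hr2 : r ≠ 2) {x : ZMod r} {i : ℕ} (hi : i = orderOf x) (hi0 : 0 < i) {m : ℕ} :
    (Odd i → i ∣ m → x ^ m = 1) ∧
    (¬ Odd i → i ∣ 2 * m → x ^ m = (-1) ^ (2 * m / i)) := by
  refine ⟨fun _ h => orderOf_dvd_iff_pow_eq_one.1 (hi ▸ h), fun ho h => ?_⟩
  obtain ⟨l, hl⟩ := Nat.not_odd_iff_even.1 ho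
  obtain ⟨c, hc⟩ := h
  have hm : m = l * c := by rw [hl, add_mul] at hc; omega
  rw [hc, Nat.mul_div_cancel_left _ hi0, hm, pow_mul]
  congr 1
  have h2 : x ^ l * x ^ l = 1 := by rw [← pow_add, ← hl, hi, pow_orderOf_eq_one]
  refine (mul_self_eq_one_iff.1 h2).resolve_left fun h3 => ?_
  have h4 := Nat.le_of_dvd (by omega) (orderOf_dvd_of_pow_eq_one h3)
  omega

end CfsgLib.KnownB.OrthPrime
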