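import Cfsg.Agent.Lib.KnownB.SymplConj
import Cfsg.Agent.Lib.Geometry.FormTypes
import Cfsg.Agent.Lib.Geometry.FormTransport
import Cfsg.Agent.Lib.Geometry.EvenSims
import Cfsg.Agent.Lib.Geometry.EvenTypes
import Cfsg.Agent.Lib.Classical.OrthStd

/-!
Level sets of quadratic forms over finite fields and the congruence given by an isometry of prime order.
-/

set_option autoImplicit false
set_option linter.style.haveILetI false
set_option linter.unusedSectionVars false

namespace CfsgLib.KnownB.OrthPrime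

open CfsgLib.Geometry QuadraticMap Matrix

variable {F : Type*} [Field F] [Finite F]

/-- Semisimple isometries of odd order which are conjugate as matrices are conjugate isometries. -/
theorem orth_conj' (p : ℕ) [Fact p.Prime] [CharP F p] {ι : Type} [Fintype ι] [DecidableEq ι]
    (Q : QuadraticForm F (ι → F)) (hQ : (QuadraticMap.polarBilin Q).Nondegenerate)
    (A B : ↥(Cfsg.isometryGroup F ⇑Q)) (hodd : Odd (orderOf A)) (hA : (orderOf A).Coprime p)
    (h : IsConj ((A : GL ι F) : Matrix ι ι F) ((B : GL ι F) : Matrix ι ι F)) : IsConj A B := by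
  obtain ⟨c, hc⟩ := h
  have hQA : ∀ (C : ↥(Cfsg.isometryGroup F ⇑Q)) x, Q (((C : GL ι F) : Matrix ι ι F).mulVec x) = Q x := fun C x => by
    rw [← isomEquiv_apply]
    exact (isomEquiv Q C).2 x
  obtain ⟨k, hk, hkc⟩ := CfsgLib.KnownB.BilinConj.exists_conj_quad Q hQ
    (f := Matrix.toLinAlgEquiv' ((A : GL ι F) : Matrix ι ι F))
    (g := Matrix.toLinAlgEquiv' ((B : GL ι F) : Matrix ι ι F))
    (h := Matrix.toLinAlgEquiv' (c : Matrix ι ι F)) hodd
    (by rw [Ne, CharP.cast_eq_zero_iff F p]; exact (Fact.out : p.Prime).coprime_iff_not_dvd.1 hA.symm)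
    (by rw [← map_pow, ← Units.val_pow_eq_pow_val, ← SubmonoidClass.coe_pow, pow_orderOf_eq_one, OneMemClass.coe_one,
      Units.val_one, map_one])
    (hQA A) (hQA B) (c.isUnit.map Matrix.toLinAlgEquiv') (by rw [← map_mul, ← map_mul, hc.eq])
  refine isConj_iff.2 ⟨(isomEquiv Q).symm ⟨k, hk⟩, ?_⟩
  rw [mul_inv_eq_iff_eq_mul]
  refine Subtype.ext (Units.ext (matrix_eq_of_mulVec fun v => ?_))
  rw [MulMemClass.coe_mul, MulMemClass.coe_mul, Units.val_mul, Units.val_mul, ← Matrix.mulVec_mulVec,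
    ← Matrix.mulVec_mulVec, isomEquiv_symm_mulVec, isomEquiv_symm_mulVec]
  exact LinearMap.congr_fun hkc v

/-- All nonzero level sets have the size belonging to the sign `δ` in dimension `2 m`. -/
def HasType {ι : Type} (Q : (ι → F) → F) (m : ℕ) (δ : ℤ) : Prop :=
  ∀ c : F, c ≠ 0 → (Nat.card {v // Q v = c} : ℤ) * Nat.card F = (Nat.card F : ℤ) ^ (2 * m) - δ * (Nat.card F : ℤ) ^ m

theorem card_levels {ι : Type} [Fintype ι] [DecidableEq ι] (Q : (ι → F) → F)
    (h : ∀ ν : Fˣ, ∃ E : (ι → F) ≃ (ι → F), ∀ v, Q (E v) = (ν : F) * Q v) {c : F} (hc : c ≠ 0) :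
    (Nat.card F : ℤ) ^ Fintype.card ι =
      (Nat.card {v // Q v = 0} : ℤ) + ((Nat.card F : ℤ) - 1) * Nat.card {v // Q v = c} := by
  classical
  haveI := Fintype.ofFinite F
  have heq : ∀ d : F, d ≠ 0 → Nat.card {v // Q v = d} = Nat.card {v // Q v = c} := by
    intro d hd
    obtain ⟨E, hE⟩ := h (Units.mk0 (c / d) (div_ne_zero hc hd))
    refine Nat.card_congr (E.subtypeEquiv fun v => ?_)
    rw [hE, Units.val_mk0]
    constructor
    · intro h1; rw [h1, div_mul_cancel₀ _ hd]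
    · intro h1
      exact mul_left_cancel₀ (div_ne_zero hc hd) (by rw [h1, div_mul_cancel₀ _ hd])
  have h1 : Nat.card (ι → F) = ∑ x : F, Nat.card {v // Q v = x} := by
    rw [← Nat.card_sigma]
    exact (Nat.card_congr (Equiv.sigmaFiberEquiv Q)).symm
  rw [← Finset.add_sum_erase _ _ (Finset.mem_univ (0 : F)),
    Finset.sum_congr rfl fun x hx => heq x (Finset.ne_of_mem_erase hx), Finset.sum_const,
    Finset.card_erase_of_mem (Finset.mem_univ _), Finset.card_univ, smul_eq_mul, Nat.card_fun] at h1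
  rw [← Nat.card_eq_fintype_card (α := ι)]
  have h2 := congrArg (fun x : ℕ => (x : ℤ)) h1
  simp only [Nat.cast_add, Nat.cast_mul, Nat.cast_pow, Nat.cast_sub Fintype.card_pos, Nat.cast_one] at h2
  rw [h2, Nat.card_eq_fintype_card (α := F)]

theorem one_lt_card_int : (1 : ℤ) < Nat.card F := by exact_mod_cast Finite.one_lt_card

theorem hasType_plus (m : ℕ) : HasType (Cfsg.quadFormPlus m F) m 1 := by
  intro c hc
  have h := card_levels (Cfsg.quadFormPlus m F) (fun ν => by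
    obtain ⟨g, -, hg⟩ := exists_plus_mult m ν
    rw [← coe_matQuad_plus]
    exact ⟨(glEquiv (g : GL (Fin m ⊕ Fin m) F)).toEquiv, hg⟩) hc
  rw [Fintype.card_sum, Fintype.card_fin] at h
  have h2 := congrArg (fun x : ℕ => (x : ℤ)) (CfsgLib.Classical.card_zeros_plus (F := F) m)
  simp only [Nat.cast_add, Nat.cast_mul, Nat.cast_pow] at h2
  refine mul_left_cancel₀ (sub_ne_zero.2 (one_lt_card_int (F := F)).ne') ?_
  rw [← two_mul] at h
  rw [pow_succ] at h2
  linear_combination (-(Nat.card F : ℤ)) * h - h2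

theorem hasType_minus (k : ℕ) {a b : F}
    (hab : ∀ z₁ z₂ : F, z₁ ^ 2 + a * z₁ * z₂ + b * z₂ ^ 2 = 0 → z₁ = 0 ∧ z₂ = 0) :
    HasType (Cfsg.quadFormMinus k F a b) (k + 1) (-1) := by
  intro c hc
  haveI := Fintype.ofFinite F
  have h := card_levels (Cfsg.quadFormMinus k F a b) (fun ν => by
    obtain ⟨c', d', hcd⟩ : ∃ c d : F, c * c + a * c * d + b * d * d = (ν : F) := by
      by_cases h2 : (2 : F) = 0
      · haveI := CharTwo.of_one_ne_zero_of_two_eq_zero (one_ne_zero (α := F)) h2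
        haveI : CharP F 2 := inferInstance
        obtain ⟨x, hx⟩ := FiniteField.isSquare_of_char_two (ringChar.eq F 2) (ν : F)
        exact ⟨x, 0, by rw [hx]; ring⟩
      · exact exists_binary_value hab h2
    obtain ⟨g, -, hg⟩ := exists_minus_mult k ν hcd
    rw [← coe_matQuad_minus]
    exact ⟨(glEquiv (g : GL ((Fin k ⊕ Fin k) ⊕ Fin 2) F)).toEquiv, hg⟩) hc
  rw [Fintype.card_sum, Fintype.card_sum, Fintype.card_fin, Fintype.card_fin, ← two_mul] at h
  have h2 := congrArg (fun x : ℕ => (x : ℤ)) (CfsgLib.Classical.card_zeros_minus (F := F) k hab)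
  simp only [Nat.cast_add, Nat.cast_mul, Nat.cast_pow] at h2
  refine mul_left_cancel₀ (sub_ne_zero.2 (one_lt_card_int (F := F)).ne') ?_
  rw [show 2 * (k + 1) = 2 * k + 2 by ring]
  rw [show k + 2 = k + 1 + 1 from rfl, pow_succ] at h2
  linear_combination (-(Nat.card F : ℤ)) * h - h2

theorem HasType.unique {ι : Type} {Q : (ι → F) → F} {m : ℕ} {δ δ' : ℤ} (h : HasType Q m δ) (h' : HasType Q m δ') :
    δ = δ' := by
  have h1 := (h 1 one_ne_zero).symm.trans (h' 1 one_ne_zero)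
  exact mul_right_cancel₀ (pow_ne_zero m (by have := one_lt_card_int (F := F); omega)) (sub_right_injective h1)

theorem HasType.of_simTo {ι κ : Type} {Q : (ι → F) → F} {R : (κ → F) → F} {m : ℕ} {δ : ℤ}
    (h : IsSimTo Q R) (hR : HasType R m δ) : HasType Q m δ := by
  obtain ⟨E, c, hc, he⟩ := h
  intro d hd
  rw [← hR (c⁻¹ * d) (mul_ne_zero (inv_ne_zero hc) hd)]
  congr 2
  refine Nat.card_congr (E.toEquiv.subtypeEquiv fun v => ?_).symm
  show _ ↔ Q (E v) = d
  rw [he]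
  constructor
  · intro h1; rw [h1, ← mul_assoc, mul_inv_cancel₀ hc, one_mul]
  · intro h1; rw [← h1, ← mul_assoc, inv_mul_cancel₀ hc, one_mul]

/-- Forms of the same type are similar. -/
theorem isSimTo_of_type {ι κ : Type} [Fintype ι] [DecidableEq ι] [Fintype κ] [DecidableEq κ]
    (Q : QuadraticForm F (ι → F)) (hQ : (polarBilin Q).Nondegenerate)
    (R : QuadraticForm F (κ → F)) (hR : (polarBilin R).Nondegenerate) {m : ℕ} {δ : ℤ}
    (hι : Fintype.card ι = 2 * (m + 1)) (hκ : Fintype.card κ = 2 * (m + 1))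
    (hQt : HasType ⇑Q (m + 1) δ) (hRt : HasType ⇑R (m + 1) δ) : IsSimTo ⇑Q ⇑R := by
  haveI := Fintype.ofFinite F
  have key : ∀ {μ : Type} [Fintype μ] [DecidableEq μ] (S : QuadraticForm F (μ → F)), (polarBilin S).Nondegenerate →
      Fintype.card μ = 2 * (m + 1) → HasType ⇑S (m + 1) δ →
      (δ = 1 ∧ IsSimTo ⇑S (Cfsg.quadFormPlus (m + 1) F)) ∨
        (δ = -1 ∧ ∃ a b : F, (∀ z₁ z₂ : F, z₁ ^ 2 + a * z₁ * z₂ + b * z₂ ^ 2 = 0 → z₁ = 0 ∧ z₂ = 0) ∧
          IsSimTo ⇑S (Cfsg.quadFormMinus m F a b)) := by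
    intro μ _ _ S hS hcard hSt
    rcases isSimTo_even S hS hcard with h | ⟨a, b, hab, h⟩
    · exact Or.inl ⟨hSt.unique (HasType.of_simTo h (hasType_plus (m + 1))), h⟩
    · exact Or.inr ⟨hSt.unique (HasType.of_simTo h (hasType_minus m hab)), a, b, hab, h⟩
  rcases key Q hQ hι hQt with ⟨h1, h⟩ | ⟨h1, a, b, hab, h⟩ <;> rcases key R hR hκ hRt with ⟨h2, h'⟩ | ⟨h2, a', b', hab', h'⟩
  · exact h.trans h'.symm
  · omega
  · omega
  · exact (h.trans (isSimTo_minus m hab hab')).trans h'.symm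

/-- An isometry of order dividing `r` changes the size of a level set only by multiples of `r`. -/
theorem card_level_congr {ι : Type} [Fintype ι] [DecidableEq ι] (Q : (ι → F) → F) {r : ℕ} [Fact r.Prime]
    {g : GL ι F} (hg : ∀ v, Q ((g : Matrix ι ι F) *ᵥ v) = Q v) (hgr : g ^ r = 1) (c : F) :
    (Nat.card {v // Q v = c} : ZMod r) = (Nat.card {v // Q v = c ∧ (g : Matrix ι ι F) *ᵥ v = v} : ZMod r) := by
  classical
  haveI := Fintype.ofFinite F
  obtain ⟨σ, hσ⟩ : ∃ σ : Equiv.Perm {v // Q v = c}, ∀ v, (σ v : ι → F) = (g : Matrix ι ι F) *ᵥ (v : ι → F) :=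
    ⟨(glEquiv g).toEquiv.subtypeEquiv (fun v => by show Q v = c ↔ Q ((g : Matrix ι ι F) *ᵥ v) = c; rw [hg]), fun v => rfl⟩
  have hpow : ∀ (k : ℕ) v, ((σ ^ k) v : ι → F) = ((g ^ k : GL ι F) : Matrix ι ι F) *ᵥ (v : ι → F) := by
    intro k
    induction k with
    | zero => intro v; simp
    | succ k ih => intro v; rw [pow_succ', Equiv.Perm.mul_apply, hσ, ih, Matrix.mulVec_mulVec, ← Units.val_mul, ← pow_succ']
  have h1 : σ ^ r ^ 1 = 1 := Equiv.ext fun v => Subtype.ext (by rw [pow_one, hpow, hgr, Units.val_one, Matrix.one_mulVec]; rfl)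
  have h2 := (ZMod.natCast_eq_natCast_iff _ _ r).2 (Equiv.Perm.card_compl_support_modEq h1)
  rw [Nat.card_eq_fintype_card, ← h2]
  congr 1
  rw [← Fintype.card_coe, ← Nat.card_eq_fintype_card]
  exact Nat.card_congr
    { toFun := fun v => ⟨v.1.1, v.1.2, by
        have := v.2
        rw [Finset.mem_compl, Equiv.Perm.notMem_support] at this
        rw [← hσ, this]⟩
      invFun := fun v => ⟨⟨v.1, v.2.1⟩, by
        rw [Finset.mem_compl, Equiv.Perm.notMem_support]
        exact Subtype.ext (by rw [hσ]; exact v.2.2)⟩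
      left_inv := fun v => rfl
      right_inv := fun v => rfl }

/-- Similar forms have isomorphic isometry groups, with the same characteristic polynomials. -/
theorem exists_isometry_of_simTo {ι κ : Type} [Fintype ι] [DecidableEq ι] [Fintype κ] [DecidableEq κ]
    {Q : (ι → F) → F} {R : (κ → F) → F} (h : IsSimTo R Q) {g : GL κ F}
    (hg : ∀ v, R ((g : Matrix κ κ F) *ᵥ v) = R v) :
    ∃ g' : ↥(Cfsg.isometryGroup F Q), orderOf g' = orderOf g ∧
      ((g' : GL ι F) : Matrix ι ι F).charpoly = (g : Matrix κ κ F).charpoly := by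
  obtain ⟨T⟩ := h.nonempty_formSim
  obtain ⟨g0, hg0⟩ : ∃ g0, g0 = (conjGL T.equiv).symm g := ⟨_, rfl⟩
  have hgg : conjGL T.equiv g0 = g := by rw [hg0, MulEquiv.apply_symm_apply]
  have hmem : g0 ∈ Cfsg.isometryGroup F Q :=
    T.mem_iso.1 (by rw [hgg]; exact (mem_isometryGroup_iff g).2 hg)
  refine ⟨⟨g0, hmem⟩, ?_, ?_⟩
  · rw [← Subgroup.orderOf_coe]
    show orderOf g0 = orderOf g
    rw [hg0, MulEquiv.orderOf_eq]
  · show (g0 : Matrix ι ι F).charpoly = _
    rw [← Matrix.charpoly_toLin' (g0 : Matrix ι ι F), ← Matrix.charpoly_toLin' (g : Matrix κ κ F),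
      ← LinearEquiv.charpoly_conj T.equiv (Matrix.toLin' (g0 : Matrix ι ι F))]
    congr 1
    refine LinearMap.ext fun v => ?_
    obtain ⟨w, rfl⟩ := T.equiv.surjective v
    rw [LinearEquiv.conj_apply_apply, LinearEquiv.symm_apply_apply, Matrix.toLin'_apply, Matrix.toLin'_apply,
      ← conjGL_mulVec, hgg]

theorem nondeg_minus {k : ℕ} {a b : F}
    (hab : ∀ z₁ z₂ : F, z₁ ^ 2 + a * z₁ * z₂ + b * z₂ ^ 2 = 0 → z₁ = 0 ∧ z₂ = 0) :
    (minusMat k F a b + (minusMat k F a b)ᵀ).det ≠ 0 := by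
  rw [det_minus_gram]
  exact mul_ne_zero (pow_ne_zero _ (neg_ne_zero.2 one_ne_zero)) (binAniso_discr hab).1

theorem nondeg_plus (m : ℕ) : (plusMat m F + (plusMat m F)ᵀ).det ≠ 0 := by
  rw [det_plus_gram]
  exact pow_ne_zero _ (neg_ne_zero.2 one_ne_zero)

end CfsgLib.KnownB.OrthPrime
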