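import Cfsg.Agent.Lib.KnownB.PrimeCount
import Cfsg.Agent.Lib.KnownB.SymplConj

/-!
Symplectic matrices with a prescribed palindromic characteristic polynomial; elements of prime order.
-/

set_option autoImplicit false
set_option linter.style.haveILetI false
set_option linter.unusedSectionVars false

namespace CfsgLib.KnownB.PrimeCharpoly

open Polynomial Matrix CfsgLib.KnownB.Semisimple CfsgLib.KnownB.UnitaryCharpoly CfsgLib.KnownB.PrimeOrder

universe u

variable {F : Type u} [Field F] [Fintype F] {m : ℕ}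

local notation "I2" => Fin m ⊕ Fin m

theorem exists_symplectic_of_palindrome (p : ℕ) [Fact p.Prime] [CharP F p] {f : F[X]} (hf : f.Monic)
    (hd : f.natDegree = m + m) (hrev : f.reverse = f) :
    ∃ g : Matrix.symplecticGroup (Fin m) F, (orderOf g).Coprime p ∧ (g : Matrix I2 I2 F).charpoly = f := by
  classical
  have hmk : ∀ v : Fin m → F, (X ^ m + ∑ i : Fin m, C (v i) * X ^ (i : ℕ)).Monic ∧
      (X ^ m + ∑ i : Fin m, C (v i) * X ^ (i : ℕ)).natDegree = m := by
    intro v
    have hsum : (∑ i : Fin m, C (v i) * X ^ (i : ℕ)).degree < (m : WithBot ℕ) := degree_sum_fin_lt v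
    exact ⟨monic_X_pow_add hsum, natDegree_eq_of_degree_eq_some
      ((degree_add_eq_left_of_degree_lt (by rwa [degree_X_pow])).trans (degree_X_pow m))⟩
  choose M hM using fun v => ClassCount.exists_symplectic _ (hmk v).1 (hmk v).2
  obtain ⟨T, hT⟩ : ∃ T : (Fin m → F) → Fin m → F,
      T = fun v (i : Fin m) => (M v : Matrix I2 I2 F).charpoly.coeff ((i : ℕ) + 1) := ⟨_, rfl⟩
  have hinj : Function.Injective T := by
    intro v w hvw
    have hcp := ClassCount.charpoly_eq_of_coeff (M v) (M w) fun i => by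
      have := congrFun hvw i
      simpa [hT] using this
    have hg := ClassCount.eq_of_aeval_eq _ _ fun t ht => mul_left_cancel₀ (pow_ne_zero m ht)
      (((hM v _ t ht).symm.trans (congrArg (aeval t) hcp)).trans (hM w _ t ht))
    funext i
    have h2 := congrArg (fun f => Polynomial.coeff f (i : ℕ)) hg
    simp only [coeff_add, coeff_X_pow, if_neg i.isLt.ne, zero_add, finset_sum_coeff, coeff_C_mul] at h2
    simpa [Fin.val_inj] using h2
  obtain ⟨v, hv⟩ := (Finite.injective_iff_surjective.1 hinj) fun i => f.coeff ((i : ℕ) + 1)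
  let j : Matrix.symplecticGroup (Fin m) F →* GL I2 F := (Submonoid.subtype _).toHomUnits
  have hj : Function.Injective j := fun a b hab => Subtype.ext (congrArg Units.val hab)
  obtain ⟨k, hk, hkc⟩ := ClassCount.exists_pow_coprime p (j (M v))
  refine ⟨M v ^ k, by rw [← orderOf_injective j hj, map_pow]; exact hk, ?_⟩
  show (j (M v ^ k) : Matrix I2 I2 F).charpoly = f
  rw [map_pow, hkc]
  show (M v : Matrix I2 I2 F).charpoly = f
  have hf0 : f.coeff 0 = 1 := by
    conv_lhs => rw [← hrev]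
    rw [coeff_zero_reverse, hf.leadingCoeff]
  have hsym : ∀ k, k ≤ m + m → f.coeff k = f.coeff (m + m - k) := fun k hk => by
    conv_lhs => rw [← hrev]
    rw [coeff_reverse, hd, revAt_le hk]
  have hlo : ∀ k, k ≤ m → (M v : Matrix I2 I2 F).charpoly.coeff k = f.coeff k := by
    intro k hk
    rcases k with _ | k
    · have h1 := ClassCount.det_symplectic (M v)
      rw [Matrix.det_eq_sign_charpoly_coeff, Fintype.card_sum, Even.neg_one_pow ⟨_, rfl⟩, one_mul] at h1
      rw [h1, hf0]
    · have := congrFun hv ⟨k, hk⟩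
      simpa [hT] using this
  refine Polynomial.ext fun k => ?_
  rcases le_or_gt k m with hk | hk
  · exact hlo k hk
  rcases le_or_gt k (m + m) with hk2 | hk2
  · rw [ClassCount.coeff_symm _ hk2, hsym k hk2]
    exact hlo _ (by omega)
  · rw [coeff_eq_zero_of_natDegree_lt, coeff_eq_zero_of_natDegree_lt (by omega)]
    rw [Matrix.charpoly_natDegree_eq_dim, Fintype.card_sum, Fintype.card_fin]
    exact hk2

variable [DecidableEq F] {r : ℕ} [Fact r.Prime]

/-- The constant coefficient of a self dual good polynomial. -/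
theorem coeff_zero_good (p : ℕ) [Fact p.Prime] [CharP F p] (hr2 : r ≠ 2) {N : ℕ} {f : F[X]} (hf : Good r N f)
    (hs : SelfDual (RingHom.id F) f) : f.coeff 0 = (-1) ^ N := by
  obtain ⟨hm, hd, hfac⟩ := hf
  have hsq : f.coeff 0 * f.coeff 0 = 1 := by
    have h1 := congrArg (fun g => Polynomial.coeff g 0) hs
    simp only [coeff_zero_reverse, hm.leadingCoeff, coeff_C_mul, coeff_map, RingHom.id_apply] at h1
    exact h1.symm
  obtain ⟨M, hM⟩ := exists_charpoly (k := N) f hm hd
  have hMd : M.det ≠ 0 := by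
    rw [Matrix.det_eq_sign_charpoly_coeff, hM]
    exact mul_ne_zero (pow_ne_zero _ (neg_ne_zero.2 one_ne_zero)) (left_ne_zero_of_mul_eq_one hsq)
  obtain ⟨A, hA, hAc⟩ := exists_coprime_part p (Matrix.GeneralLinearGroup.mkOfDetNeZero M hMd)
  have hAf : (A : Matrix (Fin N) (Fin N) F).charpoly = f := hAc.trans hM
  have hAr := pow_eq_one_of_good p hA (hAf ▸ ⟨hm, hd, hfac⟩ : Good r N (A : Matrix (Fin N) (Fin N) F).charpoly)
  have h2 : ((-1 : F) ^ N * f.coeff 0) ^ r = 1 := by
    have h3 := congrArg (fun g : GL (Fin N) F => (g : Matrix (Fin N) (Fin N) F).det) hAr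
    simp only [Units.val_pow_eq_pow_val, Matrix.det_pow, Units.val_one, Matrix.det_one] at h3
    rwa [Matrix.det_eq_sign_charpoly_coeff, hAf, Fintype.card_fin] at h3
  obtain ⟨k, hk⟩ := (Fact.out : r.Prime).odd_of_ne_two hr2
  have hx : ((-1 : F) ^ N * f.coeff 0) * ((-1 : F) ^ N * f.coeff 0) = 1 := by
    rw [mul_mul_mul_comm, hsq, mul_one, ← mul_pow, neg_mul_neg, one_mul, one_pow]
  rw [hk, pow_succ, pow_mul, sq, hx, one_pow, one_mul] at h2
  calc f.coeff 0 = ((-1 : F) ^ N * (-1) ^ N) * f.coeff 0 := by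
        rw [← mul_pow, neg_mul_neg, one_mul, one_pow, one_mul]
    _ = (-1) ^ N := by rw [mul_assoc, h2, mul_one]

theorem selfDual_symplectic (g : Matrix.symplecticGroup (Fin m) F) :
    SelfDual (RingHom.id F) (g : Matrix I2 I2 F).charpoly := by
  have h1 := ClassCount.det_symplectic g
  rw [Matrix.det_eq_sign_charpoly_coeff, Fintype.card_sum, Even.neg_one_pow ⟨_, rfl⟩, one_mul] at h1
  show _ = _
  rw [h1, C_1, one_mul, Polynomial.map_id, Matrix.reverse_charpoly, ClassCount.charpolyRev_symplectic]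

theorem exists_symplectic_good (p : ℕ) [Fact p.Prime] [CharP F p] (hr2 : r ≠ 2) {f : F[X]}
    (hf : Good r (m + m) f) (hs : SelfDual (RingHom.id F) f) :
    ∃ g : Matrix.symplecticGroup (Fin m) F, (orderOf g).Coprime p ∧ (g : Matrix I2 I2 F).charpoly = f := by
  refine exists_symplectic_of_palindrome p hf.1 hf.2.1 ?_
  rw [hs, coeff_zero_good p hr2 hf hs, Even.neg_one_pow ⟨m, rfl⟩, C_1, one_mul, Polynomial.map_id]

/-- The multiplicities of the factors for the identity twist. -/
theorem card_adm_id (p : ℕ) [Fact p.Prime] [CharP F p] (hrF : (r : F) ≠ 0) (hr2 : r ≠ 2) {i : ℕ}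
    (hi : i = orderOf ((Fintype.card F : ℕ) : ZMod r)) (hi0 : 0 < i) (N : ℕ) {t : ℕ} (ht : t * i = r - 1) :
    Nat.card {μ : ↥(factors F r) → ℕ // i * ∑ Q, μ Q ≤ N ∧
        ∀ Q, μ (starF (σ := RingHom.id F) (fun _ => rfl) (Fact.out : r.Prime).ne_zero Q) = μ Q} =
      if Odd i then Nat.choose (N / 2 / i + t / 2) (t / 2) else Nat.choose (N / i + t) t := by
  have hP : (factors F r).card = t :=
    Nat.eq_of_mul_eq_mul_right hi0 (by rw [ht]; exact hi ▸ card_factors hrF)
  obtain ⟨h1, h2⟩ := card_adm (σ := RingHom.id F) (r := r) (fun _ => rfl) hrF p 0 (q₀ := 1) (pow_zero p).symm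
    (fun x => (pow_one x).symm) (N := N) hi0
  have hiff : (∃ k : ℕ, ((Fintype.card F : ℕ) : ZMod r) ^ k = -((1 : ℕ) : ZMod r)) ↔ Even i := by
    rw [Nat.cast_one]
    exact neg_one_mem_powers_iff hr2 hi hi0
  split_ifs with ho
  · rw [h2 (fun h => Nat.not_even_iff_odd.2 ho (hiff.1 h)), hP, Nat.div_div_eq_div_mul]
  · rw [h1 (hiff.2 (Nat.not_odd_iff_even.1 ho)), hP]

end CfsgLib.KnownB.PrimeCharpoly
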