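import Cfsg.Agent.Lib.KnownB.OrthLevels
import Cfsg.Agent.Lib.KnownB.SymplPrime

/-!
Classes of elements of prime order of orthogonal groups.
-/

set_option autoImplicit false
set_option linter.style.haveILetI false
set_option linter.unusedSectionVars false

namespace CfsgLib.KnownB.OrthPrime

open CfsgLib.Geometry QuadraticMap Matrix Polynomial CfsgLib.KnownB.PrimeCharpoly CfsgLib.KnownB.PrimeOrder
  CfsgLib.KnownB.UnitaryCharpoly

universe u

variable {F : Type u} [Field F]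

theorem selfDual_orth {ι : Type} [Fintype ι] [DecidableEq ι] (Q : QuadraticForm F (ι → F))
    (hQ : (polarBilin Q).Nondegenerate) {g : GL ι F} (hg : ∀ v, Q ((g : Matrix ι ι F) *ᵥ v) = Q v) :
    SelfDual (RingHom.id F) (g : Matrix ι ι F).charpoly := by
  obtain ⟨G, hG⟩ : ∃ G : Matrix ι ι F, G = LinearMap.BilinForm.toMatrix' (polarBilin Q) := ⟨_, rfl⟩
  have hGd : G.det ≠ 0 := by rw [hG]; exact Matrix.nondegenerate_iff_det_ne_zero.1 (LinearMap.BilinForm.nondegenerate_toMatrix'_iff.2 hQ)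
  have hgG : (g : Matrix ι ι F)ᵀ * G * g = G := by
    have h1 : LinearMap.compl₁₂ (polarBilin Q) (Matrix.toLin' (g : Matrix ι ι F)) (Matrix.toLin' (g : Matrix ι ι F)) =
        polarBilin Q := LinearMap.ext₂ fun u v => by
      simp only [LinearMap.compl₁₂_apply, Matrix.toLin'_apply, polarBilin_apply_apply, polar, ← Matrix.mulVec_add, hg]
    rw [hG]
    conv_rhs => rw [← h1]
    rw [show LinearMap.compl₁₂ (polarBilin Q) (Matrix.toLin' (g : Matrix ι ι F)) (Matrix.toLin' (g : Matrix ι ι F)) =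
      LinearMap.BilinForm.comp (polarBilin Q) (Matrix.toLin' (g : Matrix ι ι F)) (Matrix.toLin' (g : Matrix ι ι F)) from rfl,
      LinearMap.BilinForm.toMatrix'_comp, LinearMap.toMatrix'_toLin']
  obtain ⟨A, hA⟩ : ∃ A : Matrix ι ι F[X], A = (g : Matrix ι ι F).map Polynomial.C := ⟨_, rfl⟩
  have h1 : (charmatrix (g : Matrix ι ι F))ᵀ * G.map Polynomial.C * A = G.map Polynomial.C * ((Polynomial.X : F[X]) • A - 1) := by
    rw [charmatrix, RingHom.mapMatrix_apply, Matrix.transpose_sub,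
      show (Matrix.scalar ι (Polynomial.X : F[X]))ᵀ = (Polynomial.X : F[X]) • (1 : Matrix ι ι F[X]) by
        rw [Matrix.scalar_apply, Matrix.diagonal_transpose, Matrix.smul_one_eq_diagonal], sub_mul, sub_mul,
      ← Matrix.transpose_map, hA, ← Matrix.map_mul, ← Matrix.map_mul, hgG, smul_mul_assoc, one_mul, smul_mul_assoc,
      mul_sub, mul_one, mul_smul_comm]
  have h2 := congrArg Matrix.det h1
  rw [Matrix.det_mul, Matrix.det_mul, Matrix.det_mul, Matrix.det_transpose,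
    show A.det = Polynomial.C (g : Matrix ι ι F).det by rw [hA, ← RingHom.mapMatrix_apply, ← RingHom.map_det],
    mul_right_comm, mul_comm] at h2
  have hGu : (G.map Polynomial.C).det ≠ 0 := by
    rw [← RingHom.mapMatrix_apply, ← RingHom.map_det]
    exact Polynomial.C_ne_zero.2 hGd
  have h3 := mul_left_cancel₀ hGu h2
  rw [hA, ← neg_sub (1 : Matrix ι ι F[X]), Matrix.det_neg] at h3
  have h4 : (g : Matrix ι ι F).charpoly * Polynomial.C (g : Matrix ι ι F).det =
      (-1) ^ Fintype.card ι * (g : Matrix ι ι F).charpolyRev := h3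
  show (g : Matrix ι ι F).charpoly.reverse = Polynomial.C ((g : Matrix ι ι F).charpoly.coeff 0) *
    (g : Matrix ι ι F).charpoly.map (RingHom.id F)
  rw [Polynomial.map_id, Matrix.reverse_charpoly, show (g : Matrix ι ι F).charpoly.coeff 0 =
      (-1) ^ Fintype.card ι * (g : Matrix ι ι F).det by
    rw [Matrix.det_eq_sign_charpoly_coeff, ← mul_assoc, ← mul_pow, neg_mul_neg, one_mul, one_pow, one_mul],
    map_mul, map_pow, map_neg, map_one, mul_assoc, mul_comm (Polynomial.C _), h4, ← mul_assoc, ← mul_pow, neg_mul_neg,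
    one_mul, one_pow, one_mul]

theorem eval_one_charpoly {ι : Type} [Fintype ι] [DecidableEq ι] (M : Matrix ι ι F) :
    M.charpoly.eval 1 = 0 ↔ ∃ v, v ≠ 0 ∧ M *ᵥ v = v := by
  rw [Matrix.eval_charpoly, map_one, ← Matrix.exists_mulVec_eq_zero_iff]
  constructor
  · rintro ⟨v, hv, h⟩
    rw [Matrix.sub_mulVec, Matrix.one_mulVec, sub_eq_zero] at h
    exact ⟨v, hv, h.symm⟩
  · rintro ⟨v, hv, h⟩
    exact ⟨v, hv, by rw [Matrix.sub_mulVec, Matrix.one_mulVec, h, sub_self]⟩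

/-- An anisotropic binary form. -/
theorem exists_aniso_binary [Finite F] : ∃ a b : F, ∀ z₁ z₂ : F, z₁ ^ 2 + a * z₁ * z₂ + b * z₂ ^ 2 = 0 → z₁ = 0 ∧ z₂ = 0 := by
  obtain ⟨b, hb⟩ : ∃ b : F, ∀ x : F, x * x + x ≠ -b := by
    by_contra h
    push Not at h
    have hs : Function.Surjective fun x : F => x * x + x := fun y => by
      obtain ⟨x, hx⟩ := h (-y)
      exact ⟨x, by show x * x + x = y; rw [hx, neg_neg]⟩
    have := (Finite.injective_iff_surjective.2 hs) (show (fun x : F => x * x + x) 0 = (fun x : F => x * x + x) (-1) by simp)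
    simp at this
  refine ⟨1, b, fun z₁ z₂ h => ?_⟩
  by_cases hz : z₂ = 0
  · refine ⟨?_, hz⟩
    rw [hz] at h
    simpa using h
  · exfalso
    refine hb (z₁ / z₂) ?_
    field_simp
    linear_combination h

variable [Fintype F] [DecidableEq F] (p : ℕ) [Fact p.Prime] [CharP F p] {r : ℕ} [Fact r.Prime]

include p

/-- `2 ∣ i Σ μ` for a symmetric `μ`. -/
theorem even_mul_sum (hrF : (r : F) ≠ 0) (hr2 : r ≠ 2) {i : ℕ} (hi : i = orderOf ((Fintype.card F : ℕ) : ZMod r))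
    (hi0 : 0 < i) (μ : ↥(factors F r) → ℕ)
    (hμ : ∀ Q, μ (starF (σ := RingHom.id F) (fun _ => rfl) (Fact.out : r.Prime).ne_zero Q) = μ Q) :
    Even (i * ∑ Q, μ Q) := by
  rcases Nat.even_or_odd i with h | h
  · exact h.mul_right _
  · refine (even_sum_of_free _ (starF_starF (σ := RingHom.id F) (fun _ => rfl) (Fact.out : r.Prime).ne_zero)
      (fun Q hQ => ?_) μ hμ).mul_left _
    obtain ⟨k, hk⟩ := (star_eq_iff (σ := RingHom.id F) (fun _ => rfl) hrF p 0 (q₀ := 1) (pow_zero p).symm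
      (fun x => (pow_one x).symm) Q).1 hQ
    rw [Nat.cast_one] at hk
    exact Nat.not_even_iff_odd.2 h ((neg_one_mem_powers_iff hr2 hi hi0).1 ⟨k, hk⟩)

/-- An isometry with a prescribed characteristic polynomial, completed by the identity on a given form. -/
theorem exists_model (hrF : (r : F) ≠ 0) (hr2 : r ≠ 2) {i : ℕ} (hi : i = orderOf ((Fintype.card F : ℕ) : ZMod r))
    {μ : ↥(factors F r) → ℕ}
    (hμ : ∀ Q, μ (starF (σ := RingHom.id F) (fun _ => rfl) (Fact.out : r.Prime).ne_zero Q) = μ Q)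
    {k : ℕ} (hk : i * ∑ Q, μ Q = 2 * k) {κ : Type} [Fintype κ] [DecidableEq κ] (R : Matrix κ κ F)
    (hR : (R + Rᵀ).det ≠ 0) :
    ∃ (A : Matrix ((Fin k ⊕ Fin k) ⊕ κ) ((Fin k ⊕ Fin k) ⊕ κ) F) (g : GL ((Fin k ⊕ Fin k) ⊕ κ) F),
      (A + Aᵀ).det ≠ 0 ∧ (∀ v, matQuad A ((g : Matrix ((Fin k ⊕ Fin k) ⊕ κ) ((Fin k ⊕ Fin k) ⊕ κ) F) *ᵥ v) = matQuad A v) ∧ g ^ r = 1 ∧
      (orderOf g).Coprime p ∧ (g : Matrix ((Fin k ⊕ Fin k) ⊕ κ) ((Fin k ⊕ Fin k) ⊕ κ) F).charpoly = poly (2 * k + Fintype.card κ) i μ ∧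
      ∀ c : F, Nat.card {v // matQuad A v = c ∧ (g : Matrix ((Fin k ⊕ Fin k) ⊕ κ) ((Fin k ⊕ Fin k) ⊕ κ) F) *ᵥ v = v} = Nat.card {w // matQuad R w = c} := by
  have hr : r ≠ 0 := (Fact.out : r.Prime).ne_zero
  obtain ⟨M, hMp, hMc⟩ := exists_symplectic_good (m := k) p hr2
    (good_poly hrF hi (N := k + k) (by omega))
    ((selfDual_poly_iff (σ := RingHom.id F) (fun _ => rfl) (k + k) i μ).2 hμ)
  let j : Matrix.symplecticGroup (Fin k) F →* GL (Fin k ⊕ Fin k) F := (Submonoid.subtype _).toHomUnits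
  have hj : Function.Injective j := fun a b hab => Subtype.ext (congrArg Units.val hab)
  have hjp : (orderOf (j M)).Coprime p := by rwa [orderOf_injective j hj]
  have hMr : (j M) ^ r = 1 := pow_eq_one_of_good p hjp (hMc.symm ▸ good_poly hrF hi (N := k + k) (by omega) :
    Good r (k + k) (j M : Matrix (Fin k ⊕ Fin k) (Fin k ⊕ Fin k) F).charpoly)
  obtain ⟨N, hN⟩ : ∃ N : Matrix (Fin k ⊕ Fin k) (Fin k ⊕ Fin k) F, N = (M : Matrix (Fin k ⊕ Fin k) (Fin k ⊕ Fin k) F) :=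
    ⟨_, rfl⟩
  have hfix : ∀ v, N *ᵥ v = v → v = 0 := by
    intro v hv
    by_contra h0
    have h1 : N.charpoly.eval 1 = 0 := (eval_one_charpoly N).2 ⟨v, h0, hv⟩
    rw [hN, hMc, eval_one_poly] at h1
    omega
  have hJ := SymplecticGroup.mem_iff'.1 M.2
  rw [← hN] at hJ
  obtain ⟨A₀, hA₀⟩ : ∃ A₀, A₀ = Matrix.J (Fin k) F * N := ⟨_, rfl⟩
  have hA₀inv : Nᵀ * A₀ * N = A₀ := by rw [hA₀, ← mul_assoc, hJ]
  have hA₀d : (A₀ + A₀ᵀ).det ≠ 0 := by
    rw [Ne, ← Matrix.exists_mulVec_eq_zero_iff]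
    rintro ⟨v, hv, h⟩
    have h2 : A₀ * N + A₀ᵀ * N = Matrix.J (Fin k) F * (N * N - 1) := by
      rw [hA₀, Matrix.transpose_mul, Matrix.J_transpose, mul_assoc, mul_assoc, neg_mul, mul_neg, ← mul_assoc Nᵀ, hJ,
        mul_sub, mul_one, sub_eq_add_neg]
    obtain ⟨j', hj'⟩ := (Fact.out : r.Prime).odd_of_ne_two hr2
    have hNr : N ^ r = 1 := by
      rw [hN]
      have := congrArg Units.val hMr
      rwa [Units.val_pow_eq_pow_val, Units.val_one] at this
    obtain ⟨w, hw⟩ : ∃ w, w = (N ^ (2 * j')) *ᵥ v := ⟨_, rfl⟩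
    have hNw : N *ᵥ w = v := by rw [hw, Matrix.mulVec_mulVec, ← pow_succ', ← hj', hNr, Matrix.one_mulVec]
    have h3 : (Matrix.J (Fin k) F * (N * N - 1)) *ᵥ w = 0 := by
      rw [← h2, ← add_mul, ← Matrix.mulVec_mulVec, hNw, h]
    have h4 : (N * N - 1) *ᵥ w = 0 := by
      have h5 : ((Matrix.J (Fin k) F)⁻¹ * Matrix.J (Fin k) F) *ᵥ ((N * N - 1) *ᵥ w) = 0 := by
        rw [← Matrix.mulVec_mulVec, Matrix.mulVec_mulVec _ (Matrix.J (Fin k) F), h3, Matrix.mulVec_zero]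
      rwa [Matrix.nonsing_inv_mul _ (Matrix.isUnit_det_J (Fin k) F), Matrix.one_mulVec] at h5
    rw [Matrix.sub_mulVec, Matrix.one_mulVec, sub_eq_zero] at h4
    have h6 : ∀ l : ℕ, N ^ (2 * l) *ᵥ w = w := by
      intro l
      induction l with
      | zero => simp
      | succ l ih => rw [show 2 * (l + 1) = 2 * l + 2 by ring, pow_add, ← Matrix.mulVec_mulVec, _root_.sq, h4, ih]
    have h7 : N *ᵥ w = w := by
      conv_rhs => rw [← Matrix.one_mulVec w, ← hNr, hj', pow_succ', ← Matrix.mulVec_mulVec, h6]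
    exact hv (by rw [← hNw, hfix w h7, Matrix.mulVec_zero])
  let em : GL (Fin k ⊕ Fin k) F →* GL ((Fin k ⊕ Fin k) ⊕ κ) F := MonoidHom.toHomUnits
    { toFun := fun x => fromBlocks (x : Matrix (Fin k ⊕ Fin k) (Fin k ⊕ Fin k) F) 0 0 (1 : Matrix κ κ F)
      map_one' := by simp
      map_mul' := fun x y => by simp [Matrix.fromBlocks_multiply] }
  have hem : ((em (j M) : GL ((Fin k ⊕ Fin k) ⊕ κ) F) : Matrix ((Fin k ⊕ Fin k) ⊕ κ) ((Fin k ⊕ Fin k) ⊕ κ) F) = fromBlocks N 0 0 1 := by rw [hN]; rfl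
  have hgr : (em (j M)) ^ r = 1 := by rw [← map_pow, hMr, map_one]
  refine ⟨fromBlocks A₀ 0 0 R, em (j M), ?_, ?_, hgr, ?_, ?_, ?_⟩
  · rw [Matrix.fromBlocks_transpose, Matrix.fromBlocks_add, Matrix.transpose_zero, add_zero, Matrix.transpose_zero,
      add_zero, Matrix.det_fromBlocks_zero₁₂]
    exact mul_ne_zero hA₀d hR
  · intro v
    rw [hem, matQuad_apply, matQuad_apply, Matrix.mulVec_mulVec, Matrix.dotProduct_mulVec,
      Matrix.vecMul_mulVec, ← Matrix.dotProduct_mulVec, ← mul_assoc, Matrix.fromBlocks_transpose,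
      Matrix.fromBlocks_multiply, Matrix.fromBlocks_multiply]
    simp [hA₀inv]
  · exact ((Nat.coprime_primes Fact.out Fact.out).2 (by rintro rfl; exact hrF (CharP.cast_eq_zero F r))).coprime_dvd_left
      (orderOf_dvd_of_pow_eq_one hgr)
  · rw [hem, Matrix.charpoly_fromBlocks_zero₁₂, Matrix.charpoly_one, hN, hMc, poly, poly,
      show k + k - i * ∑ Q, μ Q = 0 by omega, show 2 * k + Fintype.card κ - i * ∑ Q, μ Q = Fintype.card κ by omega,
      pow_zero, one_mul, mul_comm]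
  · intro c
    have hq : ∀ v : (Fin k ⊕ Fin k) ⊕ κ → F, ((em (j M) : GL ((Fin k ⊕ Fin k) ⊕ κ) F) : Matrix ((Fin k ⊕ Fin k) ⊕ κ) ((Fin k ⊕ Fin k) ⊕ κ) F) *ᵥ v = v →
        (fun a => v (Sum.inl a)) = 0 := by
      intro v hv
      refine hfix _ (funext fun a => ?_)
      have := congrFun hv (Sum.inl a)
      rw [hem, Matrix.fromBlocks_mulVec, Sum.elim_inl, Matrix.zero_mulVec, add_zero] at this
      exact this
    have hQ0 : ∀ w : κ → F, matQuad (fromBlocks A₀ 0 0 R) (Sum.elim (0 : Fin k ⊕ Fin k → F) w) = matQuad R w := fun w => by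
      rw [matQuad_apply, matQuad_apply, Matrix.fromBlocks_mulVec, sumElim_dotProduct_sumElim]
      simp [Sum.elim_comp_inl, Sum.elim_comp_inr]
    have hv0 : ∀ v : {v // matQuad (fromBlocks A₀ 0 0 R) v = c ∧
        ((em (j M) : GL ((Fin k ⊕ Fin k) ⊕ κ) F) : Matrix ((Fin k ⊕ Fin k) ⊕ κ) ((Fin k ⊕ Fin k) ⊕ κ) F) *ᵥ v = v},
        v.1 = Sum.elim (0 : Fin k ⊕ Fin k → F) (fun b => v.1 (Sum.inr b)) := fun v => funext fun x => by
      rcases x with a | b
      · exact congrFun (hq v.1 v.2.2) a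
      · rfl
    exact Nat.card_congr
      { toFun := fun v => ⟨fun b => v.1 (Sum.inr b), by rw [← hQ0, ← hv0 v]; exact v.2.1⟩
        invFun := fun w => ⟨Sum.elim (0 : Fin k ⊕ Fin k → F) w.1, by rw [hQ0]; exact w.2, by
          rw [hem, Matrix.fromBlocks_mulVec, Sum.elim_comp_inl, Sum.elim_comp_inr]
          simp⟩
        left_inv := fun v => Subtype.ext (hv0 v).symm
        right_inv := fun w => Subtype.ext rfl }

/-- Classes of elements of order `r` of an orthogonal group in even dimension. -/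
theorem card_classes_even (hrF : (r : F) ≠ 0) (hr2 : r ≠ 2) {i : ℕ}
    (hi : i = orderOf ((Fintype.card F : ℕ) : ZMod r)) (hi0 : 0 < i) {ι : Type} [Fintype ι] [DecidableEq ι]
    (Q : QuadraticForm F (ι → F)) (hQ : (polarBilin Q).Nondegenerate) {m : ℕ}
    (hι : Fintype.card ι = 2 * (m + 1)) {δ : ℤ} (hδ : δ = 1 ∨ δ = -1) (hQt : HasType ⇑Q (m + 1) δ) :
    Nat.card {C : ConjClasses ↥(Cfsg.isometryGroup F ⇑Q) //
      ∃ g : ↥(Cfsg.isometryGroup F ⇑Q), ConjClasses.mk g = C ∧ orderOf g = r} =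
    Nat.card {μ : ↥(factors F r) → ℕ // i * ∑ P, μ P ≤ 2 * (m + 1) ∧
      ((∀ P, μ (starF (σ := RingHom.id F) (fun _ => rfl) (Fact.out : r.Prime).ne_zero P) = μ P) ∧
        (i * ∑ P, μ P = 2 * (m + 1) → ((Fintype.card F : ℕ) : ZMod r) ^ (m + 1) = (δ : ZMod r)))} - 1 := by
  have hrodd : Odd r := (Fact.out : r.Prime).odd_of_ne_two hr2
  have hrp : Nat.Coprime r p :=
    (Nat.coprime_primes Fact.out Fact.out).2 (by rintro rfl; exact hrF (CharP.cast_eq_zero F r))
  have hq0 : ((Fintype.card F : ℕ) : ZMod r) ≠ 0 := by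
    intro h
    have h1 : orderOf (0 : ZMod r) = 0 := by
      rw [orderOf_eq_zero_iff']
      intro n hn
      rw [zero_pow (Nat.pos_iff_ne_zero.1 hn)]
      exact zero_ne_one
    rw [h, h1] at hi
    omega
  let j : ↥(Cfsg.isometryGroup F ⇑Q) →* GL ι F := (Cfsg.isometryGroup F ⇑Q).subtype
  have key := card_classes_of_adm j (Subgroup.subtype_injective _) p hrF hi
    (fun μ => (∀ P, μ (starF (σ := RingHom.id F) (fun _ => rfl) (Fact.out : r.Prime).ne_zero P) = μ P) ∧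
      (i * ∑ P, μ P = 2 * (m + 1) → ((Fintype.card F : ℕ) : ZMod r) ^ (m + 1) = (δ : ZMod r))) ?_ ?_ ?_
  · rw [hι] at key
    exact key
  · intro a b ha _ hab
    refine orth_conj' p Q hQ a b ?_ (hrp.coprime_dvd_left (orderOf_dvd_of_pow_eq_one ha)) hab
    obtain ⟨c, hc⟩ := orderOf_dvd_of_pow_eq_one ha
    exact (Nat.odd_mul.1 (hc ▸ hrodd)).1
  · intro a μ ha hμle hc
    have hiso : ∀ v, Q (((a : GL ι F) : Matrix ι ι F) *ᵥ v) = Q v := (mem_isometryGroup_iff (a : GL ι F)).1 a.2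
    have hsd := selfDual_orth Q hQ hiso
    rw [show ((a : GL ι F) : Matrix ι ι F).charpoly = poly (Fintype.card ι) i μ from hc] at hsd
    refine ⟨(selfDual_poly_iff (σ := RingHom.id F) (fun _ => rfl) (Fintype.card ι) i μ).1 hsd, fun hS => ?_⟩
    have har : (a : GL ι F) ^ r = 1 := by rw [← SubmonoidClass.coe_pow, ha, OneMemClass.coe_one]
    have h1 := card_level_congr (r := r) (⇑Q) hiso har 1
    haveI : IsEmpty {v // Q v = 1 ∧ ((a : GL ι F) : Matrix ι ι F) *ᵥ v = v} := ⟨fun v => by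
      have hv0 : v.1 ≠ 0 := fun h => by
        have := v.2.1
        rw [h, QuadraticMap.map_zero] at this
        exact zero_ne_one this
      have h2 := (eval_one_charpoly ((a : GL ι F) : Matrix ι ι F)).2 ⟨v.1, hv0, v.2.2⟩
      rw [show ((a : GL ι F) : Matrix ι ι F).charpoly = poly (Fintype.card ι) i μ from hc, eval_one_poly] at h2
      omega⟩
    rw [Nat.card_of_isEmpty (α := {v // Q v = 1 ∧ ((a : GL ι F) : Matrix ι ι F) *ᵥ v = v}), Nat.cast_zero] at h1
    have h3 := congrArg (fun x : ℤ => (x : ZMod r)) (hQt 1 one_ne_zero)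
    simp only [Int.cast_mul, Int.cast_natCast, Int.cast_sub, Int.cast_pow, h1, zero_mul,
      Nat.card_eq_fintype_card (α := F)] at h3
    rw [two_mul, pow_add, ← sub_mul, eq_comm, mul_eq_zero, sub_eq_zero] at h3
    exact h3.resolve_right (pow_ne_zero _ hq0)
  · rintro μ hμle ⟨hsym, hcond⟩
    rw [hι] at hμle
    obtain ⟨k, hk⟩ := even_mul_sum p hrF hr2 hi hi0 μ hsym
    rw [← two_mul] at hk
    obtain ⟨l, hl⟩ : ∃ l, m + 1 = k + l := ⟨m + 1 - k, by omega⟩
    obtain ⟨d, hd, hdd⟩ : ∃ d : ℤ, (d = 1 ∨ d = -1) ∧ ((Fintype.card F : ℕ) : ZMod r) ^ k = (d : ZMod r) := by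
      have h1 : ((Fintype.card F : ℕ) : ZMod r) ^ k * ((Fintype.card F : ℕ) : ZMod r) ^ k = 1 := by
        rw [← pow_add, ← two_mul, ← hk, pow_mul, hi, pow_orderOf_eq_one, one_pow]
      rcases mul_self_eq_one_iff.1 h1 with h | h
      · exact ⟨1, Or.inl rfl, by rw [h, Int.cast_one]⟩
      · exact ⟨-1, Or.inr rfl, by rw [h, Int.cast_neg, Int.cast_one]⟩
    haveI : Fact (2 < r) := ⟨lt_of_le_of_ne (Fact.out : r.Prime).two_le (Ne.symm hr2)⟩
    have hinj : ∀ a b : ℤ, (a = 1 ∨ a = -1) → (b = 1 ∨ b = -1) → (a : ZMod r) = (b : ZMod r) → a = b := by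
      rintro a b (rfl | rfl) (rfl | rfl) h <;> simp only [Int.cast_one, Int.cast_neg] at h
      · rfl
      · exact absurd h.symm ZMod.neg_one_ne_one
      · exact absurd h ZMod.neg_one_ne_one
      · rfl
    obtain ⟨δ', hδ', hδ'eq⟩ : ∃ δ' : ℤ, (δ' = 1 ∨ δ' = -1) ∧ δ' = δ * d :=
      ⟨_, by rcases hδ with rfl | rfl <;> rcases hd with rfl | rfl <;> simp, rfl⟩
    obtain ⟨κ, hκf, hκd, R, hκc, hR, hRt⟩ : ∃ (κ : Type) (_ : Fintype κ) (_ : DecidableEq κ) (R : Matrix κ κ F),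
        Fintype.card κ = 2 * l ∧ (R + Rᵀ).det ≠ 0 ∧ HasType ⇑(matQuad R) l δ' := by
      rcases hδ' with h | h
      · refine ⟨Fin l ⊕ Fin l, inferInstance, inferInstance, plusMat l F, by simp [two_mul], nondeg_plus l, ?_⟩
        rw [coe_matQuad_plus, h]
        exact hasType_plus l
      · rcases Nat.eq_zero_or_pos l with hl0 | hl0
        · exfalso
          have h1 := hcond (by omega)
          rw [show m + 1 = k by omega, hdd] at h1
          have := hinj d δ hd hδ h1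
          rw [hδ'eq, this] at h
          rcases hδ with rfl | rfl <;> simp at h
        · obtain ⟨a, b, hab⟩ : ∃ a b : F, ∀ z₁ z₂ : F, z₁ ^ 2 + a * z₁ * z₂ + b * z₂ ^ 2 = 0 → z₁ = 0 ∧ z₂ = 0 :=
            exists_aniso_binary
          obtain ⟨l', rfl⟩ : ∃ l', l = l' + 1 := ⟨l - 1, by omega⟩
          refine ⟨(Fin l' ⊕ Fin l') ⊕ Fin 2, inferInstance, inferInstance, minusMat l' F a b, by simp; omega,
            nondeg_minus hab, ?_⟩
          rw [coe_matQuad_minus, h]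
          exact hasType_minus l' hab
    obtain ⟨A, g, hAd, hgiso, hgr, hgp, hgc, hgfix⟩ := exists_model p hrF hr2 hi hsym hk R hR
    have hA : (polarBilin (matQuad A)).Nondegenerate := nondegenerate_matQuad hAd
    have hAcard : Fintype.card ((Fin k ⊕ Fin k) ⊕ κ) = 2 * (m + 1) := by simp [hκc]; omega
    obtain ⟨δA, hδA, hAt⟩ : ∃ δA : ℤ, (δA = 1 ∨ δA = -1) ∧ HasType ⇑(matQuad A) (m + 1) δA := by
      rcases isSimTo_even (matQuad A) hA hAcard with h | ⟨a, b, hab, h⟩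
      · exact ⟨1, Or.inl rfl, HasType.of_simTo h (hasType_plus (m + 1))⟩
      · exact ⟨-1, Or.inr rfl, HasType.of_simTo h (hasType_minus m hab)⟩
    have hδAδ : δA = δ := by
      have h1 := card_level_congr (r := r) (⇑(matQuad A)) hgiso hgr 1
      rw [hgfix] at h1
      have h2 := congrArg (fun x : ℤ => (x : ZMod r)) (hAt 1 one_ne_zero)
      have h3 := congrArg (fun x : ℤ => (x : ZMod r)) (hRt 1 one_ne_zero)
      simp only [Int.cast_mul, Int.cast_natCast, Int.cast_sub, Int.cast_pow, h1,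
        Nat.card_eq_fintype_card (α := F)] at h2 h3
      rw [h3, hl, hδ'eq, Int.cast_mul, pow_add, show 2 * (k + l) = k + k + 2 * l by ring, pow_add, pow_add, hdd] at h2
      have hdsq : (d : ZMod r) * d = 1 := by rcases hd with rfl | rfl <;> simp
      refine hinj δA δ hδA hδ (mul_right_cancel₀ (b := (d : ZMod r) * ((Fintype.card F : ℕ) : ZMod r) ^ l) ?_ ?_)
      · exact mul_ne_zero (left_ne_zero_of_mul_eq_one hdsq) (pow_ne_zero _ hq0)
      · linear_combination h2 + ((Fintype.card F : ℕ) : ZMod r) ^ (2 * l) * hdsq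
    rw [hδAδ] at hAt
    obtain ⟨g', hg'o, hg'c⟩ :=
      exists_isometry_of_simTo (isSimTo_of_type (matQuad A) hA Q hQ hAcard hι hAt hQt) hgiso
    refine ⟨g', ?_, ?_⟩
    · show ((g' : GL ι F) : Matrix ι ι F).charpoly = _
      rw [hg'c, hgc, hκc, hι, show 2 * k + 2 * l = 2 * (m + 1) by omega]
    · show (orderOf (g' : GL ι F)).Coprime p
      rw [Subgroup.orderOf_coe, hg'o]
      exact hgp

/-- Classes of elements of order `r` of an orthogonal group in odd dimension. -/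
theorem card_classes_odd (h2 : (2 : F) ≠ 0) (hrF : (r : F) ≠ 0) (hr2 : r ≠ 2) {i : ℕ}
    (hi : i = orderOf ((Fintype.card F : ℕ) : ZMod r)) (hi0 : 0 < i) {ι : Type} [Fintype ι] [DecidableEq ι]
    (Q : QuadraticForm F (ι → F)) (hQ : (polarBilin Q).Nondegenerate) {m : ℕ}
    (hι : Fintype.card ι = 2 * m + 1) :
    Nat.card {C : ConjClasses ↥(Cfsg.isometryGroup F ⇑Q) //
      ∃ g : ↥(Cfsg.isometryGroup F ⇑Q), ConjClasses.mk g = C ∧ orderOf g = r} =
    Nat.card {μ : ↥(factors F r) → ℕ // i * ∑ P, μ P ≤ 2 * m + 1 ∧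
      ∀ P, μ (starF (σ := RingHom.id F) (fun _ => rfl) (Fact.out : r.Prime).ne_zero P) = μ P} - 1 := by
  have hrodd : Odd r := (Fact.out : r.Prime).odd_of_ne_two hr2
  have hrp : Nat.Coprime r p :=
    (Nat.coprime_primes Fact.out Fact.out).2 (by rintro rfl; exact hrF (CharP.cast_eq_zero F r))
  let j : ↥(Cfsg.isometryGroup F ⇑Q) →* GL ι F := (Cfsg.isometryGroup F ⇑Q).subtype
  have key := card_classes_of_adm j (Subgroup.subtype_injective _) p hrF hi
    (fun μ => ∀ P, μ (starF (σ := RingHom.id F) (fun _ => rfl) (Fact.out : r.Prime).ne_zero P) = μ P) ?_ ?_ ?_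
  · rw [hι] at key
    exact key
  · intro a b ha _ hab
    refine orth_conj' p Q hQ a b ?_ (hrp.coprime_dvd_left (orderOf_dvd_of_pow_eq_one ha)) hab
    obtain ⟨c, hc⟩ := orderOf_dvd_of_pow_eq_one ha
    exact (Nat.odd_mul.1 (hc ▸ hrodd)).1
  · intro a μ _ _ hc
    have hsd := selfDual_orth Q hQ ((mem_isometryGroup_iff (a : GL ι F)).1 a.2)
    rw [show ((a : GL ι F) : Matrix ι ι F).charpoly = poly (Fintype.card ι) i μ from hc] at hsd
    exact (selfDual_poly_iff (σ := RingHom.id F) (fun _ => rfl) (Fintype.card ι) i μ).1 hsd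
  · intro μ hμle hsym
    rw [hι] at hμle
    obtain ⟨k, hk⟩ := even_mul_sum p hrF hr2 hi hi0 μ hsym
    rw [← two_mul] at hk
    obtain ⟨l, hl⟩ : ∃ l, m = k + l := ⟨m - k, by omega⟩
    obtain ⟨A, g, hAd, hgiso, -, hgp, hgc, -⟩ := exists_model p hrF hr2 hi hsym hk
      (fromBlocks (1 : Matrix Unit Unit F) 0 0 (plusMat l F)) (by
        rw [Matrix.fromBlocks_transpose, Matrix.fromBlocks_add, Matrix.transpose_zero, add_zero,
          Matrix.transpose_zero, add_zero, Matrix.det_fromBlocks_zero₁₂, Matrix.transpose_one]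
        refine mul_ne_zero ?_ (nondeg_plus l)
        rw [Matrix.det_unique]
        show (1 : F) + 1 ≠ 0
        rwa [one_add_one_eq_two])
    have hA : (polarBilin (matQuad A)).Nondegenerate := nondegenerate_matQuad hAd
    have hAcard : Fintype.card ((Fin k ⊕ Fin k) ⊕ (Unit ⊕ (Fin l ⊕ Fin l))) = 2 * m + 1 := by simp; omega
    obtain ⟨g', hg'o, hg'c⟩ := exists_isometry_of_simTo
      ((isSimTo_odd (matQuad A) hA hAcard).trans (isSimTo_odd Q hQ hι).symm) hgiso
    refine ⟨g', ?_, ?_⟩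
    · show ((g' : GL ι F) : Matrix ι ι F).charpoly = _
      rw [hg'c, hgc, hι]
      congr 1
      simp
      omega
    · show (orderOf (g' : GL ι F)).Coprime p
      rw [Subgroup.orderOf_coe, hg'o]
      exact hgp

end CfsgLib.KnownB.OrthPrime
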