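import Mathlib

/-! The icosahedral subgroup of `PSL(2,11)`. -/

set_option autoImplicit false

namespace CfsgLib.KnownB.PSLEleven

open Matrix

abbrev S := Matrix.SpecialLinearGroup (Fin 2) (ZMod 11)
abbrev PS := Matrix.ProjectiveSpecialLinearGroup (Fin 2) (ZMod 11)
abbrev E := (ZMod 11 × ZMod 11 × ZMod 11 × ZMod 11) × (Fin 5 × Fin 5 × Fin 5 × Fin 5 × Fin 5)

def L : List E := [
    ((1,0,0,1),(0,1,2,3,4)),
    ((0,10,1,0),(1,0,3,2,4)),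
    ((0,8,4,1),(2,1,4,3,0)),
    ((10,0,0,10),(0,1,2,3,4)),
    ((7,10,0,8),(3,0,4,2,1)),
    ((8,0,1,7),(1,2,3,4,0)),
    ((10,8,4,0),(4,1,0,3,2)),
    ((0,1,10,0),(1,0,3,2,4)),
    ((0,3,7,10),(2,1,4,3,0)),
    ((10,4,8,0),(0,3,2,4,1)),
    ((7,0,10,8),(4,0,1,2,3)),
    ((0,9,6,4),(3,2,0,4,1)),
    ((8,1,0,7),(1,4,3,0,2)),
    ((4,1,0,3),(3,0,4,2,1)),
    ((3,0,10,4),(1,2,3,4,0)),
    ((1,3,7,0),(4,1,0,3,2)),
    ((5,7,0,9),(2,3,1,4,0)),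
    ((0,4,8,1),(0,4,2,1,3)),
    ((9,0,4,5),(2,3,4,0,1)),
    ((3,9,5,8),(0,2,1,4,3)),
    ((4,10,6,7),(3,4,2,0,1)),
    ((1,7,3,0),(0,3,2,4,1)),
    ((4,0,1,3),(4,0,1,2,3)),
    ((0,2,5,7),(3,2,0,4,1)),
    ((3,10,0,4),(1,4,3,0,2)),
    ((7,6,9,0),(3,2,4,1,0)),
    ((6,3,3,9),(1,3,0,4,2)),
    ((5,4,4,10),(2,4,3,1,0)),
    ((0,6,9,4),(4,3,1,0,2)),
    ((9,8,8,6),(2,0,4,1,3)),
    ((10,7,7,5),(4,3,0,2,1)),
    ((7,9,6,0),(2,4,1,0,3)),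
    ((6,4,0,2),(2,3,1,4,0)),
    ((0,7,3,10),(0,4,2,1,3)),
    ((2,0,7,6),(2,3,4,0,1)),
    ((8,2,6,3),(0,2,1,4,3)),
    ((7,1,5,4),(3,4,2,0,1)),
    ((2,7,0,6),(4,2,0,1,3)),
    ((3,5,9,8),(3,1,4,0,2)),
    ((4,6,10,7),(4,2,1,3,0)),
    ((5,0,7,9),(3,4,0,1,2)),
    ((6,0,4,2),(3,4,0,1,2)),
    ((2,6,5,10),(1,3,2,0,4)),
    ((10,3,2,4),(4,0,3,1,2)),
    ((6,10,9,6),(0,3,1,2,4)),
    ((9,4,0,5),(4,2,0,1,3)),
    ((4,5,2,0),(3,2,4,1,0)),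
    ((5,8,8,2),(1,3,0,4,2)),
    ((6,7,7,1),(2,4,3,1,0)),
    ((0,5,2,7),(4,3,1,0,2)),
    ((2,3,3,5),(2,0,4,1,3)),
    ((1,4,4,6),(4,3,0,2,1)),
    ((4,2,5,0),(2,4,1,0,3)),
    ((6,1,2,6),(0,2,3,1,4)),
    ((9,7,10,3),(4,1,2,0,3)),
    ((2,5,6,10),(1,2,0,3,4)),
    ((6,9,10,6),(3,1,0,2,4)),
    ((3,1,4,9),(0,4,1,3,2)),
    ((1,6,5,9),(3,0,2,1,4)),
    ((10,5,6,2),(3,0,2,1,4)),
    ((7,3,2,1),(1,3,4,2,0)),
    ((5,10,9,5),(0,2,3,1,4)),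
    ((8,6,2,3),(3,1,4,0,2)),
    ((7,5,1,4),(4,2,1,3,0)),
    ((9,5,6,1),(1,3,2,0,4)),
    ((1,8,9,7),(4,0,3,1,2)),
    ((5,1,2,5),(0,3,1,2,4)),
    ((1,5,6,9),(2,0,1,3,4)),
    ((7,2,3,1),(1,4,0,2,3)),
    ((6,2,1,6),(2,1,3,0,4)),
    ((5,9,10,5),(2,1,3,0,4)),
    ((9,10,7,3),(0,2,4,3,1)),
    ((3,2,2,9),(0,1,4,2,3)),
    ((4,3,3,8),(1,4,2,3,0)),
    ((3,4,1,9),(3,1,2,4,0)),
    ((10,6,5,2),(2,0,1,3,4)),
    ((2,4,1,8),(4,1,2,0,3)),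
    ((9,6,5,1),(1,2,0,3,4)),
    ((5,2,1,5),(3,1,0,2,4)),
    ((8,10,7,2),(0,4,1,3,2)),
    ((4,8,9,10),(1,3,4,2,0)),
    ((9,2,3,2),(1,0,4,3,2)),
    ((8,3,4,3),(0,4,3,2,1)),
    ((10,2,3,4),(2,0,3,4,1)),
    ((2,8,9,9),(1,0,2,4,3)),
    ((8,4,3,3),(4,1,3,2,0)),
    ((3,7,8,8),(4,1,3,2,0)),
    ((1,2,10,10),(2,4,0,3,1)),
    ((5,6,3,6),(2,1,0,4,3)),
    ((2,9,8,9),(1,0,4,3,2)),
    ((4,9,8,10),(1,4,0,2,3)),
    ((2,1,4,8),(0,2,4,3,1)),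
    ((8,9,9,2),(0,1,4,2,3)),
    ((7,8,8,3),(1,4,2,3,0)),
    ((8,7,10,2),(3,1,2,4,0)),
    ((2,2,2,8),(0,1,3,4,2)),
    ((8,8,8,4),(4,0,2,3,1)),
    ((3,3,3,7),(4,0,2,3,1)),
    ((1,1,1,2),(3,4,1,2,0)),
    ((8,5,5,6),(3,0,1,4,2)),
    ((2,10,10,1),(4,2,3,0,1)),
    ((6,6,6,8),(1,2,4,0,3)),
    ((9,9,9,3),(0,1,3,4,2)),
    ((3,8,7,8),(0,4,3,2,1)),
    ((1,9,8,7),(2,0,3,4,1)),
    ((9,3,2,2),(1,0,2,4,3)),
    ((10,9,1,1),(2,4,0,3,1)),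
    ((6,5,8,5),(2,1,0,4,3)),
    ((1,10,2,10),(4,3,2,1,0)),
    ((5,3,6,6),(0,3,4,1,2)),
    ((7,4,4,4),(3,2,1,0,4)),
    ((10,10,10,9),(3,4,1,2,0)),
    ((3,6,6,5),(3,0,1,4,2)),
    ((9,1,1,10),(4,2,3,0,1)),
    ((5,5,5,3),(1,2,4,0,3)),
    ((7,7,7,4),(2,3,0,1,4)),
    ((4,4,4,7),(2,3,0,1,4)),
    ((10,1,9,1),(4,3,2,1,0)),
    ((6,8,5,5),(0,3,4,1,2)),
    ((4,7,7,7),(3,2,1,0,4))]

def mA : E → E := fun ((a, b, c, d), (t0, t1, t2, t3, t4)) => ((b, -a, d, -c), (t1, t0, t3, t2, t4))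
def mB : E → E := fun ((a, b, c, d), (t0, t1, t2, t3, t4)) => ((4*b, 8*a + b, 4*d, 8*c + d), (t2, t1, t4, t3, t0))

theorem L_closed_aux : (L.all fun e => L.elem (mA e) && L.elem (mB e)) = true := by decide +kernel

theorem L_closed : ∀ e ∈ L, mA e ∈ L ∧ mB e ∈ L := fun e he => by
  have := List.all_eq_true.1 L_closed_aux e he
  rw [Bool.and_eq_true] at this
  exact ⟨List.elem_iff.1 this.1, List.elem_iff.1 this.2⟩

theorem L_one_aux : (L.elem ((1, 0, 0, 1), (0, 1, 2, 3, 4)) &&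
    L.all fun e => e.2 != (0, 1, 2, 3, 4) || e.1 == (1, 0, 0, 1) || e.1 == (10, 0, 0, 10)) = true := by decide +kernel

theorem L_one : ((1, 0, 0, 1), (0, 1, 2, 3, 4)) ∈ L ∧
    ∀ e ∈ L, e.2 = (0, 1, 2, 3, 4) → e.1 = (1, 0, 0, 1) ∨ e.1 = (10, 0, 0, 10) := by
  have h := L_one_aux
  rw [Bool.and_eq_true, List.all_eq_true] at h
  refine ⟨List.elem_iff.1 h.1, fun e he h2 => ?_⟩
  have := h.2 e he
  simpa [h2] using this

def gA : S × alternatingGroup (Fin 5) :=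
  (⟨!![0, -1; 1, 0], by decide⟩, ⟨Equiv.swap 0 1 * Equiv.swap 2 3, Equiv.Perm.mem_alternatingGroup.2 (by decide)⟩)
def gB : S × alternatingGroup (Fin 5) :=
  (⟨!![0, 8; 4, 1], by decide⟩, ⟨Equiv.swap 0 4 * Equiv.swap 0 2, Equiv.Perm.mem_alternatingGroup.2 (by decide)⟩)

def enc (g : S × alternatingGroup (Fin 5)) : E :=
  ((g.1.1 0 0, g.1.1 0 1, g.1.1 1 0, g.1.1 1 1), (g.2.1 0, g.2.1 1, g.2.1 2, g.2.1 3, g.2.1 4))

theorem enc_mA (g : S × alternatingGroup (Fin 5)) : enc (g * gA) = mA (enc g) := by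
  have h : (g * gA).1.1 = g.1.1 * !![0, -1; 1, 0] := rfl
  have h' : (g * gA).2.1 = g.2.1 * (Equiv.swap 0 1 * Equiv.swap 2 3) := rfl
  simp only [enc, h, h', mA]
  simp [Matrix.mul_apply, Fin.sum_univ_two, Equiv.swap_apply_def]

theorem enc_mB (g : S × alternatingGroup (Fin 5)) : enc (g * gB) = mB (enc g) := by
  have h : (g * gB).1.1 = g.1.1 * !![0, 8; 4, 1] := rfl
  have h' : (g * gB).2.1 = g.2.1 * (Equiv.swap 0 4 * Equiv.swap 0 2) := rfl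
  simp only [enc, h, h', mB]
  simp [Matrix.mul_apply, Fin.sum_univ_two, Equiv.swap_apply_def, mul_comm]

def Γ : Subgroup (S × alternatingGroup (Fin 5)) := Subgroup.closure {gA, gB}

theorem enc_mem {g : S × alternatingGroup (Fin 5)} (hg : g ∈ Γ) : enc g ∈ L := by
  rw [Γ, ← Subgroup.mem_toSubmonoid, Subgroup.closure_toSubmonoid_of_finite] at hg
  induction hg using Submonoid.closure_induction_right with
  | one => simpa [enc] using L_one.1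
  | mul_right x _ y hy ih =>
    rcases hy with rfl | rfl
    · rw [enc_mA]; exact (L_closed _ ih).1
    · rw [enc_mB]; exact (L_closed _ ih).2

theorem snd_top : Γ.map (MonoidHom.snd S (alternatingGroup (Fin 5))) = ⊤ := by
  have : IsSimpleGroup (alternatingGroup (Fin 5)) := alternatingGroup.isSimpleGroup (by simp)
  set K := Γ.map (MonoidHom.snd S (alternatingGroup (Fin 5)))
  have ha : gA.2 ∈ K := ⟨gA, Subgroup.subset_closure (Or.inl rfl), rfl⟩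
  have hb : gB.2 ∈ K := ⟨gB, Subgroup.subset_closure (Or.inr rfl), rfl⟩
  have := Fact.mk Nat.prime_two
  have := Fact.mk Nat.prime_three
  have := Fact.mk Nat.prime_five
  have h2 : orderOf gA.2 = 2 := orderOf_eq_prime (by decide +kernel) (by decide +kernel)
  have h3 : orderOf gB.2 = 3 := orderOf_eq_prime (by decide +kernel) (by decide +kernel)
  have h5 : orderOf (gA.2 * gB.2) = 5 := orderOf_eq_prime (by decide +kernel) (by decide +kernel)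
  have e2 := Subgroup.orderOf_dvd_natCard K ha
  have e3 := Subgroup.orderOf_dvd_natCard K hb
  have e5 := Subgroup.orderOf_dvd_natCard K (K.mul_mem ha hb)
  rw [h2] at e2; rw [h3] at e3; rw [h5] at e5
  have h30 : 30 ∣ Nat.card K :=
    (Nat.Coprime.mul_dvd_of_dvd_of_dvd (by norm_num : Nat.Coprime 6 5) ((Nat.Coprime.mul_dvd_of_dvd_of_dvd (by norm_num : Nat.Coprime 2 3) e2 e3)) e5)
  have hc := K.card_mul_index
  rw [nat_card_alternatingGroup, Nat.card_fin] at hc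
  obtain ⟨d, hd⟩ := h30
  have hd0 : 0 < d := by rcases d with _ | d <;> simp_all [Nat.factorial]
  have hi : K.index ≤ 2 := by
    rw [hd] at hc
    have : Nat.factorial 5 / 2 = 60 := rfl
    rw [this] at hc
    nlinarith
  rcases Nat.lt_or_ge K.index 2 with h | h
  · exact Subgroup.index_eq_one.1 (by have := Subgroup.index_ne_zero_of_finite (H := K); omega)
  · have := Subgroup.normal_of_index_eq_two (show K.index = 2 by omega)
    rcases IsSimpleGroup.eq_bot_or_eq_top_of_normal K this with h' | h'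
    · rw [h'] at hd; simp at hd; omega
    · exact h'

theorem exists_hom : ∃ φ : alternatingGroup (Fin 5) →* PS, Function.Injective φ := by
  have hsurj : ∀ σ, ∃ g ∈ Γ, g.2 = σ := fun σ => by
    have : σ ∈ Γ.map (MonoidHom.snd S (alternatingGroup (Fin 5))) := by rw [snd_top]; trivial
    obtain ⟨g, hg, h⟩ := this
    exact ⟨g, hg, h⟩
  choose s hs hs2 using hsurj
  have hker : ∀ g ∈ Γ, g.2 = 1 → (QuotientGroup.mk g.1 : PS) = 1 := by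
    intro g hg h1
    rw [QuotientGroup.eq_one_iff, Subgroup.mem_center_iff]
    intro x
    have he := enc_mem hg
    have h := L_one.2 _ he (by simp [enc, h1])
    simp only [enc, Prod.mk.injEq] at h
    apply Subtype.ext
    rcases h with ⟨a, b, c, d⟩ | ⟨a, b, c, d⟩
    · have : g.1.1 = 1 := by ext i j; fin_cases i <;> fin_cases j <;> simp [a, b, c, d]
      simp [this]
    · have : g.1.1 = (10 : ZMod 11) • 1 := by ext i j; fin_cases i <;> fin_cases j <;> simp [a, b, c, d]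
      simp [this]
  let φ : alternatingGroup (Fin 5) →* PS := MonoidHom.mk' (fun σ => QuotientGroup.mk (s σ).1) fun σ τ => by
    rw [← QuotientGroup.mk_mul, ← div_eq_one, ← QuotientGroup.mk_div]
    exact hker (s (σ * τ) / (s σ * s τ)) (Γ.div_mem (hs _) (Γ.mul_mem (hs _) (hs _))) (by simp [hs2])
  refine ⟨φ, ?_⟩
  have hne : φ.ker ≠ ⊤ := by
    intro h
    have h1 : φ gA.2 = 1 := by rw [← MonoidHom.mem_ker, h]; trivial
    have h2 : (QuotientGroup.mk (s gA.2).1 : PS) = QuotientGroup.mk gA.1 := by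
      rw [← div_eq_one, ← QuotientGroup.mk_div]
      exact hker (s gA.2 / gA) (Γ.div_mem (hs _) (Subgroup.subset_closure (Or.inl rfl))) (by simp [hs2])
    have h3 : gA.1 ∈ Subgroup.center S := (QuotientGroup.eq_one_iff _).1 (h2.symm.trans h1)
    exact absurd (Subgroup.mem_center_iff.1 h3 gB.1) (by decide +kernel)
  have : IsSimpleGroup (alternatingGroup (Fin 5)) := alternatingGroup.isSimpleGroup (by simp)
  exact (MonoidHom.ker_eq_bot_iff φ).1 ((IsSimpleGroup.eq_bot_or_eq_top_of_normal φ.ker inferInstance).resolve_right hne)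

end CfsgLib.KnownB.PSLEleven
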