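import Mathlib

/-! Elements of order three in `PSL(3,4)` form a single class. -/

set_option autoImplicit false

namespace CfsgLib.KnownB.PSLThreeFour

open Polynomial Matrix

variable {F : Type*} [Field F] [Fintype F]

lemma cube (hF : Fintype.card F = 4) {x : F} (hx : x ≠ 0) : x ^ 3 = 1 := by
  simpa [hF] using FiniteField.pow_card_sub_one_eq_one x hx

lemma three (hF : Fintype.card F = 4) : (3 : F) = 1 := by
  have h : ((4 : ℕ) : F) = 0 := by rw [← hF]; exact Nat.cast_card_eq_zero F
  have h2 : (2 : F) * 2 = 0 := by norm_num at h ⊢; exact h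
  have : (2 : F) = 0 := by simpa using h2
  linear_combination this

/-- cube one, determinant one, not scalar: diagonalisable with prescribed eigenvalues -/
lemma conj_diag (hF : Fintype.card F = 4) (e : Fin 3 → F) (he : Function.Injective e)
    (he0 : ∀ i, e i ≠ 0) (M : Matrix (Fin 3) (Fin 3) F) (h3 : M ^ 3 = 1) (hdet : M.det = 1)
    (hns : ∀ c : F, M ≠ c • 1) :
    ∃ P : SpecialLinearGroup (Fin 3) F, M * (P : Matrix _ _ F) = (P : Matrix _ _ F) * diagonal e := by
  classical
  have hsurj : ∀ x : F, x ≠ 0 → ∃ i, e i = x := by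
    intro x hx
    have hc : (Finset.univ.image e) = Finset.univ.erase 0 := by
      apply Finset.eq_of_subset_of_card_le
      · intro y hy
        obtain ⟨i, -, rfl⟩ := Finset.mem_image.1 hy
        simp [he0 i]
      · simp [Finset.card_image_of_injective _ he, hF]
    have hmem : x ∈ Finset.univ.image e := by rw [hc]; simp [hx]
    simpa using hmem
  let S : Set (Fin 3 → F) := {v | ∃ i, M *ᵥ v = e i • v}
  have hS : Submodule.span F S = ⊤ := by
    rw [eq_top_iff]
    intro v _
    let Q : F → Matrix (Fin 3) (Fin 3) F := fun l => 1 + l ^ 2 • M + l • M ^ 2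
    have hQ : ∀ i, M * Q (e i) = e i • Q (e i) := by
      intro i
      have h1 := cube hF (he0 i)
      simp only [Q, mul_add, mul_one, mul_smul_comm, ← pow_succ', ← pow_two, h3, smul_add, smul_smul,
        show e i * e i ^ 2 = 1 by linear_combination h1, one_smul]
      abel
    have hzero : ∀ k : ℕ, k = 1 ∨ k = 2 → ∑ i, e i ^ k = 0 := by
      intro k hk
      have : ∑ i, e i ^ k = ∑ x ∈ Finset.univ.erase (0 : F), x ^ k := by
        rw [← Finset.sum_image (f := fun x : F => x ^ k) (g := e) (fun a _ b _ h => he h)]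
        refine Finset.sum_congr (Finset.ext fun x => ⟨fun h => ?_, fun h => ?_⟩) fun _ _ => rfl
        · obtain ⟨i, -, rfl⟩ := Finset.mem_image.1 h; simp [he0 i]
        · obtain ⟨i, rfl⟩ := hsurj x (Finset.ne_of_mem_erase h); simp
      rw [this, Finset.sum_erase _ (by rcases hk with rfl | rfl <;> simp)]
      apply FiniteField.sum_pow_lt_card_sub_one
      rw [hF]; omega
    have hsum : ∑ i, Q (e i) = 1 := by
      have h1 : ∑ i, e i = 0 := by simpa using hzero 1 (Or.inl rfl)
      simp only [Q, Finset.sum_add_distrib, ← Finset.sum_smul, h1, hzero 2 (Or.inr rfl), zero_smul, add_zero,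
        Finset.sum_const, Finset.card_univ, Fintype.card_fin]
      ext i j
      simp only [Matrix.smul_apply, nsmul_eq_mul, Nat.cast_ofNat, three hF, one_mul]
    rw [show v = ∑ i, Q (e i) *ᵥ v by rw [← Matrix.sum_mulVec, hsum, one_mulVec]]
    refine Submodule.sum_mem _ fun i _ => Submodule.subset_span ⟨i, ?_⟩
    rw [mulVec_mulVec, hQ, smul_mulVec]
  obtain ⟨b, hbS, hbspan, hbli⟩ := exists_linearIndependent F S
  let B0 := Module.Basis.mk hbli (by simp [hbspan, hS])
  have : Fintype b := Fintype.ofFinite _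
  let σ : b ≃ Fin 3 := Fintype.equivFinOfCardEq (by
    rw [← Module.finrank_eq_card_basis B0, Module.finrank_fin_fun])
  let B := B0.reindex σ
  have hB : ∀ j, ∃ i, M *ᵥ B j = e i • B j := by
    intro j
    have h := hbS (σ.symm j).2
    simpa [B, B0, S] using h
  choose d hd using hB
  let P : Matrix (Fin 3) (Fin 3) F := (Matrix.of fun j i => B j i)ᵀ
  have hMP : M * P = P * diagonal (e ∘ d) := by
    ext i j
    rw [mul_diagonal, mul_comm (P i j)]
    simpa [P, Matrix.mul_apply, mulVec, dotProduct] using congrFun (hd j) i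
  have hP : P.det ≠ 0 := by
    rw [det_transpose]
    exact ((Matrix.linearIndependent_rows_iff_isUnit.1 B.linearIndependent).map (Matrix.detMonoidHom)).ne_zero
  have hprod : e (d 0) * e (d 1) * e (d 2) = 1 := by
    have := congrArg det hMP
    rw [det_mul, det_mul, hdet, one_mul, det_diagonal, Fin.prod_univ_three] at this
    exact mul_left_cancel₀ hP (by simpa using this.symm)
  have hne : ¬ (d 0 = d 1 ∧ d 1 = d 2) := by
    rintro ⟨h01, h12⟩
    apply hns (e (d 0))
    have hdd : diagonal (e ∘ d) = e (d 0) • (1 : Matrix (Fin 3) (Fin 3) F) := by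
      ext i j
      fin_cases i <;> fin_cases j <;> simp [h01, h12]
    rw [hdd, mul_smul_comm, mul_one, ← smul_one_mul (e (d 0)) P] at hMP
    exact ((Matrix.isUnit_iff_isUnit_det P).2 hP.isUnit).mul_right_cancel hMP
  have key : ∀ i j k : Fin 3, e i * e j * e k = 1 → i = j → j = k := by
    rintro i _ k h rfl
    apply he
    calc e i = e i * (e i * e i * e k) := by rw [h, mul_one]
      _ = e i ^ 3 * e k := by ring
      _ = e k := by rw [cube hF (he0 i), one_mul]
  have hinj : Function.Injective d := by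
    have a := key (d 0) (d 1) (d 2) hprod
    have b' := key (d 1) (d 2) (d 0) (by linear_combination hprod)
    have c := key (d 2) (d 0) (d 1) (by linear_combination hprod)
    have n01 : d 0 ≠ d 1 := fun h => hne ⟨h, a h⟩
    have n12 : d 1 ≠ d 2 := fun h => n01 (c (b' h))
    have n20 : d 2 ≠ d 0 := fun h => n01 (c h)
    intro i j h
    revert h
    fin_cases i <;> fin_cases j <;> simp [n01, n12, n20, n01.symm, n12.symm, n20.symm]
  let τ := Equiv.ofBijective d (Finite.injective_iff_bijective.1 hinj)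
  let P' := P.submatrix id τ.symm
  have hMP' : M * P' = P' * diagonal e := by
    ext i j
    have hd' := congrFun₂ hMP i (τ.symm j)
    rw [mul_diagonal] at hd' ⊢
    simpa [P', Matrix.mul_apply, show d (τ.symm j) = j from τ.apply_symm_apply j] using hd'
  have hP' : P'.det ≠ 0 := by
    rw [Matrix.det_permute']
    exact mul_ne_zero (by rcases Int.units_eq_one_or (Equiv.Perm.sign τ.symm) with h | h <;> simp [h]) hP
  let E := diagonal (fun i : Fin 3 => if i = 0 then P'.det⁻¹ else (1 : F))
  refine ⟨⟨P' * E, ?_⟩, ?_⟩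
  · simp [E, det_mul, det_diagonal, Fin.prod_univ_three, hP']
  · show M * (P' * E) = P' * E * diagonal e
    rw [← mul_assoc, hMP', mul_assoc, mul_assoc]
    congr 1
    simp [E, diagonal_mul_diagonal, mul_comm]

lemma cube_one (hF : Fintype.card F = 4) (M : Matrix (Fin 3) (Fin 3) F) (hdet : M.det = 1) (c : F)
    (h3 : M ^ 3 = c • 1) : c = 1 := by
  by_contra hc
  have hc0 : c ≠ 0 := by
    intro h
    have := congrArg det h3
    simp [hdet, h] at this
  have hmon : (X ^ 3 - C c : F[X]).Monic := monic_X_pow_sub_C c (by norm_num)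
  have hirr : Irreducible (X ^ 3 - C c : F[X]) := by
    rw [hmon.irreducible_iff_roots_eq_zero_of_degree_le_three (by rw [natDegree_X_pow_sub_C]; norm_num)
      (by rw [natDegree_X_pow_sub_C])]
    apply Multiset.eq_zero_of_forall_notMem
    intro x hx
    rw [mem_roots hmon.ne_zero] at hx
    simp only [IsRoot.def, eval_sub, eval_pow, eval_X, eval_C, sub_eq_zero] at hx
    by_cases hx0 : x = 0
    · simp [hx0] at hx; exact hc0 hx.symm
    · exact hc (by rw [← hx, cube hF hx0])
  have hmin : minpoly F M = X ^ 3 - C c :=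
    (minpoly.eq_of_irreducible_of_monic hirr (by simp [h3, Algebra.smul_def]) hmon).symm
  have hchar : M.charpoly = X ^ 3 - C c := by
    refine (eq_of_monic_of_dvd_of_natDegree_le hmon M.charpoly_monic (hmin ▸ Matrix.minpoly_dvd_charpoly M) ?_)
    rw [natDegree_X_pow_sub_C, Matrix.charpoly_natDegree_eq_dim]; rfl
  have h0 := Matrix.det_eq_sign_charpoly_coeff M
  rw [hchar, hdet] at h0
  simp at h0
  exact hc (by linear_combination -h0)

theorem isConj_of_orderOf_three (hF : Fintype.card F = 4)
    (x y : ProjectiveSpecialLinearGroup (Fin 3) F) (hx : orderOf x = 3) (hy : orderOf y = 3) :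
    IsConj x y := by
  classical
  obtain ⟨ω, hω⟩ : ∃ ω : F, ω ∉ ({0, 1} : Finset F) := by
    by_contra h
    push Not at h
    have h1 := Finset.card_le_card (fun z (_ : z ∈ Finset.univ) => h z)
    have h2 : ({0, 1} : Finset F).card ≤ 2 := Finset.card_le_two
    rw [Finset.card_univ, hF] at h1
    omega
  simp at hω
  obtain ⟨hω0, hω1⟩ := hω
  let e : Fin 3 → F := ![1, ω, ω ^ 2]
  have he : Function.Injective e := by
    have hsq : ω ^ 2 ≠ 1 := fun h => hω1 (by linear_combination cube hF hω0 - ω * h)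
    have hne : ω ^ 2 ≠ ω := fun h => hω1 (mul_left_cancel₀ hω0 (by rw [← pow_two, h, mul_one]))
    intro i j h
    fin_cases i <;> fin_cases j <;> simp [e, hω1, hsq, hne, eq_comm] at h ⊢ <;> first | exact hsq h.symm | exact hne h.symm
  have he0 : ∀ i, e i ≠ 0 := by intro i; fin_cases i <;> simp [e, hω0]
  have key : ∀ z : ProjectiveSpecialLinearGroup (Fin 3) F, orderOf z = 3 →
      ∃ g P : SpecialLinearGroup (Fin 3) F, z = QuotientGroup.mk g ∧
        (g : Matrix _ _ F) * (P : Matrix _ _ F) = (P : Matrix _ _ F) * diagonal e := by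
    intro z hz
    obtain ⟨g, rfl⟩ := QuotientGroup.mk_surjective z
    have hns : ∀ c : F, (g : Matrix (Fin 3) (Fin 3) F) ≠ c • 1 := by
      intro c hc
      have : (QuotientGroup.mk g : ProjectiveSpecialLinearGroup (Fin 3) F) = 1 := by
        rw [QuotientGroup.eq_one_iff, Subgroup.mem_center_iff]
        intro a
        apply Subtype.ext
        simp [hc]
      rw [this, orderOf_one] at hz
      omega
    have hg3 : g ^ 3 ∈ Subgroup.center (SpecialLinearGroup (Fin 3) F) := by
      rw [← QuotientGroup.eq_one_iff, QuotientGroup.mk_pow]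
      exact orderOf_dvd_iff_pow_eq_one.1 (by rw [hz])
    obtain ⟨c, -, hc⟩ := Matrix.SpecialLinearGroup.mem_center_iff.1 hg3
    have hc3 : (g : Matrix (Fin 3) (Fin 3) F) ^ 3 = c • 1 := by
      simpa [Matrix.smul_one_eq_diagonal] using hc.symm
    have : c = 1 := cube_one hF _ g.2 c hc3
    subst this
    obtain ⟨P, hP⟩ := conj_diag hF e he he0 _ (by simpa using hc3) g.2 hns
    exact ⟨g, P, rfl, hP⟩
  obtain ⟨g, P, rfl, hP⟩ := key x hx
  obtain ⟨h, Q, rfl, hQ⟩ := key y hy
  rw [isConj_iff]
  refine ⟨QuotientGroup.mk (Q * P⁻¹), ?_⟩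
  rw [← QuotientGroup.mk_inv, ← QuotientGroup.mk_mul, ← QuotientGroup.mk_mul]
  congr 1
  have h1 : g * P * (P⁻¹ * g * P)⁻¹ = P := by group
  have e1 : P⁻¹ * g * P = Q⁻¹ * h * Q := by
    apply Subtype.ext
    simp only [Matrix.SpecialLinearGroup.coe_mul]
    rw [mul_assoc, hP, mul_assoc, hQ, ← mul_assoc, ← mul_assoc, ← Matrix.SpecialLinearGroup.coe_mul, ← Matrix.SpecialLinearGroup.coe_mul]
    simp
  calc Q * P⁻¹ * g * (Q * P⁻¹)⁻¹ = Q * (P⁻¹ * g * P) * Q⁻¹ := by group
    _ = h := by rw [e1]; group

end CfsgLib.KnownB.PSLThreeFour
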