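import Mathlib

/-!
Quadratic forms of plus type over the field with two elements: any two Sylow 2-subgroups of the isometry group
meet non-trivially.

Plus type is recorded as "more than half of the vectors are singular". A Sylow subgroup fixes a singular point `e`
and contains the normal 2-subgroup of `Stab e` of the elements trivial on `e⊥ / e`; two perpendicular fixed points
give a common root element, two opposite ones reduce to the orthogonal complement of the hyperbolic pair.
-/

set_option autoImplicit false

namespace CfsgLib.KnownB.PlusSylowMeet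

universe u v

variable {F : Type u} [Field F] {V : Type v} [AddCommGroup V] [Module F V]

/-- The polar form. -/
def pol (q : V → F) (x y : V) : F := q (x + y) - q x - q y

/-- The isometry group. -/
def Iso (q : V → F) : Subgroup (V ≃ₗ[F] V) where
  carrier := {g | ∀ x, q (g x) = q x}
  mul_mem' {g h} hg hh := fun x => by
    show q (g (h x)) = q x
    rw [hg, hh]
  one_mem' := fun x => rfl
  inv_mem' {g} hg := fun x => by
    have := hg (g.symm x)
    rw [LinearEquiv.apply_symm_apply] at this
    exact this.symm

/-- A non-degenerate plus type form over a field with two elements. -/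
structure Data (q : V → F) : Prop where
  two : ∀ c : F, c = 0 ∨ c = 1
  char : (1 : F) + 1 = 0
  add_left : ∀ x y z, pol q (x + y) z = pol q x z + pol q y z
  nondeg : ∀ x, (∀ y, pol q x y = 0) → x = 0
  big : Nat.card V < 2 * Nat.card {x : V // q x = 0}

variable {q : V → F}

namespace Data

theorem addSelfF (d : Data q) (c : F) : c + c = 0 := by rw [← two_mul, ← one_add_one_eq_two, d.char, zero_mul]

theorem negF (d : Data q) (c : F) : -c = c := neg_eq_of_add_eq_zero_left (d.addSelfF c)

theorem addSelfV (d : Data q) (x : V) : x + x = 0 := by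
  rw [← two_smul F x, ← one_add_one_eq_two, d.char, zero_smul]

theorem q_zero (d : Data q) : q 0 = 0 := by
  have h := d.add_left 0 0 0
  simp [pol] at h
  exact h

theorem q_add (_d : Data q) (x y : V) : q (x + y) = q x + q y + pol q x y := by rw [pol]; ring

theorem symm (_d : Data q) (x y : V) : pol q x y = pol q y x := by rw [pol, pol, add_comm x y]; ring

theorem add_right (d : Data q) (x y z : V) : pol q x (y + z) = pol q x y + pol q x z := by
  rw [d.symm, d.add_left, d.symm y, d.symm z]

theorem zero_left (d : Data q) (x : V) : pol q 0 x = 0 := by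
  have := d.add_left 0 0 x
  simpa using this

theorem smul_left (d : Data q) (c : F) (x y : V) : pol q (c • x) y = c * pol q x y := by
  rcases d.two c with rfl | rfl <;> simp [d.zero_left]

theorem smul_right (d : Data q) (c : F) (x y : V) : pol q x (c • y) = c * pol q x y := by
  rw [d.symm, d.smul_left, d.symm]

theorem alt (d : Data q) (x : V) : pol q x x = 0 := by
  have h := d.q_zero
  rw [pol, d.addSelfV, h, zero_sub, sub_eq_add_neg, ← neg_add, d.addSelfF, neg_zero]

theorem q_smul (d : Data q) (c : F) (x : V) : q (c • x) = c * q x := by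
  rcases d.two c with rfl | rfl <;> simp [d.q_zero]

theorem sq (d : Data q) (c : F) : c * c = c := by rcases d.two c with rfl | rfl <;> simp

end Data

theorem pol_map {g : V ≃ₗ[F] V} (hg : g ∈ Iso q) (x y : V) : pol q (g x) (g y) = pol q x y := by
  rw [pol, pol, ← map_add, hg, hg, hg]

/-- The Siegel element. -/
def siegelFun (q : V → F) (e u x : V) : V := x + (pol q x u + q u * pol q x e) • e + pol q x e • u

variable {e u : V}

theorem siegelFun_add (d : Data q) (x y : V) :
    siegelFun q e u (x + y) = siegelFun q e u x + siegelFun q e u y := by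
  simp only [siegelFun, d.add_left, mul_add, add_smul]
  abel

theorem pol_siegel_e (d : Data q) (he : q e = 0) (hue : pol q u e = 0) (x : V) :
    pol q (siegelFun q e u x) e = pol q x e := by
  simp only [siegelFun, d.add_left, d.smul_left, d.alt, hue, mul_zero, add_zero]

theorem pol_siegel_u (d : Data q) (hue : pol q u e = 0) (x : V) :
    pol q (siegelFun q e u x) u = pol q x u := by
  simp only [siegelFun, d.add_left, d.smul_left, d.alt, d.symm e u, hue, mul_zero, add_zero]

theorem siegelFun_siegelFun (d : Data q) (he : q e = 0) (hue : pol q u e = 0) (x : V) :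
    siegelFun q e u (siegelFun q e u x) = x := by
  conv_lhs => rw [siegelFun, pol_siegel_e d he hue, pol_siegel_u d hue]
  rw [siegelFun]
  have h1 := d.addSelfV ((pol q x u + q u * pol q x e) • e)
  have h2 := d.addSelfV (pol q x e • u)
  calc _ = x + ((pol q x u + q u * pol q x e) • e + (pol q x u + q u * pol q x e) • e) +
        (pol q x e • u + pol q x e • u) := by abel
    _ = x := by rw [h1, h2, add_zero, add_zero]

/-- The Siegel element as an isometry. -/
def siegel (d : Data q) (he : q e = 0) (hue : pol q u e = 0) : Iso q :=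
  ⟨{ toFun := siegelFun q e u
     invFun := siegelFun q e u
     left_inv := siegelFun_siegelFun d he hue
     right_inv := siegelFun_siegelFun d he hue
     map_add' := siegelFun_add d
     map_smul' := fun c x => by
       rcases d.two c with rfl | rfl
       · simp [siegelFun, d.zero_left]
       · simp },
    fun x => by
      show q (siegelFun q e u x) = q x
      simp only [siegelFun, d.q_add, d.q_smul, d.add_left, d.smul_left, d.smul_right, he, d.symm e u, hue,
        mul_zero, add_zero]
      have h1 := d.sq (pol q x e)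
      have h2 := d.addSelfF (pol q x e * q u)
      have h3 := d.addSelfF (pol q x e * pol q x u)
      linear_combination h3 + h2 + q u * h1⟩

/-- The normal 2-subgroup of the stabiliser of `e`. -/
def Rad (d : Data q) (e : V) : Subgroup (Iso q) where
  carrier := {g | g.1 e = e ∧ ∀ x, pol q x e = 0 → ∃ c : F, g.1 x = x + c • e}
  one_mem' := ⟨rfl, fun x _ => ⟨0, by simp⟩⟩
  mul_mem' {g h} hg hh := by
    refine ⟨?_, fun x hx => ?_⟩
    · show g.1 (h.1 e) = e
      rw [hh.1, hg.1]
    · obtain ⟨c, hc⟩ := hh.2 x hx
      obtain ⟨c', hc'⟩ := hg.2 x hx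
      refine ⟨c' + c, ?_⟩
      show g.1 (h.1 x) = _
      rw [hc, map_add, map_smul, hg.1, hc', add_smul, add_assoc]
  inv_mem' {g} hg := by
    have he : g.1.symm e = e := g.1.symm_apply_eq.2 hg.1.symm
    refine ⟨he, fun x hx => ?_⟩
    obtain ⟨c, hc⟩ := hg.2 x hx
    refine ⟨c, ?_⟩
    show g.1.symm x = _
    rw [g.1.symm_apply_eq, map_add, map_smul, hg.1, hc, add_assoc, ← add_smul, d.addSelfF, zero_smul, add_zero]

theorem siegel_mem_rad (d : Data q) (he : q e = 0) (hue : pol q u e = 0) :
    siegel d he hue ∈ Rad d e := by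
  refine ⟨?_, fun x hx => ⟨pol q x u, ?_⟩⟩
  · show siegelFun q e u e = e
    simp [siegelFun, d.alt, d.symm e u, hue]
  · show siegelFun q e u x = _
    simp [siegelFun, hx]

theorem isPGroup_rad (d : Data q) (he0 : e ≠ 0) : IsPGroup 2 (Rad d e) := by
  intro g
  refine ⟨2, ?_⟩
  obtain ⟨f, hf⟩ : ∃ f, pol q e f = 1 := by
    by_contra h
    push Not at h
    exact he0 (d.nondeg e fun y => (d.two _).resolve_right (h y))
  set γ : V ≃ₗ[F] V := g.1.1 with hγ
  have hge : γ e = e := g.2.1
  have hstep : ∀ x, ∃ ν : F, γ (γ x) = x + ν • e := by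
    intro x
    have hx : pol q (x + pol q x e • f) e = 0 := by
      rw [d.add_left, d.smul_left, d.symm f e, hf, mul_one, d.addSelfF]
    have hw : pol q (γ f + f) e = 0 := by
      rw [d.add_left]
      conv_lhs => arg 1; rw [← hge]
      rw [pol_map g.1.2, d.addSelfF]
    obtain ⟨c, hc⟩ := g.2.2 _ hx
    obtain ⟨μ, hμ⟩ := g.2.2 _ hw
    change γ (x + pol q x e • f) = _ at hc
    change γ (γ f + f) = _ at hμ
    have h1 : γ (γ (x + pol q x e • f)) = x + pol q x e • f + (c + c) • e := by
      rw [hc, map_add, map_smul, hge, hc, add_smul, add_assoc]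
    have h2 : γ (γ f) = f + μ • e := by
      rw [map_add] at hμ
      calc γ (γ f) = γ (γ f) + γ f + γ f := by rw [add_assoc, d.addSelfV, add_zero]
        _ = f + μ • e + (γ f + γ f) := by rw [hμ]; abel
        _ = f + μ • e := by rw [d.addSelfV, add_zero]
    refine ⟨pol q x e * μ, ?_⟩
    rw [d.addSelfF, zero_smul, add_zero, map_add, map_add, map_smul, map_smul, h2] at h1
    calc γ (γ x) = γ (γ x) + pol q x e • (f + μ • e) + pol q x e • (f + μ • e) := by
          rw [add_assoc, d.addSelfV, add_zero]
      _ = x + (pol q x e * μ) • e + (pol q x e • f + pol q x e • f) := by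
          rw [h1, smul_add, smul_smul]; abel
      _ = _ := by rw [d.addSelfV, add_zero]
  apply Subtype.ext
  apply Subtype.ext
  refine LinearEquiv.ext fun x => ?_
  show (γ ^ 4) x = x
  obtain ⟨ν, hν⟩ := hstep x
  show γ (γ (γ (γ x))) = x
  rw [hν, map_add, map_add, map_smul, map_smul, hge, hge, hν, add_assoc, ← add_smul, d.addSelfF, zero_smul,
    add_zero]

/-! ### The orthogonal complement of a hyperbolic pair -/

/-- The complement of a hyperbolic pair. -/
def perp (d : Data q) (e f : V) : Submodule F V where
  carrier := {x | pol q x e = 0 ∧ pol q x f = 0}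
  zero_mem' := ⟨d.zero_left e, d.zero_left f⟩
  add_mem' {x y} hx hy := ⟨by rw [d.add_left, hx.1, hy.1, add_zero], by rw [d.add_left, hx.2, hy.2, add_zero]⟩
  smul_mem' c x hx := ⟨by rw [d.smul_left, hx.1, mul_zero], by rw [d.smul_left, hx.2, mul_zero]⟩

variable {f : V}

/-- A hyperbolic pair. -/
structure Pair (q : V → F) (e f : V) : Prop where
  qe : q e = 0
  qf : q f = 0
  pair : pol q e f = 1

theorem comp_mem (d : Data q) (h : Pair q e f) (x : V) : x + pol q x f • e + pol q x e • f ∈ perp d e f := by
  refine ⟨?_, ?_⟩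
  · rw [d.add_left, d.add_left, d.smul_left, d.smul_left, d.alt, d.symm f e, h.pair, mul_zero, add_zero, mul_one,
      d.addSelfF]
  · rw [d.add_left, d.add_left, d.smul_left, d.smul_left, d.alt, h.pair, mul_zero, add_zero, mul_one, d.addSelfF]

/-- `V = ⟨e, f⟩ ⊕ ⟨e, f⟩⊥`. -/
def split (d : Data q) (h : Pair q e f) : V ≃ₗ[F] (F × F) × perp d e f where
  toFun x := ((pol q x f, pol q x e), ⟨_, comp_mem d h x⟩)
  invFun p := p.1.1 • e + p.1.2 • f + (p.2 : V)
  map_add' x y := by
    refine Prod.ext (Prod.ext (d.add_left x y f) (d.add_left x y e)) (Subtype.ext ?_)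
    simp only [Prod.snd_add, Submodule.coe_add, d.add_left, add_smul]
    abel
  map_smul' c x := by
    refine Prod.ext (Prod.ext (d.smul_left c x f) (d.smul_left c x e)) (Subtype.ext ?_)
    simp only [RingHom.id_apply, Prod.smul_snd, SetLike.val_smul, d.smul_left, smul_add, smul_smul]
  left_inv x := by
    show pol q x f • e + pol q x e • f + (x + pol q x f • e + pol q x e • f) = x
    calc _ = x + (pol q x f • e + pol q x f • e) + (pol q x e • f + pol q x e • f) := by abel
      _ = x := by rw [d.addSelfV, d.addSelfV, add_zero, add_zero]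
  right_inv := by
    rintro ⟨⟨a, c⟩, w, hwe, hwf⟩
    have hf : pol q (a • e + c • f + w) f = a := by
      rw [d.add_left, d.add_left, d.smul_left, d.smul_left, d.alt, h.pair, hwf]; simp
    have he : pol q (a • e + c • f + w) e = c := by
      rw [d.add_left, d.add_left, d.smul_left, d.smul_left, d.alt, d.symm f e, h.pair, hwe]; simp
    refine Prod.ext (Prod.ext hf he) (Subtype.ext ?_)
    show a • e + c • f + w + pol q (a • e + c • f + w) f • e + pol q (a • e + c • f + w) e • f = w
    rw [hf, he]
    calc _ = w + (a • e + a • e) + (c • f + c • f) := by abel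
      _ = w := by rw [d.addSelfV, d.addSelfV, add_zero, add_zero]

theorem q_split_symm (d : Data q) (h : Pair q e f) (p : (F × F) × perp d e f) :
    q ((split d h).symm p) = p.1.1 * p.1.2 + q (p.2 : V) := by
  show q (p.1.1 • e + p.1.2 • f + (p.2 : V)) = _
  have h1 : pol q e (p.2 : V) = 0 := by rw [d.symm]; exact p.2.2.1
  have h2 : pol q f (p.2 : V) = 0 := by rw [d.symm]; exact p.2.2.2
  simp only [d.q_add, d.q_smul, d.add_left, d.smul_left, d.smul_right, h.qe, h.qf, h.pair, h1, h2, mul_zero,
    mul_one, add_zero, zero_add]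

theorem card_field [Finite F] (d : Data q) (h : F → ℕ) [Fintype F] : ∑ c : F, h c = h 0 + h 1 := by
  classical
  rw [show (Finset.univ : Finset F) = {0, 1} from Finset.ext fun c => by simpa using d.two c,
    Finset.sum_pair zero_ne_one]

theorem card_singular [Finite V] [Finite F] (d : Data q) (h : Pair q e f) :
    Nat.card {x : V // q x = 0} = Nat.card (perp d e f) + 2 * Nat.card {w : perp d e f // q (w : V) = 0} := by
  classical
  haveI := Fintype.ofFinite F
  haveI := Fintype.ofFinite V
  let e1 : {x : V // q x = 0} ≃ {p : (F × F) × perp d e f // p.1.1 * p.1.2 + q (p.2 : V) = 0} :=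
    (split d h).toEquiv.subtypeEquiv fun x => by
      rw [← q_split_symm d h]
      simp
  rw [Nat.card_congr (e1.trans (Equiv.subtypeProdEquivSigmaSubtype
    (fun (c : F × F) (w : perp d e f) => c.1 * c.2 + q (w : V) = 0))), Nat.card_sigma, Fintype.sum_prod_type,
    card_field d, card_field d, card_field d]
  simp only [mul_zero, zero_mul, zero_add, mul_one]
  have hc : Nat.card {w : perp d e f // q (w : V) = 0} + Nat.card {w : perp d e f // 1 + q (w : V) = 0} =
      Nat.card (perp d e f) := by
    rw [← Nat.card_sum]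
    refine Nat.card_congr (Equiv.trans (Equiv.sumCongr (Equiv.refl _) (Equiv.subtypeEquivRight fun w => ?_))
      (Equiv.sumCompl fun w : perp d e f => q (w : V) = 0))
    rcases d.two (q (w : V)) with hw | hw <;> simp [hw, d.char]
  omega

theorem card_split [Finite V] [Finite F] (d : Data q) (h : Pair q e f) :
    Nat.card V = 4 * Nat.card (perp d e f) := by
  classical
  haveI := Fintype.ofFinite F
  have hF : Nat.card F = 2 := by
    rw [Nat.card_eq_fintype_card, Fintype.card_eq_sum_ones]
    exact card_field d _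
  rw [Nat.card_congr (split d h).toEquiv, Nat.card_prod, Nat.card_prod, hF]

theorem data_perp [Finite V] [Finite F] (d : Data q) (h : Pair q e f) :
    Data (fun w : perp d e f => q (w : V)) where
  two := d.two
  char := d.char
  add_left x y z := d.add_left (x : V) (y : V) (z : V)
  nondeg x hx := by
    refine Subtype.ext (d.nondeg (x : V) fun y => ?_)
    obtain ⟨p, rfl⟩ := (split d h).symm.surjective y
    show pol q (x : V) (p.1.1 • e + p.1.2 • f + (p.2 : V)) = 0
    rw [d.add_right, d.add_right, d.smul_right, d.smul_right, x.2.1, x.2.2, mul_zero, mul_zero, zero_add, zero_add]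
    exact hx p.2
  big := by
    have h1 := d.big
    rw [card_singular d h, card_split d h] at h1
    omega

theorem exists_pair (d : Data q) {e : V} (he : q e = 0) (he0 : e ≠ 0) : ∃ f, Pair q e f := by
  obtain ⟨f, hf⟩ : ∃ f, pol q e f = 1 := by
    by_contra h
    push Not at h
    exact he0 (d.nondeg e fun y => (d.two _).resolve_right (h y))
  refine ⟨f + q f • e, he, ?_, by rw [d.add_right, d.smul_right, d.alt, hf, mul_zero, add_zero]⟩
  rw [d.q_add, d.q_smul, he, d.smul_right, d.symm f e, hf, mul_zero, add_zero, mul_one, d.addSelfF]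

theorem even_card [Finite F] [Finite V] [Nontrivial V] (d : Data q) : 2 ∣ Nat.card V := by
  classical
  haveI := Fintype.ofFinite F
  have hF : Nat.card F = 2 := by
    rw [Nat.card_eq_fintype_card, Fintype.card_eq_sum_ones]
    exact card_field d _
  rw [Module.natCard_eq_pow_finrank (K := F), hF]
  exact dvd_pow_self 2 (Module.finrank_pos (R := F) (M := V)).ne'

/-- The elements fixing `e` and `f`. -/
def pairStab (q : V → F) (e f : V) : Subgroup (Iso q) where
  carrier := {g | g.1 e = e ∧ g.1 f = f}
  one_mem' := ⟨rfl, rfl⟩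
  mul_mem' {g h} hg hh := ⟨by show g.1 (h.1 e) = e; rw [hh.1, hg.1], by show g.1 (h.1 f) = f; rw [hh.2, hg.2]⟩
  inv_mem' {g} hg := ⟨g.1.symm_apply_eq.2 hg.1.symm, g.1.symm_apply_eq.2 hg.2.symm⟩

theorem pairStab_equiv (d : Data q) (h : Pair q e f) :
    Nonempty (pairStab q e f ≃* Iso (fun w : perp d e f => q (w : V))) := by
  have hmem : ∀ (g : pairStab q e f) (w : V), w ∈ perp d e f → g.1.1 w ∈ perp d e f := fun g w hw => by
    refine ⟨?_, ?_⟩
    · have := pol_map g.1.2 w e
      rw [g.2.1] at this
      rw [this]; exact hw.1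
    · have := pol_map g.1.2 w f
      rw [g.2.2] at this
      rw [this]; exact hw.2
  have hmem' : ∀ (g : pairStab q e f) (w : V), w ∈ perp d e f → g.1.1.symm w ∈ perp d e f := fun g w hw =>
    hmem g⁻¹ w hw
  let res : pairStab q e f →* Iso (fun w : perp d e f => q (w : V)) :=
    MonoidHom.mk' (fun g => ⟨{ toFun := fun w => ⟨g.1.1 w.1, hmem g _ w.2⟩
                               invFun := fun w => ⟨g.1.1.symm w.1, hmem' g _ w.2⟩
                               left_inv := fun w => Subtype.ext (g.1.1.symm_apply_apply _)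
                               right_inv := fun w => Subtype.ext (g.1.1.apply_symm_apply _)
                               map_add' := fun a b => Subtype.ext (map_add g.1.1 _ _)
                               map_smul' := fun c a => Subtype.ext (map_smul g.1.1 _ _) },
        fun w => g.1.2 w.1⟩)
      fun a b => Subtype.ext (LinearEquiv.ext fun w => Subtype.ext rfl)
  refine ⟨MulEquiv.ofBijective res ⟨?_, ?_⟩⟩
  · intro a b hab
    apply Subtype.ext
    apply Subtype.ext
    refine LinearEquiv.ext fun x => ?_
    obtain ⟨p, rfl⟩ := (split d h).symm.surjective x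
    have hw : a.1.1 (p.2 : V) = b.1.1 (p.2 : V) :=
      congrArg Subtype.val (LinearEquiv.congr_fun (congrArg Subtype.val hab) p.2)
    show a.1.1 (p.1.1 • e + p.1.2 • f + (p.2 : V)) = b.1.1 (p.1.1 • e + p.1.2 • f + (p.2 : V))
    rw [map_add, map_add, map_add, map_add, map_smul, map_smul, map_smul, map_smul, a.2.1, b.2.1, a.2.2, b.2.2,
      hw]
  · intro k
    set γ : V ≃ₗ[F] V :=
      ((split d h).trans ((LinearEquiv.refl F (F × F)).prodCongr k.1)).trans (split d h).symm with hγ
    have hγs : ∀ p : (F × F) × perp d e f, γ ((split d h).symm p) = (split d h).symm (p.1, k.1 p.2) :=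
      fun p => by simp [hγ, Prod.swap]
    have hγi : γ ∈ Iso q := fun x => by
      obtain ⟨p, rfl⟩ := (split d h).symm.surjective x
      rw [hγs, q_split_symm d h, q_split_symm d h]
      exact congrArg (p.1.1 * p.1.2 + ·) (k.2 p.2)
    have hee : (split d h).symm ((1, 0), 0) = e := by simp [split]
    have hff : (split d h).symm ((0, 1), 0) = f := by simp [split]
    have hge : γ e = e := by
      conv_lhs => rw [← hee]
      rw [hγs, map_zero, hee]
    have hgf : γ f = f := by
      conv_lhs => rw [← hff]
      rw [hγs, map_zero, hff]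
    refine ⟨⟨⟨γ, hγi⟩, hge, hgf⟩, Subtype.ext (LinearEquiv.ext fun w => Subtype.ext ?_)⟩
    show γ (w : V) = (k.1 w : V)
    have hw : (split d h).symm ((0, 0), w) = (w : V) := by simp [split]
    conv_lhs => rw [← hw]
    rw [hγs]
    simp [split]

/-- The radical of a fixed point lies in the Sylow subgroup. -/
theorem rad_le [Finite V] (d : Data q) (he0 : e ≠ 0) (S : Sylow 2 (Iso q))
    (hfix : ∀ g ∈ (S : Subgroup (Iso q)), g.1 e = e) : Rad d e ≤ (S : Subgroup (Iso q)) := by
  have hconj : ∀ g : Iso q, g.1 e = e → ∀ r ∈ Rad d e, g * r * g⁻¹ ∈ Rad d e := by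
    intro g hge r hr
    have hgi : g.1.symm e = e := g.1.symm_apply_eq.2 hge.symm
    refine ⟨?_, fun x hx => ?_⟩
    · show g.1 (r.1 (g.1.symm e)) = e
      rw [hgi, hr.1, hge]
    · have hx' : pol q (g.1.symm x) e = 0 := by
        rw [← pol_map g.2, LinearEquiv.apply_symm_apply, hge]; exact hx
      obtain ⟨c, hc⟩ := hr.2 _ hx'
      refine ⟨c, ?_⟩
      show g.1 (r.1 (g.1.symm x)) = _
      rw [hc, map_add, map_smul, LinearEquiv.apply_symm_apply, hge]
  have hnorm : (S : Subgroup (Iso q)) ≤ Subgroup.normalizer (Rad d e : Set (Iso q)) := fun g hg =>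
    Subgroup.mem_normalizer_iff.2 fun r => ⟨hconj g (hfix g hg) r, fun hr => by
      have := hconj g⁻¹ (hfix _ (inv_mem hg)) _ hr
      rwa [show g⁻¹ * (g * r * g⁻¹) * g⁻¹⁻¹ = r by group] at this⟩
  calc Rad d e ≤ Rad d e ⊔ (S : Subgroup (Iso q)) := le_sup_left
    _ = _ := S.3 ((isPGroup_rad d he0).to_sup_of_normal_left' S.2 hnorm) le_sup_right

/-- A Sylow subgroup fixing `e` induces a Sylow subgroup on the complement of a pair `e, f`. -/
theorem sylow_pairStab [Finite V] (d : Data q) (he0 : e ≠ 0) (h : Pair q e f) (S : Sylow 2 (Iso q))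
    (hfix : ∀ g ∈ (S : Subgroup (Iso q)), g.1 e = e) :
    ∃ P : Sylow 2 (pairStab q e f), (P : Subgroup (pairStab q e f)).map (pairStab q e f).subtype ≤ S := by
  have hR := rad_le d he0 S hfix
  obtain ⟨P, hP⟩ := (S.2.comap_subtype (K := pairStab q e f)).exists_le_sylow
  refine ⟨P, ?_⟩
  -- every element of `S` is a radical element times an element of `S ∩ pairStab`
  have hdec : ∀ s ∈ (S : Subgroup (Iso q)), ∃ r ∈ Rad d e, r⁻¹ * s ∈ pairStab q e f := by
    intro s hs
    obtain ⟨⟨⟨a, c⟩, w⟩, hp⟩ := (split d h).symm.surjective (s.1 f)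
    have hc : c = 1 := by
      have h1 := pol_map s.2 e f
      rw [hfix s hs, h.pair, ← hp] at h1
      change pol q e (a • e + c • f + (w : V)) = 1 at h1
      rw [d.add_right, d.add_right, d.smul_right, d.smul_right, d.alt, h.pair, d.symm e (w : V), w.2.1] at h1
      simpa using h1
    subst hc
    have ha : a = q (w : V) := by
      have h1 := s.2 f
      rw [h.qf, ← hp, q_split_symm d h, mul_one] at h1
      rw [← d.negF (q (w : V))]
      exact eq_neg_of_add_eq_zero_left h1
    refine ⟨siegel d h.qe w.2.1, siegel_mem_rad d _ _, ?_, ?_⟩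
    · show (siegel d h.qe w.2.1).1.symm (s.1 e) = e
      rw [hfix s hs]
      exact ((siegel d h.qe w.2.1).1.symm_apply_eq).2 (siegel_mem_rad d h.qe w.2.1).1.symm
    · show (siegel d h.qe w.2.1).1.symm (s.1 f) = f
      rw [(siegel d h.qe w.2.1).1.symm_apply_eq]
      show s.1 f = siegelFun q e (w : V) f
      rw [← hp, siegelFun]
      show a • e + (1 : F) • f + (w : V) = _
      rw [d.symm f (w : V), w.2.2, d.symm f e, h.pair, ha, one_smul, one_smul, zero_add, mul_one]
      abel
  set Q := (P : Subgroup (pairStab q e f)).map (pairStab q e f).subtype with hQ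
  have hnorm : Q ≤ Subgroup.normalizer (Rad d e : Set (Iso q)) := by
    rintro _ ⟨g, -, rfl⟩
    have key : ∀ g : pairStab q e f, ∀ r ∈ Rad d e, (g : Iso q) * r * (g : Iso q)⁻¹ ∈ Rad d e := by
      intro g r hr
      have hge := g.2.1
      have hgi : g.1.1.symm e = e := g.1.1.symm_apply_eq.2 hge.symm
      refine ⟨?_, fun x hx => ?_⟩
      · show g.1.1 (r.1 (g.1.1.symm e)) = e
        rw [hgi, hr.1, hge]
      · have hx' : pol q (g.1.1.symm x) e = 0 := by
          rw [← pol_map g.1.2, LinearEquiv.apply_symm_apply, hge]; exact hx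
        obtain ⟨c, hc⟩ := hr.2 _ hx'
        refine ⟨c, ?_⟩
        show g.1.1 (r.1 (g.1.1.symm x)) = _
        rw [hc, map_add, map_smul, LinearEquiv.apply_symm_apply, hge]
    refine Subgroup.mem_normalizer_iff.2 fun r => ⟨key g r, fun hr => ?_⟩
    have := key g⁻¹ _ hr
    rwa [Subgroup.coe_inv, Subgroup.subtype_apply,
      show (g : Iso q)⁻¹ * ((g : Iso q) * r * (g : Iso q)⁻¹) * (g : Iso q)⁻¹⁻¹ = r by group] at this
  have hle : (S : Subgroup (Iso q)) ≤ Rad d e ⊔ Q := fun s hs => by
    obtain ⟨r, hr, hrs⟩ := hdec s hs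
    rw [show s = r * (r⁻¹ * s) by group]
    refine mul_mem (Subgroup.mem_sup_left hr) (Subgroup.mem_sup_right ⟨⟨_, hrs⟩, hP ?_, rfl⟩)
    exact Subgroup.mem_subgroupOf.2 (mul_mem (inv_mem (hR hr)) hs)
  rw [← S.3 ((isPGroup_rad d he0).to_sup_of_normal_left' (P.2.map _) hnorm) hle]
  exact le_sup_right

variable [Finite F]

theorem exists_fixed [Finite V] (d : Data q) {e f : V} (h : Pair q e f) (hW : Nontrivial (perp d e f))
    (S : Sylow 2 (Iso q)) : ∃ x : V, x ≠ 0 ∧ q x = 0 ∧ ∀ g ∈ (S : Subgroup (Iso q)), g.1 x = x := by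
  classical
  let X := {x : V // x ≠ 0 ∧ q x = 0}
  have hodd : ¬ 2 ∣ Nat.card X := by
    have h1 : Nat.card X + 1 = Nat.card {x : V // q x = 0} := by
      have e1 : Option X ≃ {x : V // q x = 0} :=
        { toFun := fun o => o.elim ⟨0, d.q_zero⟩ fun x => ⟨x.1, x.2.2⟩
          invFun := fun x => if hx : x.1 = 0 then none else some ⟨x.1, hx, x.2⟩
          left_inv := fun o => by
            cases o with
            | none => simp
            | some x => simp [x.2.1]
          right_inv := fun x => by
            by_cases hx : x.1 = 0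
            · simp only [hx, dite_true, Option.elim_none]
              exact Subtype.ext hx.symm
            · simp [hx] }
      rw [← Nat.card_congr e1, Finite.card_option]
    rw [card_singular d h] at h1
    obtain ⟨k, hk⟩ := even_card (data_perp d h)
    omega
  letI : MulAction (S : Subgroup (Iso q)) X :=
    { smul := fun g x => ⟨g.1.1 x.1, fun h0 => x.2.1 (by simpa using h0), by rw [g.1.2]; exact x.2.2⟩
      one_smul := fun x => rfl
      mul_smul := fun a b x => rfl }
  haveI : Fact (Nat.Prime 2) := ⟨Nat.prime_two⟩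
  obtain ⟨x, hx⟩ := S.2.nonempty_fixed_point_of_prime_not_dvd_card X hodd
  exact ⟨x.1, x.2.1, x.2.2, fun g hg => congrArg Subtype.val (hx ⟨g, hg⟩)⟩

theorem meet_base [Finite V] (d : Data q) {e f : V} (h : Pair q e f) (hW : ∀ w : perp d e f, w = 0)
    (S T : Sylow 2 (Iso q)) : ∃ z, z ∈ (S : Subgroup (Iso q)) ∧ z ∈ (T : Subgroup (Iso q)) ∧ z ≠ 1 := by
  haveI : Fact (Nat.Prime 2) := ⟨Nat.prime_two⟩
  have hpts : ∀ x : V, x ≠ 0 → q x = 0 → x = e ∨ x = f := by
    intro x hx hq
    obtain ⟨⟨⟨a, c⟩, w⟩, rfl⟩ := (split d h).symm.surjective x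
    rw [q_split_symm d h, hW w] at hq
    simp only [Submodule.coe_zero, d.q_zero, add_zero] at hq
    have hw : (w : V) = 0 := by rw [hW w]; rfl
    rcases d.two a with rfl | rfl <;> rcases d.two c with rfl | rfl
    · exact absurd (by simp [split, hw]) hx
    · right; simp [split, hw]
    · left; simp [split, hw]
    · simp at hq
  have he0 : e ≠ 0 := fun h0 => by
    have := h.pair
    rw [h0, d.zero_left] at this
    exact zero_ne_one this
  have hf0 : f ≠ 0 := fun h0 => by
    have := h.pair
    rw [h0, d.symm, d.zero_left] at this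
    exact zero_ne_one this
  have hne : e ≠ f := fun h0 => by
    have := h.pair
    rw [h0, d.alt] at this
    exact zero_ne_one this
  have hperm : ∀ g : Iso q, (g.1 e = e ∧ g.1 f = f) ∨ (g.1 e = f ∧ g.1 f = e) := by
    intro g
    have h1 := hpts (g.1 e) (fun h0 => he0 (by simpa using h0)) (by rw [g.2, h.qe])
    have h2 := hpts (g.1 f) (fun h0 => hf0 (by simpa using h0)) (by rw [g.2, h.qf])
    have h3 : g.1 e ≠ g.1 f := g.1.injective.ne hne
    rcases h1 with h1 | h1 <;> rcases h2 with h2 | h2
    · exact absurd (h1.trans h2.symm) h3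
    · exact Or.inl ⟨h1, h2⟩
    · exact Or.inr ⟨h1, h2⟩
    · exact absurd (h1.trans h2.symm) h3
  have hsq : ∀ g : Iso q, g * g = 1 := fun g => by
    refine Subtype.ext (LinearEquiv.ext fun x => ?_)
    obtain ⟨⟨⟨a, c⟩, w⟩, rfl⟩ := (split d h).symm.surjective x
    have hw : (w : V) = 0 := by rw [hW w]; rfl
    show g.1 (g.1 (a • e + c • f + (w : V))) = a • e + c • f + (w : V)
    rw [hw, add_zero]
    rcases hperm g with ⟨h1, h2⟩ | ⟨h1, h2⟩ <;> simp [h1, h2]
  have htop : IsPGroup 2 (⊤ : Subgroup (Iso q)) := fun g => ⟨1, by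
    rw [pow_one, pow_two]
    exact Subtype.ext (hsq g.1)⟩
  set γ : V ≃ₗ[F] V :=
    ((split d h).trans ((LinearEquiv.prodComm F F F).prodCongr (LinearEquiv.refl F (perp d e f)))).trans
      (split d h).symm with hγ
  have hγs : ∀ p : (F × F) × perp d e f, γ ((split d h).symm p) = (split d h).symm ((p.1.2, p.1.1), p.2) :=
    fun p => by simp [hγ, Prod.swap]
  have hγi : γ ∈ Iso q := fun x => by
    obtain ⟨p, rfl⟩ := (split d h).symm.surjective x
    rw [hγs, q_split_symm d h, q_split_symm d h, mul_comm p.1.1]
  have hSt : ∀ S : Sylow 2 (Iso q), (S : Subgroup (Iso q)) = ⊤ := fun S => (S.3 htop le_top).symm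
  refine ⟨⟨γ, hγi⟩, by rw [hSt S]; trivial, by rw [hSt T]; trivial, fun h1 => hne ?_⟩
  have hee : (split d h).symm ((1, 0), 0) = e := by simp [split]
  have hff : (split d h).symm ((0, 1), 0) = f := by simp [split]
  have h2 := LinearEquiv.congr_fun (congrArg Subtype.val h1) e
  change γ e = e at h2
  rw [← hee, hγs, hff, hee] at h2
  exact h2.symm

theorem meet : ∀ (N : ℕ) {V : Type v} [AddCommGroup V] [Module F V] [Finite V] [Nontrivial V] {q : V → F},
    Nat.card V ≤ N → Data q → ∀ S T : Sylow 2 (Iso q),
      ∃ z, z ∈ (S : Subgroup (Iso q)) ∧ z ∈ (T : Subgroup (Iso q)) ∧ z ≠ 1 := by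
  intro N
  induction N with
  | zero =>
    intro V _ _ _ _ q hN
    exact absurd (Nat.card_pos (α := V)) (by omega)
  | succ N ih =>
    intro V _ _ _ _ q hN d S T
    have hbig := d.big
    obtain ⟨x, hx, hx0⟩ : ∃ x : V, q x = 0 ∧ x ≠ 0 := by
      by_contra hcon
      push Not at hcon
      have : Nat.card {x : V // q x = 0} ≤ 1 :=
        Finite.card_le_one_iff_subsingleton.2 ⟨fun a b => Subtype.ext ((hcon _ a.2).trans (hcon _ b.2).symm)⟩
      have := Finite.one_lt_card (α := V)
      omega
    obtain ⟨y, hxy⟩ := exists_pair d hx hx0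
    by_cases hW : Nontrivial (perp d x y)
    swap
    · haveI := not_nontrivial_iff_subsingleton.1 hW
      exact meet_base d hxy (fun w => Subsingleton.elim _ _) S T
    obtain ⟨e, he0, he, hSe⟩ := exists_fixed d hxy hW S
    obtain ⟨f, hf0, hf, hTf⟩ := exists_fixed d hxy hW T
    rcases d.two (pol q e f) with hef | hef
    · -- a common root element
      by_cases hsame : f = e
      · subst hsame
        obtain ⟨g, hg⟩ := exists_pair d he he0
        haveI : Nontrivial (perp d f g) := Finite.one_lt_card_iff_nontrivial.1 (by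
          have := Finite.one_lt_card (α := perp d x y)
          have := card_split d hg
          have := card_split d hxy
          omega)
        obtain ⟨⟨w, hwe, hwg⟩, hw0⟩ := exists_ne (0 : perp d f g)
        obtain ⟨u, hu, hu1⟩ : ∃ u : V, ∃ hu : pol q u f = 0, siegel d he hu ≠ 1 := by
          refine ⟨w, hwe, fun h1 => hw0 (Subtype.ext ?_)⟩
          have h2 := LinearEquiv.congr_fun (congrArg Subtype.val h1) g
          change siegelFun q f w g = g at h2
          rw [siegelFun, d.symm g f, hg.pair, d.symm g w, hwg, zero_add, mul_one, one_smul, add_assoc,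
            add_eq_left] at h2
          rcases d.two (q w) with hc | hc <;> rw [hc] at h2
          · simpa using h2
          · rw [one_smul] at h2
            have h3 : pol q (f + w) g = 0 := by rw [h2, d.zero_left]
            rw [d.add_left, hg.pair, hwg, add_zero] at h3
            exact absurd h3 one_ne_zero
        exact ⟨_, rad_le d hf0 S hSe (siegel_mem_rad d he hu), rad_le d hf0 T hTf (siegel_mem_rad d he hu), hu1⟩
      · have hfe : pol q f e = 0 := by rw [d.symm, hef]
        have heq : siegel d he hfe = siegel d hf hef := by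
          refine Subtype.ext (LinearEquiv.ext fun z => ?_)
          show siegelFun q e f z = siegelFun q f e z
          simp [siegelFun, he, hf]
          abel
        refine ⟨siegel d he hfe, rad_le d he0 S hSe (siegel_mem_rad d he hfe),
          heq ▸ rad_le d hf0 T hTf (siegel_mem_rad d hf hef), fun h1 => ?_⟩
        obtain ⟨g, hg⟩ := exists_pair d he he0
        have h2 := LinearEquiv.congr_fun (congrArg Subtype.val h1) g
        change siegelFun q e f g = g at h2
        rw [siegelFun, d.symm g e, hg.pair, hf, zero_mul, add_zero, one_smul, add_assoc,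
          add_eq_left] at h2
        rcases d.two (pol q g f) with hc | hc <;> rw [hc] at h2
        · simp at h2; exact hf0 h2
        · rw [one_smul] at h2
          exact hsame ((neg_eq_of_add_eq_zero_right h2).symm.trans (neg_eq_of_add_eq_zero_left (d.addSelfV e)))
    · -- opposite points
      have h : Pair q e f := ⟨he, hf, hef⟩
      have h' : Pair q f e := ⟨hf, he, by rw [d.symm, hef]⟩
      have hcard := card_split d h
      have hcard' := card_split d hxy
      haveI : Nontrivial (perp d e f) := Finite.one_lt_card_iff_nontrivial.1 (by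
        have := Finite.one_lt_card (α := perp d x y)
        omega)
      obtain ⟨A, hA⟩ := sylow_pairStab d he0 h S hSe
      obtain ⟨B, hB⟩ := sylow_pairStab d hf0 h' T hTf
      have hst : pairStab q f e = pairStab q e f := Subgroup.ext fun g => And.comm
      obtain ⟨B', hB'⟩ : ∃ B' : Sylow 2 (pairStab q e f),
          (B' : Subgroup (pairStab q e f)).map (pairStab q e f).subtype ≤ T := by
        revert B hB
        rw [hst]
        exact fun B hB => ⟨B, hB⟩
      obtain ⟨φ⟩ := pairStab_equiv d h
      obtain ⟨z, hzA, hzB, hz1⟩ := ih (by omega) (data_perp d h)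
        (A.comapOfInjective φ.symm.toMonoidHom φ.symm.injective (by simp))
        (B'.comapOfInjective φ.symm.toMonoidHom φ.symm.injective (by simp))
      refine ⟨(φ.symm z : pairStab q e f), hA ⟨φ.symm z, hzA, rfl⟩, hB' ⟨φ.symm z, hzB, rfl⟩, fun h1 => hz1 ?_⟩
      exact φ.symm.injective ((Subtype.ext h1).trans (map_one φ.symm).symm)

end CfsgLib.KnownB.PlusSylowMeet
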