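import Cfsg.Agent.Lib.KnownB.PrimeOrderClasses
import Cfsg.Agent.Lib.KnownB.UnitaryCharpoly

/-!
Characteristic polynomials of elements of prime order `r` in groups fixing a form: multiplicity functions on the
irreducible divisors of `X ^ r - 1`, and the twisted reversal of polynomials.
-/

set_option autoImplicit false
set_option linter.style.haveILetI false
set_option linter.unusedSectionVars false

namespace CfsgLib.KnownB.PrimeCharpoly

open Polynomial UniqueFactorizationMonoid CfsgLib.KnownB.Semisimple CfsgLib.KnownB.UnitaryCharpoly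
  CfsgLib.KnownB.PrimeOrder

universe u

variable {F : Type u} [Field F] (σ : F →+* F)

/-- Reversal, twisted by `σ` and normalised. -/
noncomputable def star (f : F[X]) : F[X] := C (σ (f.coeff 0))⁻¹ * f.reverse.map σ

theorem star_mul (f g : F[X]) : star σ (f * g) = star σ f * star σ g := by
  unfold star
  rw [reverse_mul_of_domain, Polynomial.map_mul, mul_coeff_zero, map_mul, mul_inv, C_mul]
  ring

theorem star_one : star σ (1 : F[X]) = 1 := by
  unfold star
  rw [coeff_one_zero, map_one, inv_one, C_1, one_mul, ← C_1, reverse_C, Polynomial.map_C, map_one]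

/-- `star` as a monoid homomorphism. -/
noncomputable def starHom : F[X] →* F[X] where
  toFun := star σ
  map_one' := star_one σ
  map_mul' := star_mul σ

variable {σ}

theorem coeff_zero_star {f : F[X]} (hf : f.Monic) : (star σ f).coeff 0 = (σ (f.coeff 0))⁻¹ := by
  unfold star
  rw [coeff_C_mul, coeff_map, coeff_zero_reverse, hf.leadingCoeff, map_one, mul_one]

theorem monic_star {f : F[X]} (h0 : f.coeff 0 ≠ 0) : (star σ f).Monic := by
  refine monic_C_mul_of_mul_leadingCoeff_eq_one ?_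
  rw [leadingCoeff_map_of_injective σ.injective, reverse_leadingCoeff, trailingCoeff,
    natTrailingDegree_eq_zero.2 (Or.inr h0), inv_mul_cancel₀ ((map_ne_zero σ).2 h0)]

theorem natDegree_star {f : F[X]} (h0 : f.coeff 0 ≠ 0) : (star σ f).natDegree = f.natDegree := by
  unfold star
  rw [natDegree_C_mul (inv_ne_zero ((map_ne_zero σ).2 h0)), natDegree_map_eq_of_injective σ.injective,
    reverse_natDegree, natTrailingDegree_eq_zero.2 (Or.inr h0), Nat.sub_zero]

theorem star_star (hσ2 : ∀ a, σ (σ a) = a) {f : F[X]} (hf : f.Monic) (h0 : f.coeff 0 ≠ 0) :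
    star σ (star σ f) = f := by
  have h1 := coeff_zero_star (σ := σ) hf
  conv_lhs => rw [star, h1]
  unfold star
  rw [reverse_mul_of_domain, reverse_C, reverse_map, reverse_reverse h0, Polynomial.map_mul, Polynomial.map_C,
    map_map hσ2, map_inv₀ σ, inv_inv, hσ2, ← mul_assoc, ← C_mul, mul_inv_cancel₀ h0, C_1, one_mul]

theorem selfDual_iff_star (hσ2 : ∀ a, σ (σ a) = a) {f : F[X]} (h0 : f.coeff 0 ≠ 0) :
    SelfDual σ f ↔ star σ f = f := by
  unfold SelfDual star
  constructor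
  · intro h
    rw [h, Polynomial.map_mul, Polynomial.map_C, map_map hσ2, ← mul_assoc, ← C_mul,
      inv_mul_cancel₀ ((map_ne_zero σ).2 h0), C_1, one_mul]
  · intro h
    have h2 := congrArg (Polynomial.map σ) h
    rw [Polynomial.map_mul, Polynomial.map_C, map_map hσ2, map_inv₀, hσ2] at h2
    rw [← h2, ← mul_assoc, ← C_mul, mul_inv_cancel₀ h0, C_1, one_mul]

theorem star_X_sub_one : star σ (X - 1 : F[X]) = X - 1 := by
  have hr : (X - 1 : F[X]).reverse = 1 - X := by
    ext k
    have hd : (X - 1 : F[X]).natDegree = 1 := by simpa using natDegree_X_sub_C (1 : F)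
    rw [coeff_reverse, hd]
    rcases k with _ | _ | k
    · rw [revAt_le (by omega)]; simp [coeff_one, coeff_X]
    · rw [revAt_le (by omega)]; simp [coeff_one, coeff_X]
    · rw [show revAt 1 (k + 2) = k + 2 by
        show (if k + 2 ≤ 1 then 1 - (k + 2) else k + 2) = k + 2
        rw [if_neg (by omega)]]
      simp [coeff_one, coeff_X]
  unfold star
  rw [hr, show ((X - 1 : F[X]).coeff 0) = -1 by simp, map_neg, map_one, inv_neg, inv_one, Polynomial.map_sub,
    Polynomial.map_X, Polynomial.map_one, map_neg, C_1]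
  ring

variable {r : ℕ}

theorem coeff_zero_ne_of_dvd (hr : r ≠ 0) {Q : F[X]} (h : Q ∣ X ^ r - 1) : Q.coeff 0 ≠ 0 := by
  intro h0
  obtain ⟨k, hk⟩ := h
  have := congrArg (fun f => Polynomial.coeff f 0) hk
  simp [h0, hr, Ne.symm hr] at this

theorem star_X_pow_sub_one (hr : r ≠ 0) : star σ (X ^ r - 1 : F[X]) = X ^ r - 1 := by
  have hd : (X ^ r - 1 : F[X]).natDegree = r := by simpa using natDegree_X_pow_sub_C (n := r) (r := (1 : F))
  have hrev : (X ^ r - 1 : F[X]).reverse = 1 - X ^ r := by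
    ext k
    rw [coeff_reverse, hd]
    rcases le_or_gt k r with hk | hk
    · rw [revAt_le hk, coeff_sub, coeff_sub, coeff_X_pow, coeff_X_pow, coeff_one, coeff_one]
      rcases Nat.eq_zero_or_pos k with rfl | hk0
      · simp [hr, Ne.symm hr]
      · rcases eq_or_lt_of_le hk with rfl | hlt
        · simp [hr, Ne.symm hr]
        · rw [if_neg (by omega), if_neg (by omega), if_neg (by omega), if_neg (by omega)]
    · rw [show revAt r k = k by
        show (if k ≤ r then r - k else k) = k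
        rw [if_neg (by omega)]]
      rw [coeff_sub, coeff_sub, coeff_X_pow, coeff_one, if_neg (by omega), if_neg (by omega)]
  unfold star
  rw [hrev, show ((X ^ r - 1 : F[X]).coeff 0) = -1 by simp [Ne.symm hr], map_neg, map_one, inv_neg, inv_one,
    Polynomial.map_sub, Polynomial.map_pow, Polynomial.map_X, Polynomial.map_one, map_neg, C_1]
  ring

variable [DecidableEq F]

theorem irreducible_star (hσ2 : ∀ a, σ (σ a) = a) {Q : F[X]} (hQ : Irreducible Q) (hm : Q.Monic)
    (h0 : Q.coeff 0 ≠ 0) : Irreducible (star σ Q) := by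
  have hd := natDegree_star (σ := σ) h0
  have hsm := monic_star (σ := σ) h0
  rw [irreducible_iff]
  refine ⟨fun hu => ?_, fun a b hab => ?_⟩
  · have := natDegree_eq_zero_of_isUnit hu
    have := hQ.natDegree_pos
    omega
  · have hab0 : a.coeff 0 * b.coeff 0 ≠ 0 := by
      rw [← mul_coeff_zero, ← hab, coeff_zero_star hm]
      exact inv_ne_zero ((map_ne_zero σ).2 h0)
    have hQ' : Q = star σ a * star σ b := by rw [← star_mul, ← hab, star_star hσ2 hm h0]
    have hdeg : ∀ c : F[X], c.coeff 0 ≠ 0 → IsUnit (star σ c) → IsUnit c := fun c hc hu => by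
      have h1 := natDegree_eq_zero_of_isUnit hu
      rw [natDegree_star hc] at h1
      rw [eq_C_of_natDegree_eq_zero h1, isUnit_C, isUnit_iff_ne_zero]
      exact hc
    rcases hQ.isUnit_or_isUnit hQ' with h | h
    · exact Or.inl (hdeg a (left_ne_zero_of_mul hab0) h)
    · exact Or.inr (hdeg b (right_ne_zero_of_mul hab0) h)

theorem star_mem_factors (hσ2 : ∀ a, σ (σ a) = a) (hr : r ≠ 0) {Q : F[X]} (hQ : Q ∈ factors F r) :
    star σ Q ∈ factors F r := by
  obtain ⟨hi, hm, ⟨k, hk⟩, hne⟩ := (mem_factors hr).1 hQ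
  have h0 := coeff_zero_ne_of_dvd hr ⟨k, hk⟩
  refine (mem_factors hr).2 ⟨irreducible_star hσ2 hi hm h0, monic_star h0,
    ⟨star σ k, by rw [← star_mul, ← hk, star_X_pow_sub_one hr]⟩, fun h => hne ?_⟩
  rw [← star_star hσ2 hm h0, h, star_X_sub_one]

/-- `star` on the factors. -/
noncomputable def starF (hσ2 : ∀ a, σ (σ a) = a) (hr : r ≠ 0) (Q : ↥(factors F r)) : ↥(factors F r) :=
  ⟨star σ Q.1, star_mem_factors hσ2 hr Q.2⟩

theorem starF_starF (hσ2 : ∀ a, σ (σ a) = a) (hr : r ≠ 0) (Q : ↥(factors F r)) :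
    starF hσ2 hr (starF hσ2 hr Q) = Q := by
  obtain ⟨-, hm, hd, -⟩ := (mem_factors hr).1 Q.2
  exact Subtype.ext (star_star hσ2 hm (coeff_zero_ne_of_dvd hr hd))

/-- The polynomial of degree `N` with the given multiplicities. -/
noncomputable def poly (N i : ℕ) (μ : ↥(factors F r) → ℕ) : F[X] :=
  (X - 1) ^ (N - i * ∑ Q, μ Q) * ∏ Q : ↥(factors F r), (Q : F[X]) ^ μ Q

/-- All irreducible factors divide `X ^ r - 1`. -/
def Good (r N : ℕ) (f : F[X]) : Prop :=
  f.Monic ∧ f.natDegree = N ∧ ∀ Q : F[X], Irreducible Q → Q ∣ f → Q ∣ X ^ r - 1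

/-- The multiset of factors. -/
noncomputable def facs (a : ℕ) (μ : ↥(factors F r) → ℕ) : Multiset F[X] :=
  Multiset.replicate a (X - 1) + ∑ Q : ↥(factors F r), Multiset.replicate (μ Q) (Q : F[X])

theorem facs_prod (a : ℕ) (μ : ↥(factors F r) → ℕ) :
    (facs a μ).prod = (X - 1) ^ a * ∏ Q : ↥(factors F r), (Q : F[X]) ^ μ Q := by
  rw [facs, Multiset.prod_add, Multiset.prod_replicate, Multiset.prod_sum]
  simp only [Multiset.prod_replicate]

theorem mem_facs {a : ℕ} {μ : ↥(factors F r) → ℕ} {Q : F[X]} (h : Q ∈ facs a μ) :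
    Q = X - 1 ∨ Q ∈ factors F r := by
  rcases Multiset.mem_add.1 h with h | h
  · exact Or.inl (Multiset.eq_of_mem_replicate h)
  · obtain ⟨Q', -, hQ'⟩ := Multiset.mem_sum.1 h
    rw [Multiset.eq_of_mem_replicate hQ']
    exact Or.inr Q'.2

theorem facs_spec (hr : r ≠ 0) {a : ℕ} {μ : ↥(factors F r) → ℕ} {Q : F[X]} (h : Q ∈ facs a μ) :
    Irreducible Q ∧ Q.Monic ∧ Q ∣ X ^ r - 1 := by
  rcases mem_facs h with rfl | h
  · rw [← C_1]
    exact ⟨irreducible_X_sub_C 1, monic_X_sub_C 1, by rw [dvd_iff_isRoot]; simp⟩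
  · obtain ⟨h1, h2, h3, -⟩ := (mem_factors hr).1 h
    exact ⟨h1, h2, h3⟩

theorem count_facs (hr : r ≠ 0) (a : ℕ) (μ : ↥(factors F r) → ℕ) (Q : ↥(factors F r)) :
    (facs a μ).count (Q : F[X]) = μ Q := by
  rw [facs, Multiset.count_add, Multiset.count_replicate, if_neg ((mem_factors hr).1 Q.2).2.2.2.symm, zero_add,
    Multiset.count_sum', Finset.sum_eq_single Q]
  · rw [Multiset.count_replicate_self]
  · intro Q' _ hne
    rw [Multiset.count_replicate, if_neg fun h => hne (Subtype.ext h)]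
  · simp

theorem count_facs_one (hr : r ≠ 0) (a : ℕ) (μ : ↥(factors F r) → ℕ) :
    (facs a μ).count (X - 1 : F[X]) = a := by
  rw [facs, Multiset.count_add, Multiset.count_replicate_self, Multiset.count_sum', Finset.sum_eq_zero, add_zero]
  intro Q _
  rw [Multiset.count_replicate, if_neg ((mem_factors hr).1 Q.2).2.2.2]

theorem normalizedFactors_poly (hr : r ≠ 0) (N i : ℕ) (μ : ↥(factors F r) → ℕ) :
    normalizedFactors (poly N i μ) = facs (N - i * ∑ Q, μ Q) μ := by
  rw [poly, ← facs_prod]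
  exact normalizedFactors_prod _ (fun Q hQ => (facs_spec hr hQ).1) fun Q hQ => (facs_spec hr hQ).2.1

theorem poly_inj (hr : r ≠ 0) (N i : ℕ) {μ ν : ↥(factors F r) → ℕ} (h : poly N i μ = poly N i ν) : μ = ν := by
  funext Q
  have h1 := normalizedFactors_poly hr N i μ
  rw [h, normalizedFactors_poly hr N i ν] at h1
  rw [← count_facs hr (N - i * ∑ Q, μ Q) μ Q, ← h1, count_facs hr]

theorem monic_poly (hr : r ≠ 0) (N i : ℕ) (μ : ↥(factors F r) → ℕ) : (poly N i μ).Monic := by
  rw [poly, ← facs_prod]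
  simpa using Polynomial.monic_multiset_prod_of_monic (facs (N - i * ∑ Q, μ Q) μ) id
    fun Q hQ => (facs_spec hr hQ).2.1

theorem poly_coeff_zero_ne (hr : r ≠ 0) (N i : ℕ) (μ : ↥(factors F r) → ℕ) : (poly N i μ).coeff 0 ≠ 0 := by
  rw [poly, ← facs_prod, coeff_zero_eq_eval_zero, eval_multiset_prod]
  refine Multiset.prod_ne_zero fun h => ?_
  obtain ⟨Q, hQ, hQ0⟩ := Multiset.mem_map.1 h
  exact coeff_zero_ne_of_dvd hr (facs_spec hr hQ).2.2 (by rw [coeff_zero_eq_eval_zero]; exact hQ0)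

variable [Fintype F] [Fact r.Prime]

theorem natDegree_poly (hrF : (r : F) ≠ 0) {N i : ℕ} (hi : i = orderOf ((Fintype.card F : ℕ) : ZMod r))
    {μ : ↥(factors F r) → ℕ} (h : i * ∑ Q, μ Q ≤ N) : (poly N i μ).natDegree = N := by
  have hr : r ≠ 0 := (Fact.out : r.Prime).ne_zero
  have hm : ∀ Q : ↥(factors F r), (Q : F[X]).Monic := fun Q => ((mem_factors hr).1 Q.2).2.1
  have h1 : (X - 1 : F[X]).Monic := by rw [← C_1]; exact monic_X_sub_C 1
  rw [poly, (h1.pow _).natDegree_mul (monic_prod_of_monic _ _ fun Q _ => (hm Q).pow _),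
    natDegree_prod_of_monic _ _ (fun Q _ => (hm Q).pow _), natDegree_pow,
    show (X - 1 : F[X]).natDegree = 1 by simpa using natDegree_X_sub_C (1 : F), mul_one,
    show ∑ Q : ↥(factors F r), ((Q : F[X]) ^ μ Q).natDegree = i * ∑ Q, μ Q by
      rw [Finset.mul_sum]
      refine Finset.sum_congr rfl fun Q _ => ?_
      obtain ⟨a, b, c, d⟩ := (mem_factors hr).1 Q.2
      rw [natDegree_pow, natDegree_eq_orderOf hrF a b c d, ← hi, mul_comm]]
  omega

theorem good_poly (hrF : (r : F) ≠ 0) {N i : ℕ} (hi : i = orderOf ((Fintype.card F : ℕ) : ZMod r))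
    {μ : ↥(factors F r) → ℕ} (h : i * ∑ Q, μ Q ≤ N) : Good r N (poly N i μ) := by
  have hr : r ≠ 0 := (Fact.out : r.Prime).ne_zero
  refine ⟨monic_poly hr N i μ, natDegree_poly hrF hi h, fun Q hQ hd => ?_⟩
  obtain ⟨Q', hQ', hass⟩ := exists_mem_normalizedFactors_of_dvd (monic_poly hr N i μ).ne_zero hQ hd
  rw [normalizedFactors_poly hr] at hQ'
  exact hass.dvd.trans (facs_spec hr hQ').2.2

theorem exists_poly (hrF : (r : F) ≠ 0) {N i : ℕ} (hi : i = orderOf ((Fintype.card F : ℕ) : ZMod r))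
    {f : F[X]} (hf : Good r N f) : ∃ μ : ↥(factors F r) → ℕ, i * ∑ Q, μ Q ≤ N ∧ poly N i μ = f := by
  have hr : r ≠ 0 := (Fact.out : r.Prime).ne_zero
  obtain ⟨hm, hd, hfac⟩ := hf
  obtain ⟨μ, hμ⟩ : ∃ μ : ↥(factors F r) → ℕ, μ = fun Q : ↥(factors F r) => (normalizedFactors f).count (Q : F[X]) :=
    ⟨_, rfl⟩
  obtain ⟨a, ha⟩ : ∃ a, a = (normalizedFactors f).count (X - 1 : F[X]) := ⟨_, rfl⟩
  have hnf : normalizedFactors f = facs a μ := by
    refine Multiset.ext.2 fun Q => ?_
    by_cases hQ : Q ∈ normalizedFactors f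
    · by_cases hne : Q = X - 1
      · rw [hne, count_facs_one hr, ha]
      · have h1 := irreducible_of_normalized_factor Q hQ
        have hQm : Q ∈ factors F r := (mem_factors hr).2
          ⟨h1, monic_of_mem_nf hQ, hfac Q h1 (dvd_of_mem_normalizedFactors hQ), hne⟩
        rw [show (facs a μ).count Q = μ ⟨Q, hQm⟩ from count_facs hr a μ ⟨Q, hQm⟩, hμ]
    · rw [Multiset.count_eq_zero_of_notMem hQ, eq_comm, Multiset.count_eq_zero]
      intro hmem
      rcases mem_facs hmem with rfl | hQm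
      · have := Multiset.count_pos.2 hmem
        rw [count_facs_one hr, ha, Multiset.count_eq_zero_of_notMem hQ] at this
        omega
      · have := Multiset.count_pos.2 hmem
        rw [show (facs a μ).count Q = μ ⟨Q, hQm⟩ from count_facs hr a μ ⟨Q, hQm⟩, hμ] at this
        simp only [Multiset.count_eq_zero_of_notMem hQ] at this
        omega
  have hprod : f = (X - 1) ^ a * ∏ Q : ↥(factors F r), (Q : F[X]) ^ μ Q := by
    rw [← facs_prod, ← hnf, monic_prod_normalizedFactors hm]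
  have hm' : ∀ Q : ↥(factors F r), (Q : F[X]).Monic := fun Q => ((mem_factors hr).1 Q.2).2.1
  have h1 : (X - 1 : F[X]).Monic := by rw [← C_1]; exact monic_X_sub_C 1
  have hdeg : a + i * ∑ Q, μ Q = N := by
    rw [← hd, hprod, (h1.pow _).natDegree_mul (monic_prod_of_monic _ _ fun Q _ => (hm' Q).pow _),
      natDegree_prod_of_monic _ _ (fun Q _ => (hm' Q).pow _), natDegree_pow,
      show (X - 1 : F[X]).natDegree = 1 by simpa using natDegree_X_sub_C (1 : F), mul_one, Finset.mul_sum]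
    congr 1
    refine Finset.sum_congr rfl fun Q _ => ?_
    obtain ⟨a, b, c, d⟩ := (mem_factors hr).1 Q.2
    rw [natDegree_pow, natDegree_eq_orderOf hrF a b c d, ← hi, mul_comm]
  exact ⟨μ, by omega, by rw [poly, hprod, show N - i * ∑ Q, μ Q = a by omega]⟩

theorem selfDual_poly_iff (hσ2 : ∀ a, σ (σ a) = a) (N i : ℕ) (μ : ↥(factors F r) → ℕ) :
    SelfDual σ (poly N i μ) ↔ ∀ Q, μ (starF hσ2 (Fact.out : r.Prime).ne_zero Q) = μ Q := by
  have hr : r ≠ 0 := (Fact.out : r.Prime).ne_zero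
  rw [selfDual_iff_star hσ2 (poly_coeff_zero_ne hr N i μ)]
  let π : Equiv.Perm ↥(factors F r) := ⟨starF hσ2 hr, starF hσ2 hr, starF_starF hσ2 hr, starF_starF hσ2 hr⟩
  have hsum : ∑ Q, μ (π Q) = ∑ Q, μ Q := Equiv.sum_comp π μ
  have hs : star σ (poly N i μ) = poly N i (fun Q => μ (π Q)) := by
    show starHom σ (poly N i μ) = _
    rw [poly, poly, map_mul, map_pow, show starHom σ (X - 1 : F[X]) = X - 1 from star_X_sub_one, map_prod, hsum]
    congr 1
    rw [← Equiv.prod_comp π (fun Q => starHom σ ((Q : F[X]) ^ μ Q))]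
    refine Finset.prod_congr rfl fun Q _ => ?_
    rw [map_pow]
    exact congrArg (· ^ _) (congrArg Subtype.val (starF_starF hσ2 hr Q))
  rw [hs]
  exact ⟨fun h Q => congrFun (poly_inj hr N i h) Q, fun h => congrArg (poly N i) (funext h)⟩

theorem poly_zero (N i : ℕ) : poly N i (0 : ↥(factors F r) → ℕ) = (X - 1) ^ N := by
  simp [poly]

theorem eval_one_poly (N i : ℕ) (μ : ↥(factors F r) → ℕ) :
    (poly N i μ).eval 1 = 0 ↔ i * ∑ Q, μ Q < N := by
  have hr : r ≠ 0 := (Fact.out : r.Prime).ne_zero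
  rw [poly, eval_mul, eval_pow, eval_sub, eval_X, eval_one, sub_self, mul_eq_zero, eval_prod, zero_pow_eq_zero,
    Finset.prod_eq_zero_iff]
  constructor
  · rintro (h | ⟨Q, -, hQ⟩)
    · omega
    · rw [eval_pow, pow_eq_zero_iff'] at hQ
      obtain ⟨hi', hm, hd, hne⟩ := (mem_factors hr).1 Q.2
      refine absurd ?_ hne
      have h1 : (X - C 1) ∣ (Q : F[X]) := dvd_iff_isRoot.2 hQ.1
      rw [← C_1]
      exact (eq_of_monic_of_associated (monic_X_sub_C 1) hm ((irreducible_X_sub_C 1).associated_of_dvd hi' h1)).symm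
  · intro h
    left
    omega

/-- The criterion for a factor to be fixed by `star`. -/
theorem star_eq_iff (hσ2 : ∀ a, σ (σ a) = a) (hrF : (r : F) ≠ 0) {q₀ : ℕ} (p e : ℕ) [Fact p.Prime] [CharP F p]
    (hq₀ : q₀ = p ^ e) (hσ : ∀ x, σ x = x ^ q₀) (Q : ↥(factors F r)) :
    starF hσ2 (Fact.out : r.Prime).ne_zero Q = Q ↔
      ∃ k : ℕ, ((Fintype.card F : ℕ) : ZMod r) ^ k = -(q₀ : ZMod r) := by
  classical
  have hr : r ≠ 0 := (Fact.out : r.Prime).ne_zero
  obtain ⟨hi, hm, hdvd, hne⟩ := (mem_factors hr).1 Q.2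
  have h0 := coeff_zero_ne_of_dvd hr hdvd
  obtain ⟨d, hd⟩ : ∃ d, d = orderOf ((Fintype.card F : ℕ) : ZMod r) := ⟨_, rfl⟩
  have hdeg : (Q : F[X]).natDegree = d := hd ▸ natDegree_eq_orderOf hrF hi hm hdvd hne
  haveI := Fact.mk hi
  haveI : Module.Finite F (AdjoinRoot (Q : F[X])) := (AdjoinRoot.powerBasis hi.ne_zero).finite
  haveI : CharP (AdjoinRoot (Q : F[X])) p := charP_of_injective_algebraMap (algebraMap F _).injective p
  have hζ : aeval (AdjoinRoot.root (Q : F[X])) (Q : F[X]) = 0 := by rw [AdjoinRoot.aeval_eq, AdjoinRoot.mk_self]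
  have hζr : AdjoinRoot.root (Q : F[X]) ^ r = 1 := by
    have h1 := AdjoinRoot.mk_eq_zero.2 hdvd
    rwa [map_sub, map_pow, AdjoinRoot.mk_X, map_one, sub_eq_zero] at h1
  have hζ1 : AdjoinRoot.root (Q : F[X]) ≠ 1 := by
    intro h1
    refine hne (eq_of_monic_of_associated hm (by rw [← C_1]; exact monic_X_sub_C 1) ?_)
    refine hi.associated_of_dvd (by rw [← C_1]; exact irreducible_X_sub_C 1) ?_
    rw [← AdjoinRoot.mk_eq_zero, map_sub, AdjoinRoot.mk_X, map_one, h1, sub_self]
  have hord : orderOf (AdjoinRoot.root (Q : F[X])) = r := orderOf_eq_prime hζr hζ1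
  have hpow : ∀ a b : ℕ, AdjoinRoot.root (Q : F[X]) ^ a = AdjoinRoot.root (Q : F[X]) ^ b ↔ (a : ZMod r) = b := by
    intro a b
    have hu : IsUnit (AdjoinRoot.root (Q : F[X])) :=
      isUnit_iff_ne_zero.2 fun h => by rw [h, zero_pow hr] at hζr; exact zero_ne_one hζr
    rw [← hu.unit_spec, ← Units.val_pow_eq_pow_val, ← Units.val_pow_eq_pow_val, Units.val_inj, pow_eq_pow_iff_modEq,
      ← orderOf_units, hu.unit_spec, hord, ZMod.natCast_eq_natCast_iff]
  -- the roots of `Q`
  have hroot : ∀ b : ℕ, aeval (AdjoinRoot.root (Q : F[X]) ^ b) (Q : F[X]) = 0 ↔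
      ∃ k : ℕ, ((Fintype.card F : ℕ) : ZMod r) ^ k = b := by
    have hfr : ∀ k : ℕ, aeval (AdjoinRoot.root (Q : F[X]) ^ Fintype.card F ^ k) (Q : F[X]) = 0 := by
      intro k
      induction k with
      | zero => rw [pow_zero, pow_one]; exact hζ
      | succ k ih =>
        rw [pow_succ, pow_mul]
        have h1 := congrArg (fun x => x ^ Fintype.card F) ih
        simp only [zero_pow Fintype.card_ne_zero] at h1
        rw [← map_pow, ← FiniteField.expand_card, expand_aeval] at h1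
        exact h1
    intro b
    constructor
    · intro hb
      obtain ⟨S, hS⟩ : ∃ S : Finset (AdjoinRoot (Q : F[X])),
          S = (Finset.range d).image fun k => AdjoinRoot.root (Q : F[X]) ^ Fintype.card F ^ k := ⟨_, rfl⟩
      have hinj : Set.InjOn (fun k => AdjoinRoot.root (Q : F[X]) ^ Fintype.card F ^ k) (Finset.range d : Set ℕ) := by
        intro a ha b hb hab
        rw [Finset.coe_range, Set.mem_Iio, hd] at ha hb
        have := (hpow _ _).1 hab
        rw [Nat.cast_pow, Nat.cast_pow] at this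
        exact pow_injOn_Iio_orderOf ha hb this
      by_contra hne'
      have hnot : AdjoinRoot.root (Q : F[X]) ^ b ∉ S := by
        rw [hS, Finset.mem_image]
        rintro ⟨k, -, hk⟩
        exact hne' ⟨k, by rw [← Nat.cast_pow]; exact (hpow _ _).1 hk⟩
      have hsub : (insert (AdjoinRoot.root (Q : F[X]) ^ b) S).val ≤
          ((Q : F[X]).map (algebraMap F (AdjoinRoot (Q : F[X])))).roots := by
        refine (Multiset.le_iff_subset (Finset.nodup _)).2 fun x hx => ?_
        rw [mem_roots (map_monic_ne_zero hm), IsRoot, eval_map, ← aeval_def]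
        rcases Finset.mem_insert.1 hx with rfl | hx
        · exact hb
        · rw [hS, Finset.mem_image] at hx
          obtain ⟨k, -, rfl⟩ := hx
          exact hfr k
      have h2 := (Multiset.card_le_card hsub).trans (card_roots' _)
      rw [natDegree_map, hdeg, show Multiset.card (insert (AdjoinRoot.root (Q : F[X]) ^ b) S).val = d + 1 by
        rw [← Finset.card_def, Finset.card_insert_of_notMem hnot, hS, Finset.card_image_of_injOn hinj,
          Finset.card_range]] at h2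
      omega
    · rintro ⟨k, hk⟩
      rw [← (hpow (Fintype.card F ^ k) b).2 (by rw [Nat.cast_pow]; exact hk)]
      exact hfr k
  -- the twist
  have hq0 : (q₀ : ZMod r) ≠ 0 := by
    rw [hq₀, Nat.cast_pow]
    refine pow_ne_zero _ fun h => hrF ?_
    rw [ZMod.natCast_eq_zero_iff, Nat.prime_dvd_prime_iff_eq Fact.out Fact.out] at h
    rw [h]
    exact CharP.cast_eq_zero F p
  obtain ⟨u, hu⟩ : ∃ u : ℕ, (u : ZMod r) * q₀ = 1 :=
    ⟨((q₀ : ZMod r)⁻¹).val, by rw [ZMod.natCast_zmod_val, inv_mul_cancel₀ hq0]⟩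
  obtain ⟨v, hv⟩ : ∃ v : ℕ, (v : ZMod r) = -(u : ZMod r) :=
    ⟨(-(u : ZMod r)).val, by rw [ZMod.natCast_zmod_val]⟩
  obtain ⟨y, hy⟩ : ∃ y : AdjoinRoot (Q : F[X]), y = AdjoinRoot.root (Q : F[X]) ^ u := ⟨_, rfl⟩
  have hy0 : y ≠ 0 := hy ▸ pow_ne_zero _ fun h => by rw [h, zero_pow hr] at hζr; exact zero_ne_one hζr
  have hyi : y⁻¹ = AdjoinRoot.root (Q : F[X]) ^ v := by
    refine inv_eq_of_mul_eq_one_right ?_
    rw [hy, ← pow_add]
    conv_rhs => rw [← pow_zero (AdjoinRoot.root (Q : F[X]))]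
    rw [hpow, Nat.cast_add, hv, Nat.cast_zero, add_neg_cancel]
  have hkey : starF hσ2 (Fact.out : r.Prime).ne_zero Q = Q ↔
      aeval y⁻¹ (Q : F[X]) = 0 := by
    let φ : AdjoinRoot (Q : F[X]) →+* AdjoinRoot (Q : F[X]) := iterateFrobenius (AdjoinRoot (Q : F[X])) p e
    have hφ : ∀ x, φ x = x ^ q₀ := fun x => by rw [hq₀]; exact iterateFrobenius_def p e x
    have hφy : φ y = AdjoinRoot.root (Q : F[X]) := by
      rw [hφ, hy, ← pow_mul]
      conv_rhs => rw [← pow_one (AdjoinRoot.root (Q : F[X]))]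
      rw [hpow, Nat.cast_mul, hu, Nat.cast_one]
    have hcomp : (algebraMap F (AdjoinRoot (Q : F[X]))).comp σ = φ.comp (algebraMap F _) :=
      RingHom.ext fun x => by rw [RingHom.comp_apply, RingHom.comp_apply, hφ, hσ, map_pow]
    have h2 : aeval (AdjoinRoot.root (Q : F[X])) (star σ (Q : F[X])) =
        algebraMap F _ (σ ((Q : F[X]).coeff 0))⁻¹ * φ (aeval y (Q : F[X]).reverse) := by
      unfold star
      rw [map_mul, aeval_C, aeval_def _ (Polynomial.map σ _), eval₂_map, hcomp, ← hφy, ← hom_eval₂, ← aeval_def]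
    letI : Invertible y⁻¹ := invertibleOfNonzero (inv_ne_zero hy0)
    have h3 : aeval y (Q : F[X]).reverse = 0 ↔ aeval y⁻¹ (Q : F[X]) = 0 := by
      have := eval₂_reverse_eq_zero_iff (algebraMap F (AdjoinRoot (Q : F[X]))) y⁻¹ (Q : F[X])
      rwa [invOf_eq_inv, inv_inv, ← aeval_def, ← aeval_def] at this
    rw [← h3]
    constructor
    · intro h
      have h4 : star σ (Q : F[X]) = Q := congrArg Subtype.val h
      rw [h4, hζ] at h2
      exact (map_eq_zero φ).1 ((mul_eq_zero.1 h2.symm).resolve_left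
        ((_root_.map_ne_zero _).2 (inv_ne_zero ((_root_.map_ne_zero σ).2 h0))))
    · intro h
      rw [h, map_zero, mul_zero, AdjoinRoot.aeval_eq, AdjoinRoot.mk_eq_zero] at h2
      exact Subtype.ext (eq_of_monic_of_dvd_of_natDegree_le hm (monic_star h0) h2 (natDegree_star h0).le)
  rw [hkey, hyi, hroot]
  have hvq : (v : ZMod r) * (-(q₀ : ZMod r)) = 1 := by rw [hv, neg_mul_neg, hu]
  have hone : ((Fintype.card F : ℕ) : ZMod r) ^ d = 1 := hd ▸ pow_orderOf_eq_one _
  constructor
  · rintro ⟨k, hk⟩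
    have hd0 : 0 < d := hdeg ▸ hi.natDegree_pos
    refine ⟨k * (d - 1), ?_⟩
    have h5 : ((Fintype.card F : ℕ) : ZMod r) ^ k * ((Fintype.card F : ℕ) : ZMod r) ^ (k * (d - 1)) = 1 := by
      rw [← pow_add, show k + k * (d - 1) = d * k by
        conv_lhs => arg 1; rw [← mul_one k]
        rw [← mul_add, mul_comm, show 1 + (d - 1) = d by omega], pow_mul, hone, one_pow]
    rw [hk] at h5
    exact mul_left_cancel₀ (left_ne_zero_of_mul_eq_one hvq) (h5.trans hvq.symm)
  · rintro ⟨k, hk⟩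
    have hd0 : 0 < d := hdeg ▸ hi.natDegree_pos
    refine ⟨k * (d - 1), ?_⟩
    have h5 : ((Fintype.card F : ℕ) : ZMod r) ^ k * ((Fintype.card F : ℕ) : ZMod r) ^ (k * (d - 1)) = 1 := by
      rw [← pow_add, show k + k * (d - 1) = d * k by
        conv_lhs => arg 1; rw [← mul_one k]
        rw [← mul_add, mul_comm, show 1 + (d - 1) = d by omega], pow_mul, hone, one_pow]
    rw [hk, mul_comm] at h5
    exact mul_right_cancel₀ (right_ne_zero_of_mul_eq_one hvq) (h5.trans hvq.symm)

end CfsgLib.KnownB.PrimeCharpoly
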