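import Cfsg.Agent.Lib.KnownB.PrimeCharpoly

/-!
Counting classes of elements of prime order through multiplicity functions.
-/

set_option autoImplicit false
set_option linter.style.haveILetI false
set_option linter.unusedSectionVars false

namespace CfsgLib.KnownB.PrimeCharpoly

open Polynomial CfsgLib.KnownB.Semisimple CfsgLib.KnownB.UnitaryCharpoly CfsgLib.KnownB.PrimeOrder

theorem card_sum_le (α : Type*) [Fintype α] (k : ℕ) :
    Nat.card {μ : α → ℕ // ∑ a, μ a ≤ k} = Nat.choose (k + Fintype.card α) (Fintype.card α) := by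
  classical
  have e : {μ : α → ℕ // ∑ a, μ a ≤ k} ≃ {P : Option α → ℕ // ∑ o, P o = k} :=
    { toFun := fun μ => ⟨fun o => o.elim (k - ∑ a, μ.1 a) μ.1, by
        rw [Fintype.sum_option]; have := μ.2; simp only [Option.elim_none, Option.elim_some]; omega⟩
      invFun := fun P => ⟨fun a => P.1 (some a), by have := P.2; rw [Fintype.sum_option] at this; show ∑ a, P.1 (some a) ≤ k; omega⟩
      left_inv := fun μ => rfl
      right_inv := fun P => Subtype.ext (funext fun o => by
        rcases o with _ | a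
        · have := P.2; rw [Fintype.sum_option] at this; simp only [Option.elim_none]; omega
        · rfl) }
  rw [Nat.card_congr (e.trans (Sym.equivNatSumOfFintype (Option α) k).symm), Nat.card_eq_fintype_card,
    Sym.card_sym_eq_choose, Fintype.card_option, Nat.choose_symm_add.symm, Nat.add_comm]
  congr 1

theorem card_sum_eq (α : Type*) [Fintype α] (h : 0 < Fintype.card α) (k : ℕ) :
    Nat.card {μ : α → ℕ // ∑ a, μ a = k} = Nat.choose (k + Fintype.card α - 1) (Fintype.card α - 1) := by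
  classical
  rw [Nat.card_congr (Sym.equivNatSumOfFintype α k).symm, Nat.card_eq_fintype_card, Sym.card_sym_eq_choose,
    show Fintype.card α + k - 1 = k + (Fintype.card α - 1) by omega, Nat.choose_symm_add,
    show k + Fintype.card α - 1 = k + (Fintype.card α - 1) by omega]

/-- Functions fixed by a free involution are functions on half of the points. -/
theorem exists_half {α : Type*} [Fintype α] (π : α → α) (hπ : ∀ a, π (π a) = a) (hfree : ∀ a, π a ≠ a) :
    ∃ (β : Type) (_ : Fintype β), 2 * Fintype.card β = Fintype.card α ∧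
      ∀ P : ℕ → Prop, Nat.card {μ : α → ℕ // (∀ a, μ (π a) = μ a) ∧ P (∑ a, μ a)} =
        Nat.card {ν : β → ℕ // P (2 * ∑ b, ν b)} := by
  classical
  let e := Fintype.equivFin α
  let R := Finset.univ.filter fun a => e a < e (π a)
  have himg : Finset.univ.filter (fun a => ¬ e a < e (π a)) = R.image π := by
    ext a
    simp only [R, Finset.mem_filter, Finset.mem_univ, true_and, Finset.mem_image]
    constructor
    · intro h
      refine ⟨π a, ?_, hπ a⟩
      rw [hπ]
      exact lt_of_le_of_ne (not_lt.1 h) fun h' => hfree a (e.injective h')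
    · rintro ⟨b, hb, rfl⟩
      rw [hπ]
      exact not_lt.2 hb.le
  have hπi : Function.Injective π := Function.LeftInverse.injective hπ
  have hsum : ∀ μ : α → ℕ, (∀ a, μ (π a) = μ a) → ∑ a, μ a = 2 * ∑ a ∈ R, μ a := by
    intro μ hμ
    rw [← Finset.sum_filter_add_sum_filter_not Finset.univ (fun a => e a < e (π a)), himg,
      Finset.sum_image fun a _ b _ h => hπi h, Finset.sum_congr rfl fun a _ => hμ a, two_mul]
  have hcard : 2 * R.card = Fintype.card α := by
    rw [← Finset.card_univ, ← Finset.card_filter_add_card_filter_not (s := Finset.univ) (fun a => e a < e (π a)), himg,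
      Finset.card_image_of_injective _ hπi, two_mul]
  let g := R.equivFin
  let out : (Fin R.card → ℕ) → α → ℕ := fun ν a =>
    if h : a ∈ R then ν (g ⟨a, h⟩) else if h' : π a ∈ R then ν (g ⟨π a, h'⟩) else 0
  have hR : ∀ a, a ∈ R → π a ∉ R := fun a ha h => by
    simp only [R, Finset.mem_filter, Finset.mem_univ, true_and, hπ] at ha h
    exact lt_asymm ha h
  have hR' : ∀ a, a ∉ R → π a ∈ R := fun a ha => by
    simp only [R, Finset.mem_filter, Finset.mem_univ, true_and, hπ] at ha ⊢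
    exact lt_of_le_of_ne (not_lt.1 ha) fun h' => hfree a (e.injective h')
  have hout : ∀ ν a, out ν (π a) = out ν a := by
    intro ν a
    by_cases ha : a ∈ R
    · simp [out, ha, hR a ha, hπ]
    · simp [out, ha, hR' a ha, hπ]
  have hout1 : ∀ ν (b : ↥R), out ν b = ν (g b) := fun ν b => by simp [out, b.2]
  have hsum' : ∀ μ : α → ℕ, ∑ a ∈ R, μ a = ∑ k, μ (g.symm k : ↥R) := fun μ => by
    rw [Equiv.sum_comp g.symm (fun b : ↥R => μ b)]
    exact (Finset.sum_coe_sort R μ).symm
  refine ⟨Fin R.card, inferInstance, by rw [Fintype.card_fin, hcard], fun P => Nat.card_congr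
    { toFun := fun μ => ⟨fun k => μ.1 (g.symm k : ↥R), by rw [← hsum', ← hsum μ.1 μ.2.1]; exact μ.2.2⟩
      invFun := fun ν => ⟨out ν.1, hout ν.1, by
        rw [hsum _ (hout ν.1), hsum', Finset.sum_congr rfl fun k _ => by rw [hout1, Equiv.apply_symm_apply]]
        exact ν.2⟩
      left_inv := fun μ => Subtype.ext (funext fun a => by
        by_cases ha : a ∈ R
        · simp [out, ha]
        · simp [out, ha, hR' a ha, μ.2.1 a])
      right_inv := fun ν => Subtype.ext (funext fun k => by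
        show out ν.1 (g.symm k : ↥R) = _
        rw [hout1, Equiv.apply_symm_apply]) }⟩

theorem card_fun_le {α : Type*} [Fintype α] (π : α → α) {i N : ℕ} (hi : 0 < i) (hid : ∀ a, π a = a) :
    Nat.card {μ : α → ℕ // i * ∑ a, μ a ≤ N ∧ ∀ a, μ (π a) = μ a} =
      Nat.choose (N / i + Fintype.card α) (Fintype.card α) := by
  rw [← card_sum_le α (N / i)]
  refine Nat.card_congr (Equiv.subtypeEquivRight fun μ => ?_)
  rw [Nat.le_div_iff_mul_le hi, mul_comm]
  exact ⟨fun h => h.1, fun h => ⟨h, fun a => by rw [hid]⟩⟩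

theorem card_fun_le_free {α : Type*} [Fintype α] (π : α → α) (hπ : ∀ a, π (π a) = a) (hfree : ∀ a, π a ≠ a)
    {i N : ℕ} (hi : 0 < i) :
    Nat.card {μ : α → ℕ // i * ∑ a, μ a ≤ N ∧ ∀ a, μ (π a) = μ a} =
      Nat.choose (N / (2 * i) + Fintype.card α / 2) (Fintype.card α / 2) := by
  obtain ⟨β, _, hβ, h⟩ := exists_half π hπ hfree
  rw [Nat.card_congr (Equiv.subtypeEquivRight fun μ => and_comm), h fun S => i * S ≤ N,
    show Fintype.card α / 2 = Fintype.card β by omega, ← card_sum_le β (N / (2 * i))]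
  refine Nat.card_congr (Equiv.subtypeEquivRight fun ν => ?_)
  rw [Nat.le_div_iff_mul_le (by omega), show i * (2 * ∑ b, ν b) = (∑ b, ν b) * (2 * i) by ring]

theorem even_sum_of_free {α : Type*} [Fintype α] (π : α → α) (hπ : ∀ a, π (π a) = a) (hfree : ∀ a, π a ≠ a)
    (μ : α → ℕ) (hμ : ∀ a, μ (π a) = μ a) : Even (∑ a, μ a) := by
  have h : ∑ a, (μ a : ZMod 2) = 0 := Finset.sum_involution (fun a _ => π a)
    (fun a _ => by
      rw [hμ, ← two_mul, show (2 : ZMod 2) = 0 from rfl, zero_mul]) (fun a _ _ => hfree a)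
    (fun a _ => Finset.mem_univ _) (fun a _ => hπ a)
  rw [← Nat.cast_sum, ZMod.natCast_eq_zero_iff] at h
  exact even_iff_two_dvd.2 h

universe u

variable {F : Type u} [Field F] [Fintype F] [DecidableEq F] {r : ℕ} [Fact r.Prime]

theorem eq_one_of_charpoly_eq (p : ℕ) [Fact p.Prime] [CharP F p] {ι : Type*} [Fintype ι] [DecidableEq ι]
    {g : GL ι F} (hg : (orderOf g).Coprime p)
    (h : (g : Matrix ι ι F).charpoly = (X - 1) ^ Fintype.card ι) : g = 1 := by
  have h1 : IsConj g 1 := isConj_of_charpoly (isSemisimple_of_coprime p hg)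
    (isSemisimple_of_coprime p (by simp)) (by rw [h, Units.val_one, Matrix.charpoly_one])
  exact isConj_one_left.1 h1

/-- An element of order prime to `p` has order dividing `r` when its characteristic polynomial is good. -/
theorem pow_eq_one_of_good (p : ℕ) [Fact p.Prime] [CharP F p] {ι : Type*} [Fintype ι] [DecidableEq ι] {N : ℕ}
    {g : GL ι F} (hg : (orderOf g).Coprime p) (h : Good r N (g : Matrix ι ι F).charpoly) : g ^ r = 1 := by
  obtain ⟨f, hf⟩ : ∃ f : Module.End F (ι → F), f = Matrix.toLinAlgEquiv' (g : Matrix ι ι F) := ⟨_, rfl⟩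
  have hss : Module.End.IsSemisimple f := hf ▸ isSemisimple_of_coprime p hg
  have hmd : minpoly F f ∣ (g : Matrix ι ι F).charpoly := by
    refine minpoly.dvd F f ?_
    rw [hf, aeval_algHom_apply, Matrix.aeval_self_charpoly, map_zero]
  have h0 : minpoly F f ≠ 0 := minpoly.ne_zero (IsIntegral.of_finite F f)
  have hdiv : minpoly F f ∣ X ^ r - 1 := dvd_of_squarefree hss.minpoly_squarefree h0
    (X_pow_sub_one_ne_zero (Fact.out : r.Prime).ne_zero) fun Q hQ =>
      h.2.2 Q (UniqueFactorizationMonoid.irreducible_of_normalized_factor Q hQ)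
        ((UniqueFactorizationMonoid.dvd_of_mem_normalizedFactors hQ).trans hmd)
  have h6 := aeval_eq_zero_of_dvd_aeval_eq_zero hdiv (minpoly.aeval F f)
  rw [map_sub, map_pow, aeval_X, map_one, sub_eq_zero, hf, ← map_pow] at h6
  refine Units.ext ?_
  rw [Units.val_pow_eq_pow_val, Units.val_one]
  exact Matrix.toLinAlgEquiv'.injective (h6.trans (map_one _).symm)

theorem good_of_pow_eq_one {ι : Type*} [Fintype ι] [DecidableEq ι] {g : GL ι F} (hg : g ^ r = 1) :
    Good r (Fintype.card ι) (g : Matrix ι ι F).charpoly := by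
  refine ⟨Matrix.charpoly_monic _, Matrix.charpoly_natDegree_eq_dim _, fun Q hQ hd => ?_⟩
  obtain ⟨f, hf⟩ : ∃ f : Module.End F (ι → F), f = Matrix.toLinAlgEquiv' (g : Matrix ι ι F) := ⟨_, rfl⟩
  have hfr : minpoly F f ∣ X ^ r - 1 := minpoly.dvd F f (by
    rw [map_sub, map_pow, aeval_X, map_one, hf, ← map_pow, ← Units.val_pow_eq_pow_val, hg,
      Units.val_one, map_one, sub_self])
  refine (dvd_minpoly_of_dvd_charpoly f hQ ?_).trans hfr
  rw [hf, show LinearMap.charpoly (Matrix.toLinAlgEquiv' (g : Matrix ι ι F)) = (g : Matrix ι ι F).charpoly from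
    Matrix.charpoly_toLin' _]
  exact hd

/-- Classes of elements of order `r` correspond to the admissible multiplicity functions other than zero. -/
theorem card_classes_of_adm {G : Type*} [Group G] {ι : Type*} [Fintype ι] [DecidableEq ι] (j : G →* GL ι F)
    (hj : Function.Injective j) (p : ℕ) [Fact p.Prime] [CharP F p] (hrF : (r : F) ≠ 0) {i : ℕ}
    (hi : i = orderOf ((Fintype.card F : ℕ) : ZMod r))
    (Adm : (↥(factors F r) → ℕ) → Prop)
    (hconj : ∀ a b : G, a ^ r = 1 → b ^ r = 1 →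
      IsConj ((j a : GL ι F) : Matrix ι ι F) (j b : Matrix ι ι F) → IsConj a b)
    (hnec : ∀ (a : G) μ, a ^ r = 1 → i * ∑ Q, μ Q ≤ Fintype.card ι →
      (j a : Matrix ι ι F).charpoly = poly (Fintype.card ι) i μ → Adm μ)
    (hex : ∀ μ, i * ∑ Q, μ Q ≤ Fintype.card ι → Adm μ →
      ∃ a : G, (j a : Matrix ι ι F).charpoly = poly (Fintype.card ι) i μ ∧ (orderOf (j a)).Coprime p) :
    Nat.card {C : ConjClasses G // ∃ g : G, ConjClasses.mk g = C ∧ orderOf g = r} =
      Nat.card {μ : ↥(factors F r) → ℕ // i * ∑ Q, μ Q ≤ Fintype.card ι ∧ Adm μ} - 1 := by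
  classical
  have hr : r ≠ 0 := (Fact.out : r.Prime).ne_zero
  have hi0 : 0 < i := by
    rw [hi, orderOf_pos_iff]
    have hu : ((Fintype.card F : ℕ) : ZMod r) ≠ 0 := by
      rw [Ne, ZMod.natCast_eq_zero_iff]
      intro hd
      obtain ⟨n, hp, hn⟩ := FiniteField.card F p
      rw [hn] at hd
      have := (Nat.prime_dvd_prime_iff_eq Fact.out hp).1 ((Fact.out : r.Prime).dvd_of_dvd_pow hd)
      rw [this] at hrF
      exact hrF (CharP.cast_eq_zero F p)
    exact isOfFinOrder_iff_pow_eq_one.2 ⟨r - 1, by have := (Fact.out : r.Prime).two_le; omega, ZMod.pow_card_sub_one_eq_one hu⟩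
  haveI : Finite {μ : ↥(factors F r) → ℕ // i * ∑ Q, μ Q ≤ Fintype.card ι ∧ Adm μ} := by
    let f : {μ : ↥(factors F r) → ℕ // i * ∑ Q, μ Q ≤ Fintype.card ι ∧ Adm μ} →
        (↥(factors F r) → Fin (Fintype.card ι + 1)) := fun μ Q => ⟨μ.1 Q, by
      have h1 := Finset.single_le_sum (f := μ.1) (fun a _ => Nat.zero_le _) (Finset.mem_univ Q)
      have h2 := Nat.le_mul_of_pos_left (∑ Q, μ.1 Q) hi0
      have := μ.2.1
      omega⟩
    exact Finite.of_injective f fun a b h => Subtype.ext (funext fun Q => congrArg Fin.val (congrFun h Q))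
  have hrp : Nat.Coprime r p := by
    rw [Nat.coprime_primes Fact.out Fact.out]
    rintro rfl
    exact hrF (CharP.cast_eq_zero F r)
  have hjr : ∀ a : G, (j a) ^ r = 1 → a ^ r = 1 := fun a h => hj (by rw [map_pow, h, map_one])
  have h0 : Adm 0 := hnec 1 0 (one_pow r) (by simp) (by rw [map_one, Units.val_one, Matrix.charpoly_one, poly_zero])
  choose rep hrep1 hrep2 using hex
  let z : {μ : ↥(factors F r) → ℕ // i * ∑ Q, μ Q ≤ Fintype.card ι ∧ Adm μ} := ⟨0, by simp, h0⟩
  let Ψ : {μ : {μ : ↥(factors F r) → ℕ // i * ∑ Q, μ Q ≤ Fintype.card ι ∧ Adm μ} // μ ≠ z} →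
      {C : ConjClasses G // ∃ g : G, ConjClasses.mk g = C ∧ orderOf g = r} := fun μ =>
    ⟨ConjClasses.mk (rep μ.1.1 μ.1.2.1 μ.1.2.2), _, rfl, orderOf_eq_prime
      (hjr _ (pow_eq_one_of_good p (hrep2 _ _ _) (by rw [hrep1]; exact good_poly hrF hi μ.1.2.1)))
      fun h1 => μ.2 (Subtype.ext (poly_inj hr (Fintype.card ι) i (by
        rw [← hrep1 μ.1.1 μ.1.2.1 μ.1.2.2, h1, map_one, Units.val_one, Matrix.charpoly_one, poly_zero])))⟩
  have hcharpoly : ∀ a b : G, IsConj a b → (j a : Matrix ι ι F).charpoly = (j b : Matrix ι ι F).charpoly := by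
    intro a b h
    obtain ⟨c, hc⟩ := isConj_iff.1 h
    rw [← hc, map_mul, map_mul, map_inv, Units.val_mul, Units.val_mul, Matrix.coe_units_inv,
      Matrix.charpoly_units_conj]
  have hΨ : Function.Bijective Ψ := by
    constructor
    · intro μ ν h
      have h1 := hcharpoly _ _ (ConjClasses.mk_eq_mk_iff_isConj.1 (congrArg Subtype.val h))
      rw [hrep1, hrep1] at h1
      exact Subtype.ext (Subtype.ext (poly_inj hr _ i h1))
    · rintro ⟨_, g, rfl, hg⟩
      have hgr : g ^ r = 1 := hg ▸ pow_orderOf_eq_one g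
      have hjg : (j g) ^ r = 1 := by rw [← map_pow, hgr, map_one]
      obtain ⟨μ, hμ, hpoly⟩ := exists_poly hrF hi (good_of_pow_eq_one hjg)
      have hA : Adm μ := hnec g μ hgr hμ hpoly.symm
      have hgp : (orderOf (j g)).Coprime p := hrp.coprime_dvd_left (orderOf_dvd_of_pow_eq_one hjg)
      have hne : (⟨μ, hμ, hA⟩ : {μ : ↥(factors F r) → ℕ // i * ∑ Q, μ Q ≤ Fintype.card ι ∧ Adm μ}) ≠ z := by
        intro h
        have hμ0 : μ = 0 := congrArg Subtype.val h
        rw [hμ0, poly_zero] at hpoly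
        have h2 : g = 1 := hj (by rw [eq_one_of_charpoly_eq p hgp hpoly.symm, map_one])
        rw [h2, orderOf_one] at hg
        exact (Fact.out : r.Prime).ne_one hg.symm
      refine ⟨⟨⟨μ, hμ, hA⟩, hne⟩, Subtype.ext (ConjClasses.mk_eq_mk_iff_isConj.2 ?_)⟩
      obtain ⟨c, hc⟩ := isConj_iff.1 (isConj_of_charpoly (isSemisimple_of_coprime p (hrep2 μ hμ hA))
        (isSemisimple_of_coprime p hgp) ((hrep1 μ hμ hA).trans hpoly))
      refine hconj _ _ (hjr _ (pow_eq_one_of_good p (hrep2 _ _ _) (by rw [hrep1]; exact good_poly hrF hi hμ))) hgr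
        ⟨c, congrArg Units.val (mul_inv_eq_iff_eq_mul.1 hc)⟩
  rw [← Nat.card_congr (Equiv.ofBijective Ψ hΨ)]
  haveI := Fintype.ofFinite {μ : ↥(factors F r) → ℕ // i * ∑ Q, μ Q ≤ Fintype.card ι ∧ Adm μ}
  rw [Nat.card_eq_fintype_card, Fintype.card_subtype_compl, Fintype.card_subtype_eq, ← Nat.card_eq_fintype_card]

/-- `star` fixes all factors or none. -/
theorem card_adm {σ : F →+* F} (hσ2 : ∀ a, σ (σ a) = a) (hrF : (r : F) ≠ 0) {q₀ : ℕ} (p e : ℕ) [Fact p.Prime]
    [CharP F p] (hq₀ : q₀ = p ^ e) (hσ : ∀ x, σ x = x ^ q₀) {i N : ℕ} (hi : 0 < i) :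
    ((∃ k : ℕ, ((Fintype.card F : ℕ) : ZMod r) ^ k = -(q₀ : ZMod r)) →
      Nat.card {μ : ↥(factors F r) → ℕ // i * ∑ Q, μ Q ≤ N ∧
        ∀ Q, μ (starF hσ2 (Fact.out : r.Prime).ne_zero Q) = μ Q} =
        Nat.choose (N / i + (factors F r).card) (factors F r).card) ∧
    ((¬ ∃ k : ℕ, ((Fintype.card F : ℕ) : ZMod r) ^ k = -(q₀ : ZMod r)) →
      Nat.card {μ : ↥(factors F r) → ℕ // i * ∑ Q, μ Q ≤ N ∧
        ∀ Q, μ (starF hσ2 (Fact.out : r.Prime).ne_zero Q) = μ Q} =
        Nat.choose (N / (2 * i) + (factors F r).card / 2) ((factors F r).card / 2)) := by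
  refine ⟨fun h => ?_, fun h => ?_⟩
  · rw [card_fun_le _ hi fun Q => (star_eq_iff hσ2 hrF p e hq₀ hσ Q).2 h, Fintype.card_coe]
  · rw [card_fun_le_free _ (starF_starF hσ2 _) (fun Q hQ => h ((star_eq_iff hσ2 hrF p e hq₀ hσ Q).1 hQ)) hi,
      Fintype.card_coe]

theorem neg_one_mem_powers_iff (hr2 : r ≠ 2) {x : ZMod r} {i : ℕ} (hi : i = orderOf x) (hi0 : 0 < i) :
    (∃ k : ℕ, x ^ k = -1) ↔ Even i := by
  haveI : Fact (2 < r) := ⟨lt_of_le_of_ne (Fact.out : r.Prime).two_le (Ne.symm hr2)⟩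
  constructor
  · rintro ⟨k, hk⟩
    rw [← Nat.not_odd_iff_even]
    intro ho
    have h1 : (-1 : ZMod r) ^ i = 1 := by rw [← hk, ← pow_mul, mul_comm, pow_mul, hi, pow_orderOf_eq_one, one_pow]
    rw [ho.neg_one_pow] at h1
    exact ZMod.neg_one_ne_one h1
  · rintro ⟨k, hk⟩
    refine ⟨k, ?_⟩
    have h1 : x ^ k * x ^ k = 1 := by rw [← pow_add, ← hk, hi, pow_orderOf_eq_one]
    refine (mul_self_eq_one_iff.1 h1).resolve_left fun h2 => ?_
    have h3 := Nat.le_of_dvd (by omega) (orderOf_dvd_of_pow_eq_one h2)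
    omega

end CfsgLib.KnownB.PrimeCharpoly
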