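import Cfsg.Agent.Lib.KnownB.PrimeGraphLin

/-!
Eigenvalue fields of isometries: the factors of the minimal polynomial are closed under reversal, which doubles
the dimensions needed by commuting elements of coprime orders.
-/

set_option autoImplicit false
set_option linter.unusedSectionVars false

namespace CfsgLib.KnownB.PrimeGraph

open Polynomial Matrix

universe u

variable {F : Type u} [Field F]

/-- The monic reversal. -/
noncomputable def revM (f : F[X]) : F[X] := C (f.coeff 0)⁻¹ * f.reverse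

theorem natTrailingDegree_eq_zero {f : F[X]} (h : f.coeff 0 ≠ 0) : f.natTrailingDegree = 0 :=
  Nat.eq_zero_of_le_zero (Polynomial.natTrailingDegree_le_of_ne_zero h)

theorem revM_monic {f : F[X]} (h : f.coeff 0 ≠ 0) : (revM f).Monic := by
  rw [revM]
  refine monic_C_mul_of_mul_leadingCoeff_eq_one ?_
  rw [reverse_leadingCoeff, trailingCoeff, natTrailingDegree_eq_zero h]
  exact inv_mul_cancel₀ h

theorem natDegree_revM {f : F[X]} (h : f.coeff 0 ≠ 0) : (revM f).natDegree = f.natDegree := by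
  rw [revM, natDegree_C_mul (inv_ne_zero h), reverse_natDegree, natTrailingDegree_eq_zero h, Nat.sub_zero]

theorem associated_revM {f : F[X]} (h : f.coeff 0 ≠ 0) : Associated (revM f) f.reverse := by
  rw [revM]
  exact associated_unit_mul_left _ _ (Polynomial.isUnit_C.2 (inv_ne_zero h).isUnit)

theorem coeff_zero_ne_of_dvd {f g : F[X]} (h : f ∣ g) (hg : g.coeff 0 ≠ 0) : f.coeff 0 ≠ 0 := by
  obtain ⟨c, rfl⟩ := h
  rw [Polynomial.mul_coeff_zero] at hg
  exact left_ne_zero_of_mul hg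

theorem coeff_zero_X_pow_sub_one {m : ℕ} (hm : 0 < m) : (X ^ m - 1 : F[X]).coeff 0 ≠ 0 := by
  simp [coeff_X_pow, hm.ne]

theorem aeval_reverse_eq_zero {A : Type*} [Ring A] [Algebra F A] (a b : A) (hab : a * b = 1)
    {f : F[X]} (hb : aeval b f = 0) : aeval a f.reverse = 0 := by
  have hpow : ∀ j, a ^ j * b ^ j = 1 := by
    intro j
    induction j with
    | zero => simp
    | succ j ih =>
      rw [pow_succ, pow_succ', mul_assoc, ← mul_assoc a b, hab, one_mul, ih]
  have key : aeval a f.reverse = a ^ f.natDegree * aeval b f := by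
    rw [Polynomial.aeval_eq_sum_range' (p := f.reverse) (n := f.natDegree + 1)
        (Nat.lt_succ_of_le (reverse_natDegree_le f)), aeval_eq_sum_range (p := f), Finset.mul_sum, reverse]
    rw [← Finset.sum_range_reflect]
    refine Finset.sum_congr rfl fun i hi => ?_
    have hi' : i ≤ f.natDegree := Nat.lt_succ_iff.1 (Finset.mem_range.1 hi)
    rw [Nat.add_sub_cancel, coeff_reflect, revAt_le (Nat.sub_le _ _), Nat.sub_sub_self hi', mul_smul_comm]
    congr 1
    conv_rhs => rw [show f.natDegree = f.natDegree - i + i by omega, pow_add, mul_assoc, hpow, mul_one]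
  rw [key, hb, mul_zero]

variable [Fintype F]

/-- Eigenvalue degree of the unitary or split torus containing an element of order `r`. -/
noncomputable def etaQ (F : Type u) [Fintype F] (r : ℕ) : ℕ :=
  if Odd (ordQ F r) then ordQ F r else ordQ F r / 2

theorem etaQ_eq {r η : ℕ}
    (h : (Odd (ordQ F r) ∧ η = ordQ F r) ∨ (Even (ordQ F r) ∧ 2 * η = ordQ F r)) : η = etaQ F r := by
  rcases h with ⟨ho, rfl⟩ | ⟨he, h⟩
  · rw [etaQ, if_pos ho]
  · rw [etaQ, if_neg (Nat.not_odd_iff_even.2 he)]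
    omega

theorem etaQ_le_ordQ (r : ℕ) : etaQ F r ≤ ordQ F r := by
  rw [etaQ]; split <;> omega

theorem two_mul_etaQ_dvd_of_even {r : ℕ} (h : Even (ordQ F r)) : 2 * etaQ F r = ordQ F r := by
  rw [etaQ, if_neg (Nat.not_odd_iff_even.2 h)]
  obtain ⟨c, hc⟩ := h
  omega

theorem le_two_mul_etaQ (r : ℕ) : ordQ F r ≤ 2 * etaQ F r := by
  rw [etaQ]
  split
  · omega
  · rename_i h
    obtain ⟨c, hc⟩ := Nat.not_odd_iff_even.1 h
    omega

section Self

variable {f : F[X]}

/-- An irreducible polynomial equal to its reversal has even degree, with roots inverted by the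
half Frobenius. -/
theorem selfdual (hf : Irreducible f) (hf0 : f.coeff 0 ≠ 0) (hself : f ∣ f.reverse)
    (h2 : ¬ f ∣ X ^ 2 - 1) :
    ∃ h, f.natDegree = 2 * h ∧ f ∣ X ^ (Fintype.card F ^ h + 1) - 1 := by
  classical
  haveI := Fact.mk hf
  haveI : Module.Finite F (AdjoinRoot f) := (AdjoinRoot.powerBasis hf.ne_zero).finite
  haveI : Finite (AdjoinRoot f) := Module.finite_of_finite F
  set α := AdjoinRoot.root f with hα
  have hα0 : α ≠ 0 := by
    intro h0
    have h1 : f ∣ X := AdjoinRoot.mk_eq_zero.1 (by rw [AdjoinRoot.mk_X]; exact h0)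
    exact hf0 (X_dvd_iff.1 ((hf.associated_of_dvd irreducible_X h1).symm.dvd))
  have hroot : aeval α⁻¹ f = 0 := by
    have h1 : aeval α f.reverse = 0 := by
      obtain ⟨c, hc⟩ := hself
      rw [hc, map_mul, AdjoinRoot.aeval_eq, AdjoinRoot.mk_self, zero_mul]
    haveI : Invertible α⁻¹ := invertibleOfNonzero (inv_ne_zero hα0)
    rw [aeval_def, ← eval₂_reverse_eq_zero_iff, invOf_eq_inv, inv_inv]
    exact h1
  set σ : AdjoinRoot f →ₐ[F] AdjoinRoot f :=
    AdjoinRoot.liftAlgHom f (Algebra.ofId F _) α⁻¹ hroot with hσ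
  have hσα : σ α = α⁻¹ := AdjoinRoot.liftAlgHom_root _ _ _ _
  have hbij : Function.Bijective σ :=
    ⟨σ.toRingHom.injective, Finite.surjective_of_injective σ.toRingHom.injective⟩
  obtain ⟨⟨i, hi⟩, hiσ⟩ := (FiniteField.bijective_frobeniusAlgEquivOfAlgebraic_pow F (AdjoinRoot f)).2
    (AlgEquiv.ofBijective σ hbij)
  have hfr : α ^ (Fintype.card F ^ i) = α⁻¹ := by
    have h := AlgEquiv.congr_fun hiσ α
    dsimp only at h
    rw [AlgEquiv.coe_pow, FiniteField.coe_frobeniusAlgEquivOfAlgebraic, pow_iterate] at h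
    simp only [AlgEquiv.coe_ofBijective, hσα] at h
    exact h
  have hD : Module.finrank F (AdjoinRoot f) = f.natDegree := by
    rw [(AdjoinRoot.powerBasis hf.ne_zero).finrank, AdjoinRoot.powerBasis_dim]
  rw [hD] at hi
  have hdvd : f.natDegree ∣ 2 * i := by
    refine Irreducible.natDegree_dvd_of_dvd_X_pow_card_pow_sub_X hf ?_
    rw [← AdjoinRoot.mk_eq_zero, map_sub, map_pow, AdjoinRoot.mk_X, ← hα, two_mul, pow_add, pow_mul,
      Nat.card_eq_fintype_card, hfr, inv_pow, hfr, inv_inv, sub_self]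
  have hi0 : i ≠ 0 := by
    rintro rfl
    rw [pow_zero, pow_one] at hfr
    refine h2 (AdjoinRoot.mk_eq_zero.1 ?_)
    rw [map_sub, map_pow, AdjoinRoot.mk_X, map_one, ← hα, pow_two]
    nth_rewrite 1 [hfr]
    rw [inv_mul_cancel₀ hα0, sub_self]
  obtain ⟨c, hc⟩ := hdvd
  refine ⟨i, ?_, ?_⟩
  · match c, hc with
    | 0, hc => omega
    | 1, hc => omega
    | c + 2, hc => nlinarith
  · rw [← AdjoinRoot.mk_eq_zero, map_sub, map_pow, AdjoinRoot.mk_X, map_one, pow_succ, hfr,
      inv_mul_cancel₀ hα0, sub_self]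

/-- The arithmetic of a root of order divisible by `r` in a self-dual extension of degree `2h`. -/
theorem ordQ_selfdual {r t : ℕ} (hr : r.Prime) (hr2 : r ≠ 2) (hf : Irreducible f) {h : ℕ}
    (h1 : f ∣ X ^ (r * t) - 1) (h2 : ¬ f ∣ X ^ t - 1) (hh : f ∣ X ^ (Fintype.card F ^ h + 1) - 1) :
    ordQ F r ∣ 2 * h ∧ ¬ ordQ F r ∣ h := by
  classical
  haveI := Fact.mk hf
  haveI := Fact.mk hr
  set β := AdjoinRoot.root f ^ t with hβ
  have hβr : β ^ r = 1 := by
    have h := AdjoinRoot.mk_eq_zero.2 h1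
    rw [map_sub, map_pow, AdjoinRoot.mk_X, map_one, sub_eq_zero] at h
    rw [hβ, ← pow_mul, mul_comm, h]
  have hβ1 : β ≠ 1 := fun h => h2 (AdjoinRoot.mk_eq_zero.1
    (by rw [map_sub, map_pow, AdjoinRoot.mk_X, map_one, ← hβ, h, sub_self]))
  have hβh : β ^ (Fintype.card F ^ h + 1) = 1 := by
    have h0 := AdjoinRoot.mk_eq_zero.2 hh
    rw [map_sub, map_pow, AdjoinRoot.mk_X, map_one, sub_eq_zero] at h0
    rw [hβ, ← pow_mul, mul_comm, pow_mul, h0, one_pow]
  have hr1 : r ∣ Fintype.card F ^ h + 1 := by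
    have := orderOf_dvd_of_pow_eq_one hβh
    rwa [orderOf_eq_prime hβr hβ1] at this
  constructor
  · refine (dvd_pow_sub_one_iff _).1 ?_
    rw [show Fintype.card F ^ (2 * h) - 1 = (Fintype.card F ^ h + 1) * (Fintype.card F ^ h - 1) by
      rw [mul_comm 2, pow_mul]; simpa using Nat.sq_sub_sq (Fintype.card F ^ h) 1]
    exact hr1.mul_right _
  · intro hd
    have h3 := Nat.dvd_sub hr1 ((dvd_pow_sub_one_iff _).2 hd)
    rw [show Fintype.card F ^ h + 1 - (Fintype.card F ^ h - 1) = 2 by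
      have := Nat.one_le_pow h (Fintype.card F) Fintype.card_pos; omega] at h3
    exact hr2 ((Nat.prime_dvd_prime_iff_eq hr Nat.prime_two).1 h3)

end Self

section Isometry

variable {ι : Type*} [Fintype ι] [DecidableEq ι]

/-- Reversal preserves the divisors of the minimal polynomial of an isometry. -/
theorem revM_dvd_minpoly {A Jm : Matrix ι ι F} (hJ : IsUnit Jm) (hA : Aᵀ * Jm * A = Jm) {f : F[X]}
    (hf0 : f.coeff 0 ≠ 0) (h : f ∣ minpoly F A) : revM f ∣ minpoly F A := by
  classical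
  obtain ⟨J, rfl⟩ := hJ
  set B : Matrix ι ι F := (↑J⁻¹ : Matrix ι ι F) * Aᵀ * (J : Matrix ι ι F) with hB
  have hBA : B * A = 1 := by
    rw [hB, mul_assoc, mul_assoc, ← mul_assoc Aᵀ, hA, Units.inv_mul]
  have hAB : A * B = 1 := mul_eq_one_comm.1 hBA
  set m := minpoly F A with hm
  have hint : IsIntegral F A := Matrix.isIntegral A
  have hAT : aeval Aᵀ m = 0 := by
    have htr : ∀ P : F[X], aeval Aᵀ P = (aeval A P)ᵀ := by
      intro P
      induction P using Polynomial.induction_on' with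
      | add a b ha hb => rw [map_add, map_add, Matrix.transpose_add, ha, hb]
      | monomial j c =>
        rw [aeval_monomial, aeval_monomial, ← Algebra.smul_def, ← Algebra.smul_def, Matrix.transpose_smul,
          Matrix.transpose_pow]
    rw [htr, hm, minpoly.aeval, Matrix.transpose_zero]
  have hBm : aeval B m = 0 := by
    have hconj : ∀ P : F[X], aeval B P = (↑J⁻¹ : Matrix ι ι F) * aeval Aᵀ P * (J : Matrix ι ι F) := by
      intro P
      induction P using Polynomial.induction_on' with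
      | add a b ha hb => rw [map_add, map_add, mul_add, add_mul, ha, hb]
      | monomial j c =>
        rw [aeval_monomial, aeval_monomial, ← Algebra.smul_def, ← Algebra.smul_def, hB, mul_smul_comm,
          smul_mul_assoc, Units.conj_pow' J]
    rw [hconj, hAT, mul_zero, zero_mul]
  have hrev : m ∣ m.reverse := minpoly.dvd F A
    (aeval_reverse_eq_zero A B hAB hBm)
  have hm0 : m ≠ 0 := minpoly.ne_zero hint
  have hassoc : Associated m m.reverse := by
    refine Polynomial.associated_of_dvd_of_natDegree_le hrev ?_ (reverse_natDegree_le m)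
    rwa [Ne, reverse_eq_zero]
  refine (associated_revM hf0).dvd.trans (dvd_trans ?_ hassoc.symm.dvd)
  obtain ⟨c, hc⟩ := h
  rw [hc, reverse_mul_of_domain]
  exact dvd_mul_right _ _

theorem revM_dvd_X_pow_sub_one {f : F[X]} {m : ℕ} (hm : 0 < m) (h : f ∣ X ^ m - 1) :
    revM f ∣ X ^ m - 1 := by
  have hf0 := coeff_zero_ne_of_dvd h (coeff_zero_X_pow_sub_one hm)
  refine (associated_revM hf0).dvd.trans ?_
  obtain ⟨c, hc⟩ := h
  have h1 : (X ^ m - 1 : F[X]).reverse = -(X ^ m - 1) := by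
    ext i
    rw [coeff_reverse, show (X ^ m - 1 : F[X]) = X ^ m - C 1 by simp, natDegree_X_pow_sub_C]
    simp only [coeff_sub, coeff_X_pow, coeff_C, coeff_neg]
    rcases lt_trichotomy i m with hi | hi | hi
    · rw [revAt_le hi.le]
      rcases Nat.eq_zero_or_pos i with h0 | h0
      · subst h0; simp [hm.ne', hm.ne]
      · simp [show m - i ≠ m by omega, show m - i ≠ 0 by omega, show i ≠ m by omega, h0.ne']
    · subst hi; simp [revAt_le le_rfl, hm.ne, hm.ne']
    · rw [revAt_eq_self_of_lt hi]; simp [hi.ne', show i ≠ 0 by omega]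
  rw [← dvd_neg, ← h1, hc, reverse_mul_of_domain]
  exact dvd_mul_right _ _

theorem irreducible_revM {f : F[X]} (hf : Irreducible f) (hf0 : f.coeff 0 ≠ 0) :
    Irreducible (revM f) := by
  have hrev0 : (f.reverse).coeff 0 ≠ 0 := by
    rw [coeff_zero_reverse]; exact leadingCoeff_ne_zero.2 hf.ne_zero
  refine (associated_revM hf0).symm.irreducible (irreducible_iff.2 ⟨fun hu => ?_, fun a b hab => ?_⟩)
  · have h1 := Polynomial.natDegree_eq_zero_of_isUnit hu
    rw [reverse_natDegree, natTrailingDegree_eq_zero hf0, Nat.sub_zero] at h1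
    exact hf.natDegree_pos.ne' h1
  · have hrr : (f.reverse).reverse = f := by
      ext i
      rw [coeff_reverse, coeff_reverse, reverse_natDegree, natTrailingDegree_eq_zero hf0, Nat.sub_zero,
        revAt_invol]
    have ha0 := coeff_zero_ne_of_dvd (Dvd.intro b hab.symm) hrev0
    have hb0 := coeff_zero_ne_of_dvd (Dvd.intro_left a hab.symm) hrev0
    have h2 := congrArg Polynomial.reverse hab
    rw [hrr, reverse_mul_of_domain] at h2
    rcases hf.isUnit_or_isUnit h2 with hu | hu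
    · refine Or.inl (Polynomial.isUnit_iff_degree_eq_zero.2 ?_)
      have := Polynomial.natDegree_eq_zero_of_isUnit hu
      rw [reverse_natDegree, natTrailingDegree_eq_zero ha0, Nat.sub_zero] at this
      rw [degree_eq_natDegree (fun h => ha0 (by rw [h, coeff_zero])), this, Nat.cast_zero]
    · refine Or.inr (Polynomial.isUnit_iff_degree_eq_zero.2 ?_)
      have := Polynomial.natDegree_eq_zero_of_isUnit hu
      rw [reverse_natDegree, natTrailingDegree_eq_zero hb0, Nat.sub_zero] at this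
      rw [degree_eq_natDegree (fun h => hb0 (by rw [h, coeff_zero])), this, Nat.cast_zero]

/-- The two kinds of factors of the minimal polynomial of an isometry with an eigenvalue of order divisible by
an odd prime. -/
theorem factor_cases {A Jm : Matrix ι ι F} (hJ : IsUnit Jm) (hA : Aᵀ * Jm * A = Jm) {r t : ℕ} (hr : r.Prime)
    (hr2 : r ≠ 2) (ht : 0 < t) {f : F[X]} (hf : Irreducible f) (hfm : f.Monic) (hfA : f ∣ minpoly F A)
    (h1 : f ∣ X ^ (r * t) - 1) (h2 : ¬ f ∣ X ^ t - 1) :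
    (∃ h, f.natDegree = 2 * h ∧ f ∣ X ^ (Fintype.card F ^ h + 1) - 1) ∨
      (Irreducible (revM f) ∧ (revM f).Monic ∧ revM f ≠ f ∧ (revM f).natDegree = f.natDegree ∧
        revM f ∣ minpoly F A ∧ IsCoprime f (revM f)) := by
  have hf0 := coeff_zero_ne_of_dvd h1 (coeff_zero_X_pow_sub_one (Nat.mul_pos hr.pos ht))
  by_cases hself : revM f = f
  · left
    refine selfdual hf hf0 (by
      have := (associated_revM hf0).dvd
      rwa [hself] at this) fun h => ?_
    -- a root of order two has no part of odd order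
    haveI := Fact.mk hf
    haveI := Fact.mk hr
    have e1 := AdjoinRoot.mk_eq_zero.2 h1
    have e2 := AdjoinRoot.mk_eq_zero.2 h
    rw [map_sub, map_pow, AdjoinRoot.mk_X, map_one, sub_eq_zero] at e1 e2
    refine h2 (AdjoinRoot.mk_eq_zero.1 ?_)
    rw [map_sub, map_pow, AdjoinRoot.mk_X, map_one, sub_eq_zero]
    obtain ⟨c, hc⟩ := hr.odd_of_ne_two hr2
    calc AdjoinRoot.root f ^ t
        = AdjoinRoot.root f ^ t * ((AdjoinRoot.root f ^ 2) ^ (c * t)) := by rw [e2, one_pow, mul_one]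
      _ = AdjoinRoot.root f ^ (r * t) := by rw [← pow_mul, ← pow_add, hc]; ring_nf
      _ = 1 := e1
  · right
    exact ⟨irreducible_revM hf hf0, revM_monic hf0, hself, natDegree_revM hf0,
      revM_dvd_minpoly hJ hA hf0 hfA,
      hf.coprime_iff_not_dvd.2 fun h => hself (eq_of_monic_of_associated (revM_monic hf0) hfm
        (hf.associated_of_dvd (irreducible_revM hf hf0) h).symm)⟩

end Isometry

section Bounds

variable {N : ℕ}

theorem eq_zero_of_ann {a : Matrix (Fin N) (Fin N) F} {f : F[X]} (hf : Irreducible f) {q : F[X]}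
    {w : Fin N → F} (hw : w ≠ 0) (hfw : aeval a f *ᵥ w = 0) (hqw : aeval a q *ᵥ w = 0) : f ∣ q := by
  by_contra hd
  obtain ⟨c, d, hcd⟩ := hf.coprime_iff_not_dvd.2 hd
  have h1 := congrArg (fun P => aeval a P *ᵥ w) hcd
  simp only [map_add, map_mul, map_one, Matrix.add_mulVec, ← Matrix.mulVec_mulVec, hfw, hqw,
    Matrix.mulVec_zero, add_zero, Matrix.one_mulVec] at h1
  exact hw h1.symm

theorem commute_aeval {a u : Matrix (Fin N) (Fin N) F} (hc : Commute u a) (q : F[X]) :
    Commute u (aeval a q) := by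
  induction q using Polynomial.induction_on' with
  | add x y hx hy => rw [map_add]; exact hx.add_right hy
  | monomial j c =>
    rw [aeval_monomial]
    exact (Algebra.commute_algebraMap_right c u).mul_right (hc.pow_right j)

theorem eq_zero_of_dvd_of_degreeLT {f : F[X]} {q : Polynomial.degreeLT F f.natDegree}
    (h : f ∣ (q : F[X])) : (q : F[X]) = 0 := by
  by_contra h0
  have h1 := Polynomial.degree_le_of_dvd h h0
  have h2 := Polynomial.mem_degreeLT.1 q.2
  rw [Polynomial.degree_eq_natDegree (fun hz : f = 0 => h0 (zero_dvd_iff.1 (hz ▸ h)))] at h1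
  exact absurd (h1.trans_lt h2) (lt_irrefl _)

/-- A nilpotent inside the piece of `f` doubles it; the piece of `g` adds to it. -/
theorem two_add_le {a u : Matrix (Fin N) (Fin N) F} (hc : Commute u a) {f g : F[X]} (hf : Irreducible f)
    (hg : Irreducible g) (hfg : IsCoprime f g) {v w : Fin N → F} (hv : u *ᵥ v ≠ 0)
    (hv2 : u *ᵥ (u *ᵥ v) = 0) (hfv : aeval a f *ᵥ (u *ᵥ v) = 0) (hw : w ≠ 0)
    (hgw : aeval a g *ᵥ w = 0) : 2 * f.natDegree + g.natDegree ≤ N := by
  have hswap : ∀ q x, u *ᵥ (aeval a q *ᵥ x) = aeval a q *ᵥ (u *ᵥ x) := fun q x => by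
    rw [Matrix.mulVec_mulVec, (commute_aeval hc q).eq, ← Matrix.mulVec_mulVec]
  have hgz : ∀ q, aeval a g *ᵥ (aeval a q *ᵥ w) = 0 := fun q => by
    rw [Matrix.mulVec_mulVec, ← map_mul, mul_comm, map_mul, ← Matrix.mulVec_mulVec, hgw, Matrix.mulVec_zero]
  have hdiv : ∀ q : F[X], f ∣ g * q → f ∣ q := fun q h => hfg.dvd_of_dvd_mul_left h
  let L : Polynomial.degreeLT F f.natDegree × (Polynomial.degreeLT F f.natDegree ×
      Polynomial.degreeLT F g.natDegree) →ₗ[F] (Fin N → F) :=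
    { toFun := fun q => aeval a (q.1 : F[X]) *ᵥ v + (aeval a (q.2.1 : F[X]) *ᵥ (u *ᵥ v) +
        aeval a (q.2.2 : F[X]) *ᵥ w)
      map_add' := fun x y => by simp [Matrix.add_mulVec, add_mul]; abel
      map_smul' := fun c x => by simp [Matrix.smul_mulVec] }
  have hL : Function.Injective L := by
    rw [injective_iff_map_eq_zero]
    rintro ⟨x, y, z⟩ hxyz
    change aeval a (x : F[X]) *ᵥ v + (aeval a (y : F[X]) *ᵥ (u *ᵥ v) + aeval a (z : F[X]) *ᵥ w) = 0 at hxyz
    have h1 := congrArg (aeval a g *ᵥ ·) hxyz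
    simp only [Matrix.mulVec_add, hgz, Matrix.mulVec_zero, add_zero] at h1
    have h2 := congrArg (u *ᵥ ·) h1
    simp only [Matrix.mulVec_add, hswap, hv2, Matrix.mulVec_zero, add_zero] at h2
    rw [Matrix.mulVec_mulVec, ← map_mul] at h2
    have hx : (x : F[X]) = 0 :=
      eq_zero_of_dvd_of_degreeLT (hdiv _ (eq_zero_of_ann hf hv hfv h2))
    simp only [hx, map_zero, Matrix.zero_mulVec, zero_add, Matrix.mulVec_zero] at h1 hxyz
    rw [Matrix.mulVec_mulVec, ← map_mul] at h1
    have hy : (y : F[X]) = 0 :=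
      eq_zero_of_dvd_of_degreeLT (hdiv _ (eq_zero_of_ann hf hv hfv h1))
    simp only [hy, map_zero, Matrix.zero_mulVec, zero_add] at hxyz
    have hz : (z : F[X]) = 0 := eq_zero_of_dvd_of_degreeLT (eq_zero_of_ann hg hw hgw hxyz)
    exact Prod.ext (Subtype.ext hx) (Prod.ext (Subtype.ext hy) (Subtype.ext hz))
  have h := LinearMap.finrank_le_finrank_of_injective hL
  rw [Module.finrank_prod, Module.finrank_prod, LinearEquiv.finrank_eq (Polynomial.degreeLTEquiv F f.natDegree),
    LinearEquiv.finrank_eq (Polynomial.degreeLTEquiv F g.natDegree),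
    Module.finrank_fin_fun, Module.finrank_fin_fun, Module.finrank_fin_fun] at h
  omega

/-- A nilpotent against two coprime pieces. -/
theorem pair_le {a u : Matrix (Fin N) (Fin N) F} (hc : Commute u a) {f g : F[X]} (hf : Irreducible f)
    (hg : Irreducible g) (hfg : IsCoprime f g) {wf wg v : Fin N → F} (hwf : wf ≠ 0) (hwg : wg ≠ 0)
    (hf' : aeval a f *ᵥ wf = 0) (hg' : aeval a g *ᵥ wg = 0) (hv : u *ᵥ v ≠ 0) (hv2 : u *ᵥ (u *ᵥ v) = 0) :
    f.natDegree + g.natDegree + 2 ≤ N ∨ 2 * f.natDegree + g.natDegree ≤ N ∨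
      2 * g.natDegree + f.natDegree ≤ N := by
  have hswap : ∀ q x, u *ᵥ (aeval a q *ᵥ x) = aeval a q *ᵥ (u *ᵥ x) := fun q x => by
    rw [Matrix.mulVec_mulVec, (commute_aeval hc q).eq, ← Matrix.mulVec_mulVec]
  by_cases hgv : aeval a g *ᵥ (u *ᵥ v) = 0
  · exact Or.inr (Or.inr (two_add_le hc hg hf hfg.symm hv hv2 hgv hwf hf'))
  by_cases hfv : aeval a f *ᵥ (aeval a g *ᵥ (u *ᵥ v)) = 0
  · refine Or.inr (Or.inl (two_add_le (v := aeval a g *ᵥ v) hc hf hg hfg ?_ ?_ ?_ hwg hg'))
    · rwa [hswap]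
    · rw [hswap, hswap, hv2, Matrix.mulVec_zero]
    · rwa [hswap]
  refine Or.inl ?_
  set Φ := f * g with hΦ
  have hΦdeg : Φ.natDegree = f.natDegree + g.natDegree :=
    Polynomial.natDegree_mul hf.ne_zero hg.ne_zero
  have hΦv : aeval a Φ *ᵥ (u *ᵥ v) ≠ 0 := by
    rw [hΦ, map_mul, ← Matrix.mulVec_mulVec]
    exact hfv
  set w := wf + wg with hw
  have hcomm : ∀ (P Q : F[X]) x, aeval a P *ᵥ (aeval a Q *ᵥ x) = aeval a Q *ᵥ (aeval a P *ᵥ x) :=
    fun P Q x => by rw [Matrix.mulVec_mulVec, Matrix.mulVec_mulVec, ← map_mul, ← map_mul, mul_comm]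
  have hΦw : aeval a Φ *ᵥ w = 0 := by
    rw [hΦ, map_mul, hw, Matrix.mulVec_add, ← Matrix.mulVec_mulVec, ← Matrix.mulVec_mulVec, hg',
      Matrix.mulVec_zero, add_zero, hcomm f g, hf', Matrix.mulVec_zero]
  have hann : ∀ q : F[X], aeval a q *ᵥ w = 0 → Φ ∣ q := by
    intro q hq
    refine hfg.mul_dvd ?_ ?_
    · refine hfg.dvd_of_dvd_mul_left (eq_zero_of_ann hf hwf hf' ?_)
      have h1 := congrArg (aeval a g *ᵥ ·) hq
      simp only [hw, Matrix.mulVec_add, Matrix.mulVec_zero] at h1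
      rw [hcomm g q wg, hg', Matrix.mulVec_zero, add_zero] at h1
      rwa [Matrix.mulVec_mulVec, ← map_mul] at h1
    · refine hfg.symm.dvd_of_dvd_mul_left (eq_zero_of_ann hg hwg hg' ?_)
      have h1 := congrArg (aeval a f *ᵥ ·) hq
      simp only [hw, Matrix.mulVec_add, Matrix.mulVec_zero] at h1
      rw [hcomm f q wf, hf', Matrix.mulVec_zero, zero_add] at h1
      rwa [Matrix.mulVec_mulVec, ← map_mul] at h1
  let L : Polynomial.degreeLT F Φ.natDegree × (F × F) →ₗ[F] (Fin N → F) :=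
    { toFun := fun q => aeval a (q.1 : F[X]) *ᵥ w + (q.2.1 • v + q.2.2 • (u *ᵥ v))
      map_add' := fun x y => by simp [Matrix.add_mulVec, add_smul]; abel
      map_smul' := fun c x => by simp [Matrix.smul_mulVec, smul_smul] }
  have hL : Function.Injective L := by
    rw [injective_iff_map_eq_zero]
    rintro ⟨q, x, y⟩ hq
    change aeval a (q : F[X]) *ᵥ w + (x • v + y • (u *ᵥ v)) = 0 at hq
    have hΦq : aeval a Φ *ᵥ (aeval a (q : F[X]) *ᵥ w) = 0 := by
      rw [hcomm, hΦw, Matrix.mulVec_zero]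
    have h1 := congrArg (aeval a Φ *ᵥ ·) hq
    simp only [Matrix.mulVec_add, hΦq, zero_add, Matrix.mulVec_smul, Matrix.mulVec_zero] at h1
    have h2 := congrArg (u *ᵥ ·) h1
    simp only [Matrix.mulVec_add, Matrix.mulVec_smul, hswap, hv2, Matrix.mulVec_zero, smul_zero,
      add_zero] at h2
    have hx : x = 0 := (smul_eq_zero.1 h2).resolve_right hΦv
    rw [hx, zero_smul, zero_add] at h1
    have hy : y = 0 := (smul_eq_zero.1 h1).resolve_right hΦv
    rw [hx, hy, zero_smul, zero_smul, add_zero, add_zero] at hq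
    exact Prod.ext (Subtype.ext (eq_zero_of_dvd_of_degreeLT (hann _ hq))) (Prod.ext hx hy)
  have h := LinearMap.finrank_le_finrank_of_injective hL
  rw [Module.finrank_prod, Module.finrank_prod, LinearEquiv.finrank_eq (Polynomial.degreeLTEquiv F Φ.natDegree),
    Module.finrank_fin_fun, Module.finrank_fin_fun, Module.finrank_self, hΦdeg] at h
  omega

/-- An eigenvalue of order divisible by `r` needs `2 η` dimensions in an isometry. -/
theorem exists_closure {A Jm : Matrix (Fin N) (Fin N) F} (hJ : IsUnit Jm) (hA : Aᵀ * Jm * A = Jm) {r t : ℕ}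
    (hr : r.Prime) (hr2 : r ≠ 2) (ht : 0 < t) {f : F[X]} (hf : Irreducible f) (hfm : f.Monic)
    (hfA : f ∣ minpoly F A) (h1 : f ∣ X ^ (r * t) - 1) (h2 : ¬ f ∣ X ^ t - 1) :
    ∃ Φ : F[X], Φ ≠ 0 ∧ Φ ∣ minpoly F A ∧ (Φ = f ∨ Φ = f * revM f) ∧
      2 * etaQ F r ≤ Φ.natDegree ∧ (∀ m, 0 < m → f ∣ X ^ m - 1 → Φ ∣ X ^ m - 1) := by
  have hk := ordQ_dvd_natDegree hr hf h1 h2
  rcases factor_cases hJ hA hr hr2 ht hf hfm hfA h1 h2 with ⟨h, hdeg, hh⟩ | ⟨hi, hm, hne, hdeg, hdvd, hco⟩
  · obtain ⟨hk2, hkh⟩ := ordQ_selfdual hr hr2 hf h1 h2 hh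
    refine ⟨f, hf.ne_zero, hfA, Or.inl rfl, ?_, fun m _ h => h⟩
    have hev : Even (ordQ F r) := by
      by_contra ho
      exact hkh ((Nat.coprime_two_right.2 (Nat.not_even_iff_odd.1 ho)).dvd_of_dvd_mul_left hk2)
    rw [two_mul_etaQ_dvd_of_even hev]
    exact Nat.le_of_dvd hf.natDegree_pos hk
  · refine ⟨f * revM f, mul_ne_zero hf.ne_zero hi.ne_zero, hco.mul_dvd hfA hdvd, Or.inr rfl, ?_,
      fun m hm' h => hco.mul_dvd h (revM_dvd_X_pow_sub_one hm' h)⟩
    rw [natDegree_mul hf.ne_zero hi.ne_zero, hdeg]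
    have := Nat.le_of_dvd hf.natDegree_pos hk
    have := etaQ_le_ordQ (F := F) r
    omega

theorem etaQ_le (p : ℕ) [Fact p.Prime] [CharP F p] {A Jm : Matrix (Fin N) (Fin N) F} (hJ : IsUnit Jm)
    (hA : Aᵀ * Jm * A = Jm) {r : ℕ} (hr : r.Prime) (hr2 : r ≠ 2) (hrp : r ≠ p) (h1 : A ^ r = 1)
    (h2 : A ≠ 1) : 2 * etaQ F r ≤ N := by
  obtain ⟨f, hf, hfm, hfA, hf1, hf2⟩ := exists_factor (r := r) (t := 1)
    (by rw [mul_one]; exact natCast_ne_zero (F := F) p hr hrp) (by rw [mul_one]; exact h1) (by rw [pow_one]; exact h2)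
  obtain ⟨Φ, hΦ0, hΦ, -, hdeg, -⟩ := exists_closure hJ hA hr hr2 one_pos hf hfm hfA hf1 hf2
  exact hdeg.trans (natDegree_le_of_dvd_minpoly hΦ)

/-- Commuting isometries of coprime odd prime orders. -/
theorem pair_criterion (p : ℕ) [Fact p.Prime] [CharP F p] {A Jm : Matrix (Fin N) (Fin N) F}
    (hJ : IsUnit Jm) (hA : Aᵀ * Jm * A = Jm) {r s : ℕ} (hr : r.Prime) (hs : s.Prime) (hr2 : r ≠ 2)
    (hs2 : s ≠ 2) (hrp : r ≠ p) (hsp : s ≠ p) (h1 : A ^ (r * s) = 1) (hAr : A ^ r ≠ 1) (hAs : A ^ s ≠ 1)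
    (hkl : etaQ F r ≤ etaQ F s) (hN : N < 2 * etaQ F r + 2 * etaQ F s) :
    ∃ t, Odd t ∧ ordQ F s = ordQ F r * t := by
  have hF : ((r * s : ℕ) : F) ≠ 0 := by
    rw [Nat.cast_mul]
    exact mul_ne_zero (natCast_ne_zero p hr hrp) (natCast_ne_zero p hs hsp)
  obtain ⟨f, hf, hfm, hfA, hf1, hf2⟩ := exists_factor (r := r) (t := s) hF h1 hAs
  obtain ⟨g, hg, hgm, hgA, hg1, hg2⟩ := exists_factor (r := s) (t := r) (by rwa [mul_comm])
    (by rwa [mul_comm]) hAr
  -- a factor with an eigenvalue of order `r s`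
  by_cases hfr : f ∣ X ^ r - 1
  · by_cases hgs : g ∣ X ^ s - 1
    · exfalso
      obtain ⟨Φ, hΦ0, hΦ, hΦf, hdΦ, hdivΦ⟩ := exists_closure hJ hA hr hr2 hs.pos hf hfm hfA hf1 hf2
      obtain ⟨Ψ, hΨ0, hΨ, hΨg, hdΨ, hdivΨ⟩ := exists_closure hJ hA hs hs2 hr.pos hg hgm hgA hg1 hg2
      have hf0 := coeff_zero_ne_of_dvd hfr (coeff_zero_X_pow_sub_one hr.pos)
      have hg0 := coeff_zero_ne_of_dvd hgs (coeff_zero_X_pow_sub_one hs.pos)
      have hr1 := hdivΦ r hr.pos hfr
      have hco : IsCoprime Φ Ψ := by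
        have key : ∀ x, Irreducible x → x ∣ Φ → x ∣ Ψ → False := by
          intro x hx hxΦ hxΨ
          have hx1 : x ∣ X ^ r - 1 := hxΦ.trans hr1
          rcases hΨg with rfl | rfl
          · exact hg2 ((hx.associated_of_dvd hg hxΨ).symm.dvd.trans hx1)
          · rcases hx.prime.dvd_or_dvd hxΨ with h | h
            · exact hg2 ((hx.associated_of_dvd hg h).symm.dvd.trans hx1)
            · refine hg2 ?_
              have h' := (hx.associated_of_dvd (irreducible_revM hg hg0) h).symm.dvd.trans hx1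
              have h'' := revM_dvd_X_pow_sub_one hr.pos h'
              refine dvd_trans ?_ h''
              -- reversing twice
              have hr0 : (revM g).coeff 0 ≠ 0 := coeff_zero_ne_of_dvd h' (coeff_zero_X_pow_sub_one hr.pos)
              refine dvd_trans ?_ (associated_revM hr0).symm.dvd
              obtain ⟨e, he⟩ := associated_revM hg0
              rw [revM, reverse_mul_of_domain]
              refine dvd_mul_of_dvd_right ?_ _
              have hrr : (g.reverse).reverse = g := by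
                ext i
                rw [coeff_reverse, coeff_reverse, reverse_natDegree, natTrailingDegree_eq_zero hg0, Nat.sub_zero,
                  revAt_invol]
              rw [hrr]
        refine isCoprime_of_irreducible_dvd (fun h => hΦ0 h.1) fun x hx => ?_
        exact fun h1' h2' => key x hx h1' h2'
      have h := natDegree_le_of_dvd_minpoly (hco.mul_dvd hΦ hΨ)
      rw [natDegree_mul hΦ0 hΨ0] at h
      omega
    · exact rs_case hJ hA hr hs hr2 hs2 hg hgm hgA (by rwa [mul_comm]) hgs hg2 hkl hN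
  · exact rs_case hJ hA hr hs hr2 hs2 hf hfm hfA hf1 hf2 hfr hkl hN
where
  rs_case {A Jm : Matrix (Fin N) (Fin N) F} (hJ : IsUnit Jm) (hA : Aᵀ * Jm * A = Jm) {r s : ℕ}
      (hr : r.Prime) (hs : s.Prime) (hr2 : r ≠ 2) (hs2 : s ≠ 2) {f : F[X]} (hf : Irreducible f)
      (hfm : f.Monic) (hfA : f ∣ minpoly F A) (h1 : f ∣ X ^ (r * s) - 1) (h2 : ¬ f ∣ X ^ s - 1)
      (h3 : ¬ f ∣ X ^ r - 1) (hkl : etaQ F r ≤ etaQ F s) (hN : N < 2 * etaQ F r + 2 * etaQ F s) :
      ∃ t, Odd t ∧ ordQ F s = ordQ F r * t := by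
    have h1' : f ∣ X ^ (s * r) - 1 := by rwa [mul_comm]
    have hk := ordQ_dvd_natDegree hr hf h1 h2
    have hl := ordQ_dvd_natDegree hs hf h1' h3
    have hle : f.natDegree ≤ N := natDegree_le_of_dvd_minpoly hfA
    have hpos := hf.natDegree_pos
    rcases factor_cases hJ hA hr hr2 hs.pos hf hfm hfA h1 h2 with ⟨h, hdeg, hh⟩ | ⟨hi, hm, hne, hdeg, hdvd, hco⟩
    · obtain ⟨hk2, hkh⟩ := ordQ_selfdual hr hr2 hf h1 h2 hh
      obtain ⟨hl2, hlh⟩ := ordQ_selfdual hs hs2 hf h1' h3 hh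
      obtain ⟨c, hc⟩ := hl2
      obtain ⟨e, he⟩ := hk2
      have hco' : Odd c := by
        by_contra ho
        obtain ⟨d, rfl⟩ := Nat.not_odd_iff_even.1 ho
        exact hlh ⟨d, by nlinarith⟩
      have heo : Odd e := by
        by_contra ho
        obtain ⟨d, rfl⟩ := Nat.not_odd_iff_even.1 ho
        exact hkh ⟨d, by nlinarith⟩
      by_cases hc1 : c = 1
      · subst hc1
        exact ⟨e, heo, by rw [← he, hc, mul_one]⟩
      · exfalso
        have hev : Even (ordQ F s) := by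
          by_contra ho
          exact hlh ((Nat.coprime_two_right.2 (Nat.not_even_iff_odd.1 ho)).dvd_of_dvd_mul_left ⟨c, hc⟩)
        have hl' := two_mul_etaQ_dvd_of_even (F := F) hev
        have hc3 : 3 ≤ c := by obtain ⟨d, rfl⟩ := hco'; omega
        have h6 : 3 * ordQ F s ≤ 2 * h := by rw [hc, mul_comm 3]; exact Nat.mul_le_mul_left _ hc3
        omega
    · have h2D := natDegree_le_of_dvd_minpoly (hco.mul_dvd hfA hdvd)
      rw [natDegree_mul hf.ne_zero hi.ne_zero, hdeg] at h2D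
      obtain ⟨c, hc⟩ := hl
      have hle2 := le_two_mul_etaQ (F := F) s
      by_cases hc1 : c = 1
      · subst hc1
        rw [mul_one] at hc
        obtain ⟨t, ht⟩ := hk
        refine ⟨t, ?_, by rw [← hc, ← ht]⟩
        by_contra ho
        obtain ⟨d, rfl⟩ := Nat.not_odd_iff_even.1 ho
        have hev : Even (ordQ F s) := ⟨ordQ F r * d, by rw [← hc, ht]; ring⟩
        have := two_mul_etaQ_dvd_of_even (F := F) hev
        omega
      · exfalso
        have hc0 : c ≠ 0 := fun h0 => by rw [h0, mul_zero] at hc; omega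
        have : 2 * ordQ F s ≤ f.natDegree := by
          rw [hc, mul_comm 2]; exact Nat.mul_le_mul_left _ (by omega)
        have := etaQ_le_ordQ (F := F) s
        omega

/-- An isometry of odd prime order `r` commuting with a non-trivial unipotent leaves room. -/
theorem unip_criterion (p : ℕ) [Fact p.Prime] [CharP F p] {A Jm u : Matrix (Fin N) (Fin N) F}
    (hJ : IsUnit Jm) (hA : Aᵀ * Jm * A = Jm) {r n : ℕ} (hr : r.Prime) (hr2 : r ≠ 2) (hrp : r ≠ p)
    (h1 : A ^ r = 1) (h2 : A ≠ 1) (hc : Commute u A) (hu : u ≠ 0) (hnil : IsNilpotent u) (hn : 2 ≤ n)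
    (hN : N ≤ 2 * n + 1) : etaQ F r < n := by
  by_contra hle
  obtain ⟨f, hf, hfm, hfA, hf1, hf2⟩ := exists_factor (r := r) (t := 1)
    (by rw [mul_one]; exact natCast_ne_zero (F := F) p hr hrp) (by rw [mul_one]; exact h1) (by rw [pow_one]; exact h2)
  have hk := Nat.le_of_dvd hf.natDegree_pos (ordQ_dvd_natDegree hr hf hf1 hf2)
  obtain ⟨v, hv, hv2⟩ := exists_vec hu hnil
  obtain ⟨w, hw, hfw⟩ := exists_ker_vec hf hfA
  rcases factor_cases hJ hA hr hr2 one_pos hf hfm hfA hf1 hf2 with ⟨h, hdeg, hh⟩ | ⟨hi, hm, hne, hdeg, hdvd, hco⟩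
  · obtain ⟨hk2, hkh⟩ := ordQ_selfdual hr hr2 hf hf1 hf2 hh
    have hev : Even (ordQ F r) := by
      by_contra ho
      exact hkh ((Nat.coprime_two_right.2 (Nat.not_even_iff_odd.1 ho)).dvd_of_dvd_mul_left hk2)
    have := two_mul_etaQ_dvd_of_even (F := F) hev
    rcases natDegree_add_two_le hc hf hw hfw hv hv2 with h' | h' <;> omega
  · obtain ⟨w', hw', hgw⟩ := exists_ker_vec hi hdvd
    have := etaQ_le_ordQ (F := F) r
    rcases pair_le hc hf hi hco hw hw' hfw hgw hv hv2 with h' | h' | h' <;> omega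

end Bounds

end CfsgLib.KnownB.PrimeGraph
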