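import Cfsg.Agent.Lib.KnownB.PrimeGraphRestrict
import Cfsg.Agent.Lib.Geometry.FormTypes
import Cfsg.Agent.Lib.Geometry.FormTransport
import Cfsg.Agent.Lib.Geometry.InvolutionClasses
import Cfsg.Agent.Lib.Geometry.OmegaMem
import Cfsg.Agent.Lib.Classical.OrthStd

/-!
Elements of `POmega` in odd dimension as matrices preserving a symmetric matrix, and the tori.
-/

set_option autoImplicit false
set_option linter.unusedSectionVars false

namespace CfsgLib.KnownB.PrimeGraph

open Polynomial Matrix QuadraticMap CfsgLib.Geometry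

universe u

variable {F : Type u} [Field F] [Fintype F]

/-- Some nondegenerate symmetric form in dimension `d` has an isometry of order divisible by `m`. -/
def OHas (F : Type u) [Field F] (d m : ℕ) : Prop :=
  ∃ S g : Matrix (Fin d) (Fin d) F, Sᵀ = S ∧ IsUnit S ∧ gᵀ * S * g = S ∧ ∀ k, g ^ k = 1 → m ∣ k

theorem OHas.of_dvd {d m l : ℕ} (h : OHas F d m) (hl : l ∣ m) : OHas F d l := by
  obtain ⟨S, g, h1, h2, h3, h4⟩ := h
  exact ⟨S, g, h1, h2, h3, fun k hk => hl.trans (h4 k hk)⟩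

theorem OHas.one (d : ℕ) : OHas F d 1 := ⟨1, 1, by simp, isUnit_one, by simp, fun k _ => one_dvd k⟩

theorem OHas.add {a b x y : ℕ} (h : OHas F a x) (h' : OHas F b y) : OHas F (a + b) (Nat.lcm x y) := by
  obtain ⟨S, g, h1, h2, h3, h4⟩ := h
  obtain ⟨T, k, t1, t2, t3, t4⟩ := h'
  set R := Matrix.reindexAlgEquiv F F (finSumFinEquiv (m := a) (n := b))
  refine ⟨R (fromBlocks S 0 0 T), R (fromBlocks g 0 0 k), ?_, ?_, ?_, fun j hj => ?_⟩
  · show (R (fromBlocks S 0 0 T))ᵀ = _
    rw [show (R (fromBlocks S 0 0 T))ᵀ = R ((fromBlocks S 0 0 T)ᵀ) from rfl, fromBlocks_transpose, h1, t1,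
      transpose_zero, transpose_zero]
  · refine ((Matrix.isUnit_iff_isUnit_det _).2 ?_).map R
    rw [det_fromBlocks_zero₁₂]
    exact ((Matrix.isUnit_iff_isUnit_det S).1 h2).mul ((Matrix.isUnit_iff_isUnit_det T).1 t2)
  · rw [show (R (fromBlocks g 0 0 k))ᵀ = R ((fromBlocks g 0 0 k)ᵀ) from rfl, ← map_mul, ← map_mul,
      fromBlocks_transpose, fromBlocks_multiply, fromBlocks_multiply]
    simp [h3, t3]
  · rw [← map_pow, ← map_one R, R.injective.eq_iff, fromBlocks_diagonal_pow, ← fromBlocks_one,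
      fromBlocks_inj] at hj
    exact Nat.lcm_dvd (h4 j hj.1) (t4 j hj.2.2.2)

theorem OHas.pad {a m d : ℕ} (h : OHas F a m) (hd : a ≤ d) : OHas F d m := by
  have h' := h.add (OHas.one (F := F) (d - a))
  rwa [Nat.lcm_one_right, Nat.add_sub_cancel' hd] at h'

/-- A rotation of order four. -/
theorem ohas_four (h2 : (2 : F) ≠ 0) : OHas F 2 4 := by
  refine ⟨1, !![0, -1; 1, 0], by simp, isUnit_one, ?_, fun k hk => ?_⟩
  · ext i j; fin_cases i <;> fin_cases j <;> simp [Matrix.mul_apply, Fin.sum_univ_two]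
  · set g : Matrix (Fin 2) (Fin 2) F := !![0, -1; 1, 0]
    have h : g ^ 2 = -1 := by
      rw [pow_two]; ext i j; fin_cases i <;> fin_cases j <;> simp [g]
    have h4 : orderOf g = 2 ^ 2 := by
      haveI := Fact.mk Nat.prime_two
      refine orderOf_eq_prime_pow (fun e => h2 ?_) (by rw [pow_succ 2 1, pow_mul, pow_one, h, neg_one_sq])
      rw [pow_one, h] at e
      have e0 := congrFun (congrFun e 0) 0
      simp at e0
      linear_combination -e0
    exact (show 4 = orderOf g from h4.symm) ▸ orderOf_dvd_of_pow_eq_one hk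

/-- A regular unipotent element in dimension three. -/
theorem ohas_char (p : ℕ) [CharP F p] (h2 : (2 : F) ≠ 0) : OHas F 3 p := by
  refine ⟨!![2, 0, 0; 0, 0, 1; 0, 1, 0], !![1, 0, 1; -2, 1, -1; 0, 0, 1], ?_, ?_, ?_, fun k hk => ?_⟩
  · ext i j; fin_cases i <;> fin_cases j <;> simp
  · rw [Matrix.isUnit_iff_isUnit_det, Matrix.det_fin_three]
    simp [h2]
  · ext i j; fin_cases i <;> fin_cases j <;> simp [Matrix.mul_apply, Fin.sum_univ_three] <;> ring
  · have hpow : ∀ m : ℕ, (!![1, 0, 1; -2, 1, -1; 0, 0, 1] : Matrix (Fin 3) (Fin 3) F) ^ m =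
        !![1, 0, (m : F); -2 * (m : F), 1, -(m : F) ^ 2; 0, 0, 1] := by
      intro m
      induction m with
      | zero => simp [Matrix.one_fin_three]
      | succ m ih =>
        rw [pow_succ, ih]
        ext i j
        fin_cases i <;> fin_cases j <;> simp [Matrix.mul_apply, Fin.sum_univ_three] <;> ring
    rw [hpow] at hk
    exact (CharP.cast_eq_zero_iff F p k).1 (by simpa using congrFun (congrFun hk 0) 2)

/-- The split torus. -/
theorem ohas_split {d : ℕ} (hd : 0 < d) : OHas F (d + d) (Fintype.card F ^ d - 1) := by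
  classical
  obtain ⟨p, hp⟩ := CharP.exists F
  haveI := Fact.mk (CharP.char_is_prime F p)
  haveI : NeZero d := ⟨hd.ne'⟩
  let K := FiniteField.Extension F p d
  let b := (Module.finBasis F K).reindex (finCongr (FiniteField.finrank_extension F p d))
  obtain ⟨ω, hω⟩ := IsCyclic.exists_ofOrder_eq_natCard (α := Kˣ)
  rw [Nat.card_units, FiniteField.natCard_extension, Nat.card_eq_fintype_card] at hω
  set A := Algebra.leftMulMatrix b (ω : K) with hA
  set A' := Algebra.leftMulMatrix b ((ω⁻¹ : Kˣ) : K) with hA'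
  have hAA : A' * A = 1 := by rw [hA, hA', ← map_mul, Units.inv_mul, map_one]
  set R := Matrix.reindexAlgEquiv F F (finSumFinEquiv (m := d) (n := d))
  refine ⟨R (fromBlocks 0 1 1 0), R (fromBlocks A 0 0 A'ᵀ), ?_, ?_, ?_, fun j hj => ?_⟩
  · rw [show (R (fromBlocks 0 1 1 0))ᵀ = R ((fromBlocks 0 1 1 0)ᵀ) from rfl, fromBlocks_transpose]
    simp
  · refine (IsUnit.of_mul_eq_one (fromBlocks 0 1 1 0) ?_).map R
    rw [fromBlocks_multiply]; simp [fromBlocks_one]
  · rw [show (R (fromBlocks A 0 0 A'ᵀ))ᵀ = R ((fromBlocks A 0 0 A'ᵀ)ᵀ) from rfl, ← map_mul, ← map_mul,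
      fromBlocks_transpose, fromBlocks_multiply, fromBlocks_multiply]
    simp [← Matrix.transpose_mul, hAA]
  · rw [← map_pow, ← map_one R, R.injective.eq_iff, fromBlocks_diagonal_pow, ← fromBlocks_one,
      fromBlocks_inj, hA, ← map_pow, map_eq_one_iff _ (Algebra.leftMulMatrix_injective b)] at hj
    rw [← hω]
    refine orderOf_dvd_of_pow_eq_one (Units.ext ?_)
    rw [Units.val_pow_eq_pow_val, Units.val_one]
    exact hj.1

/-- The anisotropic torus. -/
theorem ohas_twisted {h : ℕ} (hh : 0 < h) : OHas F (h + h) (Fintype.card F ^ h + 1) := by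
  classical
  obtain ⟨p, hp⟩ := CharP.exists F
  haveI := Fact.mk (CharP.char_is_prime F p)
  haveI : NeZero (h + h) := ⟨by omega⟩
  let L := FiniteField.Extension F p (h + h)
  set Q := Fintype.card F with hQ
  have hL : Nat.card L = Q ^ (h + h) := by rw [FiniteField.natCard_extension, Nat.card_eq_fintype_card]
  let σ : L ≃ₐ[F] L := (FiniteField.frobeniusAlgEquivOfAlgebraic F L) ^ h
  have hσ : ∀ x : L, σ x = x ^ Q ^ h := fun x => by
    show ((FiniteField.frobeniusAlgEquivOfAlgebraic F L) ^ h) x = _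
    rw [AlgEquiv.coe_pow, FiniteField.coe_frobeniusAlgEquivOfAlgebraic, pow_iterate]
  have hσσ : ∀ x : L, σ (σ x) = x := fun x => by
    haveI := Fintype.ofFinite L
    rw [hσ, hσ, ← pow_mul, ← pow_add, ← hL, Nat.card_eq_fintype_card, FiniteField.pow_card]
  obtain ⟨ω, hω⟩ := IsCyclic.exists_ofOrder_eq_natCard (α := Lˣ)
  rw [Nat.card_units, hL] at hω
  have hQh : 1 < Q ^ h := Nat.one_lt_pow hh.ne' Fintype.one_lt_card
  have hfac : Q ^ (h + h) - 1 = (Q ^ h + 1) * (Q ^ h - 1) := by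
    rw [pow_add]; simpa [pow_two] using Nat.sq_sub_sq (Q ^ h) 1
  set w := ω ^ (Q ^ h - 1) with hw
  have hword : orderOf w = Q ^ h + 1 := by
    rw [hw, orderOf_pow_of_dvd (by omega) (by rw [hω, hfac]; exact dvd_mul_left _ _), hω, hfac,
      Nat.mul_div_cancel _ (by omega)]
  have hwσ : (w : L) * σ (w : L) = 1 := by
    rw [hσ, ← Units.val_pow_eq_pow_val, ← Units.val_mul, ← pow_succ', ← hword, pow_orderOf_eq_one,
      Units.val_one]
  let b := (Module.finBasis F L).reindex (finCongr (FiniteField.finrank_extension F p (h + h)))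
  let B : LinearMap.BilinForm F L := LinearMap.mk₂ F (fun x y => Algebra.trace F L (x * σ y))
    (fun x x' y => by rw [add_mul, map_add])
    (fun a x y => by rw [smul_mul_assoc, map_smul])
    (fun x y y' => by rw [map_add, mul_add, map_add])
    (fun a x y => by rw [map_smul, mul_smul_comm, map_smul])
  refine ⟨LinearMap.BilinForm.toMatrix b B, Algebra.leftMulMatrix b (w : L), ?_, ?_, ?_, fun j hj => ?_⟩
  · ext i j
    rw [Matrix.transpose_apply, LinearMap.BilinForm.toMatrix_apply, LinearMap.BilinForm.toMatrix_apply]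
    show Algebra.trace F L (b j * σ (b i)) = Algebra.trace F L (b i * σ (b j))
    rw [← Algebra.trace_eq_of_algEquiv σ (b i * σ (b j)), map_mul σ, hσσ, mul_comm]
  · rw [Matrix.isUnit_iff_isUnit_det, isUnit_iff_ne_zero]
    refine (LinearMap.BilinForm.nondegenerate_iff_det_ne_zero b).1 ?_
    refine (LinearMap.IsRefl.nondegenerate_iff_separatingLeft ?_).2 fun x hx => ?_
    · intro x y hxy
      show Algebra.trace F L (y * σ x) = 0
      rwa [← Algebra.trace_eq_of_algEquiv σ (y * σ x), map_mul σ, hσσ, mul_comm]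
    refine (traceForm_nondegenerate F L).1 x fun z => ?_
    have h1 : Algebra.trace F L (x * σ (σ z)) = 0 := hx (σ z)
    rw [hσσ] at h1
    rw [Algebra.traceForm_apply, h1]
  · rw [show Algebra.leftMulMatrix b (w : L) = LinearMap.toMatrix b b (LinearMap.mulLeft F (w : L)) from
      (Algebra.toMatrix_lmul_eq b (w : L)).symm, ← LinearMap.BilinForm.toMatrix_comp b b]
    congr 1
    refine LinearMap.ext₂ fun x y => ?_
    show Algebra.trace F L ((w : L) * x * σ ((w : L) * y)) = Algebra.trace F L (x * σ y)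
    rw [map_mul σ, show (w : L) * x * (σ (w : L) * σ y) = (w : L) * σ (w : L) * (x * σ y) by ring, hwσ,
      one_mul]
  · rw [← map_pow, map_eq_one_iff _ (Algebra.leftMulMatrix_injective b)] at hj
    rw [← hword]
    refine orderOf_dvd_of_pow_eq_one (Units.ext ?_)
    rw [Units.val_pow_eq_pow_val, hj, Units.val_one]

section Transfer

variable {N : ℕ}

/-- The quadratic form of a symmetric matrix. -/
noncomputable def symQuad (S : Matrix (Fin N) (Fin N) F) : QuadraticForm F (Fin N → F) :=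
  matQuad ((2 : F)⁻¹ • S)

theorem symQuad_gram (h2 : (2 : F) ≠ 0) {S : Matrix (Fin N) (Fin N) F} (hS : Sᵀ = S) :
    (2 : F)⁻¹ • S + ((2 : F)⁻¹ • S)ᵀ = S := by
  rw [Matrix.transpose_smul, hS, ← add_smul, ← two_mul, mul_inv_cancel₀ h2, one_smul]

theorem polar_symQuad (h2 : (2 : F) ≠ 0) {S : Matrix (Fin N) (Fin N) F} (hS : Sᵀ = S) (u v : Fin N → F) :
    polar (symQuad S) u v = u ⬝ᵥ (S *ᵥ v) := by
  rw [symQuad, polar_matQuad, symQuad_gram h2 hS]

theorem symQuad_nondeg (h2 : (2 : F) ≠ 0) {S : Matrix (Fin N) (Fin N) F} (hS : Sᵀ = S) (hSu : IsUnit S) :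
    (polarBilin (symQuad S)).Nondegenerate :=
  nondegenerate_matQuad (by rw [symQuad_gram h2 hS]; exact ((Matrix.isUnit_iff_isUnit_det S).1 hSu).ne_zero)

/-- Isometries as matrices. -/
noncomputable def orthMat (Q : QuadraticForm F (Fin N → F)) : orth Q →* Matrix (Fin N) (Fin N) F where
  toFun g := LinearMap.toMatrix' (g : (Fin N → F) ≃ₗ[F] (Fin N → F)).toLinearMap
  map_one' := LinearMap.toMatrix'_id
  map_mul' g h := by rw [← LinearMap.toMatrix'_comp]; rfl

theorem orthMat_mulVec (Q : QuadraticForm F (Fin N → F)) (g : orth Q) (v : Fin N → F) :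
    orthMat Q g *ᵥ v = (g : (Fin N → F) ≃ₗ[F] (Fin N → F)) v :=
  LinearMap.toMatrix'_mulVec _ v

theorem orthMat_injective (Q : QuadraticForm F (Fin N → F)) : Function.Injective (orthMat Q) := fun g h e =>
  Subtype.ext (LinearEquiv.ext fun v => by rw [← orthMat_mulVec, e, orthMat_mulVec])

theorem orthMat_pow_eq_one (Q : QuadraticForm F (Fin N → F)) (g : orth Q) (k : ℕ) :
    orthMat Q g ^ k = 1 ↔ orderOf g ∣ k := by
  rw [← map_pow, ← map_one (orthMat Q), (orthMat_injective Q).eq_iff, orderOf_dvd_iff_pow_eq_one]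

theorem orthMat_isometry (h2 : (2 : F) ≠ 0) {S : Matrix (Fin N) (Fin N) F} (hS : Sᵀ = S)
    (g : orth (symQuad S)) : (orthMat _ g)ᵀ * S * orthMat _ g = S := by
  refine Matrix.toBilin'.injective (LinearMap.ext₂ fun u v => ?_)
  rw [Matrix.toBilin'_apply', Matrix.toBilin'_apply']
  rw [← Matrix.mulVec_mulVec, ← Matrix.mulVec_mulVec,
    Matrix.dotProduct_mulVec u, Matrix.vecMul_transpose, orthMat_mulVec, orthMat_mulVec,
    ← polar_symQuad h2 hS, orth_polar g.2, polar_symQuad h2 hS]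

theorem finite_orth (Q : QuadraticForm F (Fin N → F)) : Finite (orth Q) :=
  Finite.of_injective (orthMat Q) (orthMat_injective Q)

theorem exists_orth (h2 : (2 : F) ≠ 0) {S A : Matrix (Fin N) (Fin N) F} (hS : Sᵀ = S) (hSu : IsUnit S)
    (hA : Aᵀ * S * A = S) : ∃ g : orth (symQuad S), orthMat _ g = A := by
  have hAu : IsUnit A := by
    rw [Matrix.isUnit_iff_isUnit_det, isUnit_iff_ne_zero]
    intro h0
    have := congrArg Matrix.det hA
    rw [Matrix.det_mul, h0, mul_zero] at this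
    exact ((Matrix.isUnit_iff_isUnit_det S).1 hSu).ne_zero this.symm
  refine ⟨⟨glEquiv hAu.unit, fun v => ?_⟩, ?_⟩
  · show symQuad S (A *ᵥ v) = symQuad S v
    refine mul_left_cancel₀ h2 ?_
    rw [← polar_self', ← polar_self', polar_symQuad h2 hS, polar_symQuad h2 hS, Matrix.mulVec_mulVec,
      Matrix.dotProduct_mulVec, ← Matrix.vecMul_transpose, Matrix.vecMul_vecMul, ← mul_assoc, hA,
      Matrix.dotProduct_mulVec]
  · refine Matrix.ext_iff_mulVec.2 fun v => ?_
    rw [orthMat_mulVec]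
    rfl

variable {n : ℕ}

/-- All nondegenerate forms in dimension `2n + 1` give the standard group. -/
theorem exists_formSim (h2 : (2 : F) ≠ 0) {S : Matrix (Fin (2 * n + 1)) (Fin (2 * n + 1)) F} (hS : Sᵀ = S)
    (hSu : IsUnit S) : Nonempty (FormSim (Cfsg.quadFormOdd n F) ⇑(symQuad S)) := by
  obtain ⟨E, c, hc, he⟩ := isSimTo_odd (symQuad S) (symQuad_nondeg h2 hS hSu) (m := n) (Fintype.card_fin _)
  exact ⟨⟨E, Units.mk0 c hc, he⟩⟩

/-- The orders in the standard group are the orders in the derived orthogonal group of any form. -/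
theorem mem_range_pOmega_iff (h2 : (2 : F) ≠ 0) (hn : 3 ≤ n)
    {S : Matrix (Fin (2 * n + 1)) (Fin (2 * n + 1)) F} (hS : Sᵀ = S) (hSu : IsUnit S) (m : ℕ) :
    m ∈ Set.range (orderOf : Cfsg.POmega F (Cfsg.quadFormOdd n F) → ℕ) ↔
      ∃ g : orth (symQuad S), g ∈ commutator (orth (symQuad S)) ∧ orderOf g = m := by
  obtain ⟨T⟩ := exists_formSim h2 hS hSu
  have hQ := symQuad_nondeg h2 hS hSu
  have hc := center_omega_odd h2 hQ (by rw [Module.finrank_fin_fun]; omega)
    (by rw [Module.finrank_fin_fun]; exact odd_two_mul_add_one n)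
  haveI := finite_orth (symQuad S)
  let e := T.pomegaEquiv.trans (CfsgLib.Geometry.pOmegaEquiv (symQuad S))
  have hcop : ∀ k : ℕ, k.Coprime (Nat.card (Subgroup.center (commutator (orth (symQuad S))))) := fun k => by
    rw [hc, Subgroup.card_bot]; exact Nat.coprime_one_right k
  constructor
  · rintro ⟨x, rfl⟩
    obtain ⟨g, hg⟩ := (mem_range_quotient_iff _ (hcop _)).1 ⟨e x, e.orderOf_eq x⟩
    exact ⟨g, g.2, (Subgroup.orderOf_coe g).trans hg⟩
  · rintro ⟨g, hg, rfl⟩
    obtain ⟨y, hy⟩ := (mem_range_quotient_iff _ (hcop _)).2 ⟨⟨g, hg⟩, (Subgroup.orderOf_mk g hg)⟩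
    exact ⟨e.symm y, (e.symm.orderOf_eq y).trans hy⟩

theorem sq_mem_commutator {V : Type*} [AddCommGroup V] [Module F V] [FiniteDimensional F V]
    {Q : QuadraticForm F V} (hQ : (polarBilin Q).Nondegenerate) (h2 : (2 : F) ≠ 0)
    (hn : 2 ≤ Module.finrank F V) (g : orth Q) : g ^ 2 ∈ commutator (orth Q) := by
  rw [← ker_orthInvariant hQ hn h2 (reflGroup_eq_orth_of_two_ne hQ h2), MonoidHom.mem_ker, map_pow, pow_two]
  refine Prod.ext (sqClass_mul_self _) ?_
  exact (by decide : ∀ z : Multiplicative (ZMod 2), z * z = 1) _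

/-- An isometry in any form gives an element of the standard group. -/
theorem mem_range_of_ohas (h2 : (2 : F) ≠ 0) (hn : 3 ≤ n) {m' m : ℕ} (h : OHas F (2 * n + 1) m')
    (hm : ∀ k, m' ∣ 2 * k → m ∣ k) :
    m ∈ Set.range (orderOf : Cfsg.POmega F (Cfsg.quadFormOdd n F) → ℕ) := by
  obtain ⟨S, A, hS, hSu, hA, hord⟩ := h
  obtain ⟨g, rfl⟩ := exists_orth h2 hS hSu hA
  have hQ := symQuad_nondeg h2 hS hSu
  haveI := finite_orth (symQuad S)
  have hfin : IsOfFinOrder (g ^ 2) := isOfFinOrder_of_finite _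
  obtain ⟨k, hk⟩ : m ∣ orderOf (g ^ 2) := hm _ (hord _ (by
    rw [← map_pow, pow_mul, pow_orderOf_eq_one, map_one]))
  refine (mem_range_pOmega_iff h2 hn hS hSu m).2 ⟨(g ^ 2) ^ k, pow_mem (sq_mem_commutator hQ h2
    (by rw [Module.finrank_fin_fun]; omega) g) k, ?_⟩
  have hk0 : k ≠ 0 := fun h0 => by
    have := hfin.orderOf_pos
    simp [hk, h0] at this
  rw [orderOf_pow_of_dvd hk0 (hk ▸ dvd_mul_left k m), hk, Nat.mul_div_cancel _ (Nat.pos_of_ne_zero hk0)]

theorem card_pOmega_eq_PSp (h2 : (2 : F) ≠ 0) (hn : 3 ≤ n) :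
    Nat.card (Cfsg.POmega F (Cfsg.quadFormOdd n F)) = Nat.card (Cfsg.PSp n F) := by
  obtain ⟨T⟩ := exists_formSim (n := n) h2 (S := 1) Matrix.transpose_one isUnit_one
  have h1 := card_pOmega_odd_dim (M := (2 : F)⁻¹ • (1 : Matrix (Fin (2 * n + 1)) (Fin (2 * n + 1)) F)) h2
    (by rw [Fintype.card_fin]; omega) (by rw [Fintype.card_fin]; exact odd_two_mul_add_one n)
    (by rw [symQuad_gram h2 Matrix.transpose_one, Matrix.det_one]; exact one_ne_zero)
  rw [show matQuad ((2 : F)⁻¹ • (1 : Matrix (Fin (2 * n + 1)) (Fin (2 * n + 1)) F)) = symQuad 1 from rfl,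
    ← Nat.card_congr T.pomegaEquiv.toEquiv, ← Nat.card_congr T.isoEquiv.toEquiv,
    CfsgLib.Classical.card_isometry_odd h2] at h1
  haveI : Nonempty (Fin n) := ⟨⟨0, by omega⟩⟩
  have h3 := Subgroup.card_eq_card_quotient_mul_card_subgroup
    (Subgroup.center (Matrix.symplecticGroup (Fin n) F))
  rw [CfsgLib.Classical.card_symplecticGroup, CfsgLib.Classical.card_center_sp, Fintype.card_fin,
    Nat.card_eq_fintype_card] at h3
  rw [Nat.card_eq_fintype_card (α := F)] at h1
  have h4 : Nat.gcd 2 (Fintype.card F - 1) = 2 := by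
    refine Nat.gcd_eq_left ?_
    have := FiniteField.odd_card_of_char_ne_two (F := F) fun hc => h2 (by
      haveI := ringChar.of_eq hc; exact CharTwo.two_eq_zero)
    omega
  rw [h4] at h3
  change _ = Nat.card (Cfsg.PSp n F) * 2 at h3
  rw [mul_assoc] at h1
  omega

end Transfer

end CfsgLib.KnownB.PrimeGraph
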