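import Cfsg.Agent.Lib.KnownB.PrimeGraphSp

/-!
Isometries of prime order filling the space: their centralisers, and the restriction of an isometry to the
eigenspace of a commuting involution.
-/

set_option autoImplicit false
set_option linter.unusedSectionVars false

namespace CfsgLib.KnownB.PrimeGraph

open Polynomial Matrix

universe u

variable {F : Type u} [Field F] [Fintype F]

section Restrict

variable {N : ℕ}

/-- Coordinates on the image of a self-adjoint idempotent commuting with an isometry. -/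
theorem exists_restrict {A Jm E : Matrix (Fin N) (Fin N) F} (hJ : IsUnit Jm) (hE : E * E = E)
    (hEJ : Eᵀ * Jm = Jm * E) (hAE : Commute A E) (hA : Aᵀ * Jm * A = Jm) :
    ∃ (d : ℕ) (R : Matrix (Fin N) (Fin d) F) (L : Matrix (Fin d) (Fin N) F) (B : Matrix (Fin d) (Fin d) F),
      L * R = 1 ∧ R * L = E ∧ A * R = R * B ∧ IsUnit (Rᵀ * Jm * R) ∧
        Bᵀ * (Rᵀ * Jm * R) * B = Rᵀ * Jm * R ∧ ∀ k, R * B ^ k = A ^ k * R := by
  classical
  let W := LinearMap.range (Matrix.toLin' E)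
  let b := Module.finBasis F W
  let Rl : (Fin (Module.finrank F W) → F) →ₗ[F] (Fin N → F) := W.subtype ∘ₗ b.equivFun.symm.toLinearMap
  let Ll : (Fin N → F) →ₗ[F] (Fin (Module.finrank F W) → F) :=
    b.equivFun.toLinearMap ∘ₗ (Matrix.toLin' E).rangeRestrict
  set R := LinearMap.toMatrix' Rl with hR
  set L := LinearMap.toMatrix' Ll with hL
  have hRL : R * L = E := by
    rw [hR, hL, ← LinearMap.toMatrix'_comp]
    refine (congrArg LinearMap.toMatrix' (?_ : _ = Matrix.toLin' E)).trans (LinearMap.toMatrix'_toLin' E)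
    refine LinearMap.ext fun x => ?_
    simp [Rl, Ll]
  have hLR : L * R = 1 := by
    rw [hR, hL, ← LinearMap.toMatrix'_comp, ← LinearMap.toMatrix'_id]
    congr 1
    refine LinearMap.ext fun x => ?_
    show b.equivFun ((Matrix.toLin' E).rangeRestrict ((b.equivFun.symm x : W) : Fin N → F)) = x
    obtain ⟨y, hy⟩ := (b.equivFun.symm x).2
    rw [show (Matrix.toLin' E).rangeRestrict ((b.equivFun.symm x : W) : Fin N → F) = b.equivFun.symm x from
      Subtype.ext (by
        show Matrix.toLin' E ((b.equivFun.symm x : W) : Fin N → F) = _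
        rw [← hy, Matrix.toLin'_apply, Matrix.toLin'_apply, Matrix.mulVec_mulVec, hE]),
      LinearEquiv.apply_symm_apply]
  have hER : E * R = R := by rw [← hRL, Matrix.mul_assoc, hLR, Matrix.mul_one]
  have hAR : A * R = R * (L * A * R) := by
    rw [← Matrix.mul_assoc, ← Matrix.mul_assoc, hRL, ← hAE.eq, Matrix.mul_assoc, hER]
  refine ⟨_, R, L, L * A * R, hLR, hRL, hAR, ?_, ?_, fun k => ?_⟩
  · obtain ⟨J, rfl⟩ := hJ
    refine IsUnit.of_mul_eq_one (L * (↑J⁻¹ : Matrix (Fin N) (Fin N) F) * Lᵀ) ?_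
    calc Rᵀ * (J : Matrix (Fin N) (Fin N) F) * R * (L * (↑J⁻¹ : Matrix (Fin N) (Fin N) F) * Lᵀ)
        = Rᵀ * ((J : Matrix (Fin N) (Fin N) F) * E) * (↑J⁻¹ : Matrix (Fin N) (Fin N) F) * Lᵀ := by
          rw [← hRL]; simp only [Matrix.mul_assoc]
      _ = Rᵀ * Eᵀ * Lᵀ := by
          rw [← hEJ]
          simp only [Matrix.mul_assoc]
          rw [← Matrix.mul_assoc (J : Matrix (Fin N) (Fin N) F) (↑J⁻¹ : Matrix (Fin N) (Fin N) F),
            Units.mul_inv, Matrix.one_mul]
      _ = (L * (E * R))ᵀ := by simp only [Matrix.transpose_mul, Matrix.mul_assoc]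
      _ = 1 := by rw [hER, hLR, Matrix.transpose_one]
  · calc (L * A * R)ᵀ * (Rᵀ * Jm * R) * (L * A * R)
        = (R * (L * A * R))ᵀ * Jm * (R * (L * A * R)) := by simp only [Matrix.transpose_mul, Matrix.mul_assoc]
      _ = Rᵀ * (Aᵀ * Jm * A) * R := by rw [← hAR]; simp only [Matrix.transpose_mul, Matrix.mul_assoc]
      _ = _ := by rw [hA]
  · induction k with
    | zero => simp
    | succ k ih =>
      rw [pow_succ, pow_succ, ← Matrix.mul_assoc, ih, Matrix.mul_assoc, ← hAR, ← Matrix.mul_assoc]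

/-- The two halves fill the space. -/
theorem dim_add {d d' : ℕ} {R : Matrix (Fin N) (Fin d) F} {L : Matrix (Fin d) (Fin N) F}
    {R' : Matrix (Fin N) (Fin d') F} {L' : Matrix (Fin d') (Fin N) F} (hLR : L * R = 1) (hLR' : L' * R' = 1)
    (h : R * L + R' * L' = 1) (h0 : R * L * (R' * L') = 0) (h0' : R' * L' * (R * L) = 0) : d + d' = N := by
  have e1 : L * R' = 0 := by
    calc L * R' = (L * R) * L * R' * (L' * R') := by rw [hLR, hLR', Matrix.one_mul, Matrix.mul_one]
      _ = L * (R * L * (R' * L')) * R' := by simp only [Matrix.mul_assoc]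
      _ = 0 := by rw [h0, Matrix.mul_zero, Matrix.zero_mul]
  have e2 : L' * R = 0 := by
    calc L' * R = (L' * R') * L' * R * (L * R) := by rw [hLR, hLR', Matrix.one_mul, Matrix.mul_one]
      _ = L' * (R' * L' * (R * L)) * R := by simp only [Matrix.mul_assoc]
      _ = 0 := by rw [h0', Matrix.mul_zero, Matrix.zero_mul]
  let e : ((Fin d → F) × (Fin d' → F)) ≃ₗ[F] (Fin N → F) :=
    LinearEquiv.ofLinear
      ((Matrix.mulVecLin R).coprod (Matrix.mulVecLin R'))
      ((Matrix.mulVecLin L).prod (Matrix.mulVecLin L'))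
      (LinearMap.ext fun x => by
        simp [Matrix.mulVec_mulVec, ← Matrix.add_mulVec, h])
      (LinearMap.ext fun x => by
        simp [Matrix.mulVec_add, Matrix.mulVec_mulVec, hLR, hLR', e1, e2])
  have h2 := e.finrank_eq
  rw [Module.finrank_prod, Module.finrank_fin_fun, Module.finrank_fin_fun, Module.finrank_fin_fun] at h2
  exact h2

theorem pow_restrict_eq_one {d : ℕ} {R : Matrix (Fin N) (Fin d) F} {L : Matrix (Fin d) (Fin N) F}
    {A : Matrix (Fin N) (Fin N) F} {B : Matrix (Fin d) (Fin d) F} (hLR : L * R = 1)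
    (hpow : ∀ k, R * B ^ k = A ^ k * R) {k : ℕ} (hk : A ^ k = 1) : B ^ k = 1 := by
  rw [← Matrix.one_mul (B ^ k), ← hLR, Matrix.mul_assoc, hpow, hk, Matrix.one_mul]

/-- Everything commuting with a cyclic matrix is a polynomial in it. -/
theorem exists_aeval_of_cyclic {a u : Matrix (Fin N) (Fin N) F} (hc : Commute u a) {Φ : F[X]}
    (hdeg : Φ.natDegree = N) {v : Fin N → F} (hann : ∀ q : F[X], aeval a q *ᵥ v = 0 → Φ ∣ q) :
    ∃ P : F[X], u = aeval a P := by
  let ev : Polynomial.degreeLT F Φ.natDegree →ₗ[F] (Fin N → F) :=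
    { toFun := fun q => aeval a (q : F[X]) *ᵥ v
      map_add' := fun x y => by simp [Matrix.add_mulVec]
      map_smul' := fun c x => by simp [Matrix.smul_mulVec] }
  have hev : Function.Injective ev :=
    (injective_iff_map_eq_zero ev).2 fun q hq => Subtype.ext (eq_zero_of_dvd_of_degreeLT (hann _ hq))
  have hs : Function.Surjective ev :=
    (LinearMap.injective_iff_surjective_of_finrank_eq_finrank
      (by rw [LinearEquiv.finrank_eq (Polynomial.degreeLTEquiv F Φ.natDegree), Module.finrank_fin_fun,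
        Module.finrank_fin_fun, hdeg])).1 hev
  obtain ⟨P, hP⟩ := hs (u *ᵥ v)
  refine ⟨(P : F[X]), Matrix.ext_iff_mulVec.2 fun x => ?_⟩
  obtain ⟨q, rfl⟩ := hs x
  show u *ᵥ (aeval a (q : F[X]) *ᵥ v) = aeval a (P : F[X]) *ᵥ (aeval a (q : F[X]) *ᵥ v)
  rw [Matrix.mulVec_mulVec, (commute_aeval hc _).eq, ← Matrix.mulVec_mulVec, ← hP]
  show aeval a (q : F[X]) *ᵥ (aeval a (P : F[X]) *ᵥ v) = _
  rw [Matrix.mulVec_mulVec, Matrix.mulVec_mulVec, ← map_mul, ← map_mul, mul_comm]

theorem aeval_pow_card {ι : Type*} [Fintype ι] [DecidableEq ι] (A : Matrix ι ι F) (P : F[X]) (i : ℕ) :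
    aeval (A ^ (Fintype.card F ^ i)) P = aeval A P ^ (Fintype.card F ^ i) := by
  induction i with
  | zero => simp
  | succ i ih =>
    rw [pow_succ, pow_mul, pow_mul, ← ih, ← Polynomial.expand_aeval, FiniteField.expand_card, map_pow]

end Restrict

/-- `4` divides the order of the torus through an element of order `r`. -/
def TorCrit (F : Type u) [Fintype F] (r n : ℕ) : Prop :=
  if Even (ordQ F r) then 4 ∣ Fintype.card F ^ n + 1 else 4 ∣ Fintype.card F ^ n - 1

/-- The order of the torus through an element of order `r`. -/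
theorem torus_cases (p : ℕ) [Fact p.Prime] [CharP F p] {r n : ℕ} (hr : r.Prime) (hr2 : r ≠ 2) (hrp : r ≠ p)
    (hη : etaQ F r = n) :
    (Even (ordQ F r) ∧ ordQ F r = 2 * n ∧ r ∣ Fintype.card F ^ n + 1) ∨
      (¬ Even (ordQ F r) ∧ ordQ F r = n ∧ r ∣ Fintype.card F ^ n - 1) := by
  have hk := ordQ_pos (F := F) p hr hrp
  by_cases he : Even (ordQ F r)
  · left
    have h2 := two_mul_etaQ_dvd_of_even (F := F) he
    rw [hη] at h2
    refine ⟨he, h2.symm, exists_sp_common.dvd_succ_pow hr ⟨1, by omega⟩ fun hd => ?_⟩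
    have := Nat.le_of_dvd (by omega) hd
    omega
  · right
    have h2 : ordQ F r = n := by rw [← hη, etaQ, if_pos (Nat.not_even_iff_odd.1 he)]
    exact ⟨he, h2, (dvd_pow_sub_one_iff _).2 (dvd_of_eq h2)⟩

section Filling

variable {N : ℕ}

/-- An isometry of order `r` with `2 η(r) = N` has an eigenvalue field filling the space. -/
theorem exists_cyclic (p : ℕ) [Fact p.Prime] [CharP F p] {A Jm : Matrix (Fin N) (Fin N) F} (hJ : IsUnit Jm)
    (hA : Aᵀ * Jm * A = Jm) {r n : ℕ} (hr : r.Prime) (hr2 : r ≠ 2) (hrp : r ≠ p) (h1 : A ^ r = 1) (h2 : A ≠ 1)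
    (hη : etaQ F r = n) (hN : N = n + n) :
    ∃ f Φ : F[X], ∃ v : Fin N → F, Irreducible f ∧ f.Monic ∧ f ∣ X ^ r - 1 ∧ ¬ f ∣ X - 1 ∧
      Φ ∣ minpoly F A ∧ Φ.Monic ∧ Φ.natDegree = N ∧ (∀ q : F[X], aeval A q *ᵥ v = 0 → Φ ∣ q) ∧
      ((Even (ordQ F r) ∧ f.natDegree = N ∧ Φ = f) ∨
        (¬ Even (ordQ F r) ∧ f.natDegree = n ∧ Φ = f * revM f ∧ f.coeff 0 ≠ 0)) := by
  obtain ⟨f, hf, hfm, hfA, hf1, hf2⟩ := exists_factor (r := r) (t := 1)
    (by rw [mul_one]; exact natCast_ne_zero (F := F) p hr hrp) (by rw [mul_one]; exact h1)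
    (by rw [pow_one]; exact h2)
  have hk := Nat.le_of_dvd hf.natDegree_pos (ordQ_dvd_natDegree hr hf hf1 hf2)
  obtain ⟨w, hw, hfw⟩ := exists_ker_vec hf hfA
  have hf1' : f ∣ X ^ r - 1 := by simpa using hf1
  have hf2' : ¬ f ∣ X - 1 := by simpa using hf2
  have hcases := torus_cases (F := F) p hr hr2 hrp hη
  rcases factor_cases hJ hA hr hr2 one_pos hf hfm hfA hf1 hf2 with ⟨h, hdeg, hh⟩ | ⟨hi, hm, hne, hdeg, hdvd, hco⟩
  · obtain ⟨hk2, hkh⟩ := ordQ_selfdual hr hr2 hf hf1 hf2 hh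
    have hev : Even (ordQ F r) := by
      by_contra ho
      exact hkh ((Nat.coprime_two_right.2 (Nat.not_even_iff_odd.1 ho)).dvd_of_dvd_mul_left hk2)
    have hle := natDegree_le_of_dvd_minpoly hfA
    have hd : f.natDegree = N := by
      rcases hcases with ⟨-, h', -⟩ | ⟨h', -, -⟩
      · omega
      · exact absurd hev h'
    exact ⟨f, f, w, hf, hfm, hf1', hf2', hfA, hfm, hd, fun q hq => eq_zero_of_ann hf hw hfw hq,
      Or.inl ⟨hev, hd, rfl⟩⟩
  · have hle := natDegree_le_of_dvd_minpoly (hco.mul_dvd hfA hdvd)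
    rw [natDegree_mul hf.ne_zero hi.ne_zero, hdeg] at hle
    have hodd : ¬ Even (ordQ F r) := fun hev => by
      have := two_mul_etaQ_dvd_of_even (F := F) hev
      have := ordQ_pos (F := F) p hr hrp
      omega
    have hd : f.natDegree = n := by
      rcases hcases with ⟨h', -, -⟩ | ⟨-, h', -⟩
      · exact absurd h' hodd
      · omega
    obtain ⟨w', hw', hgw⟩ := exists_ker_vec hi hdvd
    have hcomm : ∀ (P Q : F[X]) x, aeval A P *ᵥ (aeval A Q *ᵥ x) = aeval A Q *ᵥ (aeval A P *ᵥ x) :=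
      fun P Q x => by rw [Matrix.mulVec_mulVec, Matrix.mulVec_mulVec, ← map_mul, ← map_mul, mul_comm]
    refine ⟨f, f * revM f, w + w', hf, hfm, hf1', hf2', hco.mul_dvd hfA hdvd, hfm.mul hm,
      by rw [natDegree_mul hf.ne_zero hi.ne_zero, hdeg, hd, hN], fun q hq => ?_,
      Or.inr ⟨hodd, hd, rfl, coeff_zero_ne_of_dvd hf1 (coeff_zero_X_pow_sub_one (by simp [hr.pos]))⟩⟩
    refine hco.mul_dvd ?_ ?_
    · refine hco.dvd_of_dvd_mul_left (eq_zero_of_ann hf hw hfw ?_)
      have e := congrArg (aeval A (revM f) *ᵥ ·) hq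
      simp only [Matrix.mulVec_add, Matrix.mulVec_zero] at e
      rw [hcomm (revM f) q w', hgw, Matrix.mulVec_zero, add_zero] at e
      rwa [Matrix.mulVec_mulVec, ← map_mul] at e
    · refine hco.symm.dvd_of_dvd_mul_left (eq_zero_of_ann hi hw' hgw ?_)
      have e := congrArg (aeval A f *ᵥ ·) hq
      simp only [Matrix.mulVec_add, Matrix.mulVec_zero] at e
      rw [hcomm f q w, hfw, Matrix.mulVec_zero, zero_add] at e
      rwa [Matrix.mulVec_mulVec, ← map_mul] at e

theorem four_dvd_of_neg_one_pow (h2 : (2 : F) ≠ 0) {j : ℕ} (h : ((-1 : F)) ^ j = 1) {m : ℕ} (hm : m = 2 * j) :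
    4 ∣ m := by
  rcases Nat.even_or_odd j with ⟨i, hi⟩ | ho
  · exact ⟨i, by omega⟩
  · rw [ho.neg_one_pow] at h
    exact absurd (by linear_combination -h) h2

/-- A square root of `-1` centralising such an isometry. -/
theorem torCrit_of_sq_neg_one (p : ℕ) [Fact p.Prime] [CharP F p] (h2F : (2 : F) ≠ 0)
    {A Jm u : Matrix (Fin N) (Fin N) F} (hJ : IsUnit Jm) (hA : Aᵀ * Jm * A = Jm) (hu : uᵀ * Jm * u = Jm)
    (hc : Commute u A) {r n : ℕ} (hr : r.Prime) (hr2 : r ≠ 2) (hrp : r ≠ p) (h1 : A ^ r = 1) (h2 : A ≠ 1)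
    (hη : etaQ F r = n) (hN : N = n + n) (hn : 0 < n) (hq : Odd (Fintype.card F)) (hu4 : u * u = -1) :
    TorCrit F r n := by
  obtain ⟨f, Φ, v, -, -, -, -, -, -, hdeg, hann, -⟩ := exists_cyclic p hJ hA hr hr2 hrp h1 h2 hη hN
  obtain ⟨P, hP⟩ := exists_aeval_of_cyclic hc hdeg hann
  have hQodd : Odd (Fintype.card F ^ n) := hq.pow
  have hkey : ∀ j, u ^ (2 * j) = 1 → 4 ∣ 2 * j := by
    intro j hj
    refine four_dvd_of_neg_one_pow h2F (j := j) ?_ rfl
    rw [pow_mul, pow_two, hu4] at hj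
    haveI : Nonempty (Fin N) := ⟨⟨0, by omega⟩⟩
    refine (algebraMap F (Matrix (Fin N) (Fin N) F)).injective ?_
    rw [map_pow, map_neg, map_one, hj]
  rcases torus_cases (F := F) p hr hr2 hrp hη with ⟨he, -, hd⟩ | ⟨he, -, hd⟩
  · rw [TorCrit, if_pos he]
    obtain ⟨j, hj⟩ : 2 ∣ Fintype.card F ^ n + 1 := hQodd.add_one.two_dvd
    rw [hj]
    refine hkey j ?_
    rw [← hj]
    obtain ⟨c, hc'⟩ := hd
    have hinv : A ^ (Fintype.card F ^ n) * A = 1 := by rw [← pow_succ, hc', pow_mul, h1, one_pow]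
    -- the adjoint of a polynomial in `A`
    have hadj : ∀ Q : F[X], (aeval A Q)ᵀ * Jm = Jm * aeval (A ^ (Fintype.card F ^ n)) Q := by
      have h0 : Aᵀ * Jm = Jm * A ^ (Fintype.card F ^ n) := by
        calc Aᵀ * Jm = Aᵀ * Jm * (A * A ^ (Fintype.card F ^ n)) := by
              rw [mul_eq_one_comm.1 hinv, mul_one]
          _ = _ := by rw [← mul_assoc (Aᵀ * Jm), hA]
      intro Q
      induction Q using Polynomial.induction_on' with
      | add a b ha hb => rw [map_add, map_add, Matrix.transpose_add, add_mul, ha, hb, mul_add]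
      | monomial j c =>
        rw [aeval_monomial, aeval_monomial, ← Algebra.smul_def, ← Algebra.smul_def, Matrix.transpose_smul,
          smul_mul_assoc, mul_smul_comm, Matrix.transpose_pow]
        congr 1
        exact (show SemiconjBy Jm (A ^ (Fintype.card F ^ n)) Aᵀ from h0.symm).pow_right j |>.eq.symm
    have h3 : Jm * (u ^ (Fintype.card F ^ n) * u) = Jm * 1 := by
      rw [← mul_assoc, mul_one, hP, ← aeval_pow_card, ← hadj, ← hP, hu]
    rw [pow_succ]
    exact hJ.mul_left_cancel h3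
  · rw [TorCrit, if_neg he]
    obtain ⟨j, hj⟩ : 2 ∣ Fintype.card F ^ n - 1 := (Nat.Odd.sub_odd hQodd odd_one).two_dvd
    rw [hj]
    refine hkey j ?_
    rw [← hj]
    obtain ⟨c, hc'⟩ := hd
    have hQ1 := Nat.one_le_pow n (Fintype.card F) Fintype.card_pos
    have hfix : A ^ (Fintype.card F ^ n) = A := by
      rw [show Fintype.card F ^ n = Fintype.card F ^ n - 1 + 1 by omega, pow_succ, hc', pow_mul, h1, one_pow,
        one_mul]
    have hfu : u ^ (Fintype.card F ^ n) = u := by rw [hP, ← aeval_pow_card, hfix]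
    have huu : u * (-u) = 1 := by rw [mul_neg, hu4, neg_neg]
    calc u ^ (Fintype.card F ^ n - 1) = u ^ (Fintype.card F ^ n - 1) * (u * (-u)) := by rw [huu, mul_one]
      _ = u ^ (Fintype.card F ^ n) * (-u) := by
          rw [← mul_assoc, ← pow_succ, Nat.sub_add_cancel hQ1]
      _ = 1 := by rw [hfu, huu]

theorem eval_one_reverse (f : F[X]) : f.reverse.eval 1 = f.eval 1 := by
  haveI : Invertible (1 : F) := invertibleOne
  have h := eval₂_reverse_mul_pow (RingHom.id F) (1 : F) f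
  rw [invOf_one, one_pow, mul_one] at h
  exact h

/-- Values of an irreducible polynomial through norms. -/
theorem algebraMap_eval {f : F[X]} (hf : Irreducible f) (hfm : f.Monic) (c : F) :
    haveI := Fact.mk hf
    algebraMap F (AdjoinRoot f) (f.eval c) =
      (algebraMap F (AdjoinRoot f) c - AdjoinRoot.root f) ^
        ((Fintype.card F ^ f.natDegree - 1) / (Fintype.card F - 1)) := by
  classical
  haveI := Fact.mk hf
  haveI : Module.Finite F (AdjoinRoot f) := (AdjoinRoot.powerBasis hf.ne_zero).finite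
  haveI : Finite (AdjoinRoot f) := Module.finite_of_finite F
  set pb := AdjoinRoot.powerBasis hf.ne_zero with hpb
  have hcard : Nat.card (AdjoinRoot f) = Fintype.card F ^ f.natDegree := by
    haveI := Fintype.ofFinite (AdjoinRoot f)
    rw [Nat.card_eq_fintype_card, Module.card_eq_pow_finrank (K := F), pb.finrank, hpb,
      AdjoinRoot.powerBasis_dim]
  have h := FiniteField.algebraMap_norm_eq_pow (K := F) (x := algebraMap F (AdjoinRoot f) c - AdjoinRoot.root f)
  rw [hcard, Nat.card_eq_fintype_card] at h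
  rw [← h]
  congr 1
  rw [Algebra.norm_eq_matrix_det pb.basis, map_sub, AlgHom.commutes, Algebra.algebraMap_eq_smul_one,
    show AdjoinRoot.root f = pb.gen by rw [hpb, AdjoinRoot.powerBasis_gen]]
  have h2 := congrArg (Polynomial.eval c) (charpoly_leftMulMatrix pb)
  rw [Matrix.eval_charpoly] at h2
  rw [← Algebra.algebraMap_eq_smul_one, show algebraMap F (Matrix (Fin pb.dim) (Fin pb.dim) F) c =
    Matrix.scalar (Fin pb.dim) c from rfl, h2]
  congr 1
  rw [hpb, AdjoinRoot.powerBasis_gen, AdjoinRoot.minpoly_root hf.ne_zero, hfm.leadingCoeff, inv_one, map_one,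
    mul_one]

/-- Square values force the torus criterion. -/
theorem pow_half_of_isSquare {f : F[X]} (hf : Irreducible f) (hfm : f.Monic) (hq : Odd (Fintype.card F))
    {c : F} (h0 : f.eval c ≠ 0) (hsq : IsSquare (f.eval c)) :
    haveI := Fact.mk hf
    (algebraMap F (AdjoinRoot f) c - AdjoinRoot.root f) ^ ((Fintype.card F ^ f.natDegree - 1) / 2) = 1 := by
  haveI := Fact.mk hf
  obtain ⟨t, ht⟩ := hsq
  have ht0 : t ≠ 0 := fun h => h0 (by rw [ht, h, mul_zero])
  obtain ⟨i, hi⟩ := hq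
  have hq1 := Fintype.one_lt_card (α := F)
  obtain ⟨m, hm⟩ : Fintype.card F - 1 ∣ Fintype.card F ^ f.natDegree - 1 := by
    simpa using Nat.sub_dvd_pow_sub_pow (Fintype.card F) 1 f.natDegree
  have h := algebraMap_eval hf hfm c
  rw [hm, Nat.mul_div_cancel_left _ (by omega)] at h
  rw [hm, show (Fintype.card F - 1) * m = 2 * (m * i) by rw [hi, Nat.add_sub_cancel]; ring,
    Nat.mul_div_cancel_left _ two_pos, pow_mul, ← h, ← map_pow, ht, ← pow_two, ← pow_mul,
    show 2 * i = Fintype.card F - 1 by omega, FiniteField.pow_card_sub_one_eq_one t ht0, map_one]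

/-- The determinant of `1 - A` is a square only under the torus criterion. -/
theorem torCrit_of_isSquare_det (p : ℕ) [Fact p.Prime] [CharP F p] (hq : Odd (Fintype.card F))
    {A Jm : Matrix (Fin N) (Fin N) F} (hJ : IsUnit Jm) (hA : Aᵀ * Jm * A = Jm) {r n : ℕ} (hr : r.Prime)
    (hr2 : r ≠ 2) (hrp : r ≠ p) (h1 : A ^ r = 1) (h2 : A ≠ 1) (hη : etaQ F r = n) (hN : N = n + n)
    (hn : 0 < n) (hsq : IsSquare (1 - A).det) : TorCrit F r n := by
  classical
  have h2F : (2 : F) ≠ 0 := fun h0 => by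
    have hp : p = 2 := ((Nat.prime_dvd_prime_iff_eq Fact.out Nat.prime_two).1
      ((CharP.cast_eq_zero_iff F p 2).1 (by exact_mod_cast h0)))
    obtain ⟨e, -, he⟩ := FiniteField.card F p
    rw [he, hp] at hq
    exact absurd hq (Nat.not_odd_iff_even.2 (Even.pow_of_ne_zero even_two e.ne_zero))
  obtain ⟨f, Φ, v, hf, hfm, hf1, hf2, hΦA, hΦm, hdeg, -, hcase⟩ := exists_cyclic p hJ hA hr hr2 hrp h1 h2 hη hN
  have hchar : A.charpoly = Φ :=
    (Polynomial.eq_of_monic_of_dvd_of_natDegree_le hΦm A.charpoly_monic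
      (hΦA.trans A.minpoly_dvd_charpoly) (by rw [A.charpoly_natDegree_eq_dim, Fintype.card_fin, hdeg]))
  rw [show (1 - A).det = Φ.eval 1 by rw [← hchar, Matrix.eval_charpoly, map_one]] at hsq
  haveI := Fact.mk hf
  set α := AdjoinRoot.root f with hα
  have hαr : α ^ r = 1 := by
    have := AdjoinRoot.mk_eq_zero.2 hf1
    rwa [map_sub, map_pow, AdjoinRoot.mk_X, map_one, sub_eq_zero, ← hα] at this
  have hev1 : f.eval 1 ≠ 0 := fun h0 => by
    have hd : (X - C 1 : F[X]) ∣ f := Polynomial.dvd_iff_isRoot.2 h0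
    exact hf2 (by simpa using ((Polynomial.irreducible_X_sub_C (1 : F)).associated_of_dvd hf hd).symm.dvd)
  have hroot : ∀ j, r ∣ 2 * j → α ^ j = 1 := fun j hj => by
    obtain ⟨c, hc⟩ := ((Nat.coprime_primes hr Nat.prime_two).2 hr2).dvd_of_dvd_mul_left hj
    rw [hc, pow_mul, hαr, one_pow]
  have hback : ∀ {x : F}, algebraMap F (AdjoinRoot f) x = 1 → x = 1 := fun h =>
    (algebraMap F (AdjoinRoot f)).injective (h.trans (map_one _).symm)
  have hQ1 := Nat.one_lt_pow hn.ne' (Fintype.one_lt_card (α := F))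
  rcases torus_cases (F := F) p hr hr2 hrp hη with ⟨he, -, hd⟩ | ⟨he, -, hd⟩
  · rw [TorCrit, if_pos he]
    rcases hcase with ⟨-, hfd, hΦf⟩ | ⟨he', -⟩
    swap
    · exact absurd he he'
    rw [hΦf] at hsq
    have h := pow_half_of_isSquare hf hfm hq hev1 hsq
    obtain ⟨j, hj⟩ : 2 ∣ Fintype.card F ^ n + 1 := (hq.pow).add_one.two_dvd
    rw [hfd, hN, show Fintype.card F ^ (n + n) - 1 = 2 * ((Fintype.card F ^ n - 1) * j) by
      rw [mul_left_comm, ← hj, pow_add, mul_comm (_ - 1)]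
      simpa [pow_two] using Nat.sq_sub_sq (Fintype.card F ^ n) 1,
      Nat.mul_div_cancel_left _ two_pos, pow_mul, map_one, ← hα] at h
    -- the half Frobenius
    haveI : Module.Finite F (AdjoinRoot f) := (AdjoinRoot.powerBasis hf.ne_zero).finite
    haveI : Finite (AdjoinRoot f) := Module.finite_of_finite F
    set σ := (FiniteField.frobeniusAlgEquivOfAlgebraic F (AdjoinRoot f)) ^ n with hσdef
    have hσ : ∀ x, σ x = x ^ (Fintype.card F ^ n) := fun x => by
      rw [hσdef, AlgEquiv.coe_pow, FiniteField.coe_frobeniusAlgEquivOfAlgebraic, pow_iterate]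
    have hαQ : α ^ (Fintype.card F ^ n) * α = 1 := by
      obtain ⟨c, hc⟩ := hd
      rw [← pow_succ, hc, pow_mul, hαr, one_pow]
    have hα0 : α ≠ 0 := right_ne_zero_of_mul_eq_one hαQ
    have hμ : (1 : AdjoinRoot f) - α ≠ 0 := by
      intro h0
      refine hf2 (AdjoinRoot.mk_eq_zero.1 ?_)
      rw [map_sub, AdjoinRoot.mk_X, map_one, ← hα]
      linear_combination -h0
    have hμQ : (1 - α) ^ (Fintype.card F ^ n - 1) = -α⁻¹ := by
      have h3 : (1 - α) ^ (Fintype.card F ^ n) = 1 - α⁻¹ := by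
        rw [← hσ, map_sub, map_one, hσ, eq_inv_of_mul_eq_one_left hαQ]
      refine mul_right_cancel₀ hμ ?_
      rw [← pow_succ, Nat.sub_add_cancel hQ1.le, h3]
      field_simp
      ring
    rw [hμQ, neg_pow, inv_pow, hroot j (hj ▸ hd), inv_one, mul_one] at h
    refine hj ▸ four_dvd_of_neg_one_pow h2F (hback ?_) rfl
    rw [map_pow, map_neg, map_one, h]
  · rw [TorCrit, if_neg he]
    rcases hcase with ⟨he', -⟩ | ⟨-, hfd, hΦf, hf0⟩
    · exact absurd he' he
    rw [hΦf] at hsq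
    rw [eval_mul, revM, eval_mul, eval_C, eval_one_reverse] at hsq
    have hsq0 : IsSquare (f.eval 0) := by
      rw [← Polynomial.coeff_zero_eq_eval_zero]
      obtain ⟨t, ht⟩ := hsq
      exact ⟨f.eval 1 / t, by
        have ht0 : t ≠ 0 := by
          rintro rfl
          simp [hev1, hf0] at ht
        field_simp at ht ⊢
        linear_combination -ht⟩
    have h := pow_half_of_isSquare hf hfm hq (by rwa [← Polynomial.coeff_zero_eq_eval_zero]) hsq0
    obtain ⟨j, hj⟩ : 2 ∣ Fintype.card F ^ n - 1 := (Nat.Odd.sub_odd hq.pow odd_one).two_dvd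
    rw [hfd, hj, Nat.mul_div_cancel_left _ two_pos, map_zero, zero_sub, ← hα, neg_pow, hroot j (hj ▸ hd),
      mul_one] at h
    refine hj ▸ four_dvd_of_neg_one_pow h2F (hback ?_) rfl
    rw [map_pow, map_neg, map_one, h]

end Filling

end CfsgLib.KnownB.PrimeGraph
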