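import Cfsg.Agent.Lib.KnownB.PrimeGraphOrth

/-!
Involutions centralising an element of odd prime order in symplectic and odd-dimensional orthogonal groups.
-/

set_option autoImplicit false
set_option linter.unusedSectionVars false

namespace CfsgLib.KnownB.PrimeGraph

open Polynomial Matrix QuadraticMap CfsgLib.Geometry

universe u

variable {F : Type u} [Field F] [Fintype F] {N : ℕ}

theorem det_one_sub_ne_zero (p : ℕ) [Fact p.Prime] [CharP F p] {A Jm : Matrix (Fin N) (Fin N) F}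
    (hJ : IsUnit Jm) (hA : Aᵀ * Jm * A = Jm) {r n : ℕ} (hr : r.Prime) (hr2 : r ≠ 2) (hrp : r ≠ p)
    (h1 : A ^ r = 1) (h2 : A ≠ 1) (hη : etaQ F r = n) (hN : N = n + n) : (1 - A).det ≠ 0 := by
  classical
  obtain ⟨f, Φ, v, hf, hfm, hf1, hf2, hΦA, hΦm, hdeg, -, hcase⟩ := exists_cyclic p hJ hA hr hr2 hrp h1 h2 hη hN
  have hchar : A.charpoly = Φ :=
    Polynomial.eq_of_monic_of_dvd_of_natDegree_le hΦm A.charpoly_monic
      (hΦA.trans A.minpoly_dvd_charpoly) (by rw [A.charpoly_natDegree_eq_dim, Fintype.card_fin, hdeg])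
  have hev1 : f.eval 1 ≠ 0 := fun h0 => by
    have hd : (X - C 1 : F[X]) ∣ f := Polynomial.dvd_iff_isRoot.2 h0
    exact hf2 (by simpa using ((Polynomial.irreducible_X_sub_C (1 : F)).associated_of_dvd hf hd).symm.dvd)
  rw [show (1 - A).det = Φ.eval 1 by rw [← hchar, Matrix.eval_charpoly, map_one]]
  rcases hcase with ⟨-, -, hΦf⟩ | ⟨-, -, hΦf, hf0⟩
  · rwa [hΦf]
  · rw [hΦf, eval_mul, revM, eval_mul, eval_C, eval_one_reverse]
    exact mul_ne_zero hev1 (mul_ne_zero (inv_ne_zero hf0) hev1)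

/-- The projections of a commuting isometric involution. -/
theorem involution_data (h2 : (2 : F) ≠ 0) {A Jm y : Matrix (Fin N) (Fin N) F} (hy : y * y = 1)
    (hyJ : yᵀ * Jm * y = Jm) (hc : Commute A y) :
    ∃ E E' : Matrix (Fin N) (Fin N) F, E * E = E ∧ E' * E' = E' ∧ Eᵀ * Jm = Jm * E ∧ E'ᵀ * Jm = Jm * E' ∧
      Commute A E ∧ Commute A E' ∧ E + E' = 1 ∧ E * E' = 0 ∧ E' * E = 0 ∧ E - E' = y := by
  have hyT : yᵀ * Jm = Jm * y := by
    calc yᵀ * Jm = yᵀ * Jm * (y * y) := by rw [hy, mul_one]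
      _ = _ := by rw [← mul_assoc, hyJ]
  have hc2 : (2 : F)⁻¹ * 2 = 1 := inv_mul_cancel₀ h2
  have hid : ∀ z : Matrix (Fin N) (Fin N) F, z * z = (2 : F) • z →
      ((2 : F)⁻¹ • z) * ((2 : F)⁻¹ • z) = (2 : F)⁻¹ • z := fun z hz => by
    rw [smul_mul_smul_comm, hz, smul_smul, mul_assoc, hc2, mul_one]
  have hp : (1 + y) * (1 + y) = (2 : F) • (1 + y) := by
    rw [add_mul, mul_add, mul_add, one_mul, one_mul, mul_one, hy]; module
  have hm : (1 - y) * (1 - y) = (2 : F) • (1 - y) := by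
    rw [sub_mul, mul_sub, mul_sub, one_mul, one_mul, mul_one, hy]; module
  refine ⟨(2 : F)⁻¹ • (1 + y), (2 : F)⁻¹ • (1 - y), hid _ hp, hid _ hm, ?_, ?_, ?_, ?_, ?_, ?_, ?_, ?_⟩
  · rw [transpose_smul, transpose_add, transpose_one, smul_mul_assoc, mul_smul_comm, add_mul, mul_add, hyT,
      one_mul, mul_one]
  · rw [transpose_smul, transpose_sub, transpose_one, smul_mul_assoc, mul_smul_comm, sub_mul, mul_sub, hyT,
      one_mul, mul_one]
  · exact ((Commute.one_right A).add_right hc).smul_right _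
  · exact ((Commute.one_right A).sub_right hc).smul_right _
  · rw [← smul_add, add_add_sub_cancel, ← two_smul F (1 : Matrix (Fin N) (Fin N) F), smul_smul, hc2, one_smul]
  · rw [smul_mul_smul_comm, show (1 + y) * (1 - y) = 0 by
      rw [add_mul, mul_sub, mul_sub, one_mul, one_mul, mul_one, hy]; abel, smul_zero]
  · rw [smul_mul_smul_comm, show (1 - y) * (1 + y) = 0 by
      rw [sub_mul, mul_add, mul_add, one_mul, one_mul, mul_one, hy]; abel, smul_zero]
  · rw [← smul_sub, add_sub_sub_cancel, ← two_smul F y, smul_smul, hc2, one_smul]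

/-- A restriction which is not trivial needs `2 η` dimensions. -/
theorem two_etaQ_le_dim (p : ℕ) [Fact p.Prime] [CharP F p] {A Jm E : Matrix (Fin N) (Fin N) F}
    {d : ℕ} {R : Matrix (Fin N) (Fin d) F} {L : Matrix (Fin d) (Fin N) F} {B : Matrix (Fin d) (Fin d) F}
    (hLR : L * R = 1) (hRL : R * L = E) (hAR : A * R = R * B) (hG : IsUnit (Rᵀ * Jm * R))
    (hB : Bᵀ * (Rᵀ * Jm * R) * B = Rᵀ * Jm * R) (hpow : ∀ k, R * B ^ k = A ^ k * R) {r : ℕ}
    (hr : r.Prime) (hr2 : r ≠ 2) (hrp : r ≠ p) (h1 : A ^ r = 1) (hne : A * E ≠ E) :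
    2 * etaQ F r ≤ d ∧ B ≠ 1 := by
  have hB1 : B ≠ 1 := fun h => hne (by
    rw [← hRL, ← Matrix.mul_assoc, hAR, h, Matrix.mul_one])
  exact ⟨etaQ_le p hG hB hr hr2 hrp (pow_restrict_eq_one hLR hpow h1) hB1, hB1⟩

/-- Spinor norm and Dickson invariant through coordinates of the moved space. -/
theorem square_of_restrict (h2 : (2 : F) ≠ 0) {S : Matrix (Fin N) (Fin N) F} (hS : Sᵀ = S) (hSu : IsUnit S)
    (hN : 2 ≤ N) {g : orth (symQuad S)} (hg : g ∈ commutator (orth (symQuad S))) {d : ℕ}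
    {R : Matrix (Fin N) (Fin d) F} {L : Matrix (Fin d) (Fin N) F} {B : Matrix (Fin d) (Fin d) F}
    (hLR : L * R = 1) (hgR : orthMat _ g * R = R * B)
    (hkill : 1 - orthMat _ g = (1 - orthMat _ g) * (R * L)) (hB : (1 - B).det ≠ 0) :
    IsSquare ((Rᵀ * S * R).det * (1 - B).det) ∧ Even d := by
  classical
  have hQ := symQuad_nondeg h2 hS hSu
  rw [← ker_orthInvariant hQ (by rw [Module.finrank_fin_fun]; exact hN) h2 (reflGroup_eq_orth_of_two_ne hQ h2),
    MonoidHom.mem_ker] at hg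
  set M := orthMat _ g with hM
  set e := (g : (Fin N → F) ≃ₗ[F] (Fin N → F)) with he
  have hkey : R * (1 - B) = (1 - M) * R := by
    rw [Matrix.mul_sub, Matrix.sub_mul, Matrix.mul_one, Matrix.one_mul, hgR]
  have hmov : ∀ v, v - e v = (1 - M) *ᵥ v := fun v => by
    rw [Matrix.sub_mulVec, Matrix.one_mulVec, hM, orthMat_mulVec]
  have hinj : Function.Injective (Matrix.mulVecLin (R * (1 - B))) := by
    rw [injective_iff_map_eq_zero]
    intro c hc
    rw [Matrix.mulVecLin_apply] at hc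
    have h0 := congrArg (L *ᵥ ·) hc
    simp only [Matrix.mulVec_mulVec, ← Matrix.mul_assoc, hLR, Matrix.one_mul, Matrix.mulVec_zero] at h0
    exact Matrix.eq_zero_of_mulVec_eq_zero hB h0
  have hrange : movSpace e = LinearMap.range (Matrix.mulVecLin (R * (1 - B))) := by
    refine le_antisymm ?_ ?_
    · rintro _ ⟨v, rfl⟩
      refine ⟨L *ᵥ v, ?_⟩
      rw [Matrix.mulVecLin_apply, Matrix.mulVec_mulVec, hkey, Matrix.mul_assoc, ← hkill, movMap_apply, hmov]
    · rintro _ ⟨c, rfl⟩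
      refine ⟨R *ᵥ c, ?_⟩
      rw [Matrix.mulVecLin_apply, movMap_apply, hmov, Matrix.mulVec_mulVec, hkey]
  have hfr : Module.finrank F (movSpace e) = d := by
    rw [hrange, LinearMap.finrank_range_of_inj hinj, Module.finrank_fin_fun]
  have hw : ∀ i, R *ᵥ Pi.single i 1 - e (R *ᵥ Pi.single i 1) = (R * (1 - B)) *ᵥ Pi.single i 1 := fun i => by
    rw [hmov, Matrix.mulVec_mulVec, hkey]
  have hrep : IsSpinorRep (symQuad S) e ((Rᵀ * S * R).det * (1 - B).det) := by
    refine ⟨d, fun i => R *ᵥ Pi.single i 1, ?_, hfr, ?_⟩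
    · rw [show (fun i => R *ᵥ Pi.single i 1 - e (R *ᵥ Pi.single i 1)) =
        Matrix.mulVecLin (R * (1 - B)) ∘ ⇑(Pi.basisFun F (Fin d)) from funext fun i => by
          rw [hw, Function.comp_apply, Pi.basisFun_apply, Matrix.mulVecLin_apply]]
      exact (Pi.basisFun F (Fin d)).linearIndependent.map' _ (LinearMap.ker_eq_bot.2 hinj)
    · rw [← Matrix.det_mul]
      congr 1
      ext i j
      rw [Matrix.of_apply, hw, polar_symQuad h2 hS, Matrix.mulVec_mulVec, Matrix.mul_assoc, Matrix.mul_assoc]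
      simp only [mulVec_single_one]
      simp [Matrix.mul_apply (M := Rᵀ), dotProduct]
  refine ⟨?_, ?_⟩
  · have h : spinor (symQuad S) e = 1 := congrArg Prod.fst hg
    rw [spinor_eq hQ g.2 hrep, sqMk_eq_one_iff] at h
    exact h
  · have h : dicksonMul e = 1 := congrArg Prod.snd hg
    rw [dicksonMul, Geometry.dickson, hfr, ofAdd_eq_one] at h
    exact ZMod.natCast_eq_zero_iff_even.1 h

variable {n : ℕ}

/-- The orthogonal criterion for an element of order `2 r`. -/
theorem torCrit_of_orth (p : ℕ) [Fact p.Prime] [CharP F p] (hq : Odd (Fintype.card F)) (h2 : (2 : F) ≠ 0)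
    (hn : 3 ≤ n) {S : Matrix (Fin (2 * n + 1)) (Fin (2 * n + 1)) F} (hS : Sᵀ = S) (hSu : IsUnit S)
    {g : orth (symQuad S)} (hg : g ∈ commutator (orth (symQuad S))) {r : ℕ} (hr : r.Prime) (hr2 : r ≠ 2)
    (hrp : r ≠ p) (hord : orderOf g = 2 * r) (hη : etaQ F r = n) : TorCrit F r n := by
  classical
  set A := orthMat _ (g ^ 2) with hA
  set y := orthMat _ (g ^ r) with hy
  have h2r := hr.two_le
  have hy2 : y * y = 1 := by
    rw [hy, ← pow_two, orthMat_pow_eq_one]
    exact orderOf_dvd_of_pow_eq_one (by rw [← pow_mul, mul_comm r 2, ← hord, pow_orderOf_eq_one])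
  have hy1 : y ≠ 1 := fun h => by
    rw [hy, map_pow, orthMat_pow_eq_one, hord] at h
    have := Nat.le_of_dvd hr.pos h
    omega
  have hA1 : A ≠ 1 := fun h => by
    rw [hA, map_pow, orthMat_pow_eq_one, hord] at h
    have := Nat.le_of_dvd two_pos h
    omega
  have hAr : A ^ r = 1 := by
    rw [hA, orthMat_pow_eq_one]
    exact orderOf_dvd_of_pow_eq_one (by rw [← pow_mul, ← hord, pow_orderOf_eq_one])
  obtain ⟨E, E', hE, hE', hEJ, hE'J, hAE, hAE', hsum, hEE', hE'E, hdiff⟩ :=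
    involution_data h2 hy2 (orthMat_isometry h2 hS _)
      (show Commute A y from (Commute.pow_pow_self g 2 r).map (orthMat _))
  obtain ⟨d, R, L, B, hLR, hRL, hAR, hG, hB, hpow⟩ :=
    exists_restrict hSu hE hEJ hAE (orthMat_isometry h2 hS _)
  obtain ⟨d', R', L', B', hLR', hRL', hAR', hG', hB', hpow'⟩ :=
    exists_restrict hSu hE' hE'J hAE' (orthMat_isometry h2 hS _)
  have hd := dim_add hLR hLR' (by rw [hRL, hRL', hsum]) (by rw [hRL, hRL', hEE']) (by rw [hRL, hRL', hE'E])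
  -- the involution negates the second piece
  have hyR : y * R' = R' * (-1 : Matrix (Fin d') (Fin d') F) := by
    have e1 : E' * R' = R' := by rw [← hRL', Matrix.mul_assoc, hLR', Matrix.mul_one]
    rw [← hdiff, Matrix.sub_mul, e1, ← e1, ← Matrix.mul_assoc, hEE', Matrix.zero_mul, zero_sub,
      Matrix.mul_neg, Matrix.mul_one]
  have hkilly : 1 - y = (1 - y) * (R' * L') := by
    rw [hRL', ← hdiff, ← hsum, show E + E' - (E - E') = E' + E' by abel, add_mul, hE']
  have hdet2 : (1 - (-1 : Matrix (Fin d') (Fin d') F)).det = 2 ^ d' := by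
    rw [show (1 - (-1 : Matrix (Fin d') (Fin d') F)) = (2 : F) • 1 by rw [sub_neg_eq_add, two_smul],
      Matrix.det_smul, Matrix.det_one, mul_one, Fintype.card_fin]
  obtain ⟨hsqy, hev⟩ := square_of_restrict h2 hS hSu (by omega) (g := g ^ r) (pow_mem hg r) hLR' hyR hkilly
    (by rw [hdet2]; exact pow_ne_zero _ h2)
  have hd0 : d' ≠ 0 := fun h0 => by
    subst h0
    have : E' = 0 := by rw [← hRL', show R' = 0 from Matrix.ext fun _ j => j.elim0, Matrix.zero_mul]
    refine hy1 ?_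
    rw [← hdiff, this, sub_zero, ← hsum, this, add_zero]
  obtain ⟨c, hc⟩ := hev
  have hAE1 : A * E = E := by
    by_contra hne
    have := (two_etaQ_le_dim p hLR hRL hAR hG hB hpow hr hr2 hrp hAr hne).1
    omega
  have hne' : A * E' ≠ E' := fun h => hA1 (by rw [← mul_one A, ← hsum, mul_add, hAE1, h])
  obtain ⟨hle, hB'1⟩ := two_etaQ_le_dim p hLR' hRL' hAR' hG' hB' hpow' hr hr2 hrp hAr hne'
  have hd' : d' = n + n := by omega
  have hB'r := pow_restrict_eq_one hLR' hpow' hAr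
  have hdet := det_one_sub_ne_zero p hG' hB' hr hr2 hrp hB'r hB'1 hη hd'
  obtain ⟨hsqA, -⟩ := square_of_restrict h2 hS hSu (by omega) (g := g ^ 2) (pow_mem hg 2) hLR' hAR'
    (by rw [hRL', sub_mul, one_mul, ← hA]
        calc (1 : Matrix _ _ F) - A = (E + E') - A * (E + E') := by rw [hsum, mul_one]
          _ = _ := by rw [mul_add, hAE1]; abel) hdet
  rw [hdet2] at hsqy
  refine torCrit_of_isSquare_det p hq hG' hB' hr hr2 hrp hB'r hB'1 hη hd' (by omega) ?_
  have hG0 : (R'ᵀ * S * R').det ≠ 0 := ((Matrix.isUnit_iff_isUnit_det _).1 hG').ne_zero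
  obtain ⟨a, ha⟩ := hsqA
  obtain ⟨b, hb⟩ := hsqy
  refine ⟨a * 2 ^ c / b, ?_⟩
  have hpc : (2 : F) ^ d' = 2 ^ c * 2 ^ c := (congrArg ((2 : F) ^ ·) hc).trans (pow_add _ _ _)
  rw [hpc] at hb
  have hb0 : b ≠ 0 := fun h => by simp [h, h2, hG0] at hb
  field_simp
  linear_combination (-(1 - B').det) * hb + (2 ^ c) ^ 2 * ha

/-- The symplectic criterion for an element of order `2 r`. -/
theorem torCrit_of_sp (p : ℕ) [Fact p.Prime] [CharP F p] (hq : Odd (Fintype.card F)) (h2 : (2 : F) ≠ 0)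
    (hn : 0 < n) {x : Cfsg.PSp n F} {r : ℕ} (hr : r.Prime) (hr2 : r ≠ 2)
    (hrp : r ≠ p) (hord : orderOf x = 2 * r) (hη : etaQ F r = n) : TorCrit F r n := by
  classical
  haveI : Nonempty (Fin n) := ⟨⟨0, hn⟩⟩
  obtain ⟨g, rfl⟩ := QuotientGroup.mk_surjective x
  obtain ⟨Jm, hJ, hiso⟩ := spMat_isometry (F := F) n
  have hsign : ∀ k, (QuotientGroup.mk (g ^ k) : Cfsg.PSp n F) = 1 ↔
      spMat n g ^ k = 1 ∨ spMat n g ^ k = -1 := fun k => by
    rw [QuotientGroup.eq_one_iff, CfsgLib.Classical.mem_center_sp_iff, ← map_pow]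
    refine or_congr ?_ ?_
    · rw [← map_one (spMat (F := F) n), (spMat_injective n).eq_iff]
      exact ⟨fun h => Subtype.ext h, fun h => congrArg Subtype.val h⟩
    · have hneg : ((Matrix.reindexAlgEquiv F F (finSumFinEquiv (m := n) (n := n))) (-1)) = -1 := by
        rw [map_neg, map_one]
      constructor
      · intro h
        show Matrix.reindexAlgEquiv F F (finSumFinEquiv (m := n) (n := n)) (g ^ k).1 = -1
        rw [h, hneg]
      · intro h
        refine (Matrix.reindexAlgEquiv F F (finSumFinEquiv (m := n) (n := n))).injective ?_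
        rw [hneg]; exact h
  have hk : ∀ k, (spMat n g ^ k = 1 ∨ spMat n g ^ k = -1) ↔ 2 * r ∣ k := fun k => by
    rw [← hsign, QuotientGroup.mk_pow, ← hord, orderOf_dvd_iff_pow_eq_one]
  set M := spMat n g with hM
  set A := M ^ 4 with hA
  set y := M ^ r with hy
  have h2r := hr.two_le
  have h4r : M ^ (4 * r) = 1 := by
    rw [show 4 * r = 2 * r * 2 by ring, pow_mul]
    rcases (hk (2 * r)).2 dvd_rfl with h | h <;> simp [h]
  have hAr : A ^ r = 1 := by rw [hA, ← pow_mul, h4r]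
  have hA1 : A ≠ 1 := fun h => by
    have := Nat.le_of_dvd (by norm_num) ((hk 4).1 (Or.inl h))
    omega
  have hy1 : y ≠ 1 ∧ y ≠ -1 := by
    constructor <;> intro h
    · have := Nat.le_of_dvd hr.pos ((hk r).1 (Or.inl h)); omega
    · have := Nat.le_of_dvd hr.pos ((hk r).1 (Or.inr h)); omega
  have hcom : Commute A y := Commute.pow_pow_self _ 4 r
  have hiso' : ∀ k, (M ^ k)ᵀ * Jm * M ^ k = Jm := fun k => by rw [hM, ← map_pow]; exact hiso _
  rcases (hk (2 * r)).2 dvd_rfl with h | h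
  · exfalso
    rw [mul_comm, pow_mul, pow_two] at h
    obtain ⟨E, E', hE, hE', hEJ, hE'J, hAE, hAE', hsum, hEE', hE'E, hdiff⟩ :=
      involution_data h2 h (hiso' r) hcom
    obtain ⟨d, R, L, B, hLR, hRL, hAR, hG, hB, hpow⟩ := exists_restrict hJ hE hEJ hAE (hiso' 4)
    obtain ⟨d', R', L', B', hLR', hRL', hAR', hG', hB', hpow'⟩ := exists_restrict hJ hE' hE'J hAE' (hiso' 4)
    have hd := dim_add hLR hLR' (by rw [hRL, hRL', hsum]) (by rw [hRL, hRL', hEE']) (by rw [hRL, hRL', hE'E])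
    have hzero : ∀ {d : ℕ} {R : Matrix (Fin (n + n)) (Fin d) F} {L : Matrix (Fin d) (Fin (n + n)) F}
        {E : Matrix (Fin (n + n)) (Fin (n + n)) F}, R * L = E → d = 0 → E = 0 := by
      rintro d R L E rfl rfl
      rw [show R = 0 from Matrix.ext fun _ j => j.elim0, Matrix.zero_mul]
    by_cases hAE1 : A * E = E
    · have hne' : A * E' ≠ E' := fun h' => hA1 (by rw [← mul_one A, ← hsum, mul_add, hAE1, h'])
      have := (two_etaQ_le_dim p hLR' hRL' hAR' hG' hB' hpow' hr hr2 hrp hAr hne').1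
      refine hy1.2 ?_
      have h0 := hzero hRL (by omega)
      show M ^ r = -1
      rw [← hdiff, h0, zero_sub, ← hsum, h0, zero_add]
    · have := (two_etaQ_le_dim p hLR hRL hAR hG hB hpow hr hr2 hrp hAr hAE1).1
      refine hy1.1 ?_
      have h0 := hzero hRL' (by omega)
      show M ^ r = 1
      rw [← hdiff, h0, sub_zero, ← hsum, h0, add_zero]
  · rw [mul_comm, pow_mul, pow_two] at h
    exact torCrit_of_sq_neg_one p h2 hJ (hiso' 4) (hiso' r) hcom.symm hr hr2 hrp hAr hA1 hη rfl hn hq h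

end CfsgLib.KnownB.PrimeGraph
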