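import Cfsg.Agent.Lib.KnownB.Semisimple

/-!
Matrices of prime order `r` different from the characteristic; the irreducible case.
-/

set_option autoImplicit false

namespace CfsgLib.KnownB.PrimeOrder

open Polynomial

universe u

variable {F : Type u} [Field F]

/-- Degree of a monic irreducible divisor of `X ^ r - 1` other than `X - 1`. -/
theorem natDegree_eq_orderOf [Fintype F] {r : ℕ} [Fact r.Prime] (hrp : (r : F) ≠ 0) {q : F[X]} (hq : Irreducible q)
    (hm : q.Monic) (hdvd : q ∣ X ^ r - 1) (hne : q ≠ X - 1) :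
    q.natDegree = orderOf ((Fintype.card F : ℕ) : ZMod r) := by
  classical
  haveI := Fact.mk hq
  set Q := Fintype.card F
  let K := AdjoinRoot q
  haveI : Module.Finite F K := (AdjoinRoot.powerBasis hq.ne_zero).finite
  haveI : Finite K := Module.finite_of_finite F
  let := Fintype.ofFinite K
  have hcard : Fintype.card K = Q ^ q.natDegree := by
    rw [Module.card_eq_pow_finrank (K := F), (AdjoinRoot.powerBasis hq.ne_zero).finrank, AdjoinRoot.powerBasis_dim]
  have hr1 : (AdjoinRoot.root q) ^ r = 1 := by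
    have h1 := AdjoinRoot.mk_eq_zero.2 hdvd
    rwa [map_sub, map_pow, AdjoinRoot.mk_X, map_one, sub_eq_zero] at h1
  have hne1 : AdjoinRoot.root q ≠ 1 := by
    intro h1
    have h2 : q ∣ X - 1 := AdjoinRoot.mk_eq_zero.1 (by rw [map_sub, AdjoinRoot.mk_X, map_one, h1, sub_self])
    refine hne (eq_of_monic_of_associated hm (monic_X_sub_C 1) ?_)
    exact hq.associated_of_dvd (irreducible_X_sub_C 1) (by simpa using h2)
  have hu0 : AdjoinRoot.root q ≠ 0 := by
    intro h0
    rw [h0, zero_pow (Fact.out : r.Prime).ne_zero] at hr1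
    exact zero_ne_one hr1
  let w : Kˣ := Units.mk0 (AdjoinRoot.root q) hu0
  have hw : orderOf w = r := by
    refine orderOf_eq_prime (Units.ext ?_) fun h => hne1 ?_
    · rw [Units.val_pow_eq_pow_val, Units.val_one]
      exact hr1
    · exact (congrArg Units.val h : (w : K) = _)
  have hQr : (Q : ZMod r) ^ q.natDegree = 1 := by
    have h1 : r ∣ Q ^ q.natDegree - 1 := by
      rw [← hcard, ← Fintype.card_units, ← hw]
      exact orderOf_dvd_card
    have h2 : ((Q ^ q.natDegree - 1 : ℕ) : ZMod r) = 0 := (ZMod.natCast_eq_zero_iff _ _).2 h1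
    rw [Nat.cast_sub (Nat.one_le_pow _ _ Fintype.card_pos), Nat.cast_pow, Nat.cast_one, sub_eq_zero] at h2
    exact h2
  refine Nat.dvd_antisymm ?_ (orderOf_dvd_of_pow_eq_one hQr)
  set i := orderOf (Q : ZMod r)
  have hi0 : i ≠ 0 := fun h => by
    have := orderOf_dvd_of_pow_eq_one hQr
    rw [show orderOf (Q : ZMod r) = 0 from h, zero_dvd_iff] at this
    exact hq.natDegree_pos.ne' this
  have h3 : r ∣ Q ^ i - 1 := by
    rw [← ZMod.natCast_eq_zero_iff, Nat.cast_sub (Nat.one_le_pow _ _ Fintype.card_pos), Nat.cast_pow,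
      pow_orderOf_eq_one, Nat.cast_one, sub_self]
  have h4 : q ∣ X ^ (Q ^ i) - X := by
    obtain ⟨k, hk⟩ := h3
    rw [← AdjoinRoot.mk_eq_zero, map_sub, map_pow, AdjoinRoot.mk_X,
      show Q ^ i = Q ^ i - 1 + 1 by have := Nat.one_le_pow i Q Fintype.card_pos; omega, pow_succ, hk, pow_mul, hr1,
      one_pow, one_mul, sub_self]
  simp only [Q, ← Nat.card_eq_fintype_card] at h4
  exact Irreducible.natDegree_dvd_of_dvd_X_pow_card_pow_sub_X hq h4

end CfsgLib.KnownB.PrimeOrder
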