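import Cfsg.Agent.Lib.KnownB.PrimeOrder

/-!
Counting the classes of elements of prime order `r` of `GL_n` in characteristic different from `r`.
-/

set_option autoImplicit false

namespace CfsgLib.KnownB.PrimeOrder

open Polynomial UniqueFactorizationMonoid CfsgLib.KnownB.Semisimple

universe u

variable {F : Type u} [Field F]

theorem monic_of_mem_nf [DecidableEq F] {a Q : F[X]} (h : Q ∈ normalizedFactors a) : Q.Monic := by
  rw [← normalize_normalized_factor Q h]
  exact Polynomial.monic_normalize (irreducible_of_normalized_factor Q h).ne_zero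

/-- A squarefree polynomial all of whose irreducible factors divide `b` divides `b`. -/
theorem dvd_of_squarefree [DecidableEq F] {a b : F[X]} (ha : Squarefree a) (ha0 : a ≠ 0) (hb : b ≠ 0)
    (h : ∀ Q ∈ normalizedFactors a, Q ∣ b) : a ∣ b := by
  rw [dvd_iff_normalizedFactors_le_normalizedFactors ha0 hb]
  refine (Multiset.le_iff_subset ((squarefree_iff_nodup_normalizedFactors ha0).1 ha)).2 fun Q hQ => ?_
  obtain ⟨Q', hQ', hass⟩ :=
    exists_mem_normalizedFactors_of_dvd hb (irreducible_of_normalized_factor Q hQ) (h Q hQ)
  rwa [show Q = Q' from Polynomial.eq_of_monic_of_associated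
    (monic_of_mem_nf hQ) (monic_of_mem_nf hQ') hass]

theorem monic_prod_normalizedFactors [DecidableEq F] {a : F[X]} (ha : a.Monic) :
    (normalizedFactors a).prod = a :=
  Polynomial.eq_of_monic_of_associated
    (by
      simpa using Polynomial.monic_multiset_prod_of_monic (normalizedFactors a) id
        fun Q hQ => monic_of_mem_nf hQ)
    ha (prod_normalizedFactors ha.ne_zero)

theorem normalizedFactors_prod [DecidableEq F] (s : Multiset F[X]) (hi : ∀ Q ∈ s, Irreducible Q)
    (hm : ∀ Q ∈ s, Q.Monic) : normalizedFactors s.prod = s := by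
  rw [normalizedFactors_multiset_prod s fun h0 => (hi 0 h0).ne_zero rfl]
  induction s using Multiset.induction with
  | empty => simp
  | cons a s ih =>
    rw [Multiset.map_cons, Multiset.sum_cons, ih (fun Q hQ => hi Q (Multiset.mem_cons_of_mem hQ))
      (fun Q hQ => hm Q (Multiset.mem_cons_of_mem hQ)), normalizedFactors_irreducible (hi a (Multiset.mem_cons_self a s)),
      (hm a (Multiset.mem_cons_self a s)).normalize_eq_self, Multiset.singleton_add]

/-- The monic irreducible divisors of `X ^ r - 1` other than `X - 1`. -/
noncomputable def factors (F : Type u) [Field F] [DecidableEq F] (r : ℕ) : Finset F[X] :=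
  (normalizedFactors (X ^ r - 1 : F[X])).toFinset.erase (X - 1)

variable [DecidableEq F] {r : ℕ}

theorem X_pow_sub_one_ne_zero (hr : r ≠ 0) : (X ^ r - 1 : F[X]) ≠ 0 := by
  simpa using (X_pow_sub_C_ne_zero (Nat.pos_of_ne_zero hr) (1 : F))

theorem mem_factors (hr : r ≠ 0) {Q : F[X]} :
    Q ∈ factors F r ↔ Irreducible Q ∧ Q.Monic ∧ Q ∣ X ^ r - 1 ∧ Q ≠ X - 1 := by
  rw [factors, Finset.mem_erase, Multiset.mem_toFinset]
  constructor
  · rintro ⟨hne, hQ⟩
    exact ⟨irreducible_of_normalized_factor Q hQ, monic_of_mem_nf hQ,
      dvd_of_mem_normalizedFactors hQ, hne⟩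
  · rintro ⟨hi, hm, hd, hne⟩
    obtain ⟨Q', hQ', hass⟩ := exists_mem_normalizedFactors_of_dvd (X_pow_sub_one_ne_zero hr) hi hd
    rw [Polynomial.eq_of_monic_of_associated hm (monic_of_mem_nf hQ') hass] at hne ⊢
    exact ⟨hne, hQ'⟩

theorem card_factors [Fintype F] [Fact r.Prime] (hrF : (r : F) ≠ 0) :
    (factors F r).card * orderOf ((Fintype.card F : ℕ) : ZMod r) = r - 1 := by
  classical
  have hr : r ≠ 0 := (Fact.out : r.Prime).ne_zero
  set a : F[X] := X ^ r - 1
  have hm : a.Monic := by simpa [a] using monic_X_pow_sub_C (1 : F) hr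
  have hnd : (normalizedFactors a).Nodup :=
    (squarefree_iff_nodup_normalizedFactors hm.ne_zero).1
      (by simpa [a] using (separable_X_pow_sub_C (1 : F) hrF one_ne_zero).squarefree)
  have h1 : (X - 1 : F[X]) ∈ normalizedFactors a := by
    obtain ⟨Q', hQ', hass⟩ := exists_mem_normalizedFactors_of_dvd hm.ne_zero (irreducible_X_sub_C (1 : F))
      (show (X - C 1 : F[X]) ∣ a by rw [dvd_iff_isRoot]; simp [a])
    rwa [← Polynomial.eq_of_monic_of_associated (monic_X_sub_C (1 : F))
      (monic_of_mem_nf hQ') hass, C_1] at hQ'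
  have hdeg : a.natDegree = r := by simpa [a] using natDegree_X_pow_sub_C (n := r) (r := (1 : F))
  have h2 : ∑ Q ∈ (normalizedFactors a).toFinset, Q.natDegree = r := by
    conv_rhs => rw [← hdeg, ← monic_prod_normalizedFactors hm]
    rw [natDegree_multiset_prod_of_monic _ fun Q hQ => monic_of_mem_nf hQ,
      Finset.sum_multiset_map_count]
    refine Finset.sum_congr rfl fun Q hQ => ?_
    rw [Multiset.count_eq_one_of_mem hnd (Multiset.mem_toFinset.1 hQ), one_smul]
  rw [← Finset.sum_erase_add _ _ (Multiset.mem_toFinset.2 h1),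
    show (X - 1 : F[X]).natDegree = 1 by simpa using natDegree_X_sub_C (1 : F)] at h2
  have h3 : ∀ Q ∈ (normalizedFactors a).toFinset.erase (X - 1),
      Q.natDegree = orderOf ((Fintype.card F : ℕ) : ZMod r) := fun Q hQ => by
    obtain ⟨hi, hQm, hd, hne⟩ := (mem_factors hr).1 (show Q ∈ factors F r from hQ)
    exact natDegree_eq_orderOf hrF hi hQm hd hne
  rw [Finset.sum_congr rfl h3, Finset.sum_const, smul_eq_mul] at h2
  show ((normalizedFactors a).toFinset.erase (X - 1)).card * _ = r - 1
  omega

theorem card_classes [Fintype F] [Fact r.Prime] (hrF : (r : F) ≠ 0) (p : ℕ) [Fact p.Prime] [CharP F p] (n i : ℕ)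
    (hi : i = orderOf ((Fintype.card F : ℕ) : ZMod r)) (hi0 : i ≠ 0) :
    Nat.card {C : ConjClasses (GL (Fin n) F) // ∃ g : GL (Fin n) F, ConjClasses.mk g = C ∧ orderOf g = r} =
      Nat.choose (n / i + (factors F r).card) (factors F r).card - 1 := by
  classical
  have hr : r ≠ 0 := (Fact.out : r.Prime).ne_zero
  have hrp : Nat.Coprime r p := by
    rw [Nat.coprime_primes Fact.out Fact.out]
    rintro rfl
    exact hrF (CharP.cast_eq_zero F r)
  set m := n / i
  set P := factors F r
  have hdeg : ∀ Q ∈ P, Q.natDegree = i := fun Q hQ => by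
    obtain ⟨h1, h2, h3, h4⟩ := (mem_factors hr).1 hQ
    rw [hi]; exact natDegree_eq_orderOf hrF h1 h2 h3 h4
  let somes : Sym (Option P) m → Multiset F[X] := fun s =>
    (Multiset.filterMap id (s : Multiset (Option P))).map Subtype.val
  have hsomes : ∀ s, ∀ Q ∈ somes s, Q ∈ P := fun s Q hQ => by
    obtain ⟨Q', -, rfl⟩ := Multiset.mem_map.1 hQ
    exact Q'.2
  have hsomes_card : ∀ s, Multiset.card (somes s) ≤ m := fun s => by
    rw [Multiset.card_map]
    calc _ ≤ Multiset.card (s : Multiset (Option P)) := by
          induction (s : Multiset (Option P)) using Multiset.induction with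
          | empty => simp
          | cons a t ih => cases a <;> simp <;> omega
      _ = m := s.2
  let full : Sym (Option P) m → Multiset F[X] := fun s =>
    somes s + Multiset.replicate (n - i * Multiset.card (somes s)) (X - 1)
  have hfullI : ∀ s, ∀ Q ∈ full s, Irreducible Q ∧ Q.Monic ∧ Q ∣ X ^ r - 1 := by
    intro s Q hQ
    rcases Multiset.mem_add.1 hQ with h | h
    · obtain ⟨h1, h2, h3, -⟩ := (mem_factors hr).1 (hsomes s Q h); exact ⟨h1, h2, h3⟩
    · rw [Multiset.eq_of_mem_replicate h, ← C_1]
      exact ⟨irreducible_X_sub_C 1, monic_X_sub_C 1, by rw [dvd_iff_isRoot]; simp⟩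
  let poly : Sym (Option P) m → F[X] := fun s => (full s).prod
  have hpolym : ∀ s, (poly s).Monic := fun s => by
    simpa [poly] using Polynomial.monic_multiset_prod_of_monic (full s) id fun Q hQ => (hfullI s Q hQ).2.1
  have hpolyd : ∀ s, (poly s).natDegree = n := fun s => by
    rw [natDegree_multiset_prod_of_monic _ fun Q hQ => (hfullI s Q hQ).2.1, Multiset.map_add, Multiset.sum_add,
      Multiset.map_congr rfl fun Q hQ => hdeg Q (hsomes s Q hQ), Multiset.map_const', Multiset.sum_replicate,
      Multiset.map_replicate, Multiset.sum_replicate, show (X - 1 : F[X]).natDegree = 1 by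
        simpa using natDegree_X_sub_C (1 : F), smul_eq_mul, smul_eq_mul, mul_one]
    have h1 : i * Multiset.card (somes s) ≤ i * (n / i) := Nat.mul_le_mul_left i (hsomes_card s)
    have h2 := Nat.mul_div_le n i
    rw [mul_comm (Multiset.card (somes s)) i]
    omega
  have hnf : ∀ s, normalizedFactors (poly s) = full s := fun s =>
    normalizedFactors_prod _ (fun Q hQ => (hfullI s Q hQ).1) fun Q hQ => (hfullI s Q hQ).2.1
  have hrecover : ∀ s, (normalizedFactors (poly s)).filter (· ≠ X - 1) = somes s := fun s => by
    rw [hnf, Multiset.filter_add, Multiset.filter_eq_self.2 fun Q hQ => ((mem_factors hr).1 (hsomes s Q hQ)).2.2.2,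
      Multiset.filter_eq_nil.2 fun Q hQ hne => hne (Multiset.eq_of_mem_replicate hQ), add_zero]
  have hsinj : ∀ s s', somes s = somes s' → s = s' := by
    intro s s' h
    have h' := Multiset.map_injective Subtype.val_injective h
    refine Subtype.ext (Multiset.ext.2 fun o => ?_)
    have hcount : ∀ (t : Multiset (Option P)), t.count none + Multiset.card (t.filterMap id) = Multiset.card t ∧
        ∀ x : P, t.count (some x) = (t.filterMap id).count x := by
      intro t
      induction t using Multiset.induction with
      | empty => simp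
      | cons a t ih =>
        cases a with
        | none => exact ⟨by simp; omega, fun x => by simp [ih.2 x]⟩
        | some y => exact ⟨by simp; omega, fun x => by simp [Multiset.count_cons, ih.2 x]⟩
    cases o with
    | none =>
      have h1 := (hcount s.1).1
      have h2 := (hcount s'.1).1
      change Multiset.filterMap id s.1 = Multiset.filterMap id s'.1 at h'
      have e1 : Multiset.card s.1 = m := s.2
      have e2 : Multiset.card s'.1 = m := s'.2
      rw [h'] at h1
      omega
    | some x =>
      have e1 := (hcount s.1).2 x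
      have e2 := (hcount s'.1).2 x
      change Multiset.filterMap id s.1 = Multiset.filterMap id s'.1 at h'
      rw [e1, e2, h']
  -- a representative for each parameter
  have hrep : ∀ s, ∃ g : GL (Fin n) F, (g : Matrix (Fin n) (Fin n) F).charpoly = poly s ∧ g ^ r = 1 ∧
      (orderOf g).Coprime p := by
    intro s
    obtain ⟨M, hM⟩ := exists_charpoly (poly s) (hpolym s) (hpolyd s)
    have hdet : M.det ≠ 0 := by
      intro h0
      rw [Matrix.det_eq_sign_charpoly_coeff, hM] at h0
      have h1 : (poly s).coeff 0 ≠ 0 := by
        rw [coeff_zero_eq_eval_zero, eval_multiset_prod]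
        refine Multiset.prod_ne_zero fun h => ?_
        obtain ⟨Q, hQ, hQ0⟩ := Multiset.mem_map.1 h
        obtain ⟨k, hk⟩ := (hfullI s Q hQ).2.2
        have := congrArg (Polynomial.eval 0) hk
        simp [hQ0, hr] at this
      exact h1 ((mul_eq_zero.1 h0).resolve_left (pow_ne_zero _ (neg_ne_zero.2 one_ne_zero)))
    obtain ⟨g, hg, hgc⟩ := exists_coprime_part p (Matrix.GeneralLinearGroup.mkOfDetNeZero M hdet)
    refine ⟨g, hgc.trans hM, ?_, hg⟩
    set f := Matrix.toLinAlgEquiv' (g : Matrix (Fin n) (Fin n) F)
    have hss : Module.End.IsSemisimple f := isSemisimple_of_coprime p hg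
    have hmd : minpoly F f ∣ poly s := by
      rw [show poly s = (g : Matrix (Fin n) (Fin n) F).charpoly from (hgc.trans hM).symm]
      refine minpoly.dvd F f ?_
      rw [aeval_algHom_apply, Matrix.aeval_self_charpoly, map_zero]
    have h0 : minpoly F f ≠ 0 := minpoly.ne_zero (IsIntegral.of_finite F f)
    have hdiv : minpoly F f ∣ X ^ r - 1 := dvd_of_squarefree hss.minpoly_squarefree h0 (X_pow_sub_one_ne_zero hr)
      fun Q hQ => by
        have h5 := (dvd_iff_normalizedFactors_le_normalizedFactors h0 (hpolym s).ne_zero).1 hmd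
        rw [hnf] at h5
        exact (hfullI s Q (Multiset.mem_of_le h5 hQ)).2.2
    have h6 := aeval_eq_zero_of_dvd_aeval_eq_zero hdiv (minpoly.aeval F f)
    rw [map_sub, map_pow, aeval_X, map_one, sub_eq_zero, ← map_pow] at h6
    refine Units.ext ?_
    rw [Units.val_pow_eq_pow_val, Units.val_one]
    exact Matrix.toLinAlgEquiv'.injective (h6.trans (map_one _).symm)
  choose rep hrep1 hrep2 hrep3 using hrep
  let triv : Sym (Option P) m := Sym.replicate m none
  have hone : (1 : GL (Fin n) F).1.charpoly = poly triv := by
    have hz : somes triv = 0 := by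
      refine Multiset.eq_zero_of_forall_notMem fun Q hQ => ?_
      obtain ⟨Q', hQ', -⟩ := Multiset.mem_map.1 hQ
      obtain ⟨o, ho, ho'⟩ := (Multiset.mem_filterMap _ _).1 hQ'
      rw [Sym.coe_replicate] at ho
      rw [Multiset.eq_of_mem_replicate ho] at ho'
      simp at ho'
    simp [poly, full, hz, Matrix.charpoly_one]
  let Ψ : {s : Sym (Option P) m // s ≠ triv} →
      {C : ConjClasses (GL (Fin n) F) // ∃ g : GL (Fin n) F, ConjClasses.mk g = C ∧ orderOf g = r} := fun s =>
    ⟨ConjClasses.mk (rep s.1), rep s.1, rfl, orderOf_eq_prime (hrep2 s.1) fun h1 => s.2 (hsinj _ _ (by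
      rw [← hrecover, ← hrecover, ← hrep1, h1, hone]))⟩
  have hΨ : Function.Bijective Ψ := by
    constructor
    · intro s s' h
      obtain ⟨c, hc⟩ := isConj_iff.1 (ConjClasses.mk_eq_mk_iff_isConj.1 (congrArg Subtype.val h))
      refine Subtype.ext (hsinj _ _ ?_)
      rw [← hrecover, ← hrecover, ← hrep1, ← hrep1, ← hc, Units.val_mul, Units.val_mul, Matrix.coe_units_inv,
        Matrix.charpoly_units_conj]
    · rintro ⟨_, g, rfl, hg⟩
      set cp := (g : Matrix (Fin n) (Fin n) F).charpoly with hcp
      set f := Matrix.toLinAlgEquiv' (g : Matrix (Fin n) (Fin n) F)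
      have hfr : minpoly F f ∣ X ^ r - 1 := minpoly.dvd F f (by
        rw [map_sub, map_pow, aeval_X, map_one, ← map_pow, ← Units.val_pow_eq_pow_val, ← hg, pow_orderOf_eq_one,
          Units.val_one, map_one, sub_self])
      have hcm : cp.Monic := Matrix.charpoly_monic _
      have hmem : ∀ Q ∈ normalizedFactors cp, Q ∈ P ∨ Q = X - 1 := by
        intro Q hQ
        have h1 := irreducible_of_normalized_factor Q hQ
        have h2 := monic_of_mem_nf hQ
        have h3 : Q ∣ minpoly F f := dvd_minpoly_of_dvd_charpoly f h1
          (by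
            rw [show LinearMap.charpoly f = cp from Matrix.charpoly_toLin' _]
            exact dvd_of_mem_normalizedFactors hQ)
        exact (em (Q = X - 1)).symm.imp_left fun hne => (mem_factors hr).2 ⟨h1, h2, h3.trans hfr, hne⟩
      set nf := normalizedFactors cp
      set k := Multiset.card (nf.filter (· ≠ X - 1))
      have hsumdeg : i * k + (nf.filter (· = X - 1)).card = n := by
        have h1 : (nf.map Polynomial.natDegree).sum = n := by
          rw [← natDegree_multiset_prod_of_monic nf fun Q hQ => monic_of_mem_nf hQ,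
            monic_prod_normalizedFactors hcm, hcp, Matrix.charpoly_natDegree_eq_dim, Fintype.card_fin]
        rw [← Multiset.filter_add_not (· = X - 1) nf, Multiset.map_add, Multiset.sum_add] at h1
        rw [Multiset.map_congr rfl (g := fun _ => i) fun Q hQ => hdeg Q
            ((hmem Q (Multiset.mem_filter.1 hQ).1).resolve_right (Multiset.mem_filter.1 hQ).2),
          Multiset.map_congr rfl (g := fun _ => 1) fun Q hQ => by
            rw [(Multiset.mem_filter.1 hQ).2]; simpa using natDegree_X_sub_C (1 : F)] at h1
        simp only [Multiset.map_const', Multiset.sum_replicate, smul_eq_mul, mul_one] at h1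
        show i * Multiset.card (nf.filter fun a => ¬ a = X - 1) + _ = n
        rw [mul_comm]
        omega
      have hkm : k ≤ m := (Nat.le_div_iff_mul_le (Nat.pos_of_ne_zero hi0)).2 (by rw [mul_comm]; omega)
      let sms : Multiset P := (nf.filter (· ≠ X - 1)).attach.map fun x =>
        ⟨x.1, (hmem x.1 (Multiset.mem_of_mem_filter x.2)).resolve_right (Multiset.of_mem_filter (p := (· ≠ X - 1)) x.2)⟩
      have hsms : Multiset.card sms = k := by simp [sms, k]
      let s : Sym (Option P) m := ⟨sms.map some + Multiset.replicate (m - k) none, by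
        rw [Multiset.card_add, Multiset.card_map, Multiset.card_replicate]; omega⟩
      have hs : somes s = nf.filter (· ≠ X - 1) := by
        show (Multiset.filterMap id (sms.map some + Multiset.replicate (m - k) none)).map Subtype.val = _
        have e1 : ∀ j : ℕ, Multiset.filterMap id (sms.map some + Multiset.replicate j (none : Option P)) = sms := by
          intro j
          induction j with
          | zero =>
            rw [Multiset.replicate_zero, add_zero, Multiset.filterMap_map]
            exact Multiset.filterMap_some sms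
          | succ j ih =>
            rw [Multiset.replicate_succ, Multiset.add_cons]
            simpa using ih
        rw [e1]
        simp [sms, Multiset.map_map, Function.comp_def]
      have hpoly : poly s = cp := by
        have h1 : Multiset.replicate (n - i * Multiset.card (somes s)) (X - 1 : F[X]) = nf.filter (· = X - 1) := by
          rw [hs, show n - i * Multiset.card (nf.filter (· ≠ X - 1)) = (nf.filter (· = X - 1)).card by
            show n - i * k = _
            omega]
          exact (Multiset.eq_replicate_card.2 fun Q hQ => (Multiset.mem_filter.1 hQ).2).symm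
        show (somes s + _).prod = cp
        rw [h1, hs, add_comm, Multiset.filter_add_not, monic_prod_normalizedFactors hcm]
      have hgp : (orderOf g).Coprime p := hg.symm ▸ hrp
      have hsne : s ≠ triv := by
        intro he
        have h1 : IsConj g 1 := isConj_of_charpoly (isSemisimple_of_coprime p hgp)
          (isSemisimple_of_coprime p (by simp)) (by rw [hone, ← he, hpoly])
        rw [isConj_one_left.1 h1, orderOf_one] at hg
        exact (Fact.out : r.Prime).ne_one hg.symm
      exact ⟨⟨s, hsne⟩, Subtype.ext (ConjClasses.mk_eq_mk_iff_isConj.2 (isConj_of_charpoly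
        (isSemisimple_of_coprime p (hrep3 s)) (isSemisimple_of_coprime p hgp) ((hrep1 s).trans hpoly)))⟩
  rw [← Nat.card_congr (Equiv.ofBijective Ψ hΨ), Nat.card_eq_fintype_card, Fintype.card_subtype_compl,
    Fintype.card_subtype_eq, Sym.card_sym_eq_choose, Fintype.card_option, Fintype.card_coe]
  congr 1
  rw [Nat.choose_symm_add.symm, Nat.add_comm]
  congr 1

end CfsgLib.KnownB.PrimeOrder
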