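import Cfsg.Agent.Lib.KnownB.PrimeCount

/-!
Classes of elements of prime order `r` of the quotient of a linear group by its scalars, when `r` divides the number
of scalars.
-/

set_option autoImplicit false
set_option linter.style.haveILetI false
set_option linter.unusedSectionVars false
set_option linter.unusedDecidableInType false
set_option linter.unusedFintypeInType false

namespace CfsgLib.KnownB.ProjPrime

open Polynomial UniqueFactorizationMonoid CfsgLib.KnownB.Semisimple CfsgLib.KnownB.PrimeOrder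
open scoped Matrix

universe u v w

variable {F : Type u} [Field F] [Fintype F] {G : Type v} [Group G] {Λ : Type w} [CommGroup Λ] {n : ℕ}

/-- A group of matrices containing the diagonal and the permutation matrices over a group `Λ` of scalars. -/
structure Data (j : G →* GL (Fin n) F) (e : Λ →* Fˣ) (r p : ℕ) : Prop where
  hp : p.Prime
  hchar : CharP F p
  hr : r.Prime
  hrF : (r : F) ≠ 0
  hn : 1 ≤ n
  jinj : Function.Injective j
  einj : Function.Injective e
  cyclic : IsCyclic Λ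
  dvd : r ∣ Nat.card Λ
  diag : ∀ f : Fin n → Λ, ∃ g : G, (j g : Matrix (Fin n) (Fin n) F) = Matrix.diagonal fun i => (e (f i) : F)
  perm : ∀ σ : Equiv.Perm (Fin n), ∃ g : G, (j g : Matrix (Fin n) (Fin n) F) = σ.permMatrix F
  scalar : ∀ (g : G) (c : F), (j g : Matrix (Fin n) (Fin n) F) = c • 1 → ∃ a : Λ, (e a : F) = c
  power : ∀ (a : Λ) (b : F), b ^ r = (e a : F) → ∃ c : Λ, c ^ r = a
  conj : ∀ a b : G, (∃ c : F, ((j a : Matrix (Fin n) (Fin n) F)) ^ r = c • 1) →
    (∃ c : F, ((j b : Matrix (Fin n) (Fin n) F)) ^ r = c • 1) → IsConj (j a) (j b) → IsConj a b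

variable {j : G →* GL (Fin n) F} {e : Λ →* Fˣ} {r p : ℕ}

/-- `g` is the scalar `a`. -/
def IsScal (j : G →* GL (Fin n) F) (e : Λ →* Fˣ) (g : G) (a : Λ) : Prop :=
  (j g : Matrix (Fin n) (Fin n) F) = (e a : F) • 1

theorem Data.finite (D : Data j e r p) : Finite Λ := Finite.of_injective e D.einj

theorem Data.exists_scal (D : Data j e r p) (a : Λ) : ∃ g : G, IsScal j e g a := by
  obtain ⟨g, hg⟩ := D.diag fun _ => a
  exact ⟨g, by rw [IsScal, hg, Matrix.smul_one_eq_diagonal]⟩

theorem Data.scal_inj (D : Data j e r p) {g : G} {a b : Λ} (ha : IsScal j e g a) (hb : IsScal j e g b) : a = b := by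
  have h := ha.symm.trans hb
  have h2 := congrFun (congrFun h ⟨0, D.hn⟩) ⟨0, D.hn⟩
  simp at h2
  exact D.einj (Units.ext h2)

theorem Data.mem_center (D : Data j e r p) (g : G) : g ∈ Subgroup.center G ↔ ∃ a, IsScal j e g a := by
  constructor
  · intro hg
    haveI := D.finite
    haveI : Nontrivial Λ := Finite.one_lt_card_iff_nontrivial.1
      (lt_of_lt_of_le D.hr.one_lt (Nat.le_of_dvd Nat.card_pos D.dvd))
    obtain ⟨w, hw⟩ := exists_ne (1 : Λ)
    have hc : ∀ h : G, (j h : Matrix (Fin n) (Fin n) F) * j g = j g * j h := fun h => by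
      rw [← Units.val_mul, ← Units.val_mul, ← map_mul, ← map_mul, Subgroup.mem_center_iff.1 hg h]
    have hoff : ∀ a b, a ≠ b → (j g : Matrix (Fin n) (Fin n) F) a b = 0 := by
      intro a b hab
      obtain ⟨h, hh⟩ := D.diag fun i => if i = a then w else 1
      have h1 := congrFun (congrFun (hc h) a) b
      rw [hh, Matrix.diagonal_mul, Matrix.mul_diagonal, if_pos rfl, if_neg (Ne.symm hab), map_one, Units.val_one,
        mul_one] at h1
      by_contra h0
      exact hw (D.einj (by rw [map_one]; exact Units.ext ((mul_eq_right₀ h0).1 h1)))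
    have hdiag : ∀ a b, (j g : Matrix (Fin n) (Fin n) F) a a = (j g : Matrix (Fin n) (Fin n) F) b b := by
      intro a b
      rcases eq_or_ne a b with rfl | hab
      · rfl
      obtain ⟨h, hh⟩ := D.perm (Equiv.swap a b)
      have h1 := congrFun (congrFun (hc h) a) b
      rw [hh, Equiv.Perm.permMatrix, PEquiv.toMatrix_toPEquiv_mul, PEquiv.mul_toMatrix_toPEquiv] at h1
      simpa using h1.symm
    obtain ⟨a, ha⟩ := D.scalar g ((j g : Matrix (Fin n) (Fin n) F) ⟨0, D.hn⟩ ⟨0, D.hn⟩) (by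
      ext x y
      rcases eq_or_ne x y with rfl | h
      · simp [hdiag x ⟨0, D.hn⟩]
      · simp [hoff x y h, Matrix.one_apply_ne h])
    refine ⟨a, ?_⟩
    rw [IsScal, ha]
    ext x y
    rcases eq_or_ne x y with rfl | h
    · simp [hdiag x ⟨0, D.hn⟩]
    · simp [hoff x y h, Matrix.one_apply_ne h]
  · rintro ⟨a, ha⟩
    refine Subgroup.mem_center_iff.2 fun h => D.jinj (Units.ext ?_)
    rw [map_mul, map_mul, Units.val_mul, Units.val_mul, ha]
    simp

/-- The `r`-torsion scalars. -/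
abbrev Tor (Λ : Type w) [CommGroup Λ] (r : ℕ) : Subgroup Λ := MonoidHom.ker (powMonoidHom r : Λ →* Λ)

theorem Data.card_tor (D : Data j e r p) : Nat.card (Tor Λ r) = r := by
  haveI := D.finite
  haveI := D.cyclic
  rw [IsCyclic.card_powMonoidHom_ker]
  exact Nat.gcd_eq_right D.dvd

/-- The residue of a scalar modulo `r`-th powers. -/
noncomputable def chi (Λ : Type w) [CommGroup Λ] (r : ℕ) : Λ →* Λ := powMonoidHom (Nat.card Λ / r)

theorem Data.chi_mem (D : Data j e r p) (a : Λ) : chi Λ r a ∈ Tor Λ r := by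
  haveI := D.finite
  show (a ^ (Nat.card Λ / r)) ^ r = 1
  rw [← pow_mul, Nat.div_mul_cancel D.dvd, pow_card_eq_one']

theorem Data.chi_pow (D : Data j e r p) (c : Λ) : chi Λ r (c ^ r) = 1 := by
  haveI := D.finite
  show (c ^ r) ^ (Nat.card Λ / r) = 1
  rw [← pow_mul, Nat.mul_div_cancel' D.dvd, pow_card_eq_one']

theorem Data.chi_eq_one (D : Data j e r p) {a : Λ} (h : chi Λ r a = 1) : ∃ c : Λ, c ^ r = a := by
  haveI := D.finite
  haveI := D.cyclic
  have hle : (powMonoidHom r : Λ →* Λ).range ≤ (chi Λ r).ker := by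
    rintro _ ⟨c, rfl⟩
    exact D.chi_pow c
  have heq : (powMonoidHom r : Λ →* Λ).range = (chi Λ r).ker := by
    refine Subgroup.eq_of_le_of_card_ge hle ?_
    rw [chi, IsCyclic.card_powMonoidHom_ker, IsCyclic.card_powMonoidHom_range,
      Nat.gcd_eq_right (Nat.div_dvd_of_dvd D.dvd), Nat.gcd_eq_right D.dvd]
  have hm : a ∈ (powMonoidHom r : Λ →* Λ).range := heq ▸ h
  obtain ⟨c, hc⟩ := hm
  exact ⟨c, hc⟩

theorem Data.chi_surj (D : Data j e r p) {z : Λ} (hz : z ∈ Tor Λ r) : ∃ a, chi Λ r a = z := by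
  haveI := D.finite
  haveI := D.cyclic
  have hle : (chi Λ r).range ≤ Tor Λ r := by
    rintro _ ⟨a, rfl⟩
    exact D.chi_mem a
  have heq : (chi Λ r).range = Tor Λ r := by
    refine Subgroup.eq_of_le_of_card_ge hle (le_of_eq ?_)
    rw [D.card_tor, chi, IsCyclic.card_powMonoidHom_range, Nat.gcd_eq_right (Nat.div_dvd_of_dvd D.dvd)]
    exact (Nat.div_div_self D.dvd Nat.card_pos.ne').symm
  have hm : z ∈ (chi Λ r).range := heq.symm ▸ hz
  obtain ⟨a, ha⟩ := hm
  exact ⟨a, ha⟩

theorem Data.semisimple (D : Data j e r p) {g : G} {a : Λ} (hg : IsScal j e (g ^ r) a) :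
    Module.End.IsSemisimple (Matrix.toLin' (j g : Matrix (Fin n) (Fin n) F)) := by
  refine Module.End.isSemisimple_of_squarefree_aeval_eq_zero (p := X ^ r - C (e a : F))
    (separable_X_pow_sub_C (e a : F) D.hrF (e a).ne_zero).squarefree ?_
  rw [show Matrix.toLin' (j g : Matrix (Fin n) (Fin n) F) = Matrix.toLinAlgEquiv' (j g : Matrix (Fin n) (Fin n) F) from rfl,
    aeval_algHom_apply, map_sub, map_pow, aeval_X, aeval_C, ← Units.val_pow_eq_pow_val, ← map_pow, hg,
    Algebra.algebraMap_eq_smul_one, sub_self, map_zero]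

theorem Data.factor_dvd (D : Data j e r p) {g : G} {a : Λ} (hg : IsScal j e (g ^ r) a) {Q : F[X]}
    (hQ : Irreducible Q) (hd : Q ∣ (j g : Matrix (Fin n) (Fin n) F).charpoly) : Q ∣ X ^ r - C (e a : F) := by
  obtain ⟨f, hf⟩ : ∃ f : Module.End F (Fin n → F), f = Matrix.toLinAlgEquiv' (j g : Matrix (Fin n) (Fin n) F) := ⟨_, rfl⟩
  have hfr : minpoly F f ∣ X ^ r - C (e a : F) := minpoly.dvd F f (by
    rw [hf, aeval_algHom_apply, map_sub, map_pow, aeval_X, aeval_C, ← Units.val_pow_eq_pow_val, ← map_pow, hg,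
      Algebra.algebraMap_eq_smul_one, sub_self, map_zero])
  refine (dvd_minpoly_of_dvd_charpoly f hQ ?_).trans hfr
  rw [hf, show LinearMap.charpoly (Matrix.toLinAlgEquiv' (j g : Matrix (Fin n) (Fin n) F)) =
    (j g : Matrix (Fin n) (Fin n) F).charpoly from Matrix.charpoly_toLin' _]
  exact hd

theorem Data.conj_of_charpoly (D : Data j e r p) {g g' : G} {a a' : Λ} (hg : IsScal j e (g ^ r) a)
    (hg' : IsScal j e (g' ^ r) a')
    (h : (j g : Matrix (Fin n) (Fin n) F).charpoly = (j g' : Matrix (Fin n) (Fin n) F).charpoly) : IsConj g g' := by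
  refine D.conj g g' ⟨e a, ?_⟩ ⟨e a', ?_⟩ (isConj_of_charpoly (D.semisimple hg) (D.semisimple hg') h)
  · rw [← Units.val_pow_eq_pow_val, ← map_pow]; exact hg
  · rw [← Units.val_pow_eq_pow_val, ← map_pow]; exact hg'

/-- The class of an element whose `r`-th power is not an `r`-th power of a scalar. -/
theorem Data.charpoly_nonpower (D : Data j e r p) {g : G} {a : Λ} (hg : IsScal j e (g ^ r) a)
    (ha : ∀ c : Λ, c ^ r ≠ a) :
    r ∣ n ∧ (j g : Matrix (Fin n) (Fin n) F).charpoly = (X ^ r - C (e a : F)) ^ (n / r) := by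
  classical
  have hm : (X ^ r - C (e a : F)).Monic := monic_X_pow_sub_C _ D.hr.ne_zero
  have hirr : Irreducible (X ^ r - C (e a : F)) := X_pow_sub_C_irreducible_of_prime D.hr fun b hb => by
    obtain ⟨c, hc⟩ := D.power a b hb
    exact ha c hc
  obtain ⟨f, hf⟩ : ∃ f, f = (j g : Matrix (Fin n) (Fin n) F).charpoly := ⟨_, rfl⟩
  have hfm : f.Monic := hf ▸ Matrix.charpoly_monic _
  have hall : ∀ Q ∈ normalizedFactors f, Q = X ^ r - C (e a : F) := fun Q hQ =>
    eq_of_monic_of_associated (monic_of_mem_nf hQ) hm ((irreducible_of_normalized_factor Q hQ).associated_of_dvd hirr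
      (D.factor_dvd hg (irreducible_of_normalized_factor Q hQ) (hf ▸ dvd_of_mem_normalizedFactors hQ)))
  have hprod : f = (X ^ r - C (e a : F)) ^ Multiset.card (normalizedFactors f) := by
    conv_lhs => rw [← monic_prod_normalizedFactors hfm, Multiset.eq_replicate_card.2 hall, Multiset.prod_replicate]
  have hdeg : n = Multiset.card (normalizedFactors f) * r := by
    have h1 := congrArg natDegree hprod
    rwa [hf, Matrix.charpoly_natDegree_eq_dim, Fintype.card_fin, natDegree_pow, natDegree_X_pow_sub_C, ← hf] at h1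
  refine ⟨Dvd.intro_left _ hdeg.symm, ?_⟩
  rw [← hf, show n / r = Multiset.card (normalizedFactors f) from by rw [hdeg, Nat.mul_div_cancel _ D.hr.pos]]
  exact hprod

/-- An element whose `r`-th power is a given scalar, for `r ∣ n`. -/
theorem Data.exists_pow_scal (D : Data j e r p) (hd : r ∣ n) (a : Λ) : ∃ g : G, IsScal j e (g ^ r) a := by
  obtain ⟨l, hl⟩ := hd
  haveI : NeZero r := ⟨D.hr.ne_zero⟩
  let E : Fin n ≃ Fin l × ZMod r := ((finCongr (hl.trans (mul_comm r l))).trans finProdFinEquiv.symm).trans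
    ((Equiv.refl (Fin l)).prodCongr (ZMod.finEquiv r).toEquiv)
  let σ : Equiv.Perm (Fin n) := E.trans (((Equiv.refl (Fin l)).prodCongr (Equiv.addRight (1 : ZMod r))).trans E.symm)
  let f : Fin n → Λ := fun x => if (E x).2 = 0 then a else 1
  obtain ⟨P, hP⟩ := D.perm σ
  obtain ⟨T, hT⟩ := D.diag f
  refine ⟨P * T, ?_⟩
  obtain ⟨M, hM⟩ : ∃ M, M = (j (P * T) : Matrix (Fin n) (Fin n) F) := ⟨_, rfl⟩
  have hMv : ∀ v x, (M *ᵥ v) x = (e (f (σ x)) : F) * v (σ x) := fun v x => by
    rw [hM, map_mul, Units.val_mul, hP, hT, ← Matrix.mulVec_mulVec, Matrix.permMatrix_mulVec, Function.comp_apply,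
      Matrix.mulVec_diagonal]
  have hσ : ∀ (k : ℕ) (x : Fin n), E ((σ ^ k) x) = ((E x).1, (E x).2 + (k : ZMod r)) := by
    intro k
    induction k with
    | zero => intro x; simp
    | succ k ih =>
      intro x
      rw [pow_succ', Equiv.Perm.mul_apply]
      show E (E.symm _) = _
      rw [Equiv.apply_symm_apply, ih]
      ext <;> simp [add_assoc]
  have hpow : ∀ (k : ℕ) (v : Fin n → F) (x : Fin n), ((M ^ k) *ᵥ v) x = (∏ i ∈ Finset.range k, (e (f ((σ ^ (i + 1)) x)) : F)) * v ((σ ^ k) x) := by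
    intro k
    induction k with
    | zero => intro v x; simp
    | succ k ih =>
      intro v x
      rw [pow_succ, ← Matrix.mulVec_mulVec, ih, hMv, Finset.prod_range_succ, pow_succ' σ k, Equiv.Perm.mul_apply]
      ring
  have hr0 : ∀ x, (σ ^ r) x = x := fun x => E.injective (by rw [hσ]; simp)
  show (j ((P * T) ^ r) : Matrix (Fin n) (Fin n) F) = _
  rw [map_pow, Units.val_pow_eq_pow_val, ← hM]
  refine Matrix.toLin'.injective (LinearMap.ext fun v => funext fun x => ?_)
  rw [Matrix.toLin'_apply, Matrix.toLin'_apply, hpow, hr0, Matrix.smul_mulVec, Matrix.one_mulVec, Pi.smul_apply,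
    smul_eq_mul]
  congr 1
  obtain ⟨i0, hi0, hi0'⟩ : ∃ i0 : ℕ, i0 < r ∧ (E x).2 + ((i0 + 1 : ℕ) : ZMod r) = 0 := by
    refine ⟨(-(E x).2 - 1 : ZMod r).val, ZMod.val_lt _, ?_⟩
    rw [Nat.cast_add, ZMod.natCast_zmod_val, Nat.cast_one]
    ring
  rw [Finset.prod_eq_single i0]
  · simp only [f, hσ, if_pos hi0']
  · intro i hi hne
    simp only [f, hσ]
    rw [if_neg, map_one, Units.val_one]
    intro h
    refine hne ?_
    have h1 := add_left_cancel (h.trans hi0'.symm)
    rw [Nat.cast_add, Nat.cast_add, add_left_inj] at h1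
    simp only [ZMod.natCast_eq_natCast_iff'] at h1
    rw [Nat.mod_eq_of_lt (Finset.mem_range.1 hi), Nat.mod_eq_of_lt hi0] at h1
    exact h1
  · intro h
    exact absurd (Finset.mem_range.2 hi0) h

end CfsgLib.KnownB.ProjPrime
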