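import Cfsg.Agent.Lib.KnownB.ProjPrime

/-!
The number of classes of elements of order `r` modulo scalars.
-/

set_option autoImplicit false
set_option linter.style.haveILetI false
set_option linter.unusedSectionVars false
set_option linter.unusedDecidableInType false
set_option linter.unusedFintypeInType false

namespace CfsgLib.KnownB.ProjPrime

open Polynomial UniqueFactorizationMonoid CfsgLib.KnownB.Semisimple CfsgLib.KnownB.PrimeOrder
open scoped Matrix

universe u v w

variable {F : Type u} [Field F] [Fintype F] {G : Type v} [Group G] {Λ : Type w} [CommGroup Λ] {n : ℕ}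
variable {j : G →* GL (Fin n) F} {e : Λ →* Fˣ} {r p : ℕ}

theorem scal_mul {g h : G} {a b : Λ} (hg : IsScal j e g a) (hh : IsScal j e h b) : IsScal j e (g * h) (a * b) := by
  unfold IsScal at hg hh ⊢
  rw [map_mul, map_mul, Units.val_mul, Units.val_mul, hg, hh, smul_mul_smul_comm, one_mul]

theorem scal_pow {g : G} {a : Λ} (hg : IsScal j e g a) (k : ℕ) : IsScal j e (g ^ k) (a ^ k) := by
  unfold IsScal at hg ⊢
  rw [map_pow, map_pow, Units.val_pow_eq_pow_val, Units.val_pow_eq_pow_val, hg, _root_.smul_pow, one_pow]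

theorem scal_one : IsScal j e 1 1 := by
  unfold IsScal
  rw [map_one, map_one, Units.val_one, Units.val_one, one_smul]

theorem scal_conj {g c : G} {a : Λ} (hg : IsScal j e g a) : IsScal j e (c * g * c⁻¹) a := by
  unfold IsScal at hg ⊢
  rw [map_mul, map_mul, Units.val_mul, Units.val_mul, hg, mul_smul_comm, mul_one, smul_mul_assoc, ← Units.val_mul,
    ← map_mul, mul_inv_cancel, map_one, Units.val_one]

theorem Data.commute_scal (D : Data j e r p) {s : G} {a : Λ} (hs : IsScal j e s a) (g : G) : Commute g s :=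
  Subgroup.mem_center_iff.1 ((D.mem_center s).2 ⟨a, hs⟩) g

theorem Data.pow_mul_scal (D : Data j e r p) {g s : G} {a b : Λ} (hg : IsScal j e (g ^ r) a) (hs : IsScal j e s b) :
    IsScal j e ((g * s) ^ r) (a * b ^ r) := by
  rw [(D.commute_scal hs g).mul_pow]
  exact scal_mul hg (scal_pow hs r)

/-- The polynomial with roots `e z`. -/
noncomputable def polyS (e : Λ →* Fˣ) (s : Multiset ↥(Tor Λ r)) : F[X] :=
  (s.map fun z : ↥(Tor Λ r) => X - C (e (z : Λ) : F)).prod

theorem Data.polyS_inj (D : Data j e r p) {s s' : Multiset ↥(Tor Λ r)} (h : polyS e s = polyS e s') : s = s' := by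
  have key : ∀ s : Multiset ↥(Tor Λ r), (polyS e s).roots = s.map fun z : ↥(Tor Λ r) => (e (z : Λ) : F) := fun s => by
    unfold polyS
    conv_lhs => rw [show (s.map fun z : ↥(Tor Λ r) => X - C (e (z : Λ) : F)) =
      (s.map fun z : ↥(Tor Λ r) => (e (z : Λ) : F)).map fun x => X - C x from
        (Multiset.map_map (fun x => X - C x) (fun z : ↥(Tor Λ r) => (e (z : Λ) : F)) s).symm]
    exact roots_multiset_prod_X_sub_C _
  have h1 := congrArg Polynomial.roots h
  rw [key, key] at h1
  exact Multiset.map_injective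
    (fun a b hab => Subtype.ext (D.einj (Units.ext hab))) h1

/-- The diagonal element with eigenvalues `s`. -/
theorem Data.exists_diag (D : Data j e r p) (s : Sym ↥(Tor Λ r) n) :
    ∃ f : Fin n → ↥(Tor Λ r), (Finset.univ.val.map f) = (s : Multiset ↥(Tor Λ r)) ∧ ∃ g : G,
      (j g : Matrix (Fin n) (Fin n) F) = Matrix.diagonal (fun i => (e (f i : Λ) : F)) := by
  classical
  have hl : (s : Multiset ↥(Tor Λ r)).toList.length = n := by rw [Multiset.length_toList]; exact s.2
  refine ⟨fun i => (s : Multiset ↥(Tor Λ r)).toList[(i : ℕ)]'(by rw [hl]; exact i.isLt), ?_, D.diag _⟩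
  have hz : (Finset.univ : Finset (Fin n)).val = ((List.finRange n : List (Fin n)) : Multiset (Fin n)) := rfl
  rw [hz, Multiset.map_coe]
  conv_rhs => rw [← Multiset.coe_toList (s : Multiset ↥(Tor Λ r))]
  congr 1
  apply List.ext_getElem <;> simp [hl]

theorem Data.charpoly_power (D : Data j e r p) {g : G} (hg : IsScal j e (g ^ r) 1) :
    ∃ s : Sym ↥(Tor Λ r) n, (j g : Matrix (Fin n) (Fin n) F).charpoly = polyS e (s : Multiset ↥(Tor Λ r)) := by
  classical
  haveI := D.finite
  haveI : Fintype ↥(Tor Λ r) := Fintype.ofFinite _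
  obtain ⟨f, hf⟩ : ∃ f, f = (j g : Matrix (Fin n) (Fin n) F).charpoly := ⟨_, rfl⟩
  have hfm : f.Monic := hf ▸ Matrix.charpoly_monic _
  -- the roots of unity
  have hX : ∀ b : F, b ^ r = 1 → ∃ z : ↥(Tor Λ r), (e (z : Λ) : F) = b := by
    intro b hb
    obtain ⟨S, hS⟩ : ∃ S : Finset F, S = Finset.univ.image fun z : ↥(Tor Λ r) => (e (z : Λ) : F) := ⟨_, rfl⟩
    by_contra hne
    have hb' : b ∉ S := by
      rw [hS, Finset.mem_image]
      rintro ⟨z, -, hz⟩
      exact hne ⟨z, hz⟩
    have hsub : (insert b S).val ≤ (X ^ r - C (1 : F)).roots := by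
      refine (Multiset.le_iff_subset (Finset.nodup _)).2 fun x hx => ?_
      rw [mem_roots (X_pow_sub_C_ne_zero D.hr.pos 1), IsRoot, eval_sub, eval_pow, eval_X, eval_C, sub_eq_zero]
      rcases Finset.mem_insert.1 hx with rfl | hx
      · exact hb
      · rw [hS, Finset.mem_image] at hx
        obtain ⟨z, -, rfl⟩ := hx
        rw [← Units.val_pow_eq_pow_val, ← map_pow, show (z : Λ) ^ r = 1 from z.2, map_one, Units.val_one]
    have h2 := (Multiset.card_le_card hsub).trans (card_roots' _)
    rw [natDegree_X_pow_sub_C, ← Finset.card_def, Finset.card_insert_of_notMem hb', hS,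
      Finset.card_image_of_injective _ (fun a b hab => Subtype.ext (D.einj (Units.ext hab))), Finset.card_univ,
      ← Nat.card_eq_fintype_card, D.card_tor] at h2
    omega
  have hall : ∀ Q ∈ normalizedFactors f, ∃ z : ↥(Tor Λ r), Q = X - C (e (z : Λ) : F) := by
    intro Q hQ
    have hi := irreducible_of_normalized_factor Q hQ
    have hd := D.factor_dvd hg hi (hf ▸ dvd_of_mem_normalizedFactors hQ)
    rw [map_one, Units.val_one] at hd
    -- `X ^ r - 1` is a product of linear factors
    have hprod : (X ^ r - C (1 : F)) ∣ ∏ z : ↥(Tor Λ r), (X - C (e (z : Λ) : F)) := by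
      refine dvd_of_squarefree (separable_X_pow_sub_C (1 : F) D.hrF one_ne_zero).squarefree
        (X_pow_sub_C_ne_zero D.hr.pos 1) (Finset.prod_ne_zero_iff.2 fun z _ => X_sub_C_ne_zero _) fun P hP => ?_
      have hPi := irreducible_of_normalized_factor P hP
      obtain ⟨l, hl⟩ : ∃ l : F, P.IsRoot l := by
        haveI := Fact.mk D.hr
        have hdeg := natDegree_eq_orderOf (r := r) D.hrF hPi (monic_of_mem_nf hP)
        by_cases hP1 : P = X - 1
        · exact ⟨1, by rw [hP1, IsRoot, eval_sub, eval_X, eval_one, sub_self]⟩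
        · have h1 := hdeg (by rw [← C_1]; exact dvd_of_mem_normalizedFactors hP) hP1
          have h2 : ((Fintype.card F : ℕ) : ZMod r) = 1 := by
            have h3 : r ∣ Fintype.card F - 1 := by
              refine D.dvd.trans ?_
              rw [← Fintype.card_units, ← Nat.card_eq_fintype_card]
              exact Subgroup.card_dvd_of_injective e D.einj
            have h4 : ((Fintype.card F - 1 : ℕ) : ZMod r) = 0 := (ZMod.natCast_eq_zero_iff _ _).2 h3
            rwa [Nat.cast_sub Fintype.card_pos, Nat.cast_one, sub_eq_zero] at h4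
          rw [h2, orderOf_one] at h1
          exact Polynomial.exists_root_of_degree_eq_one (by rw [degree_eq_natDegree hPi.ne_zero, h1]; rfl)
      have hPl : P = X - C l := eq_of_monic_of_associated (monic_of_mem_nf hP) (monic_X_sub_C l)
        ((irreducible_X_sub_C l).associated_of_dvd hPi (dvd_iff_isRoot.2 hl)).symm
      obtain ⟨z, hz⟩ := hX l (by
        have h5 := dvd_of_mem_normalizedFactors hP
        rw [hPl, dvd_iff_isRoot, IsRoot, eval_sub, eval_pow, eval_X, eval_C, sub_eq_zero] at h5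
        exact h5)
      rw [hPl, ← hz]
      exact Finset.dvd_prod_of_mem (fun z : ↥(Tor Λ r) => X - C (e (z : Λ) : F)) (Finset.mem_univ z)
    obtain ⟨z, -, hz⟩ := hi.prime.exists_mem_finset_dvd (hd.trans hprod)
    exact ⟨z, eq_of_monic_of_associated (monic_of_mem_nf hQ) (monic_X_sub_C _)
      (hi.associated_of_dvd (irreducible_X_sub_C _) hz)⟩
  choose z hz using hall
  obtain ⟨M, hM⟩ : ∃ M : Multiset ↥(Tor Λ r), M = (normalizedFactors f).attach.map fun Q => z Q.1 Q.2 := ⟨_, rfl⟩
  have hp : polyS e M = f := by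
    rw [polyS, hM, Multiset.map_map, Multiset.map_congr rfl (g := fun Q => Q.1) fun Q _ => (hz Q.1 Q.2).symm,
      Multiset.attach_map_val, monic_prod_normalizedFactors hfm]
  have hcard : Multiset.card M = n := by
    have h1 := congrArg natDegree hp
    rw [polyS, natDegree_multiset_prod_of_monic _ fun Q hQ => by
      obtain ⟨w, -, rfl⟩ := Multiset.mem_map.1 hQ
      exact monic_X_sub_C _, Multiset.map_map] at h1
    simpa [hf, Matrix.charpoly_natDegree_eq_dim] using h1
  exact ⟨⟨M, hcard⟩, by rw [← hf]; exact hp.symm⟩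

theorem Data.card_classes (D : Data j e r p) :
    Nat.card {C : ConjClasses (G ⧸ Subgroup.center G) //
      ∃ g : G ⧸ Subgroup.center G, ConjClasses.mk g = C ∧ orderOf g = r} =
      (Nat.choose (n + r - 1) (r - 1) - r - (if r ∣ n then 1 else 0)) / r + r * (if r ∣ n then 1 else 0) := by
  classical
  haveI := D.finite
  haveI := Fact.mk D.hr
  haveI : Finite G := Finite.of_injective j D.jinj
  haveI : Fintype ↥(Tor Λ r) := Fintype.ofFinite _
  have hn0 : n ≠ 0 := by have := D.hn; omega
  -- classes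
  let Pset := {C : ConjClasses (G ⧸ Subgroup.center G) //
    ∃ g : G ⧸ Subgroup.center G, ConjClasses.mk g = C ∧ orderOf g = r}
  let cl : G → ConjClasses (G ⧸ Subgroup.center G) := fun g => ConjClasses.mk (g : G ⧸ Subgroup.center G)
  have hord : ∀ g : G, orderOf (g : G ⧸ Subgroup.center G) = r ↔
      (∃ a, IsScal j e (g ^ r) a) ∧ ¬ ∃ a, IsScal j e g a := by
    intro g
    constructor
    · intro h
      refine ⟨(D.mem_center _).1 ((QuotientGroup.eq_one_iff _).1 (by rw [QuotientGroup.mk_pow, ← h, pow_orderOf_eq_one])),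
        fun hs => ?_⟩
      rw [(QuotientGroup.eq_one_iff g).2 ((D.mem_center g).2 hs), orderOf_one] at h
      exact D.hr.ne_one h.symm
    · rintro ⟨h1, h2⟩
      exact orderOf_eq_prime (by rw [← QuotientGroup.mk_pow]; exact (QuotientGroup.eq_one_iff _).2 ((D.mem_center _).2 h1))
        fun h => h2 ((D.mem_center g).1 ((QuotientGroup.eq_one_iff g).1 h))
  have hcl : ∀ g g' : G, cl g = cl g' → ∃ (s : G) (b : Λ), IsScal j e s b ∧ IsConj g (g' * s) := by
    intro g g' h
    obtain ⟨c, hc⟩ := isConj_iff.1 (ConjClasses.mk_eq_mk_iff_isConj.1 h)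
    obtain ⟨c, rfl⟩ := QuotientGroup.mk_surjective c
    rw [← QuotientGroup.mk_mul, ← QuotientGroup.mk_inv, ← QuotientGroup.mk_mul, eq_comm, QuotientGroup.eq] at hc
    obtain ⟨b, hb⟩ := (D.mem_center _).1 hc
    exact ⟨_, b, hb, isConj_iff.2 ⟨c, by rw [mul_inv_cancel_left]⟩⟩
  have hclscal : ∀ g s : G, ∀ b, IsScal j e s b → cl (g * s) = cl g := fun g s b hs => by
    show ConjClasses.mk _ = ConjClasses.mk _
    rw [QuotientGroup.mk_mul, (QuotientGroup.eq_one_iff s).2 ((D.mem_center s).2 ⟨b, hs⟩), mul_one]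
  have hclconj : ∀ g g' : G, IsConj g g' → cl g = cl g' := fun g g' h =>
    ConjClasses.mk_eq_mk_iff_isConj.2 ((QuotientGroup.mk' (Subgroup.center G)).map_isConj h)
  -- a lift of each class
  have hlift : ∀ C : Pset, ∃ g a, cl g = C.1 ∧ IsScal j e (g ^ r) a ∧ ¬ ∃ a, IsScal j e g a := by
    rintro ⟨_, x, rfl, hx⟩
    obtain ⟨g, rfl⟩ := QuotientGroup.mk_surjective x
    obtain ⟨⟨a, ha⟩, h2⟩ := (hord g).1 hx
    exact ⟨g, a, rfl, ha, h2⟩
  choose lift la hl1 hl2 hl3 using hlift
  let κ : Pset → ↥(Tor Λ r) := fun C => ⟨chi Λ r (la C), D.chi_mem _⟩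
  have hκ : ∀ (C : Pset) (g : G) (a : Λ), cl g = C.1 → IsScal j e (g ^ r) a → (κ C : Λ) = chi Λ r a := by
    intro C g a hg ha
    obtain ⟨s, b, hs, hcj⟩ := hcl g (lift C) (hg.trans (hl1 C).symm)
    obtain ⟨c, hc⟩ := isConj_iff.1 hcj
    have h1 : IsScal j e ((lift C * s) ^ r) a := by
      rw [← hc, conj_pow]
      exact scal_conj ha
    have h2 := D.scal_inj h1 (D.pow_mul_scal (hl2 C) hs)
    show chi Λ r (la C) = chi Λ r a
    rw [h2, map_mul, D.chi_pow, mul_one]
  -- fibres over the nontrivial residues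
  have hbad : ∀ z : ↥(Tor Λ r), z ≠ 1 → Nat.card {C : Pset // κ C = z} = if r ∣ n then 1 else 0 := by
    intro z hz
    have hnp : ∀ (C : Pset), κ C = z → ∀ c : Λ, c ^ r ≠ la C := fun C hC c hc =>
      hz (by rw [← hC]; exact Subtype.ext (by show chi Λ r (la C) = 1; rw [← hc, D.chi_pow]))
    split_ifs with hd
    · obtain ⟨a0, ha0⟩ := D.chi_surj z.2
      obtain ⟨g, hg⟩ := D.exists_pow_scal hd a0
      have hns : ¬ ∃ a, IsScal j e g a := fun ⟨b, hb⟩ => hz (Subtype.ext (by
        rw [← ha0, D.scal_inj hg (scal_pow hb r), D.chi_pow]; rfl))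
      let C0 : Pset := ⟨cl g, _, rfl, (hord g).2 ⟨⟨a0, hg⟩, hns⟩⟩
      have hC0 : κ C0 = z := Subtype.ext (by rw [hκ C0 g a0 rfl hg, ha0])
      refine Nat.card_eq_one_iff_unique.2 ⟨⟨?_⟩, ⟨⟨C0, hC0⟩⟩⟩
      rintro ⟨C, hC⟩ ⟨C', hC'⟩
      have h1 : chi Λ r (la C * (la C')⁻¹) = 1 := by
        rw [map_mul, map_inv, show chi Λ r (la C) = (z : Λ) from congrArg Subtype.val hC,
          show chi Λ r (la C') = (z : Λ) from congrArg Subtype.val hC', mul_inv_cancel]
      obtain ⟨c, hc⟩ := D.chi_eq_one h1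
      obtain ⟨s, hs⟩ := D.exists_scal c
      have h2 : IsScal j e ((lift C' * s) ^ r) (la C) := by
        have := D.pow_mul_scal (hl2 C') hs
        rwa [hc, mul_comm (la C'), mul_assoc, inv_mul_cancel, mul_one] at this
      obtain ⟨-, e1⟩ := D.charpoly_nonpower (hl2 C) (hnp C hC)
      obtain ⟨-, e2⟩ := D.charpoly_nonpower h2 (hnp C hC)
      refine Subtype.ext (Subtype.ext ?_)
      rw [← hl1 C, ← hl1 C', hclconj _ _ (D.conj_of_charpoly (hl2 C) h2 (e1.trans e2.symm)), hclscal _ _ _ hs]
    · haveI : IsEmpty {C : Pset // κ C = z} := ⟨fun C => hd (D.charpoly_nonpower (hl2 C.1) (hnp C.1 C.2)).1⟩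
      exact Nat.card_of_isEmpty
  -- the fibre over one
  let Xset := {s : Sym ↥(Tor Λ r) n // ∀ z, s ≠ Sym.replicate n z}
  choose ev hev el hel using D.exists_diag
  have helr : ∀ s, IsScal j e (el s ^ r) 1 := fun s => by
    show (j (el s ^ r) : Matrix (Fin n) (Fin n) F) = _
    rw [map_pow, Units.val_pow_eq_pow_val, hel, Matrix.diagonal_pow, map_one, Units.val_one, one_smul,
      ← Matrix.diagonal_one]
    congr 1
    funext i
    rw [Pi.pow_apply, ← Units.val_pow_eq_pow_val, ← map_pow, show ((ev s i : Λ)) ^ r = 1 from (ev s i).2, map_one,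
      Units.val_one]
  have help : ∀ s, (j (el s) : Matrix (Fin n) (Fin n) F).charpoly = polyS e (s : Multiset ↥(Tor Λ r)) := fun s => by
    rw [hel, Matrix.charpoly_diagonal, polyS, ← hev s, Multiset.map_map]
    rfl
  have helns : ∀ s : Xset, ¬ ∃ a, IsScal j e (el s.1) a := by
    rintro ⟨s, hs⟩ ⟨a, ha⟩
    refine hs ⟨a, D.scal_inj (scal_pow ha r) (helr s)⟩ (Subtype.ext ?_)
    show (s : Multiset ↥(Tor Λ r)) = Multiset.replicate n _
    rw [← hev s]
    refine Multiset.eq_replicate.2 ⟨by simp, fun x hx => ?_⟩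
    obtain ⟨i, -, rfl⟩ := Multiset.mem_map.1 hx
    have h := congrFun (congrFun ((hel s).symm.trans ha) i) i
    simp only [Matrix.diagonal_apply_eq, Matrix.smul_apply, Matrix.one_apply_eq, smul_eq_mul, mul_one] at h
    exact Subtype.ext (D.einj (Units.ext h))
  let Ψ : Xset → {C : Pset // κ C = 1} := fun s =>
    ⟨⟨cl (el s.1), _, rfl, (hord _).2 ⟨⟨1, helr _⟩, helns s⟩⟩, Subtype.ext (by
      rw [hκ _ (el s.1) 1 rfl (helr _), map_one]; rfl)⟩
  let sh : ↥(Tor Λ r) → Sym ↥(Tor Λ r) n → Sym ↥(Tor Λ r) n := fun z s => s.map (z * ·)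
  have hsh : ∀ z s, (j (el (sh z s)) : Matrix (Fin n) (Fin n) F).charpoly =
      (Matrix.diagonal fun i => (e (z : Λ) : F) * (e (ev s i : Λ) : F)).charpoly := fun z s => by
    rw [help, Matrix.charpoly_diagonal, polyS, show ((sh z s : Sym ↥(Tor Λ r) n) : Multiset ↥(Tor Λ r)) =
      (s : Multiset ↥(Tor Λ r)).map (z * ·) from Sym.coe_map .., Multiset.map_map, ← hev s, Multiset.map_map]
    show _ = (Finset.univ.val.map _).prod
    congr 1
    refine Multiset.map_congr rfl fun i _ => ?_
    simp [map_mul]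
  have hscaled : ∀ s (z : Λ) t, IsScal j e t z → (j (el s * t) : Matrix (Fin n) (Fin n) F) =
      Matrix.diagonal fun i => (e z : F) * (e (ev s i : Λ) : F) := fun s z t ht => by
    rw [map_mul, Units.val_mul, hel, ht, mul_smul_comm, mul_one, ← Matrix.diagonal_smul]
    rfl
  have hfib : ∀ s t : Xset, Ψ s = Ψ t ↔ ∃ z, t.1 = sh z s.1 := by
    intro s t
    constructor
    · intro h
      obtain ⟨u, b, hu, hcj⟩ := hcl (el t.1) (el s.1) (congrArg (fun C => C.1.1) h).symm
      obtain ⟨c, hc⟩ := isConj_iff.1 hcj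
      have h1 : IsScal j e ((el s.1 * u) ^ r) 1 := by rw [← hc, conj_pow]; exact scal_conj (helr t.1)
      have hb : b ^ r = 1 := by
        have h2 := D.scal_inj h1 (D.pow_mul_scal (helr s.1) hu)
        rwa [one_mul, eq_comm] at h2
      refine ⟨⟨b, hb⟩, Subtype.ext (D.polyS_inj ?_)⟩
      show polyS e (t.1 : Multiset ↥(Tor Λ r)) = polyS e (sh ⟨b, hb⟩ s.1 : Multiset ↥(Tor Λ r))
      rw [← help, ← help, hsh, ← hscaled s.1 b u hu, ← hc, map_mul, map_mul, map_inv, Units.val_mul, Units.val_mul,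
        Matrix.coe_units_inv, Matrix.charpoly_units_conj]
    · rintro ⟨z, hz⟩
      obtain ⟨u, hu⟩ := D.exists_scal (z : Λ)
      have h1 : IsScal j e ((el s.1 * u) ^ r) 1 := by
        have h2 := D.pow_mul_scal (helr s.1) hu
        rwa [one_mul, show (z : Λ) ^ r = 1 from z.2] at h2
      have h2 : IsConj (el s.1 * u) (el t.1) := D.conj_of_charpoly h1 (helr t.1) (by rw [hscaled s.1 z u hu, hz, hsh])
      refine Subtype.ext (Subtype.ext ?_)
      show cl (el s.1) = cl (el t.1)
      rw [← hclscal (el s.1) u _ hu, hclconj _ _ h2]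
  have hsurj : Function.Surjective Ψ := by
    rintro ⟨C, hC⟩
    obtain ⟨c, hc⟩ := D.chi_eq_one (show chi Λ r (la C) = 1 from congrArg Subtype.val hC)
    obtain ⟨u, hu⟩ := D.exists_scal c⁻¹
    obtain ⟨g', hg'⟩ : ∃ g', g' = lift C * u := ⟨_, rfl⟩
    have h1 : IsScal j e (g' ^ r) 1 := by
      have h2 := D.pow_mul_scal (hl2 C) hu
      rwa [inv_pow, hc, mul_inv_cancel, ← hg'] at h2
    obtain ⟨s, hs⟩ := D.charpoly_power h1
    have hcj : IsConj g' (el s) := D.conj_of_charpoly h1 (helr s) (hs.trans (help s).symm)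
    have hns : ∀ z, s ≠ Sym.replicate n z := by
      intro z hz
      obtain ⟨w, hw⟩ := D.exists_scal (z : Λ)
      have h3 : IsScal j e (el s) z := by
        show (j (el s) : Matrix (Fin n) (Fin n) F) = _
        rw [hel, Matrix.smul_one_eq_diagonal]
        congr 1
        funext i
        have hm : ev s i ∈ (s : Multiset ↥(Tor Λ r)) := by
          rw [← hev s]
          exact Multiset.mem_map_of_mem _ (Finset.mem_univ i)
        have hm2 : (s : Multiset ↥(Tor Λ r)) = Multiset.replicate n z := by rw [hz, Sym.coe_replicate]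
        have hm3 : ev s i ∈ Multiset.replicate n z := by
          have := hm
          rwa [hm2] at this
        rw [Multiset.eq_of_mem_replicate hm3]
      obtain ⟨d, hd⟩ := isConj_iff.1 hcj.symm
      have h4 : IsScal j e g' z := hd ▸ scal_conj h3
      refine hl3 C ⟨(z : Λ) * c, ?_⟩
      obtain ⟨u', hu'⟩ := D.exists_scal c
      have h5 : u * u' = 1 := D.jinj (Units.ext (by
        have h6 := scal_mul hu hu'
        rw [inv_mul_cancel] at h6
        exact h6.trans scal_one.symm))
      have h7 := scal_mul h4 hu'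
      rwa [hg', mul_assoc, h5, mul_one] at h7
    refine ⟨⟨s, hns⟩, Subtype.ext (Subtype.ext ?_)⟩
    show cl (el s) = C.1
    rw [← hl1 C, ← hclconj _ _ hcj, hg', hclscal _ _ _ hu]
  -- the orbit sizes
  obtain ⟨d, hdd⟩ : ∃ d, d = if r ∣ n then 1 else 0 := ⟨_, rfl⟩
  let Fix : Xset → Prop := fun s => ∀ z, sh z s.1 = s.1
  have horb : ∀ s : Xset, Nat.card {t : Xset // Ψ t = Ψ s} = if Fix s then 1 else r := by
    intro s
    split_ifs with hfix
    · refine Nat.card_eq_one_iff_unique.2 ⟨⟨?_⟩, ⟨⟨s, rfl⟩⟩⟩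
      intro t t'
      obtain ⟨z, hz⟩ := (hfib s t.1).1 t.2.symm
      obtain ⟨z', hz'⟩ := (hfib s t'.1).1 t'.2.symm
      exact Subtype.ext (Subtype.ext (by rw [hz, hz', hfix z, hfix z']))
    · have hsym : ∀ z, ∀ w, sh z s.1 ≠ Sym.replicate n w := fun z w h => s.2 (z⁻¹ * w) (by
        have h1 := congrArg (Sym.map (z⁻¹ * ·)) h
        simp only [sh, Sym.map_map, Function.comp_def, inv_mul_cancel_left, Sym.map_id'] at h1
        rw [h1]
        exact Subtype.ext (by simp [Sym.coe_map, Sym.coe_replicate]))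
      refine (Nat.card_eq_of_bijective (fun z => (⟨⟨sh z s.1, hsym z⟩, ((hfib s _).2 ⟨z, rfl⟩).symm⟩ :
        {t : Xset // Ψ t = Ψ s})) ⟨?_, ?_⟩).symm.trans D.card_tor
      · intro z z' h
        have h1 : sh z s.1 = sh z' s.1 := congrArg (fun t => t.1.1) h
        by_contra hne
        refine hfix fun w => ?_
        obtain ⟨k, hk⟩ := Subgroup.mem_zpowers_iff.1
          (mem_zpowers_of_prime_card (g := z'⁻¹ * z) (g' := w) D.card_tor fun h2 => hne (inv_mul_eq_one.1 h2).symm)
        have hbase : sh (z'⁻¹ * z) s.1 = s.1 := by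
          have h2 := congrArg (Sym.map (z'⁻¹ * ·)) h1
          simp only [sh, Sym.map_map, Function.comp_def, inv_mul_cancel_left, Sym.map_id'] at h2
          simp only [sh, mul_assoc]
          exact h2
        let act : ↥(Tor Λ r) →* Equiv.Perm (Sym ↥(Tor Λ r) n) := MonoidHom.mk'
          (fun w => ⟨sh w, sh w⁻¹, fun t => by simp [sh, Sym.map_map, Function.comp_def],
            fun t => by simp [sh, Sym.map_map, Function.comp_def]⟩)
          (fun a b => Equiv.ext fun t => by simp [sh, Sym.map_map, Function.comp_def, mul_assoc])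
        have h3 : act w s.1 = s.1 := by
          rw [← hk, map_zpow]
          exact Equiv.Perm.zpow_apply_eq_self_of_apply_eq_self hbase k
        exact h3
      · rintro ⟨t, ht⟩
        obtain ⟨z, hz⟩ := (hfib s t).1 ht.symm
        exact ⟨z, Subtype.ext (Subtype.ext hz.symm)⟩
  have hfixcard : Nat.card {s : Xset // Fix s} = d := by
    have hcount : ∀ s : Xset, Fix s → ∀ z : ↥(Tor Λ r), (s.1 : Multiset ↥(Tor Λ r)).count z * r = n := by
      intro s hs z
      have h1 : ∀ w, (s.1 : Multiset ↥(Tor Λ r)).count w = (s.1 : Multiset ↥(Tor Λ r)).count z := by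
        intro w
        conv_rhs => rw [← hs (z * w⁻¹)]
        simp only [sh, Sym.coe_map]
        rw [← Multiset.count_map_eq_count' _ _ (mul_right_injective (z * w⁻¹)) w, inv_mul_cancel_right]
      have h2 : ∑ w : ↥(Tor Λ r), (s.1 : Multiset ↥(Tor Λ r)).count w = n :=
        (Multiset.sum_count_eq_card (fun a _ => Finset.mem_univ a)).trans s.1.2
      rw [Finset.sum_congr rfl (fun w _ => h1 w), Finset.sum_const, Finset.card_univ, ← Nat.card_eq_fintype_card,
        D.card_tor, smul_eq_mul] at h2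
      rw [mul_comm]; exact h2
    rw [hdd]
    split_ifs with hd
    · obtain ⟨l, hl⟩ := hd
      have hU : Multiset.card (∑ w : ↥(Tor Λ r), Multiset.replicate l w) = n := by
        rw [Multiset.card_sum, Finset.sum_congr rfl (fun w _ => Multiset.card_replicate l w), Finset.sum_const,
          Finset.card_univ, ← Nat.card_eq_fintype_card, D.card_tor, smul_eq_mul, hl]
      have hUc : ∀ z, (∑ w : ↥(Tor Λ r), Multiset.replicate l w).count z = l := fun z => by
        rw [Multiset.count_sum', Finset.sum_eq_single z (fun b _ hb => by rw [Multiset.count_replicate, if_neg hb])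
          (fun h => absurd (Finset.mem_univ z) h), Multiset.count_replicate_self]
      have hl0 : 0 < l := Nat.pos_of_ne_zero fun h => hn0 (by rw [hl, h, mul_zero])
      obtain ⟨U, hUdef⟩ : ∃ U : Sym ↥(Tor Λ r) n, (U : Multiset ↥(Tor Λ r)) = ∑ w : ↥(Tor Λ r), Multiset.replicate l w :=
        ⟨⟨_, hU⟩, rfl⟩
      have hUne : ∀ z, U ≠ Sym.replicate n z := by
        intro z h
        obtain ⟨w, hw⟩ : ∃ w : ↥(Tor Λ r), w ≠ z := Fintype.exists_ne_of_one_lt_card
          (by rw [← Nat.card_eq_fintype_card, D.card_tor]; exact D.hr.one_lt) z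
        have h1 := hUc w
        rw [← hUdef, h, Sym.coe_replicate, Multiset.count_replicate, if_neg hw.symm] at h1
        omega
      refine Nat.card_eq_one_iff_unique.2 ⟨⟨?_⟩, ⟨⟨⟨U, hUne⟩, fun z => ?_⟩⟩⟩
      · intro a b
        refine Subtype.ext (Subtype.ext (Subtype.ext (Multiset.ext.2 fun z => ?_)))
        exact Nat.eq_of_mul_eq_mul_right D.hr.pos ((hcount a.1 a.2 z).trans (hcount b.1 b.2 z).symm)
      · refine Subtype.ext (Multiset.ext.2 fun w => ?_)
        show Multiset.count w ((U : Multiset ↥(Tor Λ r)).map (z * ·)) = Multiset.count w (U : Multiset ↥(Tor Λ r))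
        conv_lhs => arg 1; rw [← mul_inv_cancel_left z w]
        rw [Multiset.count_map_eq_count' _ _ (mul_right_injective z), hUdef, hUc, hUc]
    · haveI : IsEmpty {s : Xset // Fix s} := ⟨fun s => hd (Dvd.intro_left _ (hcount s.1 s.2 1))⟩
      exact Nat.card_of_isEmpty
  -- the count
  have hXcard : Nat.card Xset + r = Nat.choose (n + r - 1) (r - 1) := by
    have h1 : Nat.card (Sym ↥(Tor Λ r) n) = Nat.choose (n + r - 1) (r - 1) := by
      rw [Nat.card_eq_fintype_card, Sym.card_sym_eq_choose, ← Nat.card_eq_fintype_card, D.card_tor,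
        show r + n - 1 = n + (r - 1) by have := D.hr.one_lt; omega, Nat.choose_symm_add,
        show n + r - 1 = n + (r - 1) by have := D.hr.one_lt; omega]
    have hinj : Function.Injective fun z : ↥(Tor Λ r) => Sym.replicate n z := fun a b h => by
      have h2 := congrArg (fun s : Sym ↥(Tor Λ r) n => (s : Multiset ↥(Tor Λ r))) h
      simp only [Sym.coe_replicate] at h2
      exact (Multiset.replicate_right_inj hn0).1 h2
    have e : Xset ⊕ ↥(Tor Λ r) ≃ Sym ↥(Tor Λ r) n := Equiv.ofBijective (Sum.elim Subtype.val fun z => Sym.replicate n z)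
      ⟨Function.Injective.sumElim Subtype.val_injective hinj fun a b h => a.2 b h,
       fun s => if h : ∃ z, s = Sym.replicate n z then ⟨Sum.inr h.choose, h.choose_spec.symm⟩
        else ⟨Sum.inl ⟨s, fun z hz => h ⟨z, hz⟩⟩, rfl⟩⟩
    have h3 := Nat.card_congr e
    rw [Nat.card_sum, D.card_tor, h1] at h3
    exact h3
  haveI : Finite Pset := inferInstance
  haveI := Fintype.ofFinite {C : Pset // κ C = 1}
  haveI := Fintype.ofFinite Xset
  obtain ⟨k, hk⟩ : ∃ k, k = Nat.card {C : Pset // κ C = 1} := ⟨_, rfl⟩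
  have hXk : Nat.card Xset + (r - 1) * d = r * k := by
    have h1 : Nat.card Xset = ∑ C : {C : Pset // κ C = 1}, Nat.card {t : Xset // Ψ t = C} := by
      rw [← Nat.card_sigma]
      exact (Nat.card_congr (Equiv.sigmaFiberEquiv Ψ)).symm
    have h2 : ∀ C, Nat.card {t : Xset // Ψ t = C} + (r - 1) * Nat.card {t : Xset // Ψ t = C ∧ Fix t} = r := by
      intro C
      obtain ⟨s, rfl⟩ := hsurj C
      rw [horb s]
      split_ifs with hfix
      · rw [Nat.card_eq_one_iff_unique.2 ⟨⟨fun a b => ?_⟩, ⟨⟨s, rfl, hfix⟩⟩⟩, mul_one]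
        · have := D.hr.one_lt; omega
        · obtain ⟨z, hz⟩ := (hfib s a.1).1 a.2.1.symm
          obtain ⟨z', hz'⟩ := (hfib s b.1).1 b.2.1.symm
          exact Subtype.ext (Subtype.ext (by rw [hz, hz', hfix z, hfix z']))
      · haveI : IsEmpty {t : Xset // Ψ t = Ψ s ∧ Fix t} := ⟨fun t => hfix (by
          obtain ⟨z, hz⟩ := (hfib t.1 s).1 t.2.1
          intro w
          rw [hz, t.2.2 z]
          exact t.2.2 w)⟩
        rw [Nat.card_of_isEmpty (α := {t : Xset // Ψ t = Ψ s ∧ Fix t}), mul_zero, add_zero]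
    have h3 : d = ∑ C : {C : Pset // κ C = 1}, Nat.card {t : Xset // Ψ t = C ∧ Fix t} := by
      rw [← hfixcard, ← Nat.card_sigma]
      exact Nat.card_congr
        { toFun := fun s => ⟨Ψ s.1, s.1, rfl, s.2⟩
          invFun := fun x => ⟨x.2.1, x.2.2.2⟩
          left_inv := fun s => rfl
          right_inv := fun ⟨C, t, h, h'⟩ => by subst h; rfl }
    rw [h1, h3, Finset.mul_sum, ← Finset.sum_add_distrib, Finset.sum_congr rfl fun C _ => h2 C, Finset.sum_const,
      Finset.card_univ, hk, Nat.card_eq_fintype_card, smul_eq_mul, mul_comm]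
  have hP : Nat.card Pset = k + (r - 1) * d := by
    haveI := Fintype.ofFinite Pset
    rw [show Nat.card Pset = ∑ z : ↥(Tor Λ r), Nat.card {C : Pset // κ C = z} by
        rw [← Nat.card_sigma]; exact (Nat.card_congr (Equiv.sigmaFiberEquiv κ)).symm,
      ← Finset.add_sum_erase _ _ (Finset.mem_univ (1 : ↥(Tor Λ r))),
      Finset.sum_congr rfl fun z hz => hbad z (Finset.ne_of_mem_erase hz), Finset.sum_const,
      Finset.card_erase_of_mem (Finset.mem_univ _), Finset.card_univ, ← Nat.card_eq_fintype_card, D.card_tor, ← hk,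
      smul_eq_mul, ← hdd]
  show Nat.card Pset = _
  rw [hP, ← hdd, show Nat.choose (n + r - 1) (r - 1) - r = Nat.card Xset by omega]
  have hd1 : d = 0 ∨ d = 1 := by rw [hdd]; split_ifs <;> simp
  have hr1 := D.hr.one_lt
  rcases hd1 with rfl | rfl
  · rw [mul_zero, add_zero] at hXk
    rw [Nat.sub_zero, hXk, Nat.mul_div_cancel_left _ D.hr.pos]
    simp
  · rw [mul_one] at hXk
    have h : Nat.card Xset - 1 = r * (k - 1) := by rw [Nat.mul_sub, mul_one]; omega
    rw [h, Nat.mul_div_cancel_left _ D.hr.pos, mul_one, mul_one]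
    have : 1 ≤ k := by
      rcases Nat.eq_zero_or_pos k with h0 | h0
      · rw [h0, mul_zero] at hXk
        omega
      · exact h0
    omega

end CfsgLib.KnownB.ProjPrime
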