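import Cfsg.Agent.Lib.KnownB.ProjPrimeCount

/-!
The data for `GL_n`.
-/

set_option autoImplicit false

namespace CfsgLib.KnownB.ProjPrime

universe u

theorem data_GL {F : Type u} [Field F] [Fintype F] {n r p : ℕ} (hp : p.Prime) (hc : CharP F p) (hr : r.Prime)
    (hn : 1 ≤ n) (hd : r ∣ Fintype.card F - 1) :
    Data (G := GL (Fin n) F) (MonoidHom.id (GL (Fin n) F)) (MonoidHom.id Fˣ) r p := by
  classical
  have hcard : Nat.card Fˣ = Fintype.card F - 1 := by rw [Nat.card_eq_fintype_card, Fintype.card_units]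
  refine ⟨hp, hc, hr, ?_, hn, Function.injective_id, Function.injective_id, inferInstance, hcard ▸ hd, ?_, ?_, ?_, ?_, ?_⟩
  · rw [Ne, CharP.cast_eq_zero_iff F p, Nat.prime_dvd_prime_iff_eq hp hr]
    rintro rfl
    obtain ⟨k, hp', hk⟩ := @FiniteField.card F _ _ p hc
    have h1 : p ∣ Fintype.card F := hk ▸ dvd_pow_self p k.ne_zero
    have h2 := Nat.dvd_sub h1 hd
    rw [Nat.sub_sub_self (Fintype.card_pos : 0 < Fintype.card F)] at h2
    exact hp.one_lt.ne' (Nat.dvd_one.1 h2)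
  · intro f
    refine ⟨Matrix.GeneralLinearGroup.mkOfDetNeZero (Matrix.diagonal fun i => (f i : F)) ?_, rfl⟩
    rw [Matrix.det_diagonal]
    exact Finset.prod_ne_zero_iff.2 fun i _ => (f i).ne_zero
  · intro σ
    refine ⟨Matrix.GeneralLinearGroup.mkOfDetNeZero (σ.permMatrix F) ?_, rfl⟩
    rw [Matrix.det_permutation]
    rcases Int.units_eq_one_or (Equiv.Perm.sign σ) with h | h <;> simp [h]
  · intro g c hg
    have h1 : c ≠ 0 := fun h => by
      haveI : Nonempty (Fin n) := ⟨⟨0, hn⟩⟩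
      have h2 := g.ne_zero
      exact h2 (by rw [show (g : Matrix (Fin n) (Fin n) F) = c • 1 from hg, h, zero_smul])
    exact ⟨Units.mk0 c h1, rfl⟩
  · intro a b hb
    have hb0 : b ≠ 0 := fun h => a.ne_zero (by
      show ((MonoidHom.id Fˣ) a : F) = 0
      rw [← hb, h, zero_pow hr.ne_zero])
    exact ⟨Units.mk0 b hb0, Units.ext (by rw [Units.val_pow_eq_pow_val]; exact hb)⟩
  · intro a b _ _ h
    exact h

end CfsgLib.KnownB.ProjPrime
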