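import Cfsg.Agent.Lib.GLTwo.Classes
import Cfsg.Agent.Lib.Recog.ProjSpectrum

/-!
Products of two conjugates in `SL₂` and `PSL₂` through traces.
-/

set_option autoImplicit false

namespace CfsgLib.KnownB.SL2Products

open Matrix CfsgLib.GLTwo

variable {F : Type*} [Field F]

local notation "SL2" => Matrix.SpecialLinearGroup (Fin 2) F
local notation "PSL2" => Matrix.ProjectiveSpecialLinearGroup (Fin 2) F

/-- The projection to `PSL₂`. -/
def pr : SL2 →* PSL2 := QuotientGroup.mk' (Subgroup.center SL2)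

theorem pr_surjective : Function.Surjective (pr (F := F)) := QuotientGroup.mk'_surjective _

theorem pr_eq_one_iff {g : SL2} : pr g = 1 ↔ IsScalar2 (g : Matrix (Fin 2) (Fin 2) F) := by
  rw [pr, QuotientGroup.mk'_apply, QuotientGroup.eq_one_iff, CfsgLib.Recog.mem_center_SL_two_iff]
  refine ⟨fun ⟨c, hc⟩ => by rw [hc]; exact isScalar2_smul_one c, fun h => ⟨_, (isScalar2_iff _).1 h⟩⟩

theorem pr_neg (g : SL2) : pr (-g) = pr g := by
  rw [pr, QuotientGroup.mk'_apply, QuotientGroup.mk'_apply, QuotientGroup.eq, CfsgLib.Recog.mem_center_SL_two_iff]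
  refine ⟨-1, ?_⟩
  have h : ((-g)⁻¹ * g : SL2) = -1 := by
    rw [inv_mul_eq_iff_eq_mul]
    exact Subtype.ext (by simp)
  rw [h]
  simp

theorem trace_eq_or_neg {g h : SL2} (hc : IsConj (pr g) (pr h)) :
    (g : Matrix (Fin 2) (Fin 2) F).trace = (h : Matrix (Fin 2) (Fin 2) F).trace ∨
      (g : Matrix (Fin 2) (Fin 2) F).trace = -(h : Matrix (Fin 2) (Fin 2) F).trace := by
  obtain ⟨c, hc⟩ := isConj_iff.1 hc
  obtain ⟨c, rfl⟩ := pr_surjective c
  rw [← map_inv, ← map_mul, ← map_mul] at hc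
  have h1 : pr ((c * g * c⁻¹)⁻¹ * h) = 1 := by rw [map_mul, map_inv, hc, inv_mul_cancel]
  obtain ⟨s, hs⟩ := (isScalar2_iff _).1 (pr_eq_one_iff.1 h1) |> fun e => (⟨_, e⟩ : ∃ s : F, _ = s • (1 : Matrix (Fin 2) (Fin 2) F))
  have hsq : s = 1 ∨ s = -1 := by
    have := ((c * g * c⁻¹)⁻¹ * h).2
    rw [hs, Matrix.det_smul, Matrix.det_one, mul_one, Fintype.card_fin] at this
    exact sq_eq_one_iff.1 this
  have hh : (h : Matrix (Fin 2) (Fin 2) F) = s • ((c * g * c⁻¹ : SL2) : Matrix (Fin 2) (Fin 2) F) := by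
    conv_lhs => rw [← mul_inv_cancel_left (c * g * c⁻¹) h, Matrix.SpecialLinearGroup.coe_mul, hs]
    rw [mul_smul_comm, mul_one]
  have ht : (g : Matrix (Fin 2) (Fin 2) F).trace = ((c * g * c⁻¹ : SL2) : Matrix (Fin 2) (Fin 2) F).trace :=
    trace_eq_of_isConj_sl (isConj_iff.2 ⟨c, rfl⟩)
  rw [hh, Matrix.trace_smul, smul_eq_mul, ht]
  rcases hsq with rfl | rfl
  · exact Or.inl (one_mul _).symm
  · exact Or.inr (by ring)

theorem exists_conj_lower_ne_zero {g : SL2} (hg : ¬ IsScalar2 (g : Matrix (Fin 2) (Fin 2) F)) :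
    ∃ c : SL2, ((c * g * c⁻¹ : SL2) : Matrix (Fin 2) (Fin 2) F) 1 0 ≠ 0 := by
  obtain ⟨X, hX, he⟩ := similar_of_trace_det hg (companion_not_scalar (g : Matrix (Fin 2) (Fin 2) F).trace 1)
    (trace_companion _ _).symm (g.2.trans (det_companion _ _).symm)
  let D : Matrix (Fin 2) (Fin 2) F := !![X.det⁻¹, 0; 0, 1]
  refine ⟨mkSL (D * X) (by rw [Matrix.det_mul, Matrix.det_fin_two_of]; simp [hX]), ?_⟩
  set c := mkSL (D * X) _
  set K : Matrix (Fin 2) (Fin 2) F := D * companion (g : Matrix (Fin 2) (Fin 2) F).trace 1 * !![X.det, 0; 0, 1]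
  have h1 : ((c * g * c⁻¹ : SL2) : Matrix (Fin 2) (Fin 2) F) = K := by
    have hD : (!![X.det, 0; 0, 1] : Matrix (Fin 2) (Fin 2) F) * D = 1 := by
      ext i j; fin_cases i <;> fin_cases j <;> simp [D, hX]
    have h2 : ((c * g : SL2) : Matrix (Fin 2) (Fin 2) F) = K * (c : Matrix (Fin 2) (Fin 2) F) := by
      rw [Matrix.SpecialLinearGroup.coe_mul, coe_mkSL, mul_assoc, he, ← mul_assoc]
      show _ = D * companion (g : Matrix (Fin 2) (Fin 2) F).trace 1 * !![X.det, 0; 0, 1] * (D * X)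
      rw [mul_assoc _ (!![X.det, 0; 0, 1]), ← mul_assoc (!![X.det, 0; 0, 1]) D, hD, one_mul]
    rw [Matrix.SpecialLinearGroup.coe_mul, h2, mul_assoc, ← Matrix.SpecialLinearGroup.coe_mul, mul_inv_cancel,
      Matrix.SpecialLinearGroup.coe_one, mul_one]
  rw [h1]
  simp [K, D, companion, Matrix.mul_apply, Fin.sum_univ_two, hX]

theorem conj_u (M : Matrix (Fin 2) (Fin 2) F) (N : Matrix (Fin 2) (Fin 2) F) (s : F) :
    (M * (!![1, s; 0, 1] * N * !![1, -s; 0, 1])).trace =
      (M * N).trace + s * (M 0 0 * N 1 0 - M 1 0 * N 0 0 + M 1 0 * N 1 1 - M 1 1 * N 1 0) - s ^ 2 * (M 1 0 * N 1 0) := by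
  simp [Matrix.trace_fin_two, Matrix.mul_apply, Fin.sum_univ_two, Matrix.vecMul, dotProduct]
  ring

/-- A polynomial of degree at most two with two values on a field with at least four elements is constant. -/
theorem quad_coeff_eq_zero [Fintype F] (h4 : 4 ≤ Fintype.card F) {a b c v : F}
    (h : ∀ s : F, a + b * s + c * s ^ 2 = v ∨ a + b * s + c * s ^ 2 = -v) : c = 0 := by
  classical
  by_contra hc
  let P : F → Polynomial F := fun w => Polynomial.C c * Polynomial.X ^ 2 + Polynomial.C b * Polynomial.X + Polynomial.C (a - w)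
  have hdeg : ∀ w, (P w).natDegree = 2 := fun w => Polynomial.natDegree_quadratic hc
  have hne : ∀ w, P w ≠ 0 := fun w h0 => by have := hdeg w; rw [h0] at this; simp at this
  have hroot : ∀ w s, a + b * s + c * s ^ 2 = w → s ∈ (P w).roots.toFinset := fun w s hs => by
    rw [Multiset.mem_toFinset, Polynomial.mem_roots (hne w)]
    simp [P]
    linear_combination hs
  have hcard : ∀ w, (P w).roots.toFinset.card ≤ 2 := fun w =>
    ((Multiset.toFinset_card_le _).trans (Polynomial.card_roots' _)).trans (hdeg w).le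
  have hsub : (Finset.univ : Finset F) ⊆ (P v).roots.toFinset ∪ (P (-v)).roots.toFinset := fun s _ =>
    Finset.mem_union.2 ((h s).imp (hroot v s) (hroot (-v) s))
  have h1 := (Finset.card_le_card hsub).trans (Finset.card_union_le _ _)
  rw [Finset.card_univ] at h1
  have := hcard v
  have := hcard (-v)
  rcases eq_or_lt_of_le h4 with h5 | h5
  · obtain ⟨p, hp⟩ := CharP.exists F
    obtain ⟨k, hpr, hk⟩ := FiniteField.card F p
    have hp2 : p = 2 := (Nat.prime_dvd_prime_iff_eq hpr Nat.prime_two).1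
      (hpr.dvd_of_dvd_pow (n := 2) (by rw [show 2 ^ 2 = 4 from rfl, h5, hk]; exact dvd_pow_self p k.ne_zero))
    subst hp2
    rw [CharTwo.neg_eq] at hsub
    have h2 := Finset.card_le_card hsub
    rw [Finset.union_self, Finset.card_univ] at h2
    omega
  · omega

/-- The set of products of conjugates of two non-trivial elements of `PSL₂` is not one class. -/
theorem product_ne_class [Fintype F] (h4 : 4 ≤ Fintype.card F) {A B : SL2}
    (hA : ¬ IsScalar2 (A : Matrix (Fin 2) (Fin 2) F)) (hB : ¬ IsScalar2 (B : Matrix (Fin 2) (Fin 2) F)) (C : SL2)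
    (h : ∀ u v : SL2, IsConj (pr C) (pr (u * A * u⁻¹ * (v * B * v⁻¹)))) : False := by
  obtain ⟨cA, hcA⟩ := exists_conj_lower_ne_zero hA
  obtain ⟨cB, hcB⟩ := exists_conj_lower_ne_zero hB
  set A' := cA * A * cA⁻¹
  set B' := cB * B * cB⁻¹
  have htr : ∀ s : F,
      ((A' : Matrix (Fin 2) (Fin 2) F) * (!![1, s; 0, 1] * (B' : Matrix (Fin 2) (Fin 2) F) * !![1, -s; 0, 1])).trace =
          (C : Matrix (Fin 2) (Fin 2) F).trace ∨
      ((A' : Matrix (Fin 2) (Fin 2) F) * (!![1, s; 0, 1] * (B' : Matrix (Fin 2) (Fin 2) F) * !![1, -s; 0, 1])).trace =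
          -(C : Matrix (Fin 2) (Fin 2) F).trace := by
    intro s
    let u := mkSL !![1, s; 0, 1] (by simp [Matrix.det_fin_two])
    have hu : ((u⁻¹ : SL2) : Matrix (Fin 2) (Fin 2) F) = !![1, -s; 0, 1] := by
      rw [Matrix.SpecialLinearGroup.coe_inv, coe_mkSL, Matrix.adjugate_fin_two_of]
      simp
    have hh := trace_eq_or_neg (h cA (u * cB)).symm
    rw [show u * cB * B * (u * cB)⁻¹ = u * B' * u⁻¹ by simp only [B']; group] at hh
    simpa only [Matrix.SpecialLinearGroup.coe_mul, hu, A', u, coe_mkSL] using hh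
  simp only [conj_u] at htr
  have h0 := quad_coeff_eq_zero h4 (v := (C : Matrix (Fin 2) (Fin 2) F).trace)
    (a := ((A' : Matrix (Fin 2) (Fin 2) F) * (B' : Matrix (Fin 2) (Fin 2) F)).trace)
    (b := (A' : Matrix (Fin 2) (Fin 2) F) 0 0 * (B' : Matrix (Fin 2) (Fin 2) F) 1 0 -
      (A' : Matrix (Fin 2) (Fin 2) F) 1 0 * (B' : Matrix (Fin 2) (Fin 2) F) 0 0 +
      (A' : Matrix (Fin 2) (Fin 2) F) 1 0 * (B' : Matrix (Fin 2) (Fin 2) F) 1 1 -
      (A' : Matrix (Fin 2) (Fin 2) F) 1 1 * (B' : Matrix (Fin 2) (Fin 2) F) 1 0)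
    (c := -((A' : Matrix (Fin 2) (Fin 2) F) 1 0 * (B' : Matrix (Fin 2) (Fin 2) F) 1 0)) fun s => by
      rcases htr s with h1 | h1
      · exact Or.inl (by linear_combination h1)
      · exact Or.inr (by linear_combination h1)
  exact mul_ne_zero hcA hcB (neg_eq_zero.1 h0)

theorem pr_isConj {g h : SL2} (hc : IsConj g h) : ∃ u : PSL2, pr h = u * pr g * u⁻¹ := by
  obtain ⟨c, hc⟩ := isConj_iff.1 hc
  exact ⟨pr c, by rw [← hc, map_mul, map_mul, map_inv]⟩

/-- If the trace classes meet the trace conditions, `G` is a product of two conjugates of `±X`. -/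
theorem mem_product {X G : SL2} (hX : ¬ IsScalar2 (X : Matrix (Fin 2) (Fin 2) F))
    (hG : ¬ IsScalar2 (G : Matrix (Fin 2) (Fin 2) F))
    (hclass : ∀ Z : SL2, ((Z : Matrix (Fin 2) (Fin 2) F).trace = (X : Matrix (Fin 2) (Fin 2) F).trace ∨
      (Z : Matrix (Fin 2) (Fin 2) F).trace = -(X : Matrix (Fin 2) (Fin 2) F).trace) →
        ∃ u : PSL2, pr Z = u * pr X * u⁻¹)
    (y₃ z : F) (hsol : (((X : Matrix (Fin 2) (Fin 2) F).trace - z) * z -
        (((X : Matrix (Fin 2) (Fin 2) F).trace * ((G : Matrix (Fin 2) (Fin 2) F).trace - 1)) + y₃ -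
          (G : Matrix (Fin 2) (Fin 2) F).trace * z) * y₃ = 1) ∨
      (((X : Matrix (Fin 2) (Fin 2) F).trace - z) * z -
        (((X : Matrix (Fin 2) (Fin 2) F).trace * ((G : Matrix (Fin 2) (Fin 2) F).trace + 1)) + y₃ -
          (G : Matrix (Fin 2) (Fin 2) F).trace * z) * y₃ = 1)) :
    ∃ u v : PSL2, pr G = (u * pr X * u⁻¹) * (v * pr X * v⁻¹) := by
  set t := (X : Matrix (Fin 2) (Fin 2) F).trace
  set c := (G : Matrix (Fin 2) (Fin 2) F).trace
  obtain ⟨P, hP, he⟩ := similar_of_trace_det hG (companion_not_scalar c 1) (trace_companion _ _).symm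
    (G.2.trans (det_companion _ _).symm)
  obtain ⟨s, hs, hdet⟩ : ∃ s, (s = t * (c - 1) ∨ s = t * (c + 1)) ∧ (t - z) * z - (s + y₃ - c * z) * y₃ = 1 :=
    hsol.elim (fun h => ⟨_, Or.inl rfl, h⟩) fun h => ⟨_, Or.inr rfl, h⟩
  let M : Matrix (Fin 2) (Fin 2) F := !![t - z, s + y₃ - c * z; y₃, z]
  let Y := mkSL (P⁻¹ * M * P) (by
    rw [Matrix.det_mul, Matrix.det_mul, mul_right_comm, ← Matrix.det_mul, Matrix.nonsing_inv_mul _ hP.isUnit,
      Matrix.det_one, one_mul, Matrix.det_fin_two_of]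
    exact hdet)
  have hu : IsUnit P.det := hP.isUnit
  have htY : (Y : Matrix (Fin 2) (Fin 2) F).trace = t := by
    rw [coe_mkSL, Matrix.trace_mul_cycle, Matrix.mul_nonsing_inv _ hu, one_mul]
    simp [M, Matrix.trace_fin_two]
  have hYG : ((Y : Matrix (Fin 2) (Fin 2) F) * (G : Matrix (Fin 2) (Fin 2) F)).trace = s := by
    rw [coe_mkSL, mul_assoc, he, ← mul_assoc, Matrix.trace_mul_cycle, ← mul_assoc, Matrix.mul_nonsing_inv _ hu,
      one_mul]
    simp [M, companion, Matrix.trace_fin_two]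
    ring
  have hrest : ((Y⁻¹ * G : SL2) : Matrix (Fin 2) (Fin 2) F).trace = t * c - s := by
    have hinv : ((Y⁻¹ : SL2) : Matrix (Fin 2) (Fin 2) F) = t • 1 - (Y : Matrix (Fin 2) (Fin 2) F) := by
      rw [Matrix.SpecialLinearGroup.coe_inv, ← htY]
      ext i j
      fin_cases i <;> fin_cases j <;> simp [Matrix.adjugate_fin_two, Matrix.trace_fin_two]
    rw [Matrix.SpecialLinearGroup.coe_mul, hinv, sub_mul, Matrix.trace_sub, smul_mul_assoc, one_mul,
      Matrix.trace_smul, hYG]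
    rfl
  obtain ⟨u, hu'⟩ := hclass Y (Or.inl htY)
  obtain ⟨v, hv⟩ := hclass (Y⁻¹ * G) (by
    rw [hrest]
    rcases hs with rfl | rfl
    · exact Or.inl (by ring)
    · exact Or.inr (by ring))
  exact ⟨u, v, by rw [← hu', ← hv, ← map_mul, mul_inv_cancel_left]⟩

theorem class_of_trace {X : SL2} (hX : ¬ IsScalar2 (X : Matrix (Fin 2) (Fin 2) F))
    (hne : (X : Matrix (Fin 2) (Fin 2) F).trace ^ 2 ≠ 4)
    (hsur : ∀ Z : SL2, (Z : Matrix (Fin 2) (Fin 2) F).trace ^ 2 ≠ 4 → ∀ r : F, IsNorm (Z : Matrix (Fin 2) (Fin 2) F) r)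
    (Z : SL2) (hZ : (Z : Matrix (Fin 2) (Fin 2) F).trace = (X : Matrix (Fin 2) (Fin 2) F).trace ∨
      (Z : Matrix (Fin 2) (Fin 2) F).trace = -(X : Matrix (Fin 2) (Fin 2) F).trace) :
    ∃ u : PSL2, pr Z = u * pr X * u⁻¹ := by
  have key : ∀ W : SL2, (W : Matrix (Fin 2) (Fin 2) F).trace = (X : Matrix (Fin 2) (Fin 2) F).trace →
      ∃ u : PSL2, pr W = u * pr X * u⁻¹ := by
    intro W hW
    have hWn : ¬ IsScalar2 (W : Matrix (Fin 2) (Fin 2) F) := fun hs => hne (by
      rcases scalar_sl hs with h | h <;>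
        rw [← hW, Matrix.trace_fin_two, ← hs.2.2, h] <;> ring)
    exact pr_isConj (sl_isConj_of_norm_surj hX hWn hW.symm (hsur X hne))
  rcases hZ with h | h
  · exact key Z h
  · rw [← pr_neg Z]
    exact key (-Z) (by rw [Matrix.SpecialLinearGroup.coe_neg, Matrix.trace_neg, h, neg_neg])

theorem exists_root_of_pow_card [Fintype F] {M : Matrix (Fin 2) (Fin 2) F} (hd : M.det = 1)
    (h : M ^ Fintype.card F = M) : ∃ z : F, z ^ 2 - M.trace * z + 1 = 0 := by
  classical
  have hp : (Polynomial.X ^ Fintype.card F - Polynomial.X : Polynomial F) =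
      ((Finset.univ : Finset F).val.map fun a => Polynomial.X - Polynomial.C a).prod := by
    rw [← FiniteField.roots_X_pow_card_sub_X F]
    refine (Polynomial.prod_multiset_X_sub_C_of_monic_of_roots_card_eq ?_ ?_).symm
    · exact Polynomial.monic_X_pow_sub (Polynomial.degree_X.le.trans_lt (by exact_mod_cast Fintype.one_lt_card))
    · rw [FiniteField.roots_X_pow_card_sub_X, FiniteField.X_pow_card_sub_X_natDegree_eq F Fintype.one_lt_card]
      rfl
  have h0 := congrArg (fun P : Polynomial F => (Polynomial.aeval M P).det) hp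
  simp only [map_sub, map_pow, Polynomial.aeval_X, h, sub_self] at h0
  rw [Matrix.det_zero, eq_comm, Finset.prod_map_val] at h0
  · let f : Polynomial F →* F := (Matrix.detMonoidHom).comp (Polynomial.aeval M).toRingHom.toMonoidHom
    have h1 : f (∏ a : F, (Polynomial.X - Polynomial.C a)) = 0 := h0
    rw [map_prod] at h1
    obtain ⟨z, -, hz⟩ := Finset.prod_eq_zero_iff.1 h1
    change (Polynomial.aeval M (Polynomial.X - Polynomial.C z)).det = 0 at hz
    rw [map_sub, Polynomial.aeval_X, Polynomial.aeval_C, Algebra.algebraMap_eq_smul_one] at hz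
    refine ⟨z, ?_⟩
    rw [Matrix.det_fin_two] at hd
    simp [Matrix.det_fin_two] at hz
    rw [Matrix.trace_fin_two]
    linear_combination hz - hd

end CfsgLib.KnownB.SL2Products
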