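import Cfsg.Agent.Lib.Classical.SLGen

/-!
Subgroups of `SL_{n+1}` containing a root subgroup and the cyclic monomial matrix.
-/

set_option autoImplicit false

namespace CfsgLib.KnownB.SLTwoGen

open Matrix
open scoped commutatorElement
open Fin.NatCast

variable {K : Type*} [Field K] {n : ℕ}

/-- The signs of the monomial matrix. -/
def eps (K : Type*) [Field K] (n : ℕ) (a : Fin (n + 1)) : K := if a.val = n then (-1) ^ n else 1

theorem eps_ne_zero (a : Fin (n + 1)) : eps K n a ≠ 0 := by
  unfold eps; split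
  · exact pow_ne_zero _ (neg_ne_zero.2 one_ne_zero)
  · exact one_ne_zero

theorem cyc_mulVec {w : Matrix (Fin (n + 1)) (Fin (n + 1)) K} (hn : 1 ≤ n)
    (hw : w = Matrix.of (fun i j => if j.val = i.val + 1 then 1 else if i.val = n ∧ j.val = 0 then (-1) ^ n else 0))
    (v : Fin (n + 1) → K) (a : Fin (n + 1)) : w.mulVec v a = eps K n a * v (a + 1) := by
  have hv : ((a + 1 : Fin (n + 1)) : ℕ) = if a.val = n then 0 else a.val + 1 := by
    rw [Fin.val_add_one]
    by_cases h : a.val = n
    · rw [if_pos (Fin.ext h : a = Fin.last n), if_pos h]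
    · rw [if_neg (fun e => h (congrArg Fin.val e)), if_neg h]
  rw [hw, Matrix.mulVec, dotProduct, Finset.sum_eq_single (a + 1)]
  · rw [Matrix.of_apply, hv, eps]
    by_cases h : a.val = n
    · simp [h]
    · simp [h]
  · intro b _ hb
    have hb' : b.val ≠ if a.val = n then 0 else a.val + 1 := fun e => hb (Fin.ext (e.trans hv.symm))
    rw [Matrix.of_apply]
    have := b.isLt
    by_cases h : a.val = n
    · rw [if_pos h] at hb'
      rw [if_neg (by omega), if_neg (by omega), zero_mul]
    · rw [if_neg h] at hb'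
      rw [if_neg hb', if_neg (by omega), zero_mul]
  · simp

theorem eq_top_of_mem (hn : 1 ≤ n) (H : Subgroup (Matrix.SpecialLinearGroup (Fin (n + 1)) K))
    {w : Matrix.SpecialLinearGroup (Fin (n + 1)) K}
    (hw : (w : Matrix (Fin (n + 1)) (Fin (n + 1)) K) =
      Matrix.of (fun i j => if j.val = i.val + 1 then 1 else if i.val = n ∧ j.val = 0 then (-1) ^ n else 0))
    (hwH : w ∈ H) (h01 : ∀ (h : (0 : Fin (n + 1)) ≠ 1) (c : K), Matrix.SpecialLinearGroup.transvection h c ∈ H) :
    H = ⊤ := by
  have hshift : ∀ (i j : Fin (n + 1)) (hij : i ≠ j) (c : K),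
      w * Matrix.SpecialLinearGroup.transvection (fun h => hij (add_right_cancel h) : i + 1 ≠ j + 1) c * w⁻¹ =
        Matrix.SpecialLinearGroup.transvection hij (c * eps K n i / eps K n j) := by
    intro i j hij c
    rw [mul_inv_eq_iff_eq_mul]
    refine Subtype.ext (Matrix.ext_iff_mulVec.2 fun v => funext fun a => ?_)
    simp only [Matrix.SpecialLinearGroup.coe_mul, ← Matrix.mulVec_mulVec,
      CfsgLib.Classical.transvection_mulVec, cyc_mulVec hn hw, Pi.add_apply]
    by_cases ha : a = i
    · subst ha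
      rw [Pi.single_eq_same, Pi.single_eq_same]
      field_simp [eps_ne_zero j]
    · rw [Pi.single_eq_of_ne (fun h => ha (add_right_cancel h)), Pi.single_eq_of_ne ha, add_zero, add_zero]
  have hadj : ∀ (m : ℕ) (i j : Fin (n + 1)), i = 0 - (m : Fin (n + 1)) → j = i + 1 → ∀ (hij : i ≠ j) (c : K),
      Matrix.SpecialLinearGroup.transvection hij c ∈ H := by
    intro m
    induction m with
    | zero =>
      intro i j hi hj hij c
      rw [Nat.cast_zero, sub_zero] at hi
      subst hi
      rw [zero_add] at hj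
      subst hj
      exact h01 hij c
    | succ m ih =>
      intro i j hi hj hij c
      have h1 := ih (i + 1) (j + 1) (by rw [hi]; push_cast; abel) (by rw [hj]) (fun h => hij (add_right_cancel h))
        (c * eps K n j / eps K n i)
      have h2 := mul_mem (mul_mem hwH h1) (inv_mem hwH)
      rw [hshift i j hij] at h2
      have hc : c * eps K n j / eps K n i * eps K n i / eps K n j = c := by
        field_simp [eps_ne_zero i, eps_ne_zero j]
      rwa [hc] at h2
  have hcast : ∀ m : ℕ, 1 ≤ m → m ≤ n → (m : Fin (n + 1)) ≠ 0 := fun m h1 h2 h0 => by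
    have h3 := congrArg Fin.val h0
    rw [Fin.val_natCast, Nat.mod_eq_of_lt (by omega)] at h3
    simp at h3
    omega
  have hall : ∀ (m : ℕ), 1 ≤ m → m ≤ n → ∀ (i j : Fin (n + 1)), j = i + (m : Fin (n + 1)) → ∀ (hij : i ≠ j) (c : K),
      Matrix.SpecialLinearGroup.transvection hij c ∈ H := by
    intro m hm1
    induction m, hm1 using Nat.le_induction with
    | base =>
      intro _ i j hj hij c
      rw [Nat.cast_one] at hj
      exact hadj ((0 - i : Fin (n + 1)) : ℕ) i j (by rw [Fin.cast_val_eq_self, sub_sub_cancel]) hj hij c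
    | succ m hm ih =>
      intro hmn i j hj hij c
      have hk : i ≠ i + (m : Fin (n + 1)) := fun h => hcast m hm (by omega) (add_left_cancel (h.symm.trans (add_zero i).symm))
      have hkj : i + (m : Fin (n + 1)) ≠ j := fun h => by
        have h1 : (1 : Fin (n + 1)) = 0 := by
          rw [hj, Nat.cast_succ, ← add_assoc] at h
          exact add_left_cancel (h.symm.trans (add_zero _).symm)
        exact hcast 1 le_rfl hn (by rw [Nat.cast_one]; exact h1)
      have h1 := ih (by omega) i _ rfl hk c
      have h2 : Matrix.SpecialLinearGroup.transvection hkj (1 : K) ∈ H :=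
        hadj ((0 - (i + (m : Fin (n + 1))) : Fin (n + 1)) : ℕ) _ j (by rw [Fin.cast_val_eq_self, sub_sub_cancel])
          (by rw [hj, Nat.cast_succ, add_assoc]) hkj 1
      have h3 := CfsgLib.Classical.commutator_transvection hij hk hkj c (1 : K)
      rw [mul_one] at h3
      rw [← h3, commutatorElement_def]
      exact mul_mem (mul_mem (mul_mem h1 h2) (inv_mem h1)) (inv_mem h2)
  refine CfsgLib.Classical.eq_top_of_transvection_mem H fun i j hij c => ?_
  have hne : (j - i : Fin (n + 1)).val ≠ 0 := fun h => hij (sub_eq_zero.1 (Fin.ext h : j - i = 0)).symm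
  exact hall (j - i : Fin (n + 1)).val (by omega) (Nat.lt_succ_iff.1 (j - i : Fin (n + 1)).isLt) i j
    (by rw [Fin.cast_val_eq_self, add_sub_cancel]) hij c

theorem diag_conj {d : Fin (n + 1) → K} {D : Matrix.SpecialLinearGroup (Fin (n + 1)) K}
    (hD : (D : Matrix (Fin (n + 1)) (Fin (n + 1)) K) = Matrix.diagonal d) {i j : Fin (n + 1)} (hij : i ≠ j)
    (hd : d j ≠ 0) (c : K) :
    D * Matrix.SpecialLinearGroup.transvection hij c * D⁻¹ =
      Matrix.SpecialLinearGroup.transvection hij (d i * c / d j) := by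
  rw [mul_inv_eq_iff_eq_mul]
  refine Subtype.ext (Matrix.ext_iff_mulVec.2 fun v => funext fun a => ?_)
  simp only [Matrix.SpecialLinearGroup.coe_mul, ← Matrix.mulVec_mulVec, CfsgLib.Classical.transvection_mulVec, hD,
    Pi.add_apply, Matrix.mulVec_diagonal]
  by_cases ha : a = i
  · subst ha
    rw [Pi.single_eq_same, Pi.single_eq_same]
    field_simp
  · rw [Pi.single_eq_of_ne ha, Pi.single_eq_of_ne ha, add_zero, add_zero]

/-- An additive subgroup containing all multiples of `c ≠ 0` by squares is everything. -/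
theorem addSubgroup_eq_top [Finite K] (A : AddSubgroup K) {c : K} (hc : c ≠ 0) (h : ∀ r : K, r ^ 2 * c ∈ A)
    (x : K) : x ∈ A := by
  rcases eq_or_ne (ringChar K) 2 with h2 | h2
  · obtain ⟨r, hr⟩ := FiniteField.isSquare_of_char_two h2 (x / c)
    have := h r
    rwa [pow_two, ← hr, div_mul_cancel₀ _ hc] at this
  · have h2' : (2 : K) ≠ 0 := Ring.two_ne_zero h2
    have e : x = ((x / c / 2 + 1) ^ 2 * c - (x / c / 2) ^ 2 * c) - 1 ^ 2 * c := by
      field_simp
      ring
    rw [e]
    exact sub_mem (sub_mem (h _) (h _)) (h _)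

end CfsgLib.KnownB.SLTwoGen
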