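import Mathlib

set_option autoImplicit false

namespace CfsgLib.KnownB.Shintani

variable {X : Type*} [Group X] (σ : MulAut X)

theorem mem_fix {τ : MulAut X} {x : X} :
    x ∈ (MulEquiv.toMonoidHom τ).eqLocus (MonoidHom.id X) ↔ τ x = x := Iff.rfl

theorem pow_comm_apply (e : ℕ) (a : X) : σ ((σ ^ e) a) = (σ ^ e) (σ a) := by
  rw [← MulAut.mul_apply, ← MulAut.mul_apply, (Commute.self_pow σ e).eq]

theorem norm_eq (a : X) (d : ℕ) :
    ((List.range d).map (fun i => (σ ^ i) (a * (σ a)⁻¹))).prod = a * ((σ ^ d) a)⁻¹ := by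
  induction d with
  | zero => simp
  | succ d ih =>
    rw [List.range_succ, List.map_append, List.prod_append, ih, List.map_singleton, List.prod_singleton,
      map_mul, map_inv, ← MulAut.mul_apply, ← pow_succ]
    group

theorem fixed_descent (e : ℕ) (a : X) (hg : (σ ^ e) (a * (σ a)⁻¹) = a * (σ a)⁻¹) :
    σ (((σ ^ e) a)⁻¹ * a) = ((σ ^ e) a)⁻¹ * a := by
  rw [map_mul, map_inv] at hg ⊢
  rw [pow_comm_apply]
  rw [eq_comm, ← inv_mul_eq_iff_eq_mul] at hg
  calc ((σ ^ e) (σ a))⁻¹ * σ a = ((σ ^ e) a)⁻¹ * (a * (σ a)⁻¹) * σ a := by rw [hg]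
    _ = _ := by group

theorem fixed_pow {x : X} (hx : σ x = x) : ∀ n : ℕ, (σ ^ n) x = x
  | 0 => by simp
  | n + 1 => by rw [pow_succ, MulAut.mul_apply, hx, fixed_pow hx n]

end CfsgLib.KnownB.Shintani
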