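import Cfsg.Agent.Lib.KnownB.Regular

/-!
Regular unipotent elements of symplectic groups in odd characteristic: centraliser and classes.
-/

set_option autoImplicit false

namespace CfsgLib.KnownB.SpRegular

open Matrix CfsgLib.KnownB.Regular

variable {F : Type*} [Field F] {n : ℕ}

local notation "Mn" => Matrix (Fin n) (Fin n) F

/-- A non-degenerate alternating Gram matrix with `J * J = -1`. -/
structure Sympl (J : Mn) : Prop where
  skew : Jᵀ = -J
  sq : J * J = -1

/-- The adjoint with respect to `J`. -/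
def jAdj (J X : Mn) : Mn := -(J * Xᵀ * J)

variable {J : Matrix (Fin n) (Fin n) F} (hJ : Sympl J)

include hJ in
theorem jAdj_mul (X Y : Mn) : jAdj J (X * Y) = jAdj J Y * jAdj J X := by
  simp only [jAdj, neg_mul_neg, Matrix.transpose_mul]
  calc -(J * (Yᵀ * Xᵀ) * J) = J * Yᵀ * (-1) * Xᵀ * J := by noncomm_ring
    _ = _ := by rw [← hJ.sq]; noncomm_ring

include hJ in
theorem jAdj_one : jAdj J (1 : Mn) = 1 := by simp [jAdj, hJ.sq]

include hJ in
theorem jAdj_adj (X : Mn) : jAdj J (jAdj J X) = X := by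
  simp only [jAdj, Matrix.transpose_neg, Matrix.transpose_mul, Matrix.transpose_transpose, hJ.skew]
  calc -(J * -(-J * (X * -J)) * J) = (J * J) * X * (J * J) := by noncomm_ring
    _ = X := by rw [hJ.sq]; simp

theorem jAdj_sub (X Y : Mn) : jAdj J (X - Y) = jAdj J X - jAdj J Y := by
  simp only [jAdj, Matrix.transpose_sub]; noncomm_ring

theorem jAdj_smul (a : F) (X : Mn) : jAdj J (a • X) = a • jAdj J X := by
  simp [jAdj, Matrix.transpose_smul]

theorem jAdj_sum {ι : Type*} (s : Finset ι) (f : ι → Mn) : jAdj J (∑ i ∈ s, f i) = ∑ i ∈ s, jAdj J (f i) := by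
  simp [jAdj, Matrix.transpose_sum, Finset.mul_sum, Finset.sum_mul]

include hJ in
theorem jAdj_pow (X : Mn) (k : ℕ) : jAdj J (X ^ k) = jAdj J X ^ k := by
  induction k with
  | zero => simp [jAdj_one hJ]
  | succ k ih => rw [pow_succ, jAdj_mul hJ, ih, ← pow_succ']

theorem poly_injective {u : Mn} (h : IsRegularUnip u) (hn : 1 ≤ n) : Function.Injective (poly u) := by
  intro a b e
  obtain ⟨v, B, hB, -⟩ := h.exists_cyclic hn
  have := congrArg (fun M : Mn => M.mulVec v) e
  simp only [poly_mulVec hB] at this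
  exact B.equivFun.symm.injective this

theorem eq_poly' {u : Mn} (h : IsRegularUnip u) (hn : 1 ≤ n) {C : Mn} (hC : C * u = u * C) : ∃ a, C = poly u a := by
  obtain ⟨v, B, hB, -⟩ := h.exists_cyclic hn
  exact ⟨_, h.eq_poly hn hB hC⟩

theorem poly_const (u : Mn) (hn : 1 ≤ n) (c : F) : poly u (fun i => if i = ⟨0, hn⟩ then c else 0) = c • (1 : Mn) := by
  simp [poly, ite_smul]

variable {u : Matrix (Fin n) (Fin n) F}

/-- The skew nilpotent generator `u - u⁻¹` of the commutant. -/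
def skewGen (J u : Mn) : Mn := u - jAdj J u

include hJ in
theorem skewGen_adj : jAdj J (skewGen J u) = -skewGen J u := by
  rw [skewGen, jAdj_sub, jAdj_adj hJ]; noncomm_ring

theorem jAdj_comm (hu : jAdj J u * u = 1) : u * jAdj J u = jAdj J u * u := by
  rw [hu]; exact mul_eq_one_comm.1 hu

include hJ in
theorem jAdj_comm_of_comm (hu : jAdj J u * u = 1) {C : Mn} (hC : C * u = u * C) : jAdj J C * u = u * jAdj J C := by
  have hu' : u * jAdj J u = 1 := mul_eq_one_comm.1 hu
  have h1 : jAdj J u * jAdj J C = jAdj J C * jAdj J u := by rw [← jAdj_mul hJ, ← jAdj_mul hJ, hC]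
  calc jAdj J C * u = (u * jAdj J u) * jAdj J C * u := by rw [hu', one_mul]
    _ = u * (jAdj J C * jAdj J u) * u := by rw [← h1]; noncomm_ring
    _ = u * jAdj J C := by rw [mul_assoc u, mul_assoc (jAdj J C), hu, mul_one]

theorem regular_skewGen (h : IsRegularUnip u) (hu : jAdj J u * u = 1) (h2 : (2 : F) ≠ 0) :
    IsRegularUnip (1 + skewGen J u) ∧ ∀ C : Mn, C * (1 + skewGen J u) = (1 + skewGen J u) * C → C * u = u * C := by
  have hu' : u * jAdj J u = 1 := mul_eq_one_comm.1 hu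
  -- `u - u⁻¹ = W (u - 1)` with `W = u⁻¹ (u + 1)` invertible
  set N := u - 1 with hN
  set W := jAdj J u * (N + (2 : F) • 1) with hW
  have hM : skewGen J u = W * N := by
    have e : (jAdj J u * (N + (2 : F) • 1)) * N = jAdj J u * ((N + (2 : F) • 1) * N) := mul_assoc _ _ _
    rw [hW, e, hN, show (u - 1 + (2 : F) • (1 : Mn)) * (u - 1) = u * u - 1 by
      rw [two_smul]; noncomm_ring, mul_sub, ← mul_assoc, hu, one_mul, mul_one]
    rfl
  have hnil : IsNilpotent N := ⟨n, h.1⟩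
  have hWu : IsUnit W := by
    refine IsUnit.mul ⟨⟨jAdj J u, u, hu, hu'⟩, rfl⟩ ?_
    exact hnil.isUnit_add_right_of_commute (by rw [Algebra.smul_def, mul_one]; exact (isUnit_iff_ne_zero.2 h2).map (algebraMap F Mn))
      (Commute.smul_right (Commute.one_right _) _)
  have hcu : Commute (jAdj J u) u := by show _ = _; rw [hu, hu']
  have hcomm : Commute W N :=
    ((hcu.sub_right (Commute.one_right _)).mul_left
      (Commute.add_left (Commute.refl _) (Commute.smul_left (Commute.one_left _) _)))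
  have e1 : (1 + skewGen J u) - 1 = W * N := by rw [add_sub_cancel_left, hM]
  refine ⟨⟨?_, ?_⟩, fun C hC => ?_⟩
  · rw [e1, hcomm.mul_pow, h.1, mul_zero]
  · rw [e1, Matrix.rank_mul_eq_right_of_isUnit_det _ _ ((Matrix.isUnit_iff_isUnit_det _).1 hWu)]
    exact h.2
  · rcases Nat.eq_zero_or_pos n with h0 | hn
    · subst h0; ext i; exact i.elim0
    have hreg : IsRegularUnip (1 + skewGen J u) := ⟨by rw [e1, hcomm.mul_pow, h.1, mul_zero], by
      rw [e1, Matrix.rank_mul_eq_right_of_isUnit_det _ _ ((Matrix.isUnit_iff_isUnit_det _).1 hWu)]; exact h.2⟩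
    obtain ⟨a, rfl⟩ := eq_poly' hreg hn hC
    refine (Commute.sum_left _ _ _ fun i _ => (Commute.pow_left ?_ _).smul_left _).eq
    rw [e1]
    exact (hcu.mul_left (Commute.add_left ((Commute.refl u).sub_left (Commute.one_left u))
      (Commute.smul_left (Commute.one_left _) _))).mul_left ((Commute.refl u).sub_left (Commute.one_left u))

/-- The units commuting with `u`, as a group. -/
abbrev Comm (u : Mn) : Subgroup (GL (Fin n) F) where
  carrier := {g | (g : Mn) * u = u * (g : Mn)}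
  one_mem' := by simp
  mul_mem' {a b} ha hb := by
    simp only [Set.mem_setOf_eq, Units.val_mul] at *
    rw [mul_assoc, hb, ← mul_assoc, ha, mul_assoc]
  inv_mem' {a} ha := by
    simp only [Set.mem_setOf_eq] at *
    exact (Commute.units_inv_left (show Commute (a : Mn) u from ha)).eq

theorem comm_commute (h : IsRegularUnip u) (hn : 1 ≤ n) {C D : Mn} (hC : C * u = u * C) (hD : D * u = u * D) :
    C * D = D * C := by
  obtain ⟨a, rfl⟩ := eq_poly' h hn hC
  exact (Commute.sum_left _ _ _ fun i _ => ((Commute.sub_left (show Commute u D from hD.symm)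
    (Commute.one_left D)).pow_left _).smul_left _).eq

/-- `c ↦ c⋆ c` on the commutant. -/
noncomputable def jNorm (hJ : Sympl J) (hu : jAdj J u * u = 1) (h : IsRegularUnip u) (hn : 1 ≤ n) :
    Comm u →* Comm u :=
  MonoidHom.mk' (fun g => ⟨(⟨jAdj J (g.1 : Mn), jAdj J ((g.1⁻¹ : GL (Fin n) F) : Mn),
      by rw [← jAdj_mul hJ, Units.inv_mul, jAdj_one hJ], by rw [← jAdj_mul hJ, Units.mul_inv, jAdj_one hJ]⟩ : GL (Fin n) F) * g.1, by
      show jAdj J (g.1 : Mn) * (g.1 : Mn) * u = u * (jAdj J (g.1 : Mn) * (g.1 : Mn))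
      rw [mul_assoc, show (g.1 : Mn) * u = u * (g.1 : Mn) from g.2, ← mul_assoc, jAdj_comm_of_comm hJ hu g.2, mul_assoc]⟩)
    fun g k => Subtype.ext (Units.ext (by
      show jAdj J ((g.1 : Mn) * (k.1 : Mn)) * ((g.1 : Mn) * (k.1 : Mn)) = jAdj J (g.1 : Mn) * (g.1 : Mn) * (jAdj J (k.1 : Mn) * (k.1 : Mn))
      rw [jAdj_mul hJ, comm_commute h hn (C := jAdj J (g.1 : Mn) * (g.1 : Mn)) (D := jAdj J (k.1 : Mn) * (k.1 : Mn))
        (by rw [mul_assoc, show (g.1 : Mn) * u = u * (g.1 : Mn) from g.2, ← mul_assoc, jAdj_comm_of_comm hJ hu g.2, mul_assoc])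
        (by rw [mul_assoc, show (k.1 : Mn) * u = u * (k.1 : Mn) from k.2, ← mul_assoc, jAdj_comm_of_comm hJ hu k.2, mul_assoc]),
        mul_assoc (jAdj J (k.1 : Mn)), mul_assoc (jAdj J (k.1 : Mn))]
      congr 1
      rw [← mul_assoc, ← mul_assoc, comm_commute h hn k.2 (jAdj_comm_of_comm hJ hu g.2), mul_assoc, mul_assoc,
        comm_commute h hn k.2 g.2]))

theorem jNorm_val (hu : jAdj J u * u = 1) (h : IsRegularUnip u) (hn : 1 ≤ n) (g : Comm u) :
    ((jNorm hJ hu h hn g).1 : Mn) = jAdj J (g.1 : Mn) * (g.1 : Mn) := rfl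

/-- The self-adjoint units of the commutant. -/
abbrev Sym (hJ : Sympl J) (hu : jAdj J u * u = 1) (h : IsRegularUnip u) (hn : 1 ≤ n) : Subgroup (Comm u) where
  carrier := {g | jAdj J (g.1 : Mn) = (g.1 : Mn)}
  one_mem' := jAdj_one hJ
  mul_mem' {a b} ha hb := by
    simp only [Set.mem_setOf_eq, Subgroup.coe_mul, Units.val_mul] at *
    rw [jAdj_mul hJ, ha, hb, comm_commute h hn b.2 a.2]
  inv_mem' {a} ha := by
    simp only [Set.mem_setOf_eq, Subgroup.coe_inv] at *
    have e : jAdj J ((a.1⁻¹ : GL (Fin n) F) : Mn) * (a.1 : Mn) = 1 := by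
      conv_lhs => rw [← ha]
      rw [← jAdj_mul hJ, Units.mul_inv, jAdj_one hJ]
    calc jAdj J ((a.1⁻¹ : GL (Fin n) F) : Mn) = jAdj J ((a.1⁻¹ : GL (Fin n) F) : Mn) * (a.1 : Mn) * ((a.1⁻¹ : GL (Fin n) F) : Mn) := by
          rw [mul_assoc, Units.mul_inv, mul_one]
      _ = _ := by rw [e, one_mul]

section Count

variable [Fintype F]

include hJ in
theorem card_sym {m : ℕ} (hm : n = 2 * m) (hu : jAdj J u * u = 1) (h : IsRegularUnip u) (hn : 1 ≤ n) (h2 : (2 : F) ≠ 0) :
    Nat.card (Sym hJ hu h hn) = (Fintype.card F - 1) * Fintype.card F ^ (m - 1) := by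
  classical
  obtain ⟨hreg, hback⟩ := regular_skewGen h hu h2
  set u' := 1 + skewGen J u with hu'
  have hadjp : ∀ a, jAdj J (poly u' a) = poly u' (fun i => (-1) ^ (i : ℕ) * a i) := fun a => by
    rw [poly, jAdj_sum, poly]
    refine Finset.sum_congr rfl fun i _ => ?_
    rw [jAdj_smul, jAdj_pow hJ, hu', add_sub_cancel_left, skewGen_adj hJ, ← neg_one_smul F (skewGen J u), smul_pow, smul_smul,
      mul_comm]
  have hsym : ∀ a, jAdj J (poly u' a) = poly u' a ↔ ∀ i : Fin n, Odd (i : ℕ) → a i = 0 := fun a => by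
    rw [hadjp]
    constructor
    · intro e i hi
      have := congrFun (poly_injective hreg hn e) i
      rw [hi.neg_one_pow] at this
      exact (mul_eq_zero.1 (show (2 : F) * a i = 0 by linear_combination -this)).resolve_left h2
    · intro e
      congr 1
      funext i
      rcases Nat.even_or_odd (i : ℕ) with hi | hi
      · rw [hi.neg_one_pow, one_mul]
      · rw [e i hi, mul_zero]
  have hcu' : ∀ C : Mn, C * u = u * C → C * u' = u' * C := fun C hC => by
    have h1 : C * jAdj J u = jAdj J u * C := by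
      have hu2 : u * jAdj J u = 1 := mul_eq_one_comm.1 hu
      calc C * jAdj J u = jAdj J u * u * C * jAdj J u := by rw [hu, one_mul]
        _ = jAdj J u * (C * u) * jAdj J u := by rw [hC]; noncomm_ring
        _ = _ := by rw [mul_assoc, mul_assoc, hu2, mul_one]
    rw [hu', skewGen]
    simp only [mul_add, add_mul, mul_sub, sub_mul, mul_one, one_mul, hC, h1]
  let f : {a : Fin m → F // a ⟨0, by omega⟩ ≠ 0} → Fin n → F :=
    fun a i => if hi : Even (i : ℕ) then a.1 ⟨(i : ℕ) / 2, by omega⟩ else 0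
  have hdet : ∀ a : {a : Fin m → F // a ⟨0, by omega⟩ ≠ 0}, (poly u' (f a)).det ≠ 0 := fun a => by
    rw [hreg.det_poly hn]
    refine pow_ne_zero _ ?_
    simp only [f, Even.zero, dite_true]
    exact a.2
  let Φ : {a : Fin m → F // a ⟨0, by omega⟩ ≠ 0} → Sym hJ hu h hn := fun a =>
    ⟨⟨GeneralLinearGroup.mkOfDetNeZero (poly u' (f a)) (hdet a), hback _ (poly_comm _)⟩,
      (hsym _).2 fun i hi => dif_neg (Nat.not_even_iff_odd.2 hi)⟩
  have hbij : Function.Bijective Φ := by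
    constructor
    · intro a b e
      have e1 : poly u' (f a) = poly u' (f b) := congrArg (fun x : Sym hJ hu h hn => ((x.1.1 : GL (Fin n) F) : Mn)) e
      apply Subtype.ext
      funext j
      have e2 := congrFun (poly_injective hreg hn e1) ⟨2 * (j : ℕ), by omega⟩
      simp only [f, even_two_mul, dite_true] at e2
      simpa [Fin.ext_iff] using e2
    · intro g
      obtain ⟨a, ha⟩ := eq_poly' hreg hn (hcu' _ g.1.2)
      have hs := (hsym a).1 (ha ▸ g.2)
      have ha0 : a ⟨0, hn⟩ ≠ 0 := fun h0 => by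
        have hd := hreg.det_poly hn a
        rw [← ha, h0, zero_pow (by omega)] at hd
        exact (GeneralLinearGroup.det g.1.1).ne_zero hd
      refine ⟨⟨fun j => a ⟨2 * (j : ℕ), by omega⟩, by simpa using ha0⟩, Subtype.ext (Subtype.ext (Units.ext ?_))⟩
      show poly u' _ = _
      rw [ha]
      congr 1
      funext i
      simp only [f]
      split_ifs with hi
      · congr 1
        apply Fin.ext
        show 2 * ((i : ℕ) / 2) = i
        exact Nat.two_mul_div_two_of_even hi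
      · exact (hs i (Nat.not_even_iff_odd.1 hi)).symm
  rw [← Nat.card_eq_of_bijective Φ hbij]
  let e2 : {a : Fin m → F // a ⟨0, by omega⟩ ≠ 0} ≃ {x : F // x ≠ 0} × ({j : Fin m // j ≠ ⟨0, by omega⟩} → F) :=
    { toFun := fun a => (⟨a.1 ⟨0, by omega⟩, a.2⟩, fun j => a.1 j)
      invFun := fun x => ⟨fun j => if hj : j = ⟨0, by omega⟩ then x.1.1 else x.2 ⟨j, hj⟩, by simpa using x.1.2⟩
      left_inv := fun a => by
        ext j
        dsimp only
        split_ifs with hj
        · rw [hj]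
        · rfl
      right_inv := fun x => by
        refine Prod.ext (Subtype.ext (by simp)) (funext fun j => ?_)
        simp [j.2] }
  rw [Nat.card_congr e2, Nat.card_prod, Nat.card_fun, Nat.card_eq_fintype_card, Nat.card_eq_fintype_card,
    Nat.card_eq_fintype_card, Fintype.card_subtype_compl, Fintype.card_subtype_compl, Fintype.card_subtype_eq,
    Fintype.card_subtype_eq, Fintype.card_fin]

include hJ in
/-- The norms are exactly the self-adjoint units whose residue is a square. -/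
theorem norm_data {m : ℕ} (hm : n = 2 * m) (hu : jAdj J u * u = 1) (h : IsRegularUnip u) (hn : 1 ≤ n) (h2 : (2 : F) ≠ 0) :
    Nat.card (jNorm hJ hu h hn).ker = 2 * Fintype.card F ^ m ∧
      ∀ (s : Comm u) (a : Fin n → F), jAdj J (s.1 : Mn) = (s.1 : Mn) → (s.1 : Mn) = poly u a →
        (s ∈ (jNorm hJ hu h hn).range ↔ IsSquare (a ⟨0, hn⟩)) := by
  classical
  set ν := jNorm hJ hu h hn
  set S := Sym hJ hu h hn
  have hres : ∀ g : Comm u, ∃ a, (g.1 : Mn) = poly u a ∧ a ⟨0, hn⟩ ≠ 0 := fun g => by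
    obtain ⟨a, ha⟩ := eq_poly' h hn g.2
    refine ⟨a, ha, fun h0 => ?_⟩
    have hd := h.det_poly hn a
    rw [← ha, h0, zero_pow (by omega)] at hd
    exact (GeneralLinearGroup.det g.1).ne_zero hd
  -- residue of a product
  have hNnil : IsNilpotent (u - 1) := ⟨n, h.1⟩
  have hsplit : ∀ a : Fin n → F, ∃ K : Mn, poly u a = a ⟨0, hn⟩ • 1 + (u - 1) * K ∧ Commute (u - 1) K := by
    intro a
    refine ⟨∑ i ∈ Finset.univ.erase (⟨0, hn⟩ : Fin n), a i • (u - 1) ^ ((i : ℕ) - 1), ?_,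
      Commute.sum_right _ _ _ fun i _ => ((Commute.refl _).pow_right _).smul_right _⟩
    rw [poly, ← Finset.add_sum_erase _ _ (Finset.mem_univ (⟨0, hn⟩ : Fin n)), pow_zero, Finset.mul_sum]
    congr 1
    refine Finset.sum_congr rfl fun i hi => ?_
    have : (i : ℕ) ≠ 0 := fun h0 => (Finset.mem_erase.1 hi).1 (Fin.ext h0)
    rw [mul_smul_comm, ← pow_succ', Nat.sub_add_cancel (by omega)]
  obtain ⟨v0, B, hB, hv0⟩ := h.exists_cyclic hn
  set z := ((u - 1) ^ (n - 1)).mulVec v0 with hz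
  have hz1 : (u - 1).mulVec z = 0 := by
    rw [hz, Matrix.mulVec_mulVec, ← pow_succ', Nat.sub_add_cancel hn, h.1, Matrix.zero_mulVec]
  have heig : ∀ a : Fin n → F, (poly u a).mulVec z = a ⟨0, hn⟩ • z := fun a => by
    obtain ⟨K, hK, hKc⟩ := hsplit a
    rw [hK, Matrix.add_mulVec, Matrix.smul_mulVec, Matrix.one_mulVec, hKc.eq, ← Matrix.mulVec_mulVec, hz1,
      Matrix.mulVec_zero, add_zero]
  -- residue of a norm
  have hadjz : ∀ a : Fin n → F, (jAdj J (poly u a)).mulVec z = a ⟨0, hn⟩ • z := fun a => by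
    have hu2 : u * jAdj J u = 1 := mul_eq_one_comm.1 hu
    have e : (jAdj J (u - 1)).mulVec z = 0 := by
      rw [jAdj_sub, jAdj_one hJ, show jAdj J u - 1 = jAdj J u * -(u - 1) by rw [mul_neg, mul_sub, hu, mul_one]; noncomm_ring,
        ← Matrix.mulVec_mulVec, Matrix.neg_mulVec, hz1, neg_zero, Matrix.mulVec_zero]
    rw [poly, jAdj_sum, Matrix.sum_mulVec, Finset.sum_eq_single (⟨0, hn⟩ : Fin n)]
    · rw [jAdj_smul, pow_zero, jAdj_one hJ, Matrix.smul_mulVec, Matrix.one_mulVec]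
    · intro i _ hi
      have : (i : ℕ) ≠ 0 := fun h0 => hi (Fin.ext h0)
      rw [jAdj_smul, jAdj_pow hJ, show (i : ℕ) = (i : ℕ) - 1 + 1 by omega, pow_succ, Matrix.smul_mulVec, ← Matrix.mulVec_mulVec, e,
        Matrix.mulVec_zero, smul_zero]
    · simp
  have hsqres : ∀ (c : Comm u) (a : Fin n → F), ((ν c).1 : Mn) = poly u a → IsSquare (a ⟨0, hn⟩) := by
    intro c a ha
    obtain ⟨b, hb, -⟩ := hres c
    have e1 := heig a
    rw [← ha, jNorm_val, hb, ← Matrix.mulVec_mulVec, heig, Matrix.mulVec_smul, hadjz, smul_smul] at e1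
    refine ⟨b ⟨0, hn⟩, ?_⟩
    by_contra hne
    exact hne (smul_left_injective F hv0 e1).symm
  have hrS : ν.range ≤ S := by
    rintro _ ⟨c, rfl⟩
    show jAdj J (jAdj J (c.1 : Mn) * (c.1 : Mn)) = jAdj J (c.1 : Mn) * (c.1 : Mn)
    rw [jAdj_mul hJ, jAdj_adj hJ]
  -- squaring on `S`
  let σ : S →* ν.range :=
    (ν.comp S.subtype).codRestrict ν.range fun c => ⟨_, rfl⟩
  have hneg : ((-1 : F) • (1 : Mn)).det ≠ 0 := by
    rw [Matrix.det_smul, Matrix.det_one, mul_one]; exact pow_ne_zero _ (by simp)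
  let negOne : S := ⟨⟨GeneralLinearGroup.mkOfDetNeZero ((-1 : F) • (1 : Mn)) hneg, by
      show ((-1 : F) • (1 : Mn)) * u = u * ((-1 : F) • (1 : Mn))
      simp⟩, by show jAdj J ((-1 : F) • (1 : Mn)) = (-1 : F) • (1 : Mn); rw [jAdj_smul, jAdj_one hJ]⟩
  have hker : Nat.card σ.ker ≤ 2 := by
    show Nat.card (σ.ker : Set S) ≤ 2
    rw [Nat.card_coe_set_eq]
    have hsub : (σ.ker : Set S) ⊆ {1, negOne} := by
      intro c hc
      have hc' : ν (c : Comm u) = 1 := congrArg Subtype.val (MonoidHom.mem_ker.1 hc)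
      have e := congrArg (fun x : Comm u => ((x.1 : GL (Fin n) F) : Mn)) hc'
      simp only [Subgroup.coe_one, Units.val_one] at e
      rw [show ((ν (c : Comm u)).1 : Mn) = jAdj J (c.1.1 : Mn) * (c.1.1 : Mn) from rfl, c.2] at e
      obtain ⟨a, ha, ha0⟩ := hres c.1
      obtain ⟨K, hK, hKc⟩ := hsplit a
      set X := (u - 1) * K with hX
      have hXn : IsNilpotent X := (hKc.isNilpotent_mul_right hNnil)
      rw [ha, hK] at e
      have e' : (a ⟨0, hn⟩ ^ 2 - 1) • (1 : Mn) + ((2 * a ⟨0, hn⟩) • (1 : Mn) + X) * X = 0 := by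
        rw [← sub_eq_zero.2 e]
        simp only [sub_smul, one_smul, pow_two, two_mul, add_smul, mul_smul, add_mul, mul_add, smul_add, smul_mul_assoc, mul_smul_comm, one_mul, mul_one]
        abel
      have hnil2 : IsNilpotent (((2 * a ⟨0, hn⟩) • (1 : Mn) + X) * X) :=
        ((Commute.add_left (Commute.smul_left (Commute.one_left X) _) (Commute.refl X))).isNilpotent_mul_left hXn
      have ha2 : a ⟨0, hn⟩ ^ 2 = 1 := by
        obtain ⟨k, hk⟩ := hnil2
        have h3 : ((a ⟨0, hn⟩ ^ 2 - 1) • (1 : Mn)) = -(((2 * a ⟨0, hn⟩) • (1 : Mn) + X) * X) := eq_neg_of_add_eq_zero_left e'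
        have h4 : ((a ⟨0, hn⟩ ^ 2 - 1) • (1 : Mn)) ^ k = 0 := by rw [h3, neg_pow, hk, mul_zero]
        rw [smul_pow, one_pow, smul_eq_zero] at h4
        have hne1 : (1 : Mn) ≠ 0 := fun h0 => by
          have := congrFun (congrFun h0 ⟨0, hn⟩) ⟨0, hn⟩
          simp at this
        exact sub_eq_zero.1 (eq_zero_of_pow_eq_zero (h4.resolve_right hne1))
      rw [ha2, sub_self, zero_smul, zero_add] at e'
      have hU : IsUnit ((2 * a ⟨0, hn⟩) • (1 : Mn) + X) :=
        hXn.isUnit_add_left_of_commute (by simpa [Algebra.smul_def] using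
          (isUnit_iff_ne_zero.2 (mul_ne_zero h2 ha0)).map (algebraMap F Mn)) (Commute.smul_right (Commute.one_right _) _)
      have hX0 : X = 0 := (hU.mul_right_eq_zero).1 e'
      rw [pow_two, mul_self_eq_one_iff] at ha2
      rcases ha2 with h1 | h1
      · left
        refine Subtype.ext (Subtype.ext (Units.ext ?_))
        rw [ha, hK, hX0, add_zero, h1, one_smul]; rfl
      · right
        refine Subtype.ext (Subtype.ext (Units.ext ?_))
        rw [ha, hK, hX0, add_zero, h1]; rfl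
    refine le_trans (Set.ncard_le_ncard hsub) ?_
    exact (Set.ncard_insert_le _ _).trans (by simp)
  -- a self-adjoint unit that is no norm
  have hodd : ringChar F ≠ 2 := fun h' => h2 (by
    have := ringChar.Nat.cast_ringChar (R := F); rw [h'] at this; exact_mod_cast this)
  obtain ⟨δ, hδ⟩ := FiniteField.exists_nonsquare hodd
  have hδ0 : δ ≠ 0 := fun h0 => hδ (by rw [h0]; exact IsSquare.zero)
  let sδ : Comm u := ⟨GeneralLinearGroup.mkOfDetNeZero (δ • (1 : Mn)) (by simp [hδ0]), by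
    show (δ • (1 : Mn)) * u = u * (δ • (1 : Mn)); simp⟩
  have hsδS : sδ ∈ S := by show jAdj J (δ • (1 : Mn)) = δ • (1 : Mn); rw [jAdj_smul, jAdj_one hJ]
  have hsδ : sδ ∉ ν.range := by
    rintro ⟨c, hc⟩
    have := hsqres c (fun i => if i = ⟨0, hn⟩ then δ else 0) (by rw [hc, poly_const]; rfl)
    exact hδ (by simpa using this)
  have hσ1 := σ.ker.card_mul_index
  rw [Subgroup.index_ker] at hσ1
  have hσr : Nat.card σ.range ≤ Nat.card ν.range := Nat.card_le_card_of_injective Subtype.val Subtype.val_injective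
  have hidx : 2 * Nat.card ν.range ≤ Nat.card S := by
    have h1 := Subgroup.card_mul_index (ν.range.subgroupOf S)
    rw [Nat.card_congr (Subgroup.subgroupOfEquivOfLe hrS).toEquiv] at h1
    have h3 : (ν.range.subgroupOf S).index ≠ 1 := fun h' => by
      rw [Subgroup.index_eq_one, Subgroup.subgroupOf_eq_top] at h'
      exact hsδ (h' hsδS)
    have h4 : (ν.range.subgroupOf S).index ≠ 0 := Subgroup.index_ne_zero_of_finite
    exact (Nat.mul_le_mul_right _ (show 2 ≤ (ν.range.subgroupOf S).index by omega)).trans (by rw [mul_comm, h1])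
  have hSν : Nat.card S = 2 * Nat.card ν.range := by
    have := Nat.mul_le_mul hker hσr
    omega
  refine ⟨?_, fun s a hs hsa => ?_⟩
  · have h1 := ν.ker.card_mul_index
    rw [Subgroup.index_ker] at h1
    have hC : Nat.card (Comm u) = (Fintype.card F - 1) * Fintype.card F ^ (n - 1) := by
      have hdet : u.det ≠ 0 := fun h0 => by
        have := congrArg Matrix.det hu
        rw [Matrix.det_mul, h0, mul_zero, Matrix.det_one] at this
        exact zero_ne_one this
      rw [← card_centralizer (u := GeneralLinearGroup.mkOfDetNeZero u hdet) h hn]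
      refine Nat.card_congr (Equiv.subtypeEquivRight fun g => ?_)
      rw [Subgroup.mem_centralizer_singleton_iff, Units.ext_iff]
      rfl
    rw [hC] at h1
    rw [card_sym hJ hm hu h hn h2] at hSν
    have hq : 1 < Fintype.card F := Fintype.one_lt_card
    obtain ⟨k, hk⟩ : ∃ k, m = k + 1 := ⟨m - 1, by omega⟩
    rw [hk] at hSν ⊢
    rw [show n - 1 = k + (k + 1) by omega, pow_add] at h1
    rw [Nat.add_sub_cancel] at hSν
    apply Nat.eq_of_mul_eq_mul_right (show 0 < Nat.card ν.range from Nat.card_pos)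
    calc Nat.card ν.ker * Nat.card ν.range = ((Fintype.card F - 1) * Fintype.card F ^ k) * Fintype.card F ^ (k + 1) := by
          rw [h1]; ring
      _ = _ := by rw [hSν]; ring
  · refine ⟨fun hc => ?_, fun hsq => ?_⟩
    · obtain ⟨c, rfl⟩ := hc
      exact hsqres c a hsa
    · by_contra hno
      -- both `s` and `δ` lie outside the index two subgroup, so their quotient is a norm
      have hidx2 : (ν.range.subgroupOf S).index = 2 := by
        have h1 := Subgroup.card_mul_index (ν.range.subgroupOf S)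
        rw [Nat.card_congr (Subgroup.subgroupOfEquivOfLe hrS).toEquiv, hSν] at h1
        exact Nat.eq_of_mul_eq_mul_left (show 0 < Nat.card ν.range from Nat.card_pos) (h1.trans (mul_comm _ _))
      have hiff := Subgroup.mul_mem_iff_of_index_two hidx2 (a := (⟨s, hs⟩ : S)) (b := ⟨sδ, hsδS⟩)
      simp only [Subgroup.mem_subgroupOf] at hiff
      obtain ⟨c, hc⟩ := hiff.2 (iff_of_false hno hsδ)
      have e : ((ν c).1 : Mn) = poly u (fun i => δ * a i) := by
        rw [hc]
        show (s.1 : Mn) * (δ • (1 : Mn)) = _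
        rw [hsa, mul_smul_comm, mul_one, poly, poly, Finset.smul_sum]
        simp [smul_smul]
      obtain ⟨r, hr⟩ := hsqres c _ e
      obtain ⟨t, ht⟩ := hsq
      apply hδ
      obtain ⟨b, hb, hb0⟩ := hres s
      have hab : a = b := poly_injective h hn (hsa.symm.trans hb)
      refine ⟨r / t, ?_⟩
      have ht0 : t ≠ 0 := fun h0 => hb0 (by rw [← hab, ht, h0, mul_zero])
      field_simp
      rw [pow_two, pow_two, ← hr, ht]

include hJ in
/-- The conjugacy criterion. -/
theorem exists_sympl_conj {m : ℕ} (hm : n = 2 * m) (hu : jAdj J u * u = 1) (h : IsRegularUnip u) (hn : 1 ≤ n) (h2 : (2 : F) ≠ 0)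
    {X : GL (Fin n) F} {u' : Mn} (hu' : jAdj J u' * u' = 1) (hX : (X : Mn) * u = u' * (X : Mn)) :
    ∃ a, jAdj J (X : Mn) * (X : Mn) = poly u a ∧ a ⟨0, hn⟩ ≠ 0 ∧
      ((∃ Z : GL (Fin n) F, jAdj J (Z : Mn) * (Z : Mn) = 1 ∧ (Z : Mn) * u = u' * (Z : Mn)) ↔ IsSquare (a ⟨0, hn⟩)) := by
  have hu2 : u * jAdj J u = 1 := mul_eq_one_comm.1 hu
  have e1 : u * jAdj J (X : Mn) = jAdj J (X : Mn) * u' := by
    have := congrArg (jAdj J) hX
    rw [jAdj_mul hJ, jAdj_mul hJ] at this
    calc u * jAdj J (X : Mn) = u * jAdj J (X : Mn) * (jAdj J u' * u') := by rw [hu', mul_one]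
      _ = u * (jAdj J (X : Mn) * jAdj J u') * u' := by noncomm_ring
      _ = (u * jAdj J u) * jAdj J (X : Mn) * u' := by rw [← this]; noncomm_ring
      _ = _ := by rw [hu2, one_mul]
  have hcomm : jAdj J (X : Mn) * (X : Mn) * u = u * (jAdj J (X : Mn) * (X : Mn)) := by
    rw [mul_assoc, hX, ← mul_assoc, ← e1, mul_assoc]
  let aX : GL (Fin n) F := (⟨jAdj J (X : Mn), jAdj J ((X⁻¹ : GL (Fin n) F) : Mn),
      by rw [← jAdj_mul hJ, Units.inv_mul, jAdj_one hJ], by rw [← jAdj_mul hJ, Units.mul_inv, jAdj_one hJ]⟩ : GL (Fin n) F)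
  let s : Comm u := ⟨aX * X, hcomm⟩
  have hs : jAdj J (s.1 : Mn) = (s.1 : Mn) := by
    show jAdj J (jAdj J (X : Mn) * (X : Mn)) = jAdj J (X : Mn) * (X : Mn)
    rw [jAdj_mul hJ, jAdj_adj hJ]
  obtain ⟨a, ha⟩ := eq_poly' h hn (C := jAdj J (X : Mn) * (X : Mn)) hcomm
  refine ⟨a, ha, fun h0 => ?_, ?_⟩
  · have hd := h.det_poly hn a
    rw [← ha, h0, zero_pow (by omega)] at hd
    exact (GeneralLinearGroup.det s.1).ne_zero hd
  have key := (norm_data hJ hm hu h hn h2).2 s a hs ha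
  rw [← key]
  constructor
  · rintro ⟨Z, hZ, hZu⟩
    have hW : ((Z⁻¹ * X : GL (Fin n) F) : Mn) * u = u * ((Z⁻¹ * X : GL (Fin n) F) : Mn) := by
      rw [Units.val_mul, mul_assoc, hX, ← mul_assoc, ← mul_assoc]
      congr 1
      calc ((Z⁻¹ : GL (Fin n) F) : Mn) * u' = ((Z⁻¹ : GL (Fin n) F) : Mn) * (u' * (Z : Mn)) * ((Z⁻¹ : GL (Fin n) F) : Mn) := by
            rw [mul_assoc, mul_assoc u', Units.mul_inv, mul_one]
        _ = u * ((Z⁻¹ : GL (Fin n) F) : Mn) := by rw [← hZu, ← mul_assoc, Units.inv_mul, one_mul]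
    refine ⟨⟨Z⁻¹ * X, hW⟩, Subtype.ext (Units.ext ?_)⟩
    show jAdj J ((Z⁻¹ * X : GL (Fin n) F) : Mn) * ((Z⁻¹ * X : GL (Fin n) F) : Mn) = jAdj J (X : Mn) * (X : Mn)
    have hZ' : jAdj J ((Z⁻¹ : GL (Fin n) F) : Mn) * ((Z⁻¹ : GL (Fin n) F) : Mn) = 1 := by
      calc jAdj J ((Z⁻¹ : GL (Fin n) F) : Mn) * ((Z⁻¹ : GL (Fin n) F) : Mn)
          = jAdj J ((Z⁻¹ : GL (Fin n) F) : Mn) * (jAdj J (Z : Mn) * (Z : Mn)) * ((Z⁻¹ : GL (Fin n) F) : Mn) := by rw [hZ, mul_one]
        _ = jAdj J ((Z : Mn) * ((Z⁻¹ : GL (Fin n) F) : Mn)) * ((Z : Mn) * ((Z⁻¹ : GL (Fin n) F) : Mn)) := by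
            rw [jAdj_mul hJ]; noncomm_ring
        _ = 1 := by rw [Units.mul_inv, jAdj_one hJ, one_mul]
    rw [Units.val_mul, jAdj_mul hJ, mul_assoc, ← mul_assoc (jAdj J ((Z⁻¹ : GL (Fin n) F) : Mn)), hZ', one_mul]
  · rintro ⟨c, hc⟩
    refine ⟨X * c.1⁻¹, ?_, ?_⟩
    · have e : jAdj J (c.1 : Mn) * (c.1 : Mn) = jAdj J (X : Mn) * (X : Mn) :=
        congrArg (fun x : Comm u => ((x.1 : GL (Fin n) F) : Mn)) hc
      rw [Units.val_mul, jAdj_mul hJ, mul_assoc, ← mul_assoc (jAdj J (X : Mn)), ← e, mul_assoc, Units.mul_inv, mul_one,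
        ← jAdj_mul hJ, Units.mul_inv, jAdj_one hJ]
    · rw [Units.val_mul, mul_assoc, show ((c.1⁻¹ : GL (Fin n) F) : Mn) * u = u * ((c.1⁻¹ : GL (Fin n) F) : Mn) from (c⁻¹).2,
        ← mul_assoc, hX, mul_assoc]

end Count

end CfsgLib.KnownB.SpRegular
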