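import Cfsg.Agent.Lib.KnownB.PrimeGraphTwo
import Cfsg.Agent.Lib.KnownA.Unipotent
import Cfsg.Agent.Lib.Geometry.SpSplit

/-!
An element order of `PSp 2n` missing from `Ω (2n+1)`.
-/

set_option autoImplicit false
set_option linter.unusedSectionVars false

namespace CfsgLib.KnownB.SpectrumBC

open Polynomial Matrix QuadraticMap CfsgLib.Geometry CfsgLib.KnownB.PrimeGraph

universe u

variable {F : Type u} [Field F] [Fintype F]

/-- A semisimple isometry of a three-space centralising a nontrivial unipotent one is a sign. -/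
theorem sign_of_commute_unipotent (p : ℕ) [Fact p.Prime] [CharP F p] (h2 : (2 : F) ≠ 0)
    {G h u : Matrix (Fin 3) (Fin 3) F} (hG : Gᵀ = G) (hGu : IsUnit G) (hh : hᵀ * G * h = G)
    (hu : uᵀ * G * u = G) (hc : Commute h u) (hup : u ^ p = 1) (hu1 : u ≠ 1) {t : ℕ} (ht : h ^ 2 ^ t = 1) :
    h = 1 ∨ h = -1 := by
  classical
  have hp := (Fact.out : p.Prime)
  set N := u - 1 with hN
  have hN0 : N ≠ 0 := sub_ne_zero.2 hu1
  have hnil : IsNilpotent N := ⟨p, by
    rw [hN, sub_pow_char_of_commute p (Commute.one_right u), hup, one_pow, sub_self]⟩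
  have hN3 : N ^ 3 = 0 := CfsgLib.KnownA.pow_eq_zero_of_nilpotent hnil
  have hN2 : N ^ 2 ≠ 0 := by
    intro hsq
    have hinv : u * (1 - N) = 1 := by
      rw [show u = 1 + N by rw [hN]; abel, add_mul, one_mul, mul_sub, mul_one, ← pow_two, hsq, sub_zero,
        sub_add_cancel]
    have h1 : uᵀ * G = G * (1 - N) := by
      calc uᵀ * G = uᵀ * G * (u * (1 - N)) := by rw [hinv, mul_one]
        _ = _ := by rw [← mul_assoc, hu]
    have hskew : (G * N)ᵀ = -(G * N) := by
      rw [Matrix.transpose_mul, hG, hN, Matrix.transpose_sub, Matrix.transpose_one, Matrix.sub_mul, Matrix.one_mul,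
        h1, ← hN, Matrix.mul_sub, Matrix.mul_one]
      abel
    have hrN : N.rank ≤ 1 := by
      have h3 := LinearMap.finrank_range_add_finrank_ker N.mulVecLin
      have hle : LinearMap.range N.mulVecLin ≤ LinearMap.ker N.mulVecLin := by
        rintro _ ⟨v, rfl⟩
        rw [LinearMap.mem_ker, Matrix.mulVecLin_apply, Matrix.mulVecLin_apply, Matrix.mulVec_mulVec, ← pow_two, hsq,
          Matrix.zero_mulVec]
      have h4 := Submodule.finrank_mono hle
      rw [Module.finrank_fin_fun] at h3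
      rw [Matrix.rank]
      omega
    have hzero : G * N = 0 := by
      ext i j
      have hij := congrFun (congrFun hskew i) j
      rw [Matrix.transpose_apply, Matrix.neg_apply] at hij
      have hdiag : ∀ k, (G * N) k k = 0 := fun k => by
        have hk := congrFun (congrFun hskew k) k
        rw [Matrix.transpose_apply, Matrix.neg_apply] at hk
        exact (mul_eq_zero.1 (show (2 : F) * (G * N) k k = 0 by linear_combination hk)).resolve_left h2
      have hdet : ((G * N).submatrix ![i, j] ![i, j]).det = 0 := by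
        by_contra hne
        have h5 := Matrix.rank_of_isUnit _ ((Matrix.isUnit_iff_isUnit_det _).2 (isUnit_iff_ne_zero.2 hne))
        have h6 := (Matrix.rank_submatrix_le (G * N) ![i, j] ![i, j]).trans
          ((Matrix.rank_mul_le_right G N).trans hrN)
        rw [h5, Fintype.card_fin] at h6
        omega
      rw [Matrix.det_fin_two] at hdet
      simp only [Matrix.submatrix_apply, Matrix.cons_val_zero, Matrix.cons_val_one, hdiag,
        zero_mul, zero_sub, neg_eq_zero, hij, mul_neg] at hdet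
      exact mul_self_eq_zero.1 hdet
    exact hN0 (hGu.mul_left_cancel (hzero.trans (mul_zero G).symm))
  obtain ⟨v, hv⟩ : ∃ v, N ^ 2 *ᵥ v ≠ 0 := by
    by_contra h0
    push Not at h0
    exact hN2 (Matrix.ext_iff_mulVec.2 fun x => by rw [h0, Matrix.zero_mulVec])
  have hann : ∀ P : F[X], aeval N P *ᵥ v = 0 → (X : F[X]) ^ 3 ∣ P := by
    have step : ∀ (i : ℕ) (s : F[X]), i < 3 → (N ^ i * aeval N s) *ᵥ v = 0 → X ∣ s := by
      intro i s hi h0
      obtain ⟨w, hw⟩ : (X : F[X]) ∣ s - C (s.coeff 0) := by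
        rw [X_dvd_iff, coeff_sub, coeff_C_zero, sub_self]
      have e : s = C (s.coeff 0) + X * w := by rw [← hw]; ring
      have h1 := congrArg (N ^ (2 - i) *ᵥ ·) h0
      simp only [Matrix.mulVec_mulVec, Matrix.mulVec_zero] at h1
      rw [← mul_assoc, ← pow_add, show 2 - i + i = 2 by omega, e, map_add, map_mul, aeval_X, aeval_C, mul_add,
        ← mul_assoc, ← pow_succ, hN3, zero_mul, add_zero, Algebra.algebraMap_eq_smul_one, mul_smul_comm, mul_one,
        Matrix.smul_mulVec] at h1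
      exact X_dvd_iff.2 ((smul_eq_zero.1 h1).resolve_right hv)
    intro P hP
    obtain ⟨P₁, rfl⟩ := step 0 P (by norm_num) (by rwa [pow_zero, one_mul])
    obtain ⟨P₂, rfl⟩ := step 1 P₁ (by norm_num) (by rw [pow_one]; rwa [map_mul, aeval_X] at hP)
    obtain ⟨P₃, rfl⟩ := step 2 P₂ (by norm_num) (by
      rwa [map_mul, map_mul, aeval_X, ← mul_assoc, ← pow_two] at hP)
    exact ⟨P₃, by ring⟩
  obtain ⟨P, hP⟩ := exists_aeval_of_cyclic (a := N) (u := h) (hc.sub_right (Commute.one_right h))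
    (Φ := X ^ 3) (natDegree_X_pow 3) hann
  obtain ⟨w, hw⟩ : (X : F[X]) ∣ P - C (P.coeff 0) := by rw [X_dvd_iff, coeff_sub, coeff_C_zero, sub_self]
  have h3 : (h - algebraMap F _ (P.coeff 0)) ^ 3 = 0 := by
    have := congrArg (aeval N) hw
    rw [map_sub, aeval_C, ← hP, map_mul, aeval_X] at this
    have hcN : Commute N (aeval N w) := by
      have := (Commute.all X w).map (aeval N)
      rwa [aeval_X] at this
    rw [this, hcN.mul_pow, hN3, zero_mul]
  have h9 : 3 ≤ p ^ 2 := by nlinarith [hp.two_le]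
  have hpow := pow_eq_zero_of_le h9 h3
  rw [sub_pow_char_pow_of_commute p 2 (Algebra.commute_algebraMap_right (P.coeff 0) h), sub_eq_zero,
    ← map_pow] at hpow
  have hcop : (p ^ 2).Coprime (2 ^ t) := by
    refine Nat.Coprime.pow _ _ ((Nat.coprime_primes hp Nat.prime_two).2 ?_)
    rintro rfl
    exact h2 (by exact_mod_cast (CharP.cast_eq_zero F 2))
  obtain ⟨b, hb⟩ : ∃ b : F, h = algebraMap F _ b := by
    rcases Nat.eq_zero_or_pos t with rfl | htpos
    · exact ⟨1, by rw [map_one]; simpa using ht⟩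
    obtain ⟨i, -, hi⟩ := Nat.exists_mul_mod_eq_one_of_coprime hcop (Nat.one_lt_two_pow htpos.ne')
    refine ⟨(P.coeff 0 ^ p ^ 2) ^ i, ?_⟩
    rw [map_pow, ← hpow, ← pow_mul, ← Nat.div_add_mod (p ^ 2 * i) (2 ^ t), hi, pow_add, pow_mul, ht, one_pow,
      one_mul, pow_one]
  rw [hb, Algebra.algebraMap_eq_smul_one, Matrix.transpose_smul, Matrix.transpose_one, smul_mul_assoc, one_mul,
    smul_mul_smul_comm, mul_one] at hh
  have hb2 : b * b = 1 := by
    refine smul_left_injective F hGu.ne_zero ?_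
    show (b * b) • G = (1 : F) • G
    rw [hh, one_smul]
  rcases mul_self_eq_one_iff.1 hb2 with e | e
  · exact Or.inl (by rw [hb, e, map_one])
  · exact Or.inr (by rw [hb, e, map_neg, map_one])

/-- A matrix whose characteristic polynomial is irreducible as a field. -/
theorem field_model {D : ℕ} {M : Matrix (Fin D) (Fin D) F} {f : F[X]} (hf : Irreducible f)
    (hdeg : f.natDegree = D) (hM : aeval M f = 0) :
    haveI := Fact.mk hf
    (∀ h : Matrix (Fin D) (Fin D) F, Commute h M → ∃ P : F[X], h = aeval M P) ∧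
      (∀ P R : F[X], aeval M P = aeval M R ↔ AdjoinRoot.mk f P = AdjoinRoot.mk f R) ∧
      ∀ P : F[X], (aeval M P).det = Algebra.norm F (AdjoinRoot.mk f P) := by
  classical
  haveI := Fact.mk hf
  have hD : 0 < D := hdeg ▸ hf.natDegree_pos
  haveI : Module.Finite F (AdjoinRoot f) := (AdjoinRoot.powerBasis hf.ne_zero).finite
  have hw : (Pi.single ⟨0, hD⟩ 1 : Fin D → F) ≠ 0 := fun h0 => by simpa using congrFun h0 ⟨0, hD⟩
  have hann : aeval (Matrix.toLin' M) f (Pi.single ⟨0, hD⟩ 1) = 0 := by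
    rw [show Matrix.toLin' M = Matrix.toLinAlgEquiv' M from rfl, aeval_algHom_apply, hM, map_zero,
      LinearMap.zero_apply]
  obtain ⟨e₀, he₀, hroot⟩ := Semisimple.exists_cyclic (Matrix.toLin' M) (q := f) hw hann
  have hfr : Module.finrank F (AdjoinRoot f) = Module.finrank F (Fin D → F) := by
    rw [(AdjoinRoot.powerBasis hf.ne_zero).finrank, AdjoinRoot.powerBasis_dim, Module.finrank_fin_fun, hdeg]
  let e : AdjoinRoot f ≃ₗ[F] (Fin D → F) := LinearEquiv.ofBijective e₀
    ⟨he₀, (LinearMap.injective_iff_surjective_of_finrank_eq_finrank hfr).1 he₀⟩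
  have key : ∀ (P : F[X]) x, aeval M P *ᵥ e x = e (AdjoinRoot.mk f P * x) := by
    intro P
    induction P using Polynomial.induction_on with
    | C c =>
      intro x
      rw [aeval_C, Algebra.algebraMap_eq_smul_one, Matrix.smul_mulVec, Matrix.one_mulVec, AdjoinRoot.mk_C,
        ← map_smul, Algebra.smul_def, AdjoinRoot.algebraMap_eq]
    | add a b ha hb => intro x; rw [map_add, map_add, Matrix.add_mulVec, ha, hb, ← map_add, add_mul]
    | monomial k c ih =>
      intro x
      have hx : M *ᵥ e x = e (AdjoinRoot.root f * x) := by rw [← Matrix.toLin'_apply]; exact hroot x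
      rw [show C c * X ^ (k + 1) = C c * X ^ k * X by ring, map_mul, aeval_X, ← Matrix.mulVec_mulVec, hx, ih,
        map_mul (AdjoinRoot.mk f) _ X, AdjoinRoot.mk_X, mul_assoc]
  refine ⟨fun h hc => ?_, fun P R => ⟨fun hPR => ?_, fun hPR => ?_⟩, fun P => ?_⟩
  · refine exists_aeval_of_cyclic (a := M) hc hdeg (v := e 1) fun q hq => ?_
    rw [key, mul_one, e.map_eq_zero_iff, AdjoinRoot.mk_eq_zero] at hq
    exact hq
  · have h1 := congrArg (· *ᵥ e 1) hPR
    simp only [key, mul_one] at h1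
    exact e.injective h1
  · refine Matrix.ext_iff_mulVec.2 fun x => ?_
    obtain ⟨y, rfl⟩ := e.surjective x
    rw [key, key, hPR]
  · rw [Algebra.norm_apply, ← LinearMap.det_toLin',
      show Matrix.toLin' (aeval M P) = (e : AdjoinRoot f →ₗ[F] (Fin D → F)) ∘ₗ
        (Algebra.lmul F (AdjoinRoot f) (AdjoinRoot.mk f P)) ∘ₗ (e.symm : (Fin D → F) →ₗ[F] AdjoinRoot f) from ?_,
      LinearMap.det_conj]
    refine LinearMap.ext fun x => ?_
    obtain ⟨y, rfl⟩ := e.surjective x
    rw [Matrix.toLin'_apply, key]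
    simp

/-- Two elements of the norm-one torus with different half powers give a non-square norm. -/
theorem not_square_norm {K : Type u} [Field K] [Algebra F K] [Finite K] (h2 : (2 : F) ≠ 0) {s j : ℕ}
    (hK : Nat.card K = Fintype.card F ^ (2 * s)) (hs : 0 < s) (hq : Odd (Fintype.card F))
    (hj : Fintype.card F ^ s + 1 = 2 * j) {α χ : K} (hα : α ^ j = 1) (hα1 : α ≠ 1) (hχ : χ ^ j = -1)
    (hχ1 : χ ≠ 1) : ¬ IsSquare (Algebra.norm F (1 - α) * Algebra.norm F (1 - χ)) := by
  classical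
  set Q := Fintype.card F ^ s with hQ
  have hQ1 : 1 ≤ Q := Nat.one_le_pow _ _ Fintype.card_pos
  haveI : Module.Finite F K := Module.Finite.of_finite
  set σ := (FiniteField.frobeniusAlgEquivOfAlgebraic F K) ^ s with hσdef
  have hσ : ∀ x, σ x = x ^ Q := fun x => by
    rw [hσdef, AlgEquiv.coe_pow, FiniteField.coe_frobeniusAlgEquivOfAlgebraic, pow_iterate]
  have base : ∀ x : K, x ^ (Q + 1) = 1 → x ≠ 1 → (1 - x) ^ ((Q - 1) * j) * x ^ j = (-1) ^ j := by
    intro x hx hx1
    rw [pow_mul, ← mul_pow]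
    congr 1
    refine mul_right_cancel₀ (sub_ne_zero.2 (Ne.symm hx1)) ?_
    have h1 : (1 - x) ^ Q = 1 - x ^ Q := by rw [← hσ, map_sub, map_one, hσ]
    have h3 : x ^ Q * x = 1 := by rw [← pow_succ, hx]
    calc (1 - x) ^ (Q - 1) * x * (1 - x) = (1 - x) ^ (Q - 1 + 1) * x := by rw [pow_succ]; ring
      _ = _ := by rw [Nat.sub_add_cancel hQ1, h1]; linear_combination -h3
  have hQ2 : Fintype.card F ^ (2 * s) - 1 = (Q + 1) * (Q - 1) := by
    rw [mul_comm 2 s, pow_mul]; simpa using Nat.sq_sub_sq Q 1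
  obtain ⟨m, hm⟩ : Fintype.card F - 1 ∣ Fintype.card F ^ (2 * s) - 1 := by
    simpa using Nat.sub_dvd_pow_sub_pow (Fintype.card F) 1 (2 * s)
  obtain ⟨i, hi⟩ := hq
  have hq1 := Fintype.one_lt_card (α := F)
  have hhalf : (Q - 1) * j = m * i := by
    refine Nat.eq_of_mul_eq_mul_left two_pos ?_
    calc 2 * ((Q - 1) * j) = (Q + 1) * (Q - 1) := by rw [hj]; ring
      _ = (Fintype.card F - 1) * m := by rw [← hQ2, hm]
      _ = 2 * (m * i) := by rw [hi, Nat.add_sub_cancel]; ring
  have hαQ : α ^ (Q + 1) = 1 := by rw [hj, mul_comm, pow_mul, hα, one_pow]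
  have hχQ : χ ^ (Q + 1) = 1 := by rw [hj, mul_comm, pow_mul, hχ, neg_one_sq]
  rintro ⟨c, hc⟩
  have hy : (1 - α) * (1 - χ) ≠ 0 :=
    mul_ne_zero (sub_ne_zero.2 (Ne.symm hα1)) (sub_ne_zero.2 (Ne.symm hχ1))
  rw [← map_mul] at hc
  have hc0 : c ≠ 0 := fun h0 => by
    rw [h0, mul_zero, Algebra.norm_eq_zero_iff] at hc
    exact hy hc
  have hN := FiniteField.algebraMap_norm_eq_pow (K := F) (x := (1 - α) * (1 - χ))
  rw [hc, hK, Nat.card_eq_fintype_card, hm, Nat.mul_div_cancel_left _ (by omega)] at hN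
  have hy1 : ((1 - α) * (1 - χ)) ^ ((Q - 1) * j) = 1 := by
    rw [hhalf, pow_mul, ← hN, ← map_pow, ← pow_two, ← pow_mul, show 2 * i = Fintype.card F - 1 by omega,
      FiniteField.pow_card_sub_one_eq_one c hc0, map_one]
  have e1 := base α hαQ hα1
  have e2 := base χ hχQ hχ1
  rw [hα, mul_one] at e1
  rw [hχ] at e2
  rw [mul_pow, e1] at hy1
  have h4 : (2 : K) = 0 := by
    have hsq : ((-1 : K) ^ j) * (-1) ^ j = 1 := by rw [← mul_pow, neg_one_mul, neg_neg, one_pow]
    linear_combination -hsq - hy1 - ((-1 : K) ^ j) * e2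
  exact h2 ((algebraMap F K).injective (by rw [map_zero, map_ofNat]; exact h4))

set_option maxHeartbeats 2000000 in
/-- The order `2^t p r` does not occur in `Ω (2n+1)`. -/
theorem not_mem_range (p : ℕ) [Fact p.Prime] [CharP F p] (hq : Odd (Fintype.card F)) (h2 : (2 : F) ≠ 0) {n : ℕ}
    (hn : 3 ≤ n) {r : ℕ} (hr : r.Prime) (hr2 : r ≠ 2) (hrp : r ≠ p) (hord : ordQ F r = 2 * (n - 1)) {t o : ℕ}
    (ho : Odd o) (hto : Fintype.card F ^ (n - 1) + 1 = 2 ^ t * o) :
    2 ^ t * (p * r) ∉ Set.range (orderOf : Cfsg.POmega F (Cfsg.quadFormOdd n F) → ℕ) := by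
  classical
  have hp := (Fact.out : p.Prime)
  have hp2 : p ≠ 2 := by
    rintro rfl
    exact h2 (by exact_mod_cast (CharP.cast_eq_zero F 2))
  have ht : 0 < t := by
    by_contra h0
    rw [Nat.eq_zero_of_not_pos h0, pow_zero, one_mul] at hto
    exact (Nat.not_even_iff_odd.2 ho) (hto ▸ (hq.pow : Odd _).add_one)
  intro hmem
  rw [mem_range_pOmega_iff h2 hn (S := (1 : Matrix (Fin (2 * n + 1)) (Fin (2 * n + 1)) F)) Matrix.transpose_one
    isUnit_one] at hmem
  obtain ⟨g, hg, hgo⟩ := hmem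
  set M := orthMat _ g with hM
  have hiso : ∀ k, (M ^ k)ᵀ * 1 * M ^ k = 1 := fun k => by
    rw [hM, ← map_pow]; exact orthMat_isometry h2 Matrix.transpose_one _
  have hone : ∀ k, M ^ k = 1 ↔ 2 ^ t * (p * r) ∣ k := fun k => by rw [hM, orthMat_pow_eq_one, hgo]
  have hrF : (r : F) ≠ 0 := natCast_ne_zero p hr hrp
  set a := M ^ (2 ^ t * p) with ha
  have har : a ^ r = 1 := by rw [ha, ← pow_mul, hone, mul_assoc]
  -- the fixed space of `a`
  set E := (r : F)⁻¹ • ∑ i ∈ Finset.range r, a ^ i with hEdef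
  have haS : a * ∑ i ∈ Finset.range r, a ^ i = ∑ i ∈ Finset.range r, a ^ i := by
    have h0 := mul_geom_sum a r
    rwa [har, sub_self, sub_mul, one_mul, sub_eq_zero] at h0
  have haE : a * E = E := by rw [hEdef, mul_smul_comm, haS]
  have hpowE : ∀ i, a ^ i * E = E := fun i => by
    induction i with
    | zero => rw [pow_zero, one_mul]
    | succ i ih => rw [pow_succ, mul_assoc, haE, ih]
  have hEE : E * E = E := by
    conv_lhs => arg 1; rw [hEdef]
    rw [smul_mul_assoc, Finset.sum_mul, Finset.sum_congr rfl (fun i _ => hpowE i), Finset.sum_const,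
      Finset.card_range, ← Nat.cast_smul_eq_nsmul F, smul_smul, inv_mul_cancel₀ hrF, one_smul]
  have haT : aᵀ * E = E := by
    conv_lhs => rw [← haE]
    rw [← mul_assoc, show aᵀ * a = 1 by simpa [ha] using hiso (2 ^ t * p), one_mul]
  have hET : Eᵀ = E := by
    have hpowT : ∀ i, (a ^ i)ᵀ * E = E := fun i => by
      induction i with
      | zero => rw [pow_zero, Matrix.transpose_one, one_mul]
      | succ i ih => rw [pow_succ', Matrix.transpose_mul, mul_assoc, haT, ih]
    have h1 : Eᵀ * E = E := by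
      conv_lhs => arg 1; rw [hEdef]
      rw [Matrix.transpose_smul, Matrix.transpose_sum, smul_mul_assoc, Finset.sum_mul,
        Finset.sum_congr rfl (fun i _ => hpowT i), Finset.sum_const, Finset.card_range,
        ← Nat.cast_smul_eq_nsmul F, smul_smul, inv_mul_cancel₀ hrF, one_smul]
    have h3 := congrArg Matrix.transpose h1
    rw [Matrix.transpose_mul, Matrix.transpose_transpose, h1] at h3
    exact h3.symm
  set E' := 1 - E with hE'def
  have hME : Commute M E :=
    (Commute.sum_right _ _ _ fun i _ => (Commute.self_pow M _).pow_right i).smul_right _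
  have hME' : Commute M E' := (Commute.one_right M).sub_right hME
  have hE'E' : E' * E' = E' := by rw [hE'def, sub_mul, mul_sub, mul_sub, one_mul, one_mul, mul_one, hEE]; abel
  have hE'T : E'ᵀ = E' := by rw [hE'def, Matrix.transpose_sub, Matrix.transpose_one, hET]
  have hiso1 : Mᵀ * 1 * M = 1 := by simpa using hiso 1
  obtain ⟨d, R, L, B, hLR, hRL, -, hG, hB, hpow⟩ :=
    exists_restrict isUnit_one hEE (by rw [hET, mul_one, one_mul]) hME hiso1
  obtain ⟨d', R', L', B', hLR', hRL', -, hG', hB', hpow'⟩ :=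
    exists_restrict isUnit_one hE'E' (by rw [hE'T, mul_one, one_mul]) hME' hiso1
  have hEE' : E * E' = 0 := by rw [hE'def, mul_sub, mul_one, hEE, sub_self]
  have hE'E : E' * E = 0 := by rw [hE'def, sub_mul, one_mul, hEE, sub_self]
  have hdim := dim_add hLR hLR' (by rw [hRL, hRL', hE'def]; abel) (by rw [hRL, hRL', hEE']) (by rw [hRL, hRL', hE'E])
  have hER : E * R = R := by rw [← hRL, Matrix.mul_assoc, hLR, Matrix.mul_one]
  have hER' : E * R' = 0 := by
    have : E' * R' = R' := by rw [← hRL', Matrix.mul_assoc, hLR', Matrix.mul_one]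
    rw [← this, ← Matrix.mul_assoc, hEE', Matrix.zero_mul]
  have hcanR : ∀ {X Y : Matrix (Fin d) (Fin d) F}, R * X = R * Y → X = Y := fun {X Y} e => by
    rw [← Matrix.one_mul X, ← hLR, Matrix.mul_assoc, e, ← Matrix.mul_assoc, hLR, Matrix.one_mul]
  have hcanR' : ∀ {X Y : Matrix (Fin d') (Fin d') F}, R' * X = R' * Y → X = Y := fun {X Y} e => by
    rw [← Matrix.one_mul X, ← hLR', Matrix.mul_assoc, e, ← Matrix.mul_assoc, hLR', Matrix.one_mul]
  have hglobal : ∀ k, B ^ k = 1 → B' ^ k = 1 → 2 ^ t * (p * r) ∣ k := fun k h1 h1' => by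
    refine (hone k).1 ?_
    rw [← Matrix.mul_one (M ^ k), show (1 : Matrix (Fin (2 * n + 1)) (Fin (2 * n + 1)) F) = E + E' by
      rw [hE'def]; abel, Matrix.mul_add, ← hRL, ← hRL', ← Matrix.mul_assoc, ← Matrix.mul_assoc, ← hpow, ← hpow',
      h1, h1', Matrix.mul_one, Matrix.mul_one]
  have hMR : ∀ k, M ^ k = 1 → B ^ k = 1 ∧ B' ^ k = 1 := fun k hk =>
    ⟨pow_restrict_eq_one hLR hpow hk, pow_restrict_eq_one hLR' hpow' hk⟩
  have hBa : B ^ (2 ^ t * p) = 1 := hcanR (by
    rw [hpow, Matrix.mul_one, ← ha]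
    conv_lhs => rw [← hER, ← Matrix.mul_assoc, haE]
    exact hER)
  set a' := B' ^ (2 ^ t * p) with ha'
  have ha'r : a' ^ r = 1 := by
    rw [ha', ← pow_mul]; exact (hMR _ ((hone _).2 (by rw [mul_assoc]))).2
  have hfix : ∀ v, a' *ᵥ v = v → v = 0 := fun v hv => by
    have h1 : a *ᵥ (R' *ᵥ v) = R' *ᵥ v := by
      rw [Matrix.mulVec_mulVec, ha, ← hpow', ← Matrix.mulVec_mulVec, ← ha', hv]
    have hi : ∀ i, a ^ i *ᵥ (R' *ᵥ v) = R' *ᵥ v := fun i => by
      induction i with
      | zero => rw [pow_zero, Matrix.one_mulVec]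
      | succ i ih => rw [pow_succ, ← Matrix.mulVec_mulVec, h1, ih]
    have h3 : E *ᵥ (R' *ᵥ v) = R' *ᵥ v := by
      rw [hEdef, Matrix.smul_mulVec, Matrix.sum_mulVec, Finset.sum_congr rfl (fun i _ => hi i), Finset.sum_const,
        Finset.card_range, ← Nat.cast_smul_eq_nsmul F, smul_smul, inv_mul_cancel₀ hrF, one_smul]
    rw [Matrix.mulVec_mulVec, hER', Matrix.zero_mulVec] at h3
    have h4 := congrArg (L' *ᵥ ·) h3
    simp only [Matrix.mulVec_zero, Matrix.mulVec_mulVec, hLR', Matrix.one_mulVec] at h4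
    exact h4.symm
  have hd'0 : 0 < d' := Nat.pos_of_ne_zero fun h0 => by
    subst h0
    have h := hglobal (2 ^ t * p) hBa (Subsingleton.elim _ _)
    have h' := Nat.le_of_dvd (Nat.mul_pos (by positivity) hp.pos) h
    nlinarith [hr.two_le, Nat.mul_pos (show 0 < 2 ^ t by positivity) hp.pos]
  -- the characteristic polynomial on the moved space is irreducible
  have hfac : ∀ f : F[X], Irreducible f → f ∣ a'.charpoly → 2 * (n - 1) ∣ f.natDegree := by
    intro f hf hfd
    have h1 := Semisimple.dvd_minpoly_of_dvd_charpoly (Matrix.toLin' a') hf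
      (by rwa [Matrix.charpoly_toLin'])
    have h3 : f ∣ X ^ (r * 1) - 1 := h1.trans (minpoly.dvd F _ (by
      rw [show Matrix.toLin' a' = Matrix.toLinAlgEquiv' a' from rfl, aeval_algHom_apply, map_sub, map_pow, aeval_X,
        map_one, mul_one, ha'r, sub_self, map_zero]))
    have h4 : ¬ f ∣ X ^ 1 - 1 := fun hd => by
      obtain ⟨v, hv, hv'⟩ := Semisimple.exists_ker_of_dvd_minpoly (Matrix.toLin' a') hf h1
      obtain ⟨c, hc⟩ := hd
      refine hv (hfix v (sub_eq_zero.1 ?_))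
      have h5 : aeval (Matrix.toLin' a') (X ^ 1 - 1 : F[X]) v = 0 := by
        rw [hc, mul_comm, map_mul, Module.End.mul_apply, hv', map_zero]
      simpa using h5
    exact hord ▸ ordQ_dvd_natDegree hr hf h3 h4
  have hch : a'.charpoly.natDegree = d' := by rw [Matrix.charpoly_natDegree_eq_dim, Fintype.card_fin]
  obtain ⟨f, hfm, hf, hfd⟩ := Polynomial.exists_monic_irreducible_factor a'.charpoly
    (fun hu => by have := natDegree_eq_zero_of_isUnit hu; omega)
  obtain ⟨c, hc⟩ := hfd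
  have hc0 : c ≠ 0 := fun h0 => (Matrix.charpoly_monic a').ne_zero (by rw [hc, h0, mul_zero])
  have hdeg : f.natDegree + c.natDegree = d' := by rw [← natDegree_mul hf.ne_zero hc0, ← hc, hch]
  have hfdeg : f.natDegree = 2 * (n - 1) := by
    obtain ⟨k, hk⟩ := hfac f hf ⟨c, hc⟩
    have hle : f.natDegree ≤ 2 * n + 1 := by omega
    match k, hk with
    | 0, hk => exact absurd hk (by have := hf.natDegree_pos; omega)
    | 1, hk => rw [hk, mul_one]
    | k + 2, hk =>
      have := Nat.mul_le_mul_left (2 * (n - 1)) (show 2 ≤ k + 2 by omega)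
      omega
  have hcdeg : c.natDegree = 0 := by
    by_contra h0
    obtain ⟨f₁, -, hf₁, hf₁c⟩ := Polynomial.exists_monic_irreducible_factor c
      (fun hu => h0 (natDegree_eq_zero_of_isUnit hu))
    have h5 := Nat.le_of_dvd hf₁.natDegree_pos (hfac f₁ hf₁ (hc ▸ hf₁c.mul_left f))
    have h6 := natDegree_le_of_dvd hf₁c hc0
    omega
  have hd' : d' = 2 * (n - 1) := by omega
  have hd : d = 3 := by omega
  subst hd
  have hchar : a'.charpoly = f := (eq_of_monic_of_dvd_of_natDegree_le hfm (Matrix.charpoly_monic a') ⟨c, hc⟩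
    (by rw [hch]; omega))
  haveI := Fact.mk hf
  haveI : Module.Finite F (AdjoinRoot f) := (AdjoinRoot.powerBasis hf.ne_zero).finite
  haveI : Finite (AdjoinRoot f) := Module.finite_of_finite F
  obtain ⟨hpoly, hinj, hdet⟩ := field_model hf (hfdeg.trans hd'.symm)
    (show aeval a' f = 0 from hchar ▸ Matrix.aeval_self_charpoly a')
  haveI : CharP (AdjoinRoot f) p := charP_of_injective_algebraMap (algebraMap F (AdjoinRoot f)).injective p
  -- the unipotent part dies on the moved space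
  have hu' : B' ^ (2 ^ t * r) = 1 := by
    obtain ⟨P, hP⟩ := hpoly (B' ^ (2 ^ t * r)) (Commute.pow_pow_self B' _ _)
    have h1 : AdjoinRoot.mk f P ^ p = 1 := by
      rw [← map_pow, ← map_one (AdjoinRoot.mk f), ← hinj, map_pow, ← hP, map_one, ← pow_mul]
      exact (hMR _ ((hone _).2 ⟨1, by ring⟩)).2
    have h3 : AdjoinRoot.mk f P = 1 := frobenius_inj _ p (by simp only [frobenius_def]; rw [h1, one_pow])
    rw [hP, ← map_one (aeval (R := F) a'), hinj, h3, map_one]
  have hu1 : B ^ (2 ^ t * r) ≠ 1 := fun h0 => by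
    have h := Nat.le_of_dvd (Nat.mul_pos (by positivity) hr.pos) (hglobal _ h0 hu')
    nlinarith [hp.two_le, Nat.mul_pos (show 0 < 2 ^ t by positivity) hr.pos]
  have hisoB : ∀ k, (B ^ k)ᵀ * (Rᵀ * (1 : Matrix (Fin (2 * n + 1)) (Fin (2 * n + 1)) F) * R) * B ^ k = Rᵀ * (1 : Matrix (Fin (2 * n + 1)) (Fin (2 * n + 1)) F) * R := fun k => by
    induction k with
    | zero => rw [pow_zero, Matrix.transpose_one, one_mul, mul_one]
    | succ k ih =>
      rw [pow_succ, Matrix.transpose_mul]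
      calc Bᵀ * (B ^ k)ᵀ * (Rᵀ * (1 : Matrix (Fin (2 * n + 1)) (Fin (2 * n + 1)) F) * R) * (B ^ k * B) = Bᵀ * ((B ^ k)ᵀ * (Rᵀ * (1 : Matrix (Fin (2 * n + 1)) (Fin (2 * n + 1)) F) * R) * B ^ k) * B := by
            simp only [mul_assoc]
        _ = _ := by rw [ih, hB]
  obtain ⟨P, hP⟩ := hpoly (B' ^ (p * r)) (Commute.pow_pow_self B' _ _)
  set χ := AdjoinRoot.mk f P with hχ
  have hkillh : ∀ k, B ^ k = 1 → 1 - M ^ k = (1 - M ^ k) * (R' * L') := fun k hk => by
    rw [hRL', hE'def, Matrix.mul_sub, Matrix.mul_one, eq_comm, sub_eq_self, Matrix.sub_mul, Matrix.one_mul, ← hRL,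
      ← Matrix.mul_assoc, ← hpow, hk, Matrix.mul_one, sub_self]
  have hN2 : 2 ≤ 2 * n + 1 := by omega
  have hG'0 : (R'ᵀ * (1 : Matrix (Fin (2 * n + 1)) (Fin (2 * n + 1)) F) * R').det ≠ 0 := ((Matrix.isUnit_iff_isUnit_det _).1 hG').ne_zero
  rcases sign_of_commute_unipotent p h2 (G := Rᵀ * (1 : Matrix (Fin (2 * n + 1)) (Fin (2 * n + 1)) F) * R)
      (by simp [Matrix.transpose_mul]) hG (hisoB (p * r)) (hisoB (2 ^ t * r))
      (Commute.pow_pow_self B _ _) (by rw [← pow_mul]; exact (hMR _ ((hone _).2 ⟨1, by ring⟩)).1) hu1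
      (t := t) (by rw [← pow_mul]; exact (hMR _ ((hone _).2 ⟨1, by ring⟩)).1) with hh1 | hh1
  · -- both torus elements would have square spinor norms
    have hχ2 : χ ^ (2 ^ (t - 1)) = -1 := by
      have hne : χ ^ (2 ^ (t - 1)) ≠ 1 := fun h0 => by
        rw [hχ, ← map_pow, ← map_one (AdjoinRoot.mk f), ← hinj, map_pow, ← hP, map_one, ← pow_mul] at h0
        have h := Nat.le_of_dvd (Nat.mul_pos (Nat.mul_pos hp.pos hr.pos) (by positivity))
          (hglobal _ (by rw [pow_mul, hh1, one_pow]) h0)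
        rw [show 2 ^ t = 2 ^ (t - 1) * 2 by rw [← pow_succ, Nat.sub_add_cancel ht]] at h
        nlinarith [Nat.mul_pos (Nat.mul_pos hp.pos hr.pos) (show 0 < 2 ^ (t - 1) by positivity)]
      refine (sq_eq_one_iff.1 ?_).resolve_left hne
      rw [← pow_mul, ← pow_succ, Nat.sub_add_cancel ht, hχ, ← map_pow, ← map_one (AdjoinRoot.mk f), ← hinj,
        map_pow, ← hP, map_one, ← pow_mul]
      exact (hMR _ ((hone _).2 ⟨1, by ring⟩)).2
    have hj : Fintype.card F ^ (n - 1) + 1 = 2 * (2 ^ (t - 1) * o) := by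
      rw [hto, ← mul_assoc, ← pow_succ', Nat.sub_add_cancel ht]
    have hneg : (-1 : AdjoinRoot f) ≠ 1 := fun e => h2 ((algebraMap F (AdjoinRoot f)).injective (by
      rw [map_zero, map_ofNat]; linear_combination -e))
    have hχj : χ ^ (2 ^ (t - 1) * o) = -1 := by rw [pow_mul, hχ2, ho.neg_one_pow]
    have hχ1 : χ ≠ 1 := fun e => hneg (by rw [← hχ2, e, one_pow])
    have hαroot : AdjoinRoot.root f ^ r = 1 := by
      rw [← AdjoinRoot.mk_X, ← map_pow, ← map_one (AdjoinRoot.mk f), ← hinj, map_pow, aeval_X, map_one, ha'r]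
    have hα1 : AdjoinRoot.root f ≠ 1 := fun e => by
      rw [← AdjoinRoot.mk_X, ← map_one (AdjoinRoot.mk f), ← hinj, aeval_X, map_one] at e
      have := hfix (Pi.single ⟨0, hd'0⟩ 1) (by rw [e, Matrix.one_mulVec])
      simpa using congrFun this ⟨0, hd'0⟩
    have hrj : r ∣ 2 ^ (t - 1) * o := by
      refine ((Nat.coprime_primes hr Nat.prime_two).2 hr2).dvd_of_dvd_mul_left (hj ▸ ?_)
      have h1 : r ∣ (Fintype.card F ^ (n - 1) + 1) * (Fintype.card F ^ (n - 1) - 1) := by
        rw [show (Fintype.card F ^ (n - 1) + 1) * (Fintype.card F ^ (n - 1) - 1)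
          = Fintype.card F ^ (2 * (n - 1)) - 1 by
            rw [mul_comm 2, pow_mul]; simpa using (Nat.sq_sub_sq (Fintype.card F ^ (n - 1)) 1).symm]
        exact (dvd_pow_sub_one_iff _).2 (hord ▸ dvd_rfl)
      refine (hr.dvd_mul.1 h1).resolve_right fun hd => ?_
      have := Nat.le_of_dvd (by omega) (hord ▸ (dvd_pow_sub_one_iff _).1 hd)
      omega
    have hαj : AdjoinRoot.root f ^ (2 ^ (t - 1) * o) = 1 := by
      obtain ⟨k, hk⟩ := hrj
      rw [hk, pow_mul, hαroot, one_pow]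
    have hdA : (1 - a').det = Algebra.norm F (1 - AdjoinRoot.root f) := by
      rw [← AdjoinRoot.mk_X, ← map_one (AdjoinRoot.mk f), ← map_sub, ← hdet, map_sub, aeval_X, map_one]
    have hdH : (1 - B' ^ (p * r)).det = Algebra.norm F (1 - χ) := by
      rw [hχ, ← map_one (AdjoinRoot.mk f), ← map_sub, ← hdet, map_sub, ← hP, map_one]
    have hnA : Algebra.norm F (1 - AdjoinRoot.root f) ≠ 0 :=
      Algebra.norm_ne_zero_iff.2 (sub_ne_zero.2 (Ne.symm hα1))
    have hnH : Algebra.norm F (1 - χ) ≠ 0 := Algebra.norm_ne_zero_iff.2 (sub_ne_zero.2 (Ne.symm hχ1))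
    obtain ⟨hsA, -⟩ := square_of_restrict h2 Matrix.transpose_one isUnit_one hN2 (g := g ^ (2 ^ t * p))
      (pow_mem hg _) hLR' (B := a') (by rw [map_pow, ← hM, ha', hpow'])
      (by rw [map_pow, ← hM]; exact hkillh _ hBa) (by rw [hdA]; exact hnA)
    obtain ⟨hsH, -⟩ := square_of_restrict h2 Matrix.transpose_one isUnit_one hN2 (g := g ^ (p * r))
      (pow_mem hg _) hLR' (B := B' ^ (p * r)) (by rw [map_pow, ← hM, hpow'])
      (by rw [map_pow, ← hM]; exact hkillh _ hh1) (by rw [hdH]; exact hnH)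
    rw [hdA] at hsA
    rw [hdH] at hsH
    refine not_square_norm h2 (s := n - 1) ?_ (by omega) hq hj hαj hα1 hχj hχ1 ?_
    · rw [CfsgLib.KnownB.ElementOrders.card_adjoinRoot hf.ne_zero, hfdeg]
    · obtain ⟨x, hx⟩ := hsA
      obtain ⟨y, hy⟩ := hsH
      refine ⟨x * y / (R'ᵀ * (1 : Matrix (Fin (2 * n + 1)) (Fin (2 * n + 1)) F) * R').det, ?_⟩
      field_simp
      linear_combination (R'ᵀ * (1 : Matrix (Fin (2 * n + 1)) (Fin (2 * n + 1)) F) * R').det * Algebra.norm F (1 - χ) * hx + x * x * hy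
  · -- an odd moved space
    by_cases hχ1 : B' ^ (p * r) = 1
    · have hdet3 : (1 - (-1 : Matrix (Fin 3) (Fin 3) F)).det ≠ 0 := by
        rw [show (1 - (-1 : Matrix (Fin 3) (Fin 3) F)) = (2 : F) • 1 by rw [sub_neg_eq_add, two_smul],
          Matrix.det_smul, Matrix.det_one, mul_one, Fintype.card_fin]
        exact pow_ne_zero _ h2
      obtain ⟨-, he⟩ := square_of_restrict h2 Matrix.transpose_one isUnit_one hN2 (g := g ^ (p * r))
        (pow_mem hg _) hLR (B := -1) (by rw [map_pow, ← hM, ← hpow, hh1])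
        (by
          rw [map_pow, ← hM, hRL, eq_comm, show E = 1 - E' by rw [hE'def]; abel, Matrix.mul_sub, Matrix.mul_one,
            sub_eq_self, Matrix.sub_mul, Matrix.one_mul, ← hRL', ← Matrix.mul_assoc, ← hpow', hχ1, Matrix.mul_one,
            sub_self]) hdet3
      exact absurd he (by decide)
    · have hdetM : (1 - M ^ (p * r)).det ≠ 0 := by
        intro h0
        obtain ⟨v, hv, hv'⟩ := Matrix.exists_mulVec_eq_zero_iff.2 h0
        rw [Matrix.sub_mulVec, Matrix.one_mulVec, sub_eq_zero] at hv'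
        have hEv : ∀ {d₀ : ℕ} {R₀ : Matrix (Fin (2 * n + 1)) (Fin d₀) F} {L₀ : Matrix (Fin d₀) (Fin (2 * n + 1)) F}
            {B₀ : Matrix (Fin d₀) (Fin d₀) F}, L₀ * R₀ = 1 → Commute M (R₀ * L₀) →
            (R₀ * B₀ ^ (p * r) = M ^ (p * r) * R₀) → B₀ ^ (p * r) *ᵥ (L₀ *ᵥ v) = L₀ *ᵥ v := by
          intro d₀ R₀ L₀ B₀ h1 h3 h4
          have h5 := congrArg ((R₀ * L₀) *ᵥ ·) hv'
          simp only [Matrix.mulVec_mulVec] at h5
          rw [← (h3.pow_left _).eq, ← Matrix.mul_assoc, ← h4] at h5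
          have h6 := congrArg (L₀ *ᵥ ·) h5
          simp only [Matrix.mulVec_mulVec, ← Matrix.mul_assoc, h1, Matrix.one_mul] at h6
          rw [Matrix.mulVec_mulVec]; exact h6.symm
        have e1 := hEv hLR (hRL ▸ hME) (hpow _)
        rw [hh1, Matrix.neg_mulVec, Matrix.one_mulVec] at e1
        have l1 : L *ᵥ v = 0 := by
          funext i
          have := congrFun e1 i
          simp only [Pi.neg_apply] at this
          exact (mul_eq_zero.1 (show (2 : F) * (L *ᵥ v) i = 0 by linear_combination -this)).resolve_left h2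
        have e2 := hEv hLR' (hRL' ▸ hME') (hpow' _)
        have l2 : L' *ᵥ v = 0 := by
          by_contra hne
          refine hχ1 ?_
          obtain ⟨R₁, hR₁⟩ : ∃ R₁ : F[X], R₁ = P - 1 := ⟨_, rfl⟩
          by_contra hne1
          have hR0 : AdjoinRoot.mk f R₁ ≠ 0 := fun h00 => hne1 (by
            rw [hP, ← map_one (aeval (R := F) a'), hinj]
            rwa [hR₁, map_sub, sub_eq_zero] at h00)
          have hdne : (aeval a' R₁).det ≠ 0 := by rw [hdet]; exact Algebra.norm_ne_zero_iff.2 hR0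
          refine hne (Matrix.eq_zero_of_mulVec_eq_zero hdne ?_)
          rw [hR₁, map_sub, map_one, ← hP, Matrix.sub_mulVec, Matrix.one_mulVec, e2, sub_self]
        refine hv ?_
        rw [← Matrix.one_mulVec v, show (1 : Matrix (Fin (2 * n + 1)) (Fin (2 * n + 1)) F) = E + E' by
          rw [hE'def]; abel, Matrix.add_mulVec, ← hRL, ← hRL', ← Matrix.mulVec_mulVec, ← Matrix.mulVec_mulVec,
          l1, l2, Matrix.mulVec_zero, Matrix.mulVec_zero, add_zero]
      obtain ⟨-, he⟩ := square_of_restrict h2 Matrix.transpose_one isUnit_one hN2 (g := g ^ (p * r))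
        (pow_mem hg _) (R := 1) (L := 1) (B := M ^ (p * r)) (Matrix.one_mul 1)
        (by rw [map_pow, ← hM, Matrix.mul_one, Matrix.one_mul])
        (by rw [map_pow, ← hM, Matrix.one_mul, Matrix.mul_one]) hdetM
      exact Nat.not_even_two_mul_add_one n he

/-- The order `2^t p r` occurs in `PSp 2n`. -/
theorem mem_range (p : ℕ) [Fact p.Prime] [CharP F p] (h2 : (2 : F) ≠ 0) {n : ℕ} (hn : 2 ≤ n) {r : ℕ} (hr : r.Prime)
    (hr2 : r ≠ 2) (hrp : r ≠ p) {t : ℕ} (h2t : 2 ^ t ∣ Fintype.card F ^ (n - 1) + 1)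
    (hrt : r ∣ Fintype.card F ^ (n - 1) + 1) :
    2 ^ t * (p * r) ∈ Set.range (orderOf : Cfsg.PSp n F → ℕ) := by
  classical
  have hp := (Fact.out : p.Prime)
  have hp2 : p ≠ 2 := by
    rintro rfl
    exact h2 (by exact_mod_cast (CharP.cast_eq_zero F 2))
  obtain ⟨x, hx⟩ := exists_sp_twisted (F := F) (show 0 < n - 1 by omega)
  haveI : Finite (Matrix.symplecticGroup (Fin 1) F) := inferInstance
  obtain ⟨y, hy⟩ := exists_prime_orderOf_dvd_card' (G := Matrix.symplecticGroup (Fin 1) F) p (by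
    obtain ⟨f, -, hf⟩ := FiniteField.card F p
    rw [CfsgLib.Classical.card_symplecticGroup, Nat.card_eq_fintype_card, Fintype.card_fin, one_pow, pow_one]
    exact Dvd.dvd.mul_right (hf ▸ dvd_pow_self p f.ne_zero) _)
  let e : Fin (n - 1) ⊕ Fin 1 ≃ Fin n := finSumFinEquiv.trans (finCongr (by omega))
  let R := Matrix.reindexAlgEquiv F F (SpSplit.split e)
  have hg : R (fromBlocks x.1 0 0 y.1) ∈ Matrix.symplecticGroup (Fin n) F := by
    rw [SpSplit.mem_sp_split e,
      show (R (fromBlocks x.1 0 0 y.1)).submatrix (SpSplit.split e) (SpSplit.split e) = fromBlocks x.1 0 0 y.1 by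
        ext i j; simp [R, Matrix.reindexAlgEquiv_apply]]
    rw [fromBlocks_transpose, fromBlocks_multiply, fromBlocks_multiply]
    simp [SymplecticGroup.mem_iff.1 x.2, SymplecticGroup.mem_iff.1 y.2]
  set g : Matrix.symplecticGroup (Fin n) F := ⟨_, hg⟩
  refine CfsgLib.KnownB.ElementOrders.mem_range_orderOf_of_dvd (x := (QuotientGroup.mk g : Cfsg.PSp n F)) ?_
  set k := orderOf (QuotientGroup.mk g : Cfsg.PSp n F)
  have hc : g ^ k ∈ Subgroup.center (Matrix.symplecticGroup (Fin n) F) :=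
    (QuotientGroup.eq_one_iff _).1 (pow_orderOf_eq_one (QuotientGroup.mk g : Cfsg.PSp n F))
  haveI : Nonempty (Fin n) := ⟨⟨0, by omega⟩⟩
  have hval : (g ^ k).1 = R (fromBlocks (x.1 ^ k) 0 0 (y.1 ^ k)) := by
    show g.1 ^ k = _
    rw [show g.1 = R (fromBlocks x.1 0 0 y.1) from rfl, ← map_pow, Matrix.fromBlocks_diagonal_pow]
  have hneg : y.1 ^ k ≠ -1 := fun h0 => by
    have h1 : (y.1 ^ k) ^ p = 1 := by
      rw [← pow_mul, mul_comm, pow_mul, show y.1 ^ p = 1 from
        congrArg Subtype.val (orderOf_dvd_iff_pow_eq_one.1 (dvd_of_eq hy)), one_pow]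
    rw [h0, (hp.odd_of_ne_two hp2).neg_one_pow] at h1
    have := congrFun (congrFun h1 (Sum.inl 0)) (Sum.inl 0)
    simp at this
    exact h2 (by linear_combination -this)
  have hk1 : (g ^ k).1 = 1 := by
    rcases (CfsgLib.Classical.mem_center_sp_iff).1 hc with h | h
    · exact h
    · exfalso
      refine hneg ?_
      rw [hval, ← map_one R, ← map_neg, R.injective.eq_iff, ← fromBlocks_one, fromBlocks_neg, fromBlocks_inj] at h
      exact h.2.2.2
  rw [hval, ← map_one R, R.injective.eq_iff, ← fromBlocks_one, fromBlocks_inj] at hk1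
  have hxk : x ^ k = 1 := Subtype.ext hk1.1
  have hyk : y ^ k = 1 := Subtype.ext hk1.2.2.2
  have hcop : (2 ^ t).Coprime (p * r) :=
    Nat.Coprime.pow_left _ (Nat.Coprime.mul_right ((Nat.coprime_primes Nat.prime_two hp).2 (Ne.symm hp2))
      ((Nat.coprime_primes Nat.prime_two hr).2 (Ne.symm hr2)))
  refine hcop.mul_dvd_of_dvd_of_dvd (h2t.trans (hx ▸ orderOf_dvd_of_pow_eq_one hxk)) ?_
  exact ((Nat.coprime_primes hp hr).2 (Ne.symm hrp)).mul_dvd_of_dvd_of_dvd (hy ▸ orderOf_dvd_of_pow_eq_one hyk)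
    (hrt.trans (hx ▸ orderOf_dvd_of_pow_eq_one hxk))

end CfsgLib.KnownB.SpectrumBC
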