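import Cfsg.Agent.Lib.Chev.Coxeter

set_option autoImplicit false

namespace CfsgLib.KnownB.SymCox

open Equiv

def f (n : ℕ) (i : Fin n) : Perm (Fin (n+1)) := swap i.castSucc i.succ

lemma f_inv (n : ℕ) (i : Fin n) : f n i * f n i = 1 := swap_mul_self _ _

lemma del {n : ℕ} : ∀ (l : List (Fin n)) (a b : Fin (n+1)), a < b →
    ((l.map (f n)).prod)⁻¹ b < ((l.map (f n)).prod)⁻¹ a →
    ∃ (p : List (Fin n)) (x : Fin n) (c : List (Fin n)), l = p ++ x :: c ∧
      swap a b * (l.map (f n)).prod = ((p ++ c).map (f n)).prod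
  | [], a, b, hab, h => by simp at h; omega
  | x :: l, a, b, hab, h => by
    by_cases hx : a = x.castSucc ∧ b = x.succ
    · refine ⟨[], x, l, rfl, ?_⟩
      obtain ⟨rfl, rfl⟩ := hx
      rw [List.map_cons, List.prod_cons, ← mul_assoc]
      simp [f]
    · have hlt : f n x a < f n x b := by
        simp only [f, swap_apply_def]
        simp only [Fin.ext_iff, Fin.lt_def, Fin.val_succ, Fin.val_castSucc] at *
        split_ifs <;> simp_all <;> omega
      have hh : ((l.map (f n)).prod)⁻¹ (f n x b) < ((l.map (f n)).prod)⁻¹ (f n x a) := by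
        simpa [f, mul_inv_rev, Equiv.swap_inv] using h
      obtain ⟨p, y, c, hl, he⟩ := del l _ _ hlt hh
      refine ⟨x :: p, y, c, by simp [hl], ?_⟩
      have : swap a b * f n x = f n x * swap (f n x a) (f n x b) := by
        rw [Equiv.swap_apply_apply]
        rw [inv_eq_of_mul_eq_one_right (f_inv n x), ← mul_assoc, ← mul_assoc, f_inv, one_mul]
      rw [List.map_cons, List.prod_cons, ← mul_assoc, this, mul_assoc, he]
      simp

lemma exchange (n : ℕ) : CfsgLib.Chev.Cox.Exchange (f n) := by
  intro i l hl ⟨l', hl', hlen⟩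
  have hlt : i.castSucc < i.succ := Fin.castSucc_lt_succ
  set w := (l.map (f n)).prod with hw
  by_cases h : w⁻¹ i.succ < w⁻¹ i.castSucc
  · exact del l _ _ hlt h
  · exfalso
    have hne : w⁻¹ i.succ ≠ w⁻¹ i.castSucc := fun e => hlt.ne (w⁻¹.injective e).symm
    have h' : ((l'.map (f n)).prod)⁻¹ i.succ < ((l'.map (f n)).prod)⁻¹ i.castSucc := by
      rw [hl', mul_inv_rev, inv_eq_of_mul_eq_one_right (f_inv n i)]
      simp only [Perm.mul_apply, f, swap_apply_left, swap_apply_right]
      exact lt_of_le_of_ne (not_lt.1 h) hne.symm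
    obtain ⟨p, x, c, rfl, he⟩ := del l' _ _ hlt h'
    have := hl (p ++ c) (by
      rw [← he, hl', ← mul_assoc]
      show f n i * f n i * w = w
      rw [f_inv, one_mul])
    simp at this hlen
    omega

lemma gen (n : ℕ) (w : Perm (Fin (n+1))) : ∃ l : List (Fin n), (l.map (f n)).prod = w := by
  have hw : w ∈ Submonoid.closure (Set.range (f n)) := by
    rw [show f n = fun i => swap i.castSucc i.succ from rfl, Equiv.Perm.mclosure_swap_castSucc_succ]
    exact Submonoid.mem_top _
  obtain ⟨l, hl, hp⟩ := Submonoid.exists_list_of_mem_closure hw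
  induction l generalizing w with
  | nil => exact ⟨[], by simpa using hp⟩
  | cons a l ih =>
    obtain ⟨i, rfl⟩ := hl a List.mem_cons_self
    have hm : l.prod ∈ Submonoid.closure (Set.range (f n)) :=
      list_prod_mem fun y hy => Submonoid.subset_closure (hl y (List.mem_cons_of_mem _ hy))
    obtain ⟨l2, h2⟩ := ih l.prod hm (fun y hy => hl y (List.mem_cons_of_mem _ hy)) rfl
    exact ⟨i :: l2, by simp [h2, ← hp]⟩

lemma order (n : ℕ) (s t : Fin n) : orderOf (f n s * f n t) = CoxeterMatrix.A n s t := by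
  have key : ∀ s t : Fin n, (t : ℕ) + 1 = s → orderOf (f n s * f n t) = 3 := by
    intro s t h
    have e : t.succ = s.castSucc := Fin.ext (by simpa using h)
    rw [f, f, e, Equiv.swap_comm t.castSucc]
    refine (Equiv.Perm.isThreeCycle_swap_mul_swap_same ?_ ?_ ?_).orderOf <;>
      simp [Fin.ext_iff] <;> omega
  simp only [CoxeterMatrix.A]
  rcases eq_or_ne s t with rfl | hst
  · simp [f_inv]
  · by_cases h1 : (t : ℕ) + 1 = s
    · simp [hst, key s t h1, h1]
    · by_cases h2 : (s : ℕ) + 1 = t
      · have := key t s h2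
        rw [← orderOf_inv, mul_inv_rev, inv_eq_of_mul_eq_one_right (f_inv n _),
          inv_eq_of_mul_eq_one_right (f_inv n _)] at this
        simp [hst, this, h2]
      · have hst' : (s : ℕ) ≠ t := Fin.val_injective.ne hst
        have hd : Equiv.Perm.Disjoint (f n s) (f n t) := by
          intro z
          simp only [f, swap_apply_def, Fin.ext_iff, Fin.val_succ, Fin.val_castSucc]
          split_ifs <;> simp_all
        have ho : ∀ u : Fin n, orderOf (f n u) = 2 := fun u =>
          Equiv.Perm.IsSwap.orderOf ⟨u.castSucc, u.succ, (Fin.castSucc_lt_succ).ne, rfl⟩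
        simp [hd.orderOf, ho, hst, h1, h2]

theorem main (n : ℕ) : ∃ cs : CoxeterSystem (CoxeterMatrix.A n) (Perm (Fin (n + 1))),
    ∀ i : Fin n, cs.simple i = f n i :=
  CfsgLib.Chev.Cox.exists_coxeterSystem _ (f_inv n) (order n) (gen n) (exchange n)

end CfsgLib.KnownB.SymCox
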