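import Cfsg.Agent.Lib.Classical.SympOrder

/-! The centraliser of a symplectic transvection in characteristic two. -/

set_option autoImplicit false

namespace CfsgLib.KnownB.SympTransvCent

open Matrix CfsgLib.Classical

variable {F : Type*} [Field F] {m : ℕ}

theorem exists_stv [CharP F 2] (t : Matrix.symplecticGroup (Fin m) F)
    (ht : ((t : Matrix (Fin m ⊕ Fin m) (Fin m ⊕ Fin m) F) - 1).rank = 1) :
    ∃ (v : Fin m ⊕ Fin m → F) (c : F), v ≠ 0 ∧ c ≠ 0 ∧ t = stv c v := by
  set f := (t.1 - 1).mulVecLin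
  obtain ⟨⟨w, hwmem⟩, hw0, hspan⟩ := finrank_eq_one_iff'.1 (show Module.finrank F (LinearMap.range f) = 1 from ht)
  have hw : w ≠ 0 := fun e => hw0 (Subtype.ext e)
  have hf : ∀ x, ∃ l : F, (t.1 - 1) *ᵥ x = l • w := fun x => by
    obtain ⟨l, hl⟩ := hspan ⟨f x, x, rfl⟩
    exact ⟨l, (congrArg Subtype.val hl).symm⟩
  choose l hl using hf
  obtain ⟨z, hz⟩ := hwmem
  have hlz : l z = 1 := by
    have h0 : (l z - 1) • w = 0 := by rw [sub_smul, one_smul, ← hl, show (t.1 - 1) *ᵥ z = w from hz, sub_self]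
    exact sub_eq_zero.1 ((smul_eq_zero.1 h0).resolve_right hw)
  have hx : ∀ x, t.1 *ᵥ x = x + l x • w := fun x => by
    rw [← hl x, sub_mulVec, one_mulVec]; abel
  obtain ⟨y, hy⟩ := exists_sbil_eq_one hw
  have key : ∀ x, l x = l y * sbil w x := fun x => by
    have := sbil_mulVec t x y
    rw [hx, hx, sbil_add_left, sbil_add_right, sbil_add_right, sbil_smul_left, sbil_smul_left, sbil_smul_right,
      sbil_smul_right, sbil_self, hy, sbil_swap w x] at this
    linear_combination this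
  refine ⟨w, l y, hw, fun e => ?_, sp_ext fun x => by rw [stv_mulVec, hx, key]⟩
  have := key z
  rw [hlz, e, zero_mul] at this
  exact one_ne_zero this

theorem main [Fintype F] [CharP F 2] (hm : 1 ≤ m) (t : Matrix.symplecticGroup (Fin m) F)
    (ht : ((t : Matrix (Fin m ⊕ Fin m) (Fin m ⊕ Fin m) F) - 1).rank = 1) :
    Nat.card ↥(Subgroup.centralizer ({t} : Set ↥(Matrix.symplecticGroup (Fin m) F))) =
      Fintype.card F ^ (2 * m - 1) * (Fintype.card F ^ ((m - 1) ^ 2) * ∏ i : Fin (m - 1), (Fintype.card F ^ (2 * ((i : ℕ) + 1)) - 1)) := by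
  classical
  obtain ⟨v, c, hv, hc, rfl⟩ := exists_stv t ht
  set q := Fintype.card F
  have hmem : ∀ g, g ∈ Subgroup.centralizer ({stv c v} : Set ↥(Matrix.symplecticGroup (Fin m) F)) ↔ g.1 *ᵥ v = v := by
    intro g
    rw [Subgroup.mem_centralizer_singleton_iff, ← mul_inv_eq_iff_eq_mul, stv_conj]
    constructor
    · intro h
      obtain ⟨y, hy⟩ := exists_sbil_eq_one hv
      have h1 : ∀ x, (c * sbil (g.1 *ᵥ v) x) • (g.1 *ᵥ v) = (c * sbil v x) • v := fun x => by
        have := congrArg (fun M : Matrix.symplecticGroup (Fin m) F => M.1 *ᵥ x) h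
        simpa using this
      have h2 := h1 y
      rw [hy, mul_one] at h2
      obtain ⟨a, ha⟩ : ∃ a : F, g.1 *ᵥ v = a • v := by
        by_cases h0 : c * sbil (g.1 *ᵥ v) y = 0
        · rw [h0, zero_smul] at h2
          exact absurd ((smul_eq_zero.1 h2.symm).resolve_left hc) hv
        · refine ⟨(c * sbil (g.1 *ᵥ v) y)⁻¹ * c, ?_⟩
          rw [mul_smul, ← h2, inv_smul_smul₀ h0]
      have h3 := h1 y
      rw [ha, sbil_smul_left, hy, smul_smul] at h3
      have h4 := smul_left_injective F hv h3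
      have h5 : a ^ 2 = 1 := mul_left_cancel₀ hc (by linear_combination h4)
      have h6 : a = 1 := by
        rcases sq_eq_one_iff.1 h5 with h | h
        · exact h
        · rw [h, CharTwo.neg_eq]
      rw [ha, h6, one_smul]
    · intro h; rw [h]
  let _ : MulAction (Matrix.symplecticGroup (Fin m) F) {x : Fin m ⊕ Fin m → F // x ≠ 0} :=
    { smul := fun g x => ⟨g.1 *ᵥ x.1, sp_mulVec_ne_zero g x.2⟩
      one_smul := fun x => Subtype.ext (sp_one_mulVec x.1)
      mul_smul := fun g h x => Subtype.ext (sp_mul_mulVec g h x.1) }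
  have hstab : MulAction.stabilizer (Matrix.symplecticGroup (Fin m) F) (⟨v, hv⟩ : {x : Fin m ⊕ Fin m → F // x ≠ 0}) =
      Subgroup.centralizer ({stv c v} : Set ↥(Matrix.symplecticGroup (Fin m) F)) := by
    ext g
    rw [MulAction.mem_stabilizer_iff, hmem]
    exact Subtype.ext_iff
  have : MulAction.IsPretransitive (Matrix.symplecticGroup (Fin m) F) {x : Fin m ⊕ Fin m → F // x ≠ 0} :=
    ⟨fun x y => by
      obtain ⟨g, -, hg⟩ := exists_move_vector snondeg_top (u := x.1) (w := y.1) trivial trivial x.2 y.2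
      exact ⟨g, Subtype.ext hg⟩⟩
  have hi := MulAction.index_stabilizer_of_transitive (Matrix.symplecticGroup (Fin m) F) (⟨v, hv⟩ : {x : Fin m ⊕ Fin m → F // x ≠ 0})
  have hprod := (MulAction.stabilizer (Matrix.symplecticGroup (Fin m) F) (⟨v, hv⟩ : {x : Fin m ⊕ Fin m → F // x ≠ 0})).card_mul_index
  rw [hi, hstab, card_symplecticGroup, Fintype.card_fin, Nat.card_eq_fintype_card (α := F)] at hprod
  have hcardV : Nat.card {x : Fin m ⊕ Fin m → F // x ≠ 0} = q ^ (2 * m) - 1 := by
    rw [Nat.card_eq_fintype_card, Fintype.card_subtype_compl, Fintype.card_fun, Fintype.card_sum, Fintype.card_fin]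
    simp [two_mul, q]
  obtain ⟨k, rfl⟩ : ∃ k, m = k + 1 := ⟨m - 1, by omega⟩
  rw [hcardV, Finset.prod_range_succ, ← mul_assoc] at hprod
  have hpos : 0 < q ^ (2 * (k + 1)) - 1 := by
    have : 1 < q ^ (2 * (k + 1)) := Nat.one_lt_pow (by omega) Fintype.one_lt_card
    omega
  rw [Nat.eq_of_mul_eq_mul_right hpos hprod, Finset.prod_range, ← mul_assoc, ← pow_add]
  congr 2
  rw [Nat.add_sub_cancel, show 2 * (k + 1) - 1 = 2 * k + 1 by omega]
  ring

end CfsgLib.KnownB.SympTransvCent
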