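import Cfsg.Agent.Lib.KnownB.ElementOrders
import Cfsg.Agent.Lib.KnownB.Semisimple

/-!
Every non-scalar element of `SL 3 F` is a product of two elements with a prescribed square-free characteristic
polynomial (split for `q ≥ 4`, irreducible for `q = 3`).
-/

set_option autoImplicit false

namespace CfsgLib.KnownB.ThompsonSL3

open Matrix Polynomial
open scoped MatrixGroups

universe u

variable {F : Type u} [Field F]

/-- A non-scalar matrix is similar to one with first column `(d, 1, 0)`. -/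
theorem exists_first_column (g : Matrix (Fin 3) (Fin 3) F) (hns : ¬ ∃ c : F, g = algebraMap F _ c) (d : F) :
    ∃ P : GL (Fin 3) F, ((P.1 * g * P⁻¹.1) 0 0 = d ∧ (P.1 * g * P⁻¹.1) 1 0 = 1 ∧ (P.1 * g * P⁻¹.1) 2 0 = 0) := by
  obtain ⟨v, hv, hev⟩ : ∃ v : Fin 3 → F, v ≠ 0 ∧ ∀ c : F, g *ᵥ v ≠ c • v := by
    by_contra hcon
    push Not at hcon
    have hdiag : ∀ i j : Fin 3, i ≠ j → g i j = 0 := by
      intro i j hij
      obtain ⟨c, hc⟩ := hcon (Pi.single j 1) (fun h => one_ne_zero (α := F) (by simpa using congrFun h j))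
      simpa [hij] using congrFun hc i
    have hsame : ∀ i j : Fin 3, i ≠ j → g i i = g j j := by
      intro i j hij
      obtain ⟨c, hc⟩ := hcon (Pi.single i 1 + Pi.single j 1)
        (fun h => one_ne_zero (α := F) (by simpa [hij] using congrFun h i))
      have h1 := congrFun hc i
      have h2 := congrFun hc j
      simp [Matrix.mulVec_add, hij, Ne.symm hij, hdiag i j hij, hdiag j i (Ne.symm hij)] at h1 h2
      rw [h1, h2]
    refine hns ⟨g 0 0, Matrix.ext fun i j => ?_⟩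
    by_cases hij : i = j
    · subst hij
      simp only [algebraMap_matrix_apply, if_true, Algebra.algebraMap_self_apply]
      by_cases h0 : i = 0
      · rw [h0]
      · exact hsame i 0 h0
    · simp [algebraMap_matrix_apply, hij, hdiag i j hij]
  let u : Fin 3 → F := g *ᵥ v - d • v
  obtain ⟨w, hw⟩ : ∃ w : Fin 3 → F, (Matrix.of fun i j => ![v, u, w] j i : Matrix (Fin 3) (Fin 3) F).det ≠ 0 := by
    by_contra hcon
    push Not at hcon
    have h0 := hcon ![1, 0, 0]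
    have h1 := hcon ![0, 1, 0]
    have h2 := hcon ![0, 0, 1]
    simp [Matrix.det_fin_three] at h0 h1 h2
    obtain ⟨i, hi⟩ := Function.ne_iff.1 hv
    have hm : ∀ j : Fin 3, u j * v i = u i * v j := by
      intro j
      fin_cases i <;> fin_cases j <;> simp <;>
        first | linear_combination h2 | linear_combination -h2 | linear_combination h1 |
          linear_combination -h1 | linear_combination h0 | linear_combination -h0 | ring
    refine hev (d + u i / v i) (funext fun j => ?_)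
    have hi' : v i ≠ 0 := hi
    have hj : u j = u i / v i * v j := by
      rw [div_mul_eq_mul_div, eq_div_iff hi', hm j]
    simp only [Pi.smul_apply, smul_eq_mul, add_mul]
    rw [← hj]
    simp [u]
  set B : Matrix (Fin 3) (Fin 3) F := Matrix.of fun i j => ![v, u, w] j i
  let P : GL (Fin 3) F := Matrix.GeneralLinearGroup.mkOfDetNeZero B hw
  refine ⟨P⁻¹, ?_⟩
  rw [inv_inv]
  have hP : (P⁻¹).1 * B = 1 := P.inv_val
  have hg : g * B * (Matrix.of fun i (_ : Fin 1) => if i = (0 : Fin 3) then (1 : F) else 0)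
      = B * (Matrix.of fun i (_ : Fin 1) => ![d, 1, 0] i) := by
    ext i j
    simp [Matrix.mul_apply, Fin.sum_univ_three, B, u, Matrix.mulVec, dotProduct]
    ring
  have key : (P⁻¹).1 * g * P.1 * (Matrix.of fun i (_ : Fin 1) => if i = (0 : Fin 3) then (1 : F) else 0)
      = Matrix.of fun i (_ : Fin 1) => ![d, 1, 0] i := by
    rw [Matrix.mul_assoc, Matrix.mul_assoc, show P.1 = B from rfl, ← Matrix.mul_assoc g, hg, ← Matrix.mul_assoc, hP,
      Matrix.one_mul]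
  generalize (P⁻¹).1 * g * P.1 = K at key ⊢
  have e := fun i => congrFun (congrFun key i) 0
  simp [Matrix.mul_apply, Fin.sum_univ_three] at e
  exact ⟨by simpa using e 0, by simpa using e 1, by simpa using e 2⟩

/-- A similar matrix with prescribed leading minors. -/
theorem exists_minors (g : Matrix (Fin 3) (Fin 3) F) (hdet : g.det = 1) (hns : ¬ ∃ c : F, g = algebraMap F _ c)
    {d m : F} (hd : d ≠ 0) :
    ∃ P : GL (Fin 3) F, (P.1 * g * P⁻¹.1) 0 0 = d ∧
      (P.1 * g * P⁻¹.1) 0 0 * (P.1 * g * P⁻¹.1) 1 1 - (P.1 * g * P⁻¹.1) 0 1 * (P.1 * g * P⁻¹.1) 1 0 = m := by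
  obtain ⟨P, h00, h10, h20⟩ := exists_first_column g hns d
  set G := P.1 * g * P⁻¹.1 with hG
  have hGdet : G.det = 1 := by
    rw [hG, Matrix.det_units_conj, hdet]
  let T : Fin 3 → Fin 3 → F → Matrix (Fin 3) (Fin 3) F := fun i j τ => 1 + τ • Matrix.single i j (1 : F)
  have hT : ∀ i j : Fin 3, i ≠ j → ∀ τ, T i j τ * T i j (-τ) = 1 := fun i j hij τ => by
    simp [T, add_mul, mul_add, Matrix.single_mul_single_of_ne, Ne.symm hij, add_assoc, ← Matrix.single_add]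
  let U : ∀ i j : Fin 3, i ≠ j → F → GL (Fin 3) F := fun i j hij τ =>
    ⟨T i j τ, T i j (-τ), hT i j hij τ, by simpa using hT i j hij (-τ)⟩
  have conj : ∀ (Q : GL (Fin 3) F), (Q * P).1 * g * (Q * P)⁻¹.1 = Q.1 * G * Q⁻¹.1 := fun Q => by
    simp [hG, Matrix.mul_assoc]
  by_cases hA : G 0 0 * G 1 2 - G 0 2 * G 1 0 = 0
  · by_cases hB : G 2 1 = 0
    · -- first make the entry `(1, 2)` of the Schur complement non-zero
      have hf : G 2 2 ≠ 0 := fun hf => by
        rw [Matrix.det_fin_three, h20, hB, hf] at hGdet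
        simp at hGdet
      refine ⟨U 2 1 (by decide) (-((m - (G 0 0 * G 1 1 - G 0 1 * G 1 0)) / G 2 2)) * U 0 2 (by decide) (-1) * P, ?_⟩
      rw [conj]
      simp [U, T, Matrix.mul_apply, Fin.sum_univ_three, Matrix.single, h00, h10, h20, hB, _root_.mul_inv_rev]
      field_simp
      rw [h00, h10] at hA
      linear_combination ((m - (d * G 1 1 - G 0 1)) ) * hA
    · refine ⟨U 1 2 (by decide) ((m - (G 0 0 * G 1 1 - G 0 1 * G 1 0)) / (G 0 0 * G 2 1)) * P, ?_⟩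
      rw [conj]
      simp [U, T, Matrix.mul_apply, Fin.sum_univ_three, Matrix.single, h00, h10, h20]
      field_simp
      ring
  · refine ⟨U 2 1 (by decide) (-((m - (G 0 0 * G 1 1 - G 0 1 * G 1 0)) / (G 0 0 * G 1 2 - G 0 2 * G 1 0))) * P, ?_⟩
    rw [conj]
    simp [U, T, Matrix.mul_apply, Fin.sum_univ_three, Matrix.single, h00, h10, h20]
    rw [h00, h10, mul_one] at hA
    field_simp
    ring

theorem charpoly_fin_three (M : Matrix (Fin 3) (Fin 3) F) :
    M.charpoly = X ^ 3 - C M.trace * X ^ 2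
      + C (M 0 0 * M 1 1 - M 0 1 * M 1 0 + (M 0 0 * M 2 2 - M 0 2 * M 2 0) + (M 1 1 * M 2 2 - M 1 2 * M 2 1)) * X
      - C M.det := by
  simp [Matrix.charpoly, Matrix.det_fin_three, Matrix.charmatrix, Matrix.trace_fin_three]
  ring

/-- The split case: `λ₀, λ₁, λ₂` prescribed on both triangular factors. -/
theorem exists_factor_split (l : Fin 3 → F) (hl : l 0 * l 1 * l 2 = 1) (g : Matrix (Fin 3) (Fin 3) F)
    (hdet : g.det = 1) (hns : ¬ ∃ c : F, g = algebraMap F _ c) :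
    ∃ M N : Matrix (Fin 3) (Fin 3) F, g = M * N ∧ M.charpoly = ∏ i, (X - C (l i)) ∧
      N.charpoly = ∏ i, (X - C (l i)) := by
  have hl0 : l 0 ≠ 0 := fun h => by rw [h] at hl; simp at hl
  have hl1 : l 1 ≠ 0 := fun h => by rw [h] at hl; simp at hl
  have hl2 : l 2 ≠ 0 := fun h => by rw [h] at hl; simp at hl
  obtain ⟨P, h00, hm⟩ := exists_minors g hdet hns (d := l 0 * l 0) (m := l 0 * l 0 * (l 1 * l 1))
    (mul_ne_zero hl0 hl0)
  set G := P.1 * g * P⁻¹.1 with hG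
  have hGdet : G.det = 1 := by rw [hG, Matrix.det_units_conj, hdet]
  let L : Matrix (Fin 3) (Fin 3) F :=
    !![l 0, 0, 0; G 1 0 / l 0, l 1, 0; G 2 0 / l 0, (G 2 1 - G 2 0 * G 0 1 / (l 0 * l 0)) / l 1, l 2]
  let U : Matrix (Fin 3) (Fin 3) F :=
    !![l 0, G 0 1 / l 0, G 0 2 / l 0; 0, l 1, (G 1 2 - G 1 0 * G 0 2 / (l 0 * l 0)) / l 1; 0, 0, l 2]
  have hLU : L * U = G := by
    rw [h00] at hm
    rw [Matrix.det_fin_three, h00] at hGdet
    have hsq : (l 0 * l 1 * l 2) * (l 0 * l 1 * l 2) = 1 := by rw [hl, one_mul]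
    ext i j
    fin_cases i <;> fin_cases j <;> simp [L, U, Matrix.mul_apply, Fin.sum_univ_three, h00] <;> field_simp
    all_goals first | ring1 | linear_combination -hm | linear_combination hm |
      linear_combination (l 0 ^ 2 * G 2 2 - G 2 0 * G 0 2) * hm - l 0 ^ 2 * hGdet + l 0 ^ 2 * hsq
  have hconj : ∀ M : Matrix (Fin 3) (Fin 3) F, (P⁻¹.1 * M * P.1).charpoly = M.charpoly :=
    fun M => by simpa using Matrix.charpoly_units_conj P⁻¹ M
  refine ⟨P⁻¹.1 * L * P.1, P⁻¹.1 * U * P.1, ?_, ?_, ?_⟩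
  · have : g = P⁻¹.1 * G * P.1 := by simp [hG, Matrix.mul_assoc]
    rw [this, ← hLU]
    simp [Matrix.mul_assoc]
  · rw [hconj, charpoly_fin_three]
    simp [L, Matrix.trace_fin_three, Matrix.det_fin_three, Fin.prod_univ_three, map_add, map_mul]
    ring
  · rw [hconj, charpoly_fin_three]
    simp [U, Matrix.trace_fin_three, Matrix.det_fin_three, Fin.prod_univ_three, map_add, map_mul]
    ring

/-- Witnesses over the field with three elements. -/
def pairs : List (Matrix (Fin 3) (Fin 3) (ZMod 3) × Matrix (Fin 3) (Fin 3) (ZMod 3)) :=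
  [(!![1, 0, 1; 1, 1, 0; 0, 2, 2], !![2, 2, 2; 1, 2, 1; 2, 1, 1]),
    (!![1, 0, 1; 2, 1, 0; 0, 1, 2], !![2, 1, 2; 2, 2, 2; 2, 2, 1]),
    (!![1, 0, 1; 2, 2, 0; 0, 1, 1], !![2, 1, 1; 1, 1, 2; 2, 2, 2]),
    (!![1, 1, 1; 0, 1, 2; 1, 1, 2], !![0, 2, 1; 2, 1, 1; 2, 0, 1]),
    (!![1, 1, 2; 0, 1, 1; 2, 2, 2], !![0, 2, 2; 2, 1, 2; 1, 0, 1]),
    (!![0, 0, 1; 2, 0, 1; 2, 2, 1], !![1, 2, 0; 0, 1, 2; 1, 0, 0]),
    (!![1, 0, 1; 2, 0, 1; 0, 1, 0], !![2, 1, 0; 0, 0, 1; 2, 2, 0]),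
    (!![1, 1, 1; 2, 0, 0; 2, 2, 0], !![0, 2, 0; 0, 1, 2; 1, 0, 1]),
    (!![2, 2, 2; 1, 2, 1; 1, 1, 0], !![2, 2, 1; 1, 1, 0; 2, 0, 2]),
    (!![2, 1, 0; 1, 0, 2; 1, 2, 2], !![2, 1, 2; 0, 1, 2; 2, 0, 2]),
    (!![0, 2, 0; 2, 0, 1; 1, 0, 1], !![0, 1, 2; 2, 0, 0; 0, 2, 2]),
    (!![2, 2, 0; 0, 1, 2; 2, 0, 1], !![1, 1, 1; 1, 2, 2; 1, 1, 2])]

/-- The second coefficient of the characteristic polynomial. -/
def sec {R : Type*} [CommRing R] (M : Matrix (Fin 3) (Fin 3) R) : R :=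
  M 0 0 * M 1 1 - M 0 1 * M 1 0 + (M 0 0 * M 2 2 - M 0 2 * M 2 0) + (M 1 1 * M 2 2 - M 1 2 * M 2 1)

theorem pairs_spec : ∀ P ∈ pairs, P.1 * P.2 = 1 ∧ P.1 0 0 + P.1 1 1 + P.1 2 2 = 1 ∧ sec P.1 = 2 := by
  have h : (pairs.all fun P => decide ((∀ i j : Fin 3, (P.1 * P.2) i j = if i = j then 1 else 0) ∧
      P.1 0 0 + P.1 1 1 + P.1 2 2 = 1 ∧ sec P.1 = 2)) = true := by decide +kernel
  intro P hP
  obtain ⟨h1, h2⟩ := of_decide_eq_true (List.all_eq_true.1 h P hP)
  exact ⟨Matrix.ext fun i j => (h1 i j).trans Matrix.one_apply.symm, h2⟩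

theorem pairs_det : ∀ P ∈ pairs,
    P.1 0 0 * P.1 1 1 * P.1 2 2 - P.1 0 0 * P.1 1 2 * P.1 2 1 - P.1 0 1 * P.1 1 0 * P.1 2 2 +
      P.1 0 1 * P.1 1 2 * P.1 2 0 + P.1 0 2 * P.1 1 0 * P.1 2 1 - P.1 0 2 * P.1 1 1 * P.1 2 0 = 1 := by
  have h : (pairs.all fun P => decide (P.1 0 0 * P.1 1 1 * P.1 2 2 - P.1 0 0 * P.1 1 2 * P.1 2 1
      - P.1 0 1 * P.1 1 0 * P.1 2 2 + P.1 0 1 * P.1 1 2 * P.1 2 0 + P.1 0 2 * P.1 1 0 * P.1 2 1
      - P.1 0 2 * P.1 1 1 * P.1 2 0 = 1)) = true := by decide +kernel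
  intro P hP
  exact of_decide_eq_true (List.all_eq_true.1 h P hP)

/-- The test that a witness pair fits `H`. -/
def fits (H : Matrix (Fin 3) (Fin 3) (ZMod 3)) : Bool :=
  pairs.any fun P => decide ((P.2 * H) 0 0 + (P.2 * H) 1 1 + (P.2 * H) 2 2 = 1 ∧ sec (P.2 * H) = 2)

theorem exists_of_fits {H : Matrix (Fin 3) (Fin 3) (ZMod 3)} (h : fits H = true) :
    ∃ P ∈ pairs, (P.2 * H) 0 0 + (P.2 * H) 1 1 + (P.2 * H) 2 2 = 1 ∧ sec (P.2 * H) = 2 := by
  obtain ⟨P, hP, h1⟩ := List.any_eq_true.1 h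
  exact ⟨P, hP, of_decide_eq_true h1⟩

theorem witness_companion : ∀ d f : ZMod 3, fits !![0, 0, 1; 1, 0, d; 0, 1, f] = true := by
  decide +kernel

theorem witness_split : ∀ a b c d f : ZMod 3, -(a * f) = 1 → fits !![0, a, b; 1, c, d; 0, 0, f] = true := by
  decide +kernel

theorem charpoly_eq {M : Matrix (Fin 3) (Fin 3) (ZMod 3)} [Fact (Nat.Prime 3)] (h1 : M 0 0 + M 1 1 + M 2 2 = 1)
    (h2 : sec M = 2) (h3 : M.det = 1) : M.charpoly = X ^ 3 - X ^ 2 + C 2 * X - 1 := by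
  rw [charpoly_fin_three, Matrix.trace_fin_three, h1, h3, show M 0 0 * M 1 1 - M 0 1 * M 1 0 + (M 0 0 * M 2 2 - M 0 2 * M 2 0) + (M 1 1 * M 2 2 - M 1 2 * M 2 1) = (2 : ZMod 3) from h2]
  simp

/-- The case of three elements. -/
theorem exists_factor_three [Fintype F] (hF : Fintype.card F = 3) (g : Matrix (Fin 3) (Fin 3) F)
    (hdet : g.det = 1) (hns : ¬ ∃ c : F, g = algebraMap F _ c) :
    ∃ M N : Matrix (Fin 3) (Fin 3) F, g = M * N ∧ M.charpoly = X ^ 3 - X ^ 2 + C 2 * X - 1 ∧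
      N.charpoly = X ^ 3 - X ^ 2 + C 2 * X - 1 := by
  haveI : Fact (Nat.Prime 3) := ⟨Nat.prime_three⟩
  haveI : CharP F 3 := charP_of_card_eq_prime hF
  let φ : ZMod 3 ≃+* F := ZMod.ringEquiv F hF
  obtain ⟨P, h00, h10, h20⟩ := exists_first_column g hns 0
  set G := P.1 * g * P⁻¹.1 with hG
  have hGdet : G.det = 1 := by rw [hG, Matrix.det_units_conj, hdet]
  -- reduce to one of the normal forms over `ZMod 3`
  obtain ⟨Q, H, hQ, hH⟩ : ∃ (Q : GL (Fin 3) F) (H : Matrix (Fin 3) (Fin 3) (ZMod 3)),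
      Q.1 * G * Q⁻¹.1 = H.map φ ∧
        ((∃ d f, H = !![0, 0, 1; 1, 0, d; 0, 1, f]) ∨
          ∃ a b c d f, -(a * f) = 1 ∧ H = !![0, a, b; 1, c, d; 0, 0, f]) := by
    by_cases he : G 2 1 = 0
    · refine ⟨1, G.map φ.symm, by ext i j; simp, Or.inr ⟨φ.symm (G 0 1), φ.symm (G 0 2), φ.symm (G 1 1),
        φ.symm (G 1 2), φ.symm (G 2 2), φ.injective ?_, ?_⟩⟩
      · rw [Matrix.det_fin_three, h00, h10, h20, he] at hGdet
        simp only [map_neg, map_mul, map_one, RingEquiv.apply_symm_apply]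
        linear_combination hGdet
      · ext i j
        fin_cases i <;> fin_cases j <;> simp [h00, h10, h20, he]
    · let B : Matrix (Fin 3) (Fin 3) F := !![1, 0, G 0 1; 0, 1, G 1 1; 0, 0, G 2 1]
      let Q : GL (Fin 3) F := Matrix.GeneralLinearGroup.mkOfDetNeZero B (by simpa [B, Matrix.det_fin_three] using he)
      set G' := Q⁻¹.1 * G * Q.1
      have hBG : B * G' = G * B := by
        rw [show B = Q.1 from rfl, ← Matrix.mul_assoc, ← Matrix.mul_assoc, Units.mul_inv, Matrix.one_mul]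
      have e := fun i j => congrFun (congrFun hBG i) j
      simp only [B, Matrix.mul_apply, Fin.sum_univ_three] at e
      have a20 := e 2 0; have a21 := e 2 1; have a10 := e 1 0; have a11 := e 1 1
      have a00 := e 0 0; have a01 := e 0 1
      simp [h00, h10, h20] at a20 a21 a10 a11 a00 a01
      have b20 : G' 2 0 = 0 := a20.resolve_left he
      have b21 : G' 2 1 = 1 := mul_left_cancel₀ he (a21.trans (mul_one _).symm)
      rw [b20] at a10 a00
      rw [b21] at a11 a01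
      simp at a10 a00 a11 a01
      have b02 : G' 0 2 = 1 := by
        have h : G'.det = 1 := by
          rw [show G' = Q⁻¹.1 * G * (Q⁻¹)⁻¹.1 by simp [G'], Matrix.det_units_conj, hGdet]
        rw [Matrix.det_fin_three, b20, b21, a10, a00, a11, a01] at h
        linear_combination h
      refine ⟨Q⁻¹, G'.map φ.symm, by rw [inv_inv]; exact Matrix.ext fun i j => (φ.apply_symm_apply _).symm, Or.inl ⟨φ.symm (G' 1 2), φ.symm (G' 2 2), ?_⟩⟩
      ext i j
      fin_cases i <;> fin_cases j <;> simp [b20, b21, b02, a10, a00, a11, a01]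
  obtain ⟨N, hN, hK1, hK2⟩ : ∃ N ∈ pairs, (N.2 * H) 0 0 + (N.2 * H) 1 1 + (N.2 * H) 2 2 = 1 ∧ sec (N.2 * H) = 2 := by
    rcases hH with ⟨d, f, rfl⟩ | ⟨a, b, c, d, f, haf, rfl⟩
    · exact exists_of_fits (witness_companion d f)
    · exact exists_of_fits (witness_split a b c d f haf)
  obtain ⟨hNN, hN1, hN2⟩ := pairs_spec N hN
  have hHdet : H.det = 1 := φ.injective (by
    rw [map_one, RingEquiv.map_det, show φ.mapMatrix H = H.map φ from rfl, ← hQ, Matrix.det_units_conj, hGdet])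
  have hN1det : N.1.det = 1 := (Matrix.det_fin_three _).trans (pairs_det N hN)
  have hKdet : (N.2 * H).det = 1 := by
    have h := congrArg Matrix.det hNN
    rw [Matrix.det_mul, hN1det, one_mul, Matrix.det_one] at h
    rw [Matrix.det_mul, h, hHdet, one_mul]
  set R := Q * P
  have hconj : ∀ M : Matrix (Fin 3) (Fin 3) F, (R⁻¹.1 * M * R.1).charpoly = M.charpoly :=
    fun M => by simpa using Matrix.charpoly_units_conj R⁻¹ M
  refine ⟨R⁻¹.1 * N.1.map φ * R.1, R⁻¹.1 * (N.2 * H).map φ * R.1, ?_, ?_, ?_⟩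
  · have h1 : N.1.map φ * (N.2 * H).map φ = H.map φ := by
      rw [← Matrix.map_mul, ← Matrix.mul_assoc, hNN, Matrix.one_mul]
    calc g = R⁻¹.1 * (H.map φ) * R.1 := by simp [← hQ, R, hG, Matrix.mul_assoc, _root_.mul_inv_rev]
      _ = _ := by rw [← h1]; simp [Matrix.mul_assoc]
  · rw [hconj, show N.1.map φ = N.1.map (φ : ZMod 3 →+* F) from rfl, Matrix.charpoly_map,
      charpoly_eq hN1 hN2 hN1det]
    simp [map_ofNat]
  · rw [hconj, show (N.2 * H).map φ = (N.2 * H).map (φ : ZMod 3 →+* F) from rfl, Matrix.charpoly_map,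
      charpoly_eq hK1 hK2 hKdet]
    simp [map_ofNat]

end CfsgLib.KnownB.ThompsonSL3
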