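import Mathlib

/-!
A square matrix over a field is similar to its transpose, through a nondegenerate form for which it is self-adjoint.
-/

set_option autoImplicit false

namespace CfsgLib.KnownB.Transpose

open Polynomial Module
open scoped DirectSum

variable {F : Type*} [Field F]

/-- A functional on `F[X]/(g)` whose kernel contains no nonzero ideal. -/
theorem exists_functional {g : F[X]} (hg : g ≠ 0) :
    ∃ φ : (F[X] ⧸ F[X] ∙ g) →ₗ[F] F, ∀ x, x ≠ 0 → ∃ y : F[X], φ (y • x) ≠ 0 := by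
  set pb := AdjoinRoot.powerBasis hg
  rcases Nat.eq_zero_or_pos g.natDegree with hd | hd
  · refine ⟨0, fun x hx => absurd ?_ hx⟩
    obtain ⟨r, rfl⟩ := Submodule.Quotient.mk_surjective _ x
    rw [Submodule.Quotient.mk_eq_zero, Ideal.mem_span_singleton]
    exact (isUnit_iff_degree_eq_zero.2 (by rw [degree_eq_natDegree hg, hd]; rfl)).dvd
  refine ⟨pb.basis.coord ⟨g.natDegree - 1, (Nat.sub_lt hd Nat.one_pos : _ < pb.dim)⟩, fun x hx => ?_⟩
  haveI : Nontrivial (AdjoinRoot g) := ⟨⟨x, 0, hx⟩⟩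
  obtain ⟨r, hr, hrx⟩ := pb.exists_eq_aeval x
  have hr' : r.natDegree < g.natDegree := hr
  have hr0 : r ≠ 0 := fun h0 => hx (by rw [hrx, h0, map_zero]; rfl)
  refine ⟨X ^ (g.natDegree - 1 - r.natDegree), ?_⟩
  set f := X ^ (g.natDegree - 1 - r.natDegree) * r
  have hfd : f.natDegree = g.natDegree - 1 := by
    rw [natDegree_mul (pow_ne_zero _ X_ne_zero) hr0, natDegree_X_pow]
    omega
  have hfx : (X ^ (g.natDegree - 1 - r.natDegree) : F[X]) • x = aeval pb.gen f := by
    rw [hrx, map_mul]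
    change AdjoinRoot.mk g (X ^ (g.natDegree - 1 - r.natDegree)) * _ = _
    rw [AdjoinRoot.powerBasis_gen, ← AdjoinRoot.aeval_eq]
  rw [hfx, aeval_eq_sum_range' (show f.natDegree < pb.dim by rw [hfd]; exact Nat.sub_lt hd Nat.one_pos),
    Finset.sum_range]
  change pb.basis.repr _ _ ≠ 0
  simp only [← pb.basis_eq_pow]
  rw [pb.basis.repr_sum_self]
  have : f.coeff (g.natDegree - 1) = f.leadingCoeff := by rw [leadingCoeff, hfd]
  rw [this]
  exact leadingCoeff_ne_zero.2 (mul_ne_zero (pow_ne_zero _ X_ne_zero) hr0)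

theorem exists_form {V : Type*} [AddCommGroup V] [Module F V] [FiniteDimensional F V] (A : Module.End F V) :
    ∃ B : V →ₗ[F] V →ₗ[F] F, (∀ x, (∀ y, B y x = 0) → x = 0) ∧ ∀ x y, B (A x) y = B x (A y) := by
  classical
  obtain ⟨ι, hι, p, hp, e, ⟨E⟩⟩ := Module.equiv_directSum_of_isTorsion (R := F[X]) (M := AEval' A)
    (Module.AEval.isTorsion_of_finiteDimensional F V A)
  let E' : AEval' A ≃ₗ[F[X]] ((i : ι) → F[X] ⧸ F[X] ∙ (p i ^ e i)) :=
    E.trans (DirectSum.linearEquivFunOnFintype F[X] ι _)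
  choose φ hφ using fun i => exists_functional (pow_ne_zero (e i) (hp i).ne_zero)
  let Φ : V →ₗ[F] ((i : ι) → F[X] ⧸ F[X] ∙ (p i ^ e i)) :=
    (E'.toLinearMap.restrictScalars F) ∘ₗ (AEval'.of A).toLinearMap
  have hinj : Function.Injective Φ := E'.injective.comp (AEval'.of A).injective
  have hA : ∀ x i, Φ (A x) i = (X : F[X]) • Φ x i := by
    intro x i
    have h1 : AEval'.of A (A x) = (X : F[X]) • AEval'.of A x := by
      apply (AEval'.of A).symm.injective
      rw [LinearEquiv.symm_apply_apply, AEval.of_symm_X_smul, LinearEquiv.symm_apply_apply]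
      rfl
    show E' (AEval'.of A (A x)) i = (X : F[X]) • E' (AEval'.of A x) i
    rw [h1, map_smul]
    rfl
  let mk : ∀ i, AdjoinRoot (p i ^ e i) → (F[X] ⧸ F[X] ∙ (p i ^ e i)) := fun i z => z
  let un : ∀ i, (F[X] ⧸ F[X] ∙ (p i ^ e i)) → AdjoinRoot (p i ^ e i) := fun i z => z
  refine ⟨LinearMap.mk₂ F (fun x y => ∑ i, φ i (mk i (un i (Φ x i) * un i (Φ y i)))) ?_ ?_ ?_ ?_, ?_, ?_⟩
  · intro a b c
    rw [← Finset.sum_add_distrib]
    refine Finset.sum_congr rfl fun i _ => ?_
    rw [map_add, Pi.add_apply, ← map_add]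
    exact congrArg (φ i) (add_mul (un i (Φ a i)) (un i (Φ b i)) (un i (Φ c i)))
  · intro k a b
    rw [Finset.smul_sum]
    refine Finset.sum_congr rfl fun i _ => ?_
    rw [map_smul, Pi.smul_apply, ← map_smul]
    exact congrArg (φ i) (smul_mul_assoc k (un i (Φ a i)) (un i (Φ b i)))
  · intro a b c
    rw [← Finset.sum_add_distrib]
    refine Finset.sum_congr rfl fun i _ => ?_
    rw [map_add, Pi.add_apply, ← map_add]
    exact congrArg (φ i) (mul_add (un i (Φ a i)) (un i (Φ b i)) (un i (Φ c i)))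
  · intro k a b
    rw [Finset.smul_sum]
    refine Finset.sum_congr rfl fun i _ => ?_
    rw [map_smul, Pi.smul_apply, ← map_smul]
    exact congrArg (φ i) (mul_smul_comm k (un i (Φ a i)) (un i (Φ b i)))
  · intro x hx
    by_contra h0
    obtain ⟨i, hi⟩ : ∃ i, Φ x i ≠ 0 := by
      by_contra hc
      push Not at hc
      exact h0 (hinj (by rw [map_zero]; exact funext hc))
    obtain ⟨r, hr⟩ := hφ i _ hi
    obtain ⟨y, hy⟩ : ∃ y, Φ y = Pi.single i (Submodule.Quotient.mk r) := by
      refine ⟨(AEval'.of A).symm (E'.symm (Pi.single i (Submodule.Quotient.mk r))), ?_⟩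
      simp only [Φ, LinearMap.comp_apply, LinearMap.restrictScalars_apply, LinearEquiv.coe_coe,
        LinearEquiv.apply_symm_apply]
    refine hr ?_
    have h := hx y
    rw [LinearMap.mk₂_apply, Finset.sum_eq_single i (fun j _ hj => by
      rw [hy, Pi.single_eq_of_ne hj]
      exact (congrArg (φ j) (zero_mul (un j (Φ x j)))).trans (map_zero _)) (by simp), hy, Pi.single_eq_same] at h
    exact h
  · intro x y
    rw [LinearMap.mk₂_apply, LinearMap.mk₂_apply]
    refine Finset.sum_congr rfl fun i _ => ?_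
    have hun : ∀ z : F[X] ⧸ F[X] ∙ (p i ^ e i), un i ((X : F[X]) • z) = AdjoinRoot.root (p i ^ e i) * un i z := by
      intro z
      obtain ⟨r, rfl⟩ := Submodule.Quotient.mk_surjective _ z
      rfl
    rw [hA, hA, hun, hun, mul_assoc, mul_left_comm]

/-- `A` is similar to `Aᵀ`. -/
theorem isConj_transpose {n : Type*} [Fintype n] [DecidableEq n] (A : Matrix n n F) : IsConj A A.transpose := by
  obtain ⟨B, hnd, hA⟩ := exists_form (Matrix.toLin' A)
  set P : Matrix n n F := LinearMap.toMatrix₂' F B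
  have hB : ∀ x y, B x y = x ⬝ᵥ P.mulVec y := fun x y => by
    rw [← Matrix.toLinearMap₂'_apply', Matrix.toLinearMap₂'_toMatrix']
  have hP : IsUnit P := by
    rw [← Matrix.mulVec_injective_iff_isUnit]
    intro x y hxy
    refine sub_eq_zero.1 (hnd _ fun z => ?_)
    rw [hB, Matrix.mulVec_sub, hxy, sub_self, dotProduct_zero]
  have hcomm : A.transpose * P = P * A := by
    refine (Matrix.toLinearMap₂' F (S₁ := F) (S₂ := F) : Matrix n n F ≃ₗ[F] _).injective (LinearMap.ext₂ fun x y => ?_)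
    simp only [Matrix.toLinearMap₂'_apply']
    have h := hA x y
    rw [hB, hB, Matrix.toLin'_apply, Matrix.toLin'_apply] at h
    rw [← Matrix.mulVec_mulVec, ← Matrix.mulVec_mulVec, ← h, Matrix.dotProduct_mulVec, Matrix.vecMul_transpose]
  exact ⟨hP.unit, hcomm.symm⟩

end CfsgLib.KnownB.Transpose
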