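import Cfsg.Agent.Lib.KnownB.UnitaryConj
import Cfsg.Agent.Lib.KnownB.Semisimple

/-!
Determinants of unitary matrices centralising a semisimple unitary matrix.
-/

set_option autoImplicit false

namespace CfsgLib.KnownB.UnitaryDet

open Module Polynomial
open CfsgLib.KnownB.UnitaryConj

universe u

variable {K : Type u} [Field K] {n : ℕ} {σ : K →+* K}

local notation "Mn" => Matrix (Fin n) (Fin n) K
local notation "Vn" => Fin n → K

/-- The hermitian form. -/
def hf (σ : K →+* K) (x y : Vn) : K := ∑ i, x i * σ (y i)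

theorem hf_adj (hσ2 : ∀ a, σ (σ a) = a) (X : Mn) (x y : Vn) :
    hf σ (X.mulVec x) y = hf σ x ((adj σ X).mulVec y) := by
  simp only [hf, adj, Matrix.mulVec, dotProduct, Matrix.transpose_apply, Matrix.map_apply, map_sum, map_mul, hσ2,
    Finset.sum_mul, Finset.mul_sum]
  rw [Finset.sum_comm]
  exact Finset.sum_congr rfl fun i _ => Finset.sum_congr rfl fun j _ => by ring

theorem adj_eq_of_hf (hσ2 : ∀ a, σ (σ a) = a) {X Y : Mn} (h : ∀ x y, hf σ (X.mulVec x) y = hf σ x (Y.mulVec y)) :
    adj σ X = Y := by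
  ext i j
  have := h (Pi.single i 1) (Pi.single j 1)
  simp [hf, Pi.single_apply] at this
  simp [adj, this, hσ2]

/-- The orthogonal of a subspace. -/
def perp (σ : K →+* K) (S : Submodule K Vn) : Submodule K Vn where
  carrier := {x | ∀ s ∈ S, hf σ x s = 0}
  zero_mem' := fun s _ => by simp [hf]
  add_mem' := fun {x y} hx hy s hs => by
    have : hf σ (x + y) s = hf σ x s + hf σ y s := by simp [hf, add_mul, Finset.sum_add_distrib]
    rw [this, hx s hs, hy s hs, add_zero]
  smul_mem' := fun c x hx s hs => by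
    have : hf σ (c • x) s = c * hf σ x s := by simp [hf, Finset.mul_sum, mul_assoc]
    rw [this, hx s hs, mul_zero]

theorem finrank_le_perp (S : Submodule K Vn) : n ≤ finrank K S + finrank K (perp σ S) := by
  classical
  let b := Module.finBasis K S
  let L : Vn →ₗ[K] (Fin (finrank K S) → K) :=
    { toFun := fun x i => hf σ x (b i)
      map_add' := fun x y => by funext i; simp [hf, add_mul, Finset.sum_add_distrib]
      map_smul' := fun c x => by funext i; simp [hf, Finset.mul_sum, mul_assoc] }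
  have hker : LinearMap.ker L ≤ perp σ S := by
    intro x hx s hs
    have hx' : ∀ i, hf σ x (b i) = 0 := fun i => congrFun (LinearMap.mem_ker.1 hx) i
    have e : s = ∑ i, b.repr ⟨s, hs⟩ i • (b i : Vn) := by
      have h := congrArg Subtype.val (b.sum_repr ⟨s, hs⟩)
      simp only [Submodule.coe_sum, Submodule.coe_smul] at h
      exact h.symm
    rw [e]
    have : ∀ (c : Fin (finrank K S) → K) (v : Fin (finrank K S) → Vn),
        hf σ x (∑ i, c i • v i) = ∑ i, σ (c i) * hf σ x (v i) := fun c v => by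
      simp only [hf, Finset.sum_apply, Pi.smul_apply, smul_eq_mul, map_sum, map_mul, Finset.mul_sum]
      rw [Finset.sum_comm]
      exact Finset.sum_congr rfl fun i _ => Finset.sum_congr rfl fun j _ => by ring
    rw [this]
    exact Finset.sum_eq_zero fun i _ => by rw [hx', mul_zero]
  have h1 := LinearMap.finrank_range_add_finrank_ker L
  rw [Module.finrank_fin_fun] at h1
  have h2 := Submodule.finrank_le (LinearMap.range L)
  rw [Module.finrank_fin_fun] at h2
  have h3 := Submodule.finrank_mono hker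
  omega

variable [Finite K]

/-- A simple invariant subspace with a normal projection commuting with the matrix. -/
theorem exists_projection (hσ : σ ≠ RingHom.id K) (hσ2 : ∀ a, σ (σ a) = a) (hn : 0 < n) {A : GL (Fin n) K}
    (hA : adj σ (A : Mn) * A = 1) (hss : Module.End.IsSemisimple (Matrix.toLin' (A : Mn))) :
    ∃ (S : Submodule K Vn) (P : Mn), S ≠ ⊥ ∧ S ∈ Module.End.invtSubmodule (Matrix.toLin' (A : Mn)) ∧
      (∀ T : Submodule K Vn, T ∈ Module.End.invtSubmodule (Matrix.toLin' (A : Mn)) → T ≤ S → T ≠ ⊥ → T = S) ∧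
      (∀ x, P.mulVec x ∈ S) ∧ (∀ x ∈ S, P.mulVec x = x) ∧ Commute P (A : Mn) ∧ Commute P (adj σ P) := by
  classical
  set f := Matrix.toLin' (A : Mn) with hfdef
  have hfx : ∀ x, f x = (A : Mn).mulVec x := fun x => rfl
  obtain ⟨S, ⟨hS0, hSi⟩, hmin⟩ := WellFounded.has_min (wellFounded_lt (α := Submodule K Vn))
    {T | T ≠ ⊥ ∧ T ∈ Module.End.invtSubmodule f} ⟨⊤, by
      haveI : Nonempty (Fin n) := ⟨⟨0, hn⟩⟩
      exact ⟨top_ne_bot, fun x _ => Submodule.mem_top⟩⟩
  have hsimple : ∀ T : Submodule K Vn, T ∈ Module.End.invtSubmodule f → T ≤ S → T ≠ ⊥ → T = S := fun T hT hTS hT0 =>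
    by_contra fun h => hmin T ⟨hT0, hT⟩ (lt_of_le_of_ne hTS h)
  have hSA : ∀ s ∈ S, (A : Mn).mulVec s ∈ S := fun s hs => hSi hs
  have hinj : Function.Injective f := fun x y h => by
    have := congrArg (fun z => (adj σ (A : Mn)).mulVec z) ((hfx x).symm.trans (h.trans (hfx y)))
    simpa [Matrix.mulVec_mulVec, hA] using this
  have hsurjS : ∀ s ∈ S, ∃ t ∈ S, (A : Mn).mulVec t = s := by
    intro s hs
    have hi : Function.Injective (f.restrict hSi) := fun x y h => Subtype.ext (hinj (congrArg Subtype.val h))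
    obtain ⟨t, ht⟩ := (LinearMap.injective_iff_surjective.1 hi) ⟨s, hs⟩
    exact ⟨t, t.2, congrArg Subtype.val ht⟩
  have hpi : perp σ S ∈ Module.End.invtSubmodule f := by
    intro x hx
    show ∀ s ∈ S, hf σ ((A : Mn).mulVec x) s = 0
    intro s hs
    obtain ⟨t, ht, rfl⟩ := hsurjS s hs
    rw [hf_adj hσ2, Matrix.mulVec_mulVec, hA, Matrix.one_mulVec]
    exact hx t ht
  have hproj : ∀ T : Submodule K Vn, T ∈ Module.End.invtSubmodule f → IsCompl S T →
      ∃ P : Mn, (∀ x, P.mulVec x ∈ S) ∧ (∀ x ∈ S, P.mulVec x = x) ∧ (∀ x ∈ T, P.mulVec x = 0) ∧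
        Commute P (A : Mn) := by
    intro T hT hc
    refine ⟨LinearMap.toMatrix' (S.projectionOnto T hc |> S.subtype.comp), fun x => ?_, fun x hx => ?_,
      fun x hx => ?_, ?_⟩
    · rw [LinearMap.toMatrix'_mulVec]; exact Submodule.coe_mem _
    · rw [LinearMap.toMatrix'_mulVec]
      simp [Submodule.projectionOnto_apply_left hc ⟨x, hx⟩]
    · rw [LinearMap.toMatrix'_mulVec]
      simp [Submodule.projectionOnto_apply_eq_zero_iff hc |>.2 hx]
    · apply Matrix.toLin'.injective
      rw [Matrix.toLin'_mul, Matrix.toLin'_mul, Matrix.toLin'_toMatrix']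
      refine LinearMap.ext fun x => ?_
      obtain ⟨a, b, rfl⟩ : ∃ (a : S) (b : T), (a : Vn) + b = x :=
        ⟨_, _, (Submodule.prodEquivOfIsCompl S T hc).apply_symm_apply x⟩
      have e1 := Submodule.projectionOnto_apply_left hc ⟨(A : Mn).mulVec (a : Vn), hSA _ a.2⟩
      have e2 := (Submodule.projectionOnto_apply_eq_zero_iff hc).2 (show (A : Mn).mulVec (b : Vn) ∈ T from hT b.2)
      simp [Matrix.mulVec_add, e1, e2, Submodule.projectionOnto_apply_left hc a,
        (Submodule.projectionOnto_apply_eq_zero_iff hc).2 b.2]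
  by_cases hdis : S ⊓ perp σ S = ⊥
  · have hc : IsCompl S (perp σ S) := by
      refine (Submodule.isCompl_iff_disjoint _ _ ?_).2 (disjoint_iff.2 hdis)
      rw [Module.finrank_fin_fun]
      exact finrank_le_perp S
    obtain ⟨P, hPS, hPid, hP0, hPA⟩ := hproj _ hpi hc
    have hsa : adj σ P = P := adj_eq_of_hf hσ2 fun x y => by
      have key : ∀ x y, hf σ (P.mulVec x) y = hf σ (P.mulVec x) (P.mulVec y) := fun x y => by
        obtain ⟨a, b, rfl⟩ : ∃ (a : S) (b : perp σ S), (a : Vn) + b = y :=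
          ⟨_, _, (Submodule.prodEquivOfIsCompl S _ hc).apply_symm_apply y⟩
        rw [Matrix.mulVec_add, hPid _ a.2, hP0 _ b.2, add_zero]
        have hb : hf σ (P.mulVec x) (b : Vn) = 0 := by
          have h := congrArg σ (b.2 _ (hPS x))
          simp only [hf, map_sum, map_mul, hσ2, map_zero] at h ⊢
          rw [← h]
          exact Finset.sum_congr rfl fun i _ => mul_comm _ _
        simp only [hf, Pi.add_apply, map_add, mul_add, Finset.sum_add_distrib] at hb ⊢
        rw [hb, add_zero]
      have hsym : ∀ x y : Vn, σ (hf σ y x) = hf σ x y := fun x y => by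
        simp only [hf, map_sum, map_mul, hσ2]
        exact Finset.sum_congr rfl fun i _ => mul_comm _ _
      rw [key, ← hsym (P.mulVec x) (P.mulVec y), ← key, hsym]
    exact ⟨S, P, hS0, hSi, hsimple, hPS, hPid, hPA, by rw [hsa]⟩
  · have htot : S ≤ perp σ S := by
      have := hsimple _ (fun x hx => show f x ∈ S ⊓ perp σ S from Submodule.mem_inf.2 ⟨hSi (Submodule.mem_inf.1 hx).1, hpi (Submodule.mem_inf.1 hx).2⟩) inf_le_left hdis
      exact this.ge.trans inf_le_right
    obtain ⟨T, hT, hc⟩ := Module.End.isSemisimple_iff.1 hss S hSi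
    obtain ⟨P, hPS, hPid, -, hPA⟩ := hproj T hT hc
    obtain ⟨θ, hθ, -⟩ := exists_theta hσ hσ2
    have hI := isInvol_adj (n := n) hσ2
    have hPP : P * P = P := by
      refine Matrix.toLin'.injective (LinearMap.ext fun x => ?_)
      simp [← Matrix.mulVec_mulVec, hPid _ (hPS x)]
    have hQP : adj σ P * P = 0 := by
      have : adj σ (adj σ P * P) = 0 := adj_eq_of_hf hσ2 fun x y => by
        rw [← Matrix.mulVec_mulVec, hf_adj hσ2, hI.invol, Matrix.zero_mulVec]
        calc hf σ (P.mulVec x) (P.mulVec y) = 0 := htot (hPS x) _ (hPS y)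
          _ = hf σ x 0 := by simp [hf]
      have h := congrArg (adj σ) this
      rwa [hI.invol, show adj σ (0 : Mn) = 0 by ext i j; simp [adj]] at h
    have hQA : Commute (adj σ P) (A : Mn) := by
      have h : adj σ (A : Mn) * adj σ P = adj σ P * adj σ (A : Mn) := by rw [← hI.map_mul, hPA.eq, hI.map_mul]
      have hA' : (A : Mn) * adj σ (A : Mn) = 1 := mul_eq_one_comm.1 hA
      show adj σ P * (A : Mn) = A * adj σ P
      calc adj σ P * (A : Mn) = (A : Mn) * (adj σ (A : Mn) * adj σ P) * A := by rw [← mul_assoc, hA', one_mul]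
        _ = A * adj σ P := by rw [h, mul_assoc, mul_assoc, hA, mul_one]
    set P' : Mn := P - θ • (P * adj σ P) with hP'
    have hid' : ∀ x ∈ S, P'.mulVec x = x := fun x hx => by
      have : (adj σ P).mulVec x = 0 := by
        rw [← hPid x hx, Matrix.mulVec_mulVec, hQP, Matrix.zero_mulVec]
      rw [hP', Matrix.sub_mulVec, Matrix.smul_mulVec, ← Matrix.mulVec_mulVec, this, Matrix.mulVec_zero, smul_zero,
        sub_zero, hPid x hx]
    refine ⟨S, P', hS0, hSi, hsimple, fun x => ?_, hid', hPA.sub_left ((hPA.mul_left hQA).smul_left θ), ?_⟩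
    · rw [hP', Matrix.sub_mulVec, Matrix.smul_mulVec, ← Matrix.mulVec_mulVec]
      exact S.sub_mem (hPS x) (S.smul_mem _ (hPS _))
    · have hadj : adj σ P' = adj σ P - σ θ • (P * adj σ P) := by
        rw [hP', show ∀ X Y : Mn, adj σ (X - Y) = adj σ X - adj σ Y from fun X Y => by ext i j; simp [adj],
          adj_smul, hI.map_mul, hI.invol]
      have hQQ : adj σ P * adj σ P = adj σ P := by rw [← hI.map_mul, hPP]
      have h1 : P' * adj σ P' = 0 := by
        rw [hadj, hP']
        simp only [sub_mul, mul_sub, smul_mul_assoc, mul_smul_comm, mul_assoc, hQQ]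
        simp only [← mul_assoc, hPP]
        rw [show P * adj σ P * P * adj σ P = 0 by rw [mul_assoc P, hQP, mul_zero, zero_mul]]
        simp only [smul_zero, sub_zero]
        rw [← sub_add_eq_sub_sub, ← add_smul, hθ, one_smul, sub_self]
      have h2 : adj σ P' * P' = 0 := by
        rw [hadj, hP']
        simp only [sub_mul, mul_sub, smul_mul_assoc, mul_smul_comm]
        simp only [← mul_assoc, hQP]
        simp [mul_assoc, hQP]
      exact h1.trans h2.symm

/-- The determinant on the unitary centraliser reaches every `e / σ e`. -/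
theorem exists_det (hσ : σ ≠ RingHom.id K) (hσ2 : ∀ a, σ (σ a) = a) (hn : 0 < n) {A : GL (Fin n) K}
    (hA : adj σ (A : Mn) * A = 1) (hss : Module.End.IsSemisimple (Matrix.toLin' (A : Mn))) {e : K} (he : e ≠ 0) :
    ∃ c : GL (Fin n) K, adj σ (c : Mn) * c = 1 ∧ c * A = A * c ∧ (c : Mn).det * σ e = e := by
  classical
  obtain ⟨S, P, hS0, hSi, hsimple, hPS, hPid, hPA, hPn⟩ := exists_projection hσ hσ2 hn hA hss
  set f := Matrix.toLin' (A : Mn) with hfdef
  have hI := isInvol_adj (n := n) hσ2
  have hpos : 0 < finrank K S := Nat.pos_of_ne_zero fun h => hS0 (Submodule.finrank_eq_zero.1 h)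
  obtain ⟨φ, hφ, hdet⟩ := Semisimple.exists_comm_det hpos (f.restrict hSi) (hss.restrict hSi) (Units.mk0 e he)
  obtain ⟨s, hsS, hs0⟩ := Submodule.exists_mem_ne_zero_of_ne_bot hS0
  let ev : K[X] →ₗ[K] Vn :=
    (LinearMap.applyₗ (R := K) s) ∘ₗ (Matrix.toLin' : Mn ≃ₗ[K] _).toLinearMap ∘ₗ
      (aeval (A : Mn)).toLinearMap
  have hev : ∀ r, ev r = (aeval (A : Mn) r).mulVec s := fun r => rfl
  have hevS : LinearMap.range ev = S := by
    refine hsimple _ ?_ ?_ ?_
    · rintro _ ⟨r, rfl⟩
      refine ⟨X * r, ?_⟩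
      rw [hev, hev, map_mul, aeval_X, ← Matrix.mulVec_mulVec]
      rfl
    · rintro _ ⟨r, rfl⟩
      rw [hev]
      induction r using Polynomial.induction_on' with
      | add a b ha hb => rw [map_add, Matrix.add_mulVec]; exact S.add_mem ha hb
      | monomial k c =>
        rw [aeval_monomial, ← Algebra.smul_def, Matrix.smul_mulVec]
        refine S.smul_mem _ ?_
        induction k with
        | zero => simpa using hsS
        | succ k ih => rw [pow_succ', ← Matrix.mulVec_mulVec]; exact hSi ih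
    · intro h
      exact hs0 ((Submodule.eq_bot_iff _).1 h s ⟨1, by rw [hev, map_one, Matrix.one_mulVec]⟩)
  obtain ⟨r, hr⟩ : ((φ ⟨s, hsS⟩ : S) : Vn) ∈ LinearMap.range ev := by rw [hevS]; exact Submodule.coe_mem _
  rw [hev] at hr
  set R : Mn := aeval (A : Mn) r with hR
  have hpow : ∀ (k : ℕ) (x : S), (φ ⟨((A : Mn) ^ k).mulVec x, by
      induction k with
      | zero => simpa using x.2
      | succ k ih => rw [pow_succ', ← Matrix.mulVec_mulVec]; exact hSi ih⟩ : S) = ((A : Mn) ^ k).mulVec (φ x : Vn) := by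
    intro k
    induction k with
    | zero => intro x; simp
    | succ k ih =>
      intro x
      have hm : ((A : Mn) ^ k).mulVec (x : Vn) ∈ S := by
        clear ih
        induction k with
        | zero => simpa using x.2
        | succ k ih => rw [pow_succ', ← Matrix.mulVec_mulVec]; exact hSi ih
      have h := congrArg Subtype.val (hφ ⟨_, hm⟩)
      simp only [pow_succ', ← Matrix.mulVec_mulVec]
      rw [show ((f.restrict hSi) ⟨_, hm⟩ : S) = ⟨(A : Mn).mulVec (((A : Mn) ^ k).mulVec x), hSi hm⟩ from rfl] at h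
      rw [h, ← ih x]
      rfl
  have hRφ : ∀ x : S, R.mulVec (x : Vn) = (φ x : Vn) := by
    intro x
    obtain ⟨t, ht⟩ : (x : Vn) ∈ LinearMap.range ev := by rw [hevS]; exact x.2
    rw [hev] at ht
    rw [← ht, Matrix.mulVec_mulVec, hR, ← map_mul, mul_comm, map_mul, ← Matrix.mulVec_mulVec, hr]
    have key : ∀ (t : K[X]) (x : S) (hx : (aeval (A : Mn) t).mulVec (x : Vn) ∈ S),
        (φ ⟨_, hx⟩ : Vn) = (aeval (A : Mn) t).mulVec (φ x : Vn) := by
      intro t
      induction t using Polynomial.induction_on' with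
      | add a b ha hb =>
        intro x hx
        have hm : ∀ a : K[X], (aeval (A : Mn) a).mulVec (x : Vn) ∈ S := fun a => by
          induction a using Polynomial.induction_on' with
          | add a b ha hb => rw [map_add, Matrix.add_mulVec]; exact S.add_mem ha hb
          | monomial k c =>
            rw [aeval_monomial, ← Algebra.smul_def, Matrix.smul_mulVec]
            refine S.smul_mem _ ?_
            induction k with
            | zero => simpa using x.2
            | succ k ih => rw [pow_succ', ← Matrix.mulVec_mulVec]; exact hSi ih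
        have e1 : (⟨_, hx⟩ : S) = ⟨_, hm a⟩ + ⟨_, hm b⟩ :=
          Subtype.ext (by simp [Matrix.add_mulVec])
        rw [e1, map_add, Submodule.coe_add, ha x (hm a), hb x (hm b), map_add, Matrix.add_mulVec]
      | monomial k c =>
        intro x hx
        have hm : ((A : Mn) ^ k).mulVec (x : Vn) ∈ S := by
          clear hx
          induction k with
          | zero => simpa using x.2
          | succ k ih => rw [pow_succ', ← Matrix.mulVec_mulVec]; exact hSi ih
        have e1 : (⟨_, hx⟩ : S) = c • ⟨_, hm⟩ :=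
          Subtype.ext (by simp [aeval_monomial, ← Algebra.smul_def, Matrix.smul_mulVec])
        rw [e1, map_smul, Submodule.coe_smul, hpow k x, aeval_monomial, ← Algebra.smul_def, Matrix.smul_mulVec]
    rw [← key t ⟨s, hsS⟩ (by rw [ht]; exact x.2)]
    exact congrArg Subtype.val (congrArg φ (Subtype.ext ht))
  -- the normal element
  set X : Mn := (R - 1) * P with hX
  set Z : Mn := 1 + X with hZ
  have hRc : ∀ {Y : Mn}, Commute Y (A : Mn) → Commute Y R := fun h => Algebra.commute_of_mem_adjoin_singleton_of_commute (Polynomial.aeval_mem_adjoin_singleton K (A : Mn)) h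
  have hA' : (A : Mn) * adj σ (A : Mn) = 1 := mul_eq_one_comm.1 hA
  have hadjc : ∀ {Y : Mn}, Commute Y (A : Mn) → Commute (adj σ Y) (A : Mn) := fun {Y} hY => by
    have h : adj σ (A : Mn) * adj σ Y = adj σ Y * adj σ (A : Mn) := by rw [← hI.map_mul, hY.eq, hI.map_mul]
    show adj σ Y * (A : Mn) = A * adj σ Y
    calc adj σ Y * (A : Mn) = (A : Mn) * (adj σ (A : Mn) * adj σ Y) * A := by rw [← mul_assoc, hA', one_mul]
      _ = A * adj σ Y := by rw [h, mul_assoc, mul_assoc, hA, mul_one]
  have hRA : Commute R (A : Mn) := (hRc (Commute.refl (A : Mn))).symm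
  have c1 : Commute R (adj σ R) := (hRc (hadjc hRA)).symm
  have c2 : Commute R (adj σ P) := (hRc (hadjc hPA)).symm
  have c3 : Commute P R := hRc hPA
  have c4 : Commute P (adj σ R) := by
    have h := c2
    show P * adj σ R = adj σ R * P
    have := congrArg (adj σ) h.eq
    rw [hI.map_mul, hI.map_mul, hI.invol] at this
    exact this
  have hsub : ∀ Y : Mn, adj σ (Y - 1) = adj σ Y - 1 := fun Y => by
    rw [show ∀ U W : Mn, adj σ (U - W) = adj σ U - adj σ W from fun U W => by ext i j; simp [adj], hI.map_one]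
  have hXn : Commute X (adj σ X) := by
    rw [hX, hI.map_mul, hsub]
    exact (((c2.sub_left (Commute.one_left _))).mul_right ((c1.sub_left (Commute.one_left _)).sub_right
      (Commute.one_right _))).mul_left (hPn.mul_right (c4.sub_right (Commute.one_right _)))
  have hZn : Commute Z (adj σ Z) := by
    rw [hZ, hI.map_add, hI.map_one]
    exact (Commute.one_left _).add_left ((Commute.one_right _).add_right hXn)
  have hXA : Commute X (A : Mn) := by rw [hX]; exact (hRA.sub_left (Commute.one_left _)).mul_left hPA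
  have hZA : Commute Z (A : Mn) := by rw [hZ]; exact (Commute.one_left _).add_left hXA
  -- its determinant
  have hPP : ∀ x, P.mulVec (P.mulVec x) = P.mulVec x := fun x => hPid _ (hPS x)
  let T : Submodule K Vn := LinearMap.ker (Matrix.toLin' P)
  have hc : IsCompl S T := by
    refine ⟨disjoint_iff_inf_le.2 fun x hx => ?_, codisjoint_iff_le_sup.2 fun x _ => ?_⟩
    · have h1 : P.mulVec x = 0 := hx.2
      rw [hPid x hx.1] at h1
      exact h1
    · rw [show x = P.mulVec x + (x - P.mulVec x) by abel]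
      refine Submodule.add_mem_sup (hPS x) ?_
      show P.mulVec (x - P.mulVec x) = 0
      rw [Matrix.mulVec_sub, hPP, sub_self]
  have hZdet : Z.det = e := by
    have : Matrix.toLin' Z = (Submodule.prodEquivOfIsCompl S T hc : (S × T) →ₗ[K] Vn) ∘ₗ
        ((φ : S →ₗ[K] S).prodMap LinearMap.id) ∘ₗ ((Submodule.prodEquivOfIsCompl S T hc).symm : Vn →ₗ[K] S × T) := by
      refine LinearMap.ext fun x => ?_
      obtain ⟨⟨a, b⟩, rfl⟩ := (Submodule.prodEquivOfIsCompl S T hc).surjective x
      simp only [LinearMap.comp_apply, LinearEquiv.coe_coe, LinearEquiv.symm_apply_apply]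
      simp only [Submodule.coe_prodEquivOfIsCompl', LinearMap.prodMap_apply, LinearMap.id_apply, Matrix.toLin'_apply,
        LinearEquiv.coe_coe]
      have hb : P.mulVec (b : Vn) = 0 := b.2
      rw [Matrix.mulVec_add, hZ, hX, Matrix.add_mulVec, Matrix.add_mulVec, Matrix.one_mulVec, Matrix.one_mulVec,
        ← Matrix.mulVec_mulVec, ← Matrix.mulVec_mulVec, hb, hPid _ a.2, Matrix.mulVec_zero, Matrix.sub_mulVec,
        Matrix.one_mulVec, hRφ]
      abel
    rw [← LinearMap.det_toLin', this, LinearMap.det_conj, LinearMap.det_prodMap, LinearMap.det_id, mul_one]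
    exact hdet
  let Zu : GL (Fin n) K := Matrix.GeneralLinearGroup.mkOfDetNeZero Z (hZdet ▸ he)
  let Wu : GL (Fin n) K := (isUnit_adj (σ := σ) Zu).unit
  have hWval : (Wu : Mn) = adj σ Z := rfl
  have hWdet : (Wu : Mn).det = σ e := by
    rw [hWval, adj, Matrix.det_transpose, ← RingHom.mapMatrix_apply, ← RingHom.map_det, hZdet]
  refine ⟨Zu * Wu⁻¹, ?_, ?_, ?_⟩
  · have h1 : Zu * Wu = Wu * Zu := Units.ext hZn.eq
    have h2 : adj σ ((Wu⁻¹ : GL (Fin n) K) : Mn) = ((Zu⁻¹ : GL (Fin n) K) : Mn) := by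
      have h := congrArg (adj σ) Wu.mul_inv
      rw [hI.map_mul, hI.map_one, hWval, hI.invol] at h
      calc adj σ ((Wu⁻¹ : GL (Fin n) K) : Mn)
          = adj σ ((Wu⁻¹ : GL (Fin n) K) : Mn) * ((Zu : Mn) * ((Zu⁻¹ : GL (Fin n) K) : Mn)) := by rw [Zu.mul_inv, mul_one]
        _ = _ := by rw [← mul_assoc, show (Zu : Mn) = Z from rfl, h, one_mul]
    rw [Units.val_mul, hI.map_mul, h2, show adj σ (Zu : Mn) = (Wu : Mn) from rfl, ← Units.val_mul, ← Units.val_mul,
      ← Units.val_mul, show Zu⁻¹ * Wu * (Zu * Wu⁻¹) = 1 by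
        rw [mul_assoc, ← mul_assoc Wu, ← h1]; group, Units.val_one]
  · have h1 : Zu * A = A * Zu := Units.ext hZA.eq
    have h2 : Wu * A = A * Wu := Units.ext (hadjc hZA).eq
    rw [mul_assoc, show Wu⁻¹ * A = A * Wu⁻¹ by rw [inv_mul_eq_iff_eq_mul, ← mul_assoc, h2, mul_inv_cancel_right],
      ← mul_assoc, h1, mul_assoc]
  · rw [Units.val_mul, Matrix.det_mul, ← hWdet, mul_assoc, ← Matrix.det_mul, ← Units.val_mul, inv_mul_cancel,
      Units.val_one, Matrix.det_one, mul_one]
    exact hZdet

/-- Norm-one scalars are quotients `e / σ e`. -/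
theorem exists_quot (hσ : σ ≠ RingHom.id K) (hσ2 : ∀ a, σ (σ a) = a) {d : K} (hd : d * σ d = 1) :
    ∃ e, e ≠ 0 ∧ d * σ e = e := by
  by_cases h : 1 + d = 0
  · obtain ⟨θ, -, hθ⟩ := exists_theta hσ hσ2
    refine ⟨θ - σ θ, hθ, ?_⟩
    rw [map_sub, hσ2]
    linear_combination (σ θ - θ) * h
  · refine ⟨1 + d, h, ?_⟩
    rw [map_add, map_one]
    linear_combination hd

/-- Semisimple elements of `SU` with the same characteristic polynomial are conjugate in `SU`. -/
theorem su_charpoly [Fintype K] (hσ : σ ≠ RingHom.id K) (hσ2 : ∀ a, σ (σ a) = a) (p : ℕ) [Fact p.Prime] [CharP K p]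
    {A B : GL (Fin n) K} (hA : adj σ (A : Mn) * A = 1) (hB : adj σ (B : Mn) * B = 1)
    (hAo : (orderOf A).Coprime p) (hBo : (orderOf B).Coprime p) (hc : (A : Mn).charpoly = (B : Mn).charpoly) :
    ∃ u : GL (Fin n) K, adj σ (u : Mn) * u = 1 ∧ (u : Mn).det = 1 ∧ u * A = B * u := by
  have hAs := Semisimple.isSemisimple_of_coprime p hAo
  obtain ⟨h, hh⟩ := isConj_iff.1 (Semisimple.isConj_of_charpoly hAs (Semisimple.isSemisimple_of_coprime p hBo) hc)
  obtain ⟨u, hu, huA⟩ := exists_unitary_conjugator hσ hσ2 hA hB (mul_inv_eq_iff_eq_mul.1 hh)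
  rcases Nat.eq_zero_or_pos n with rfl | hn
  · exact ⟨u, hu, Matrix.det_isEmpty, huA⟩
  have hd : (u : Mn).det * σ (u : Mn).det = 1 := by
    have h := congrArg Matrix.det hu
    rw [Matrix.det_mul, adj, Matrix.det_transpose, ← RingHom.mapMatrix_apply, ← RingHom.map_det, Matrix.det_one] at h
    rw [mul_comm]; exact h
  obtain ⟨e, he, hde⟩ := exists_quot hσ hσ2 hd
  obtain ⟨c, hcu, hcA, hcd⟩ := exists_det hσ hσ2 hn hA hAs (e := σ e) ((map_ne_zero σ).2 he)
  rw [hσ2] at hcd
  refine ⟨u * c, ?_, ?_, by rw [mul_assoc, hcA, ← mul_assoc, huA, mul_assoc]⟩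
  · rw [Units.val_mul, (isInvol_adj hσ2).map_mul, mul_assoc, ← mul_assoc (adj σ (u : Mn)), hu, one_mul, hcu]
  · rw [Units.val_mul, Matrix.det_mul]
    refine mul_right_cancel₀ he ?_
    rw [mul_assoc, hcd, hde, one_mul]

end CfsgLib.KnownB.UnitaryDet
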