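import Cfsg.Agent.Lib.Classical.UnitaryFrame
import Cfsg.Agent.Lib.Classical.UnitaryTransv
import Cfsg.Prelude.Def_ClassicalGeometry

/-! Transvections of the special unitary group are conjugate when `n ≥ 3`. -/

set_option autoImplicit false

namespace CfsgLib.KnownB.UnitaryTransvConj

open Matrix CfsgLib.Classical.Unitary

variable {F : Type*} [Field F] {σ : F →+* F} {q n : ℕ}

theorem gu_det (h : UFrob σ q) {g : GL (Fin n) F} (hg : g ∈ Cfsg.GU n F q) :
    g.1.det * σ g.1.det = 1 := by
  have hM : (g.1)ᵀ * g.1.map σ = 1 := by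
    ext i j
    have := gu_uh h hg (Pi.single i 1) (Pi.single j 1)
    rw [uh_single_left, one_mul] at this
    simp [uh, dotProduct, Pi.single_apply, apply_ite σ] at this
    simpa [Matrix.mul_apply, Matrix.one_apply, eq_comm] using this
  have := congrArg det hM
  rwa [det_mul, det_transpose, det_one, show g.1.map σ = σ.mapMatrix g.1 from rfl, ← RingHom.map_det] at this

/-- a transvection in the special unitary group is `x ↦ x + c h(x,v) v` -/
theorem exists_utv (h : UFrob σ q) (t : Cfsg.SU n F q) (hr : (t.1.1 - 1).rank = 1)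
    (hs : (t.1.1 - 1) * (t.1.1 - 1) = 0) :
    ∃ (v : Fin n → F) (c : F) (hv : uh σ v v = 0) (hc : c + σ c = 0), v ≠ 0 ∧ c ≠ 0 ∧ t = utv h v c hv hc := by
  set f := (t.1.1 - 1).mulVecLin
  obtain ⟨w, hw0, hspan⟩ := finrank_eq_one_iff'.1 (show Module.finrank F (LinearMap.range f) = 1 from hr)
  obtain ⟨w, hwmem⟩ := w
  have hw : w ≠ 0 := fun e => hw0 (Subtype.ext e)
  have hf : ∀ x, ∃ l : F, (t.1.1 - 1) *ᵥ x = l • w := fun x => by
    obtain ⟨l, hl⟩ := hspan ⟨f x, x, rfl⟩
    exact ⟨l, (congrArg Subtype.val hl).symm⟩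
  choose l hl using hf
  obtain ⟨z, hz⟩ := hwmem
  have hlw : l w = 0 := by
    have h0 : (t.1.1 - 1) *ᵥ ((t.1.1 - 1) *ᵥ z) = 0 := by rw [mulVec_mulVec, hs, zero_mulVec]
    rw [show (t.1.1 - 1) *ᵥ z = w from hz, hl] at h0
    exact (smul_eq_zero.1 h0).resolve_right hw
  have hlz : l z = 1 := by
    have h0 : (l z - 1) • w = 0 := by rw [sub_smul, one_smul, ← hl, show (t.1.1 - 1) *ᵥ z = w from hz, sub_self]
    exact sub_eq_zero.1 ((smul_eq_zero.1 h0).resolve_right hw)
  have hx : ∀ x, t.1.1 *ᵥ x = x + l x • w := fun x => by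
    rw [← hl x, sub_mulVec, one_mulVec]; abel
  have key : ∀ x y, l x * uh σ w y + σ (l y) * uh σ x w + l x * σ (l y) * uh σ w w = 0 := fun x y => by
    have := su_uh h t x y
    rw [hx, hx, uh_add_left, uh_add_right, uh_add_right, uh_smul_left, uh_smul_left, uh_smul_right,
      uh_smul_right] at this
    linear_combination this
  have hww : uh σ w w = 0 := by
    have := key w z
    rw [hlw, hlz, map_one] at this
    linear_combination this
  obtain ⟨y, hy⟩ := exists_uh_eq_one h hw
  have hy' : uh σ w y = 1 := by rw [← h.symm, hy, map_one]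
  have hlx : ∀ x, l x = -σ (l y) * uh σ x w := fun x => by
    have := key x y
    rw [hy', hww] at this
    linear_combination this
  have hc : -σ (l y) + σ (-σ (l y)) = 0 := by
    have := key y y
    rw [hy', hy, hww] at this
    rw [map_neg, h.invol]
    linear_combination -this
  refine ⟨w, _, hww, hc, hw, ?_, su_ext fun x => by rw [utv_mulVec, hx, hlx]⟩
  intro e
  have := hlx z
  rw [hlz, e, zero_mul] at this
  exact one_ne_zero this

theorem exists_su_map [Finite F] (hn : 3 ≤ n) (h : UFrob σ q) {u v : Fin n → F} (hu : u ≠ 0) (hv : v ≠ 0)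
    (huu : uh σ u u = 0) (hvv : uh σ v v = 0) : ∃ g : Cfsg.SU n F q, g.1.1 *ᵥ u = v := by
  obtain ⟨g, hg, hgu⟩ := exists_gu_map_one h hu hv (huu.trans hvv.symm)
  obtain ⟨w, hwv, hww⟩ : ∃ w, uh σ w v = 0 ∧ uh σ w w ≠ 0 := by
    by_contra hcon
    push Not at hcon
    obtain ⟨e, hev⟩ := exists_uh_eq_one h hv
    have hpair : ∀ x y, uh σ x v = 0 → uh σ y v = 0 → uh σ x y = 0 := by
      intro x y hx hy
      have key : ∀ a : F, σ a * uh σ x y + a * uh σ y x = 0 := fun a => by
        have := hcon (x + a • y) (by rw [uh_add_left, uh_smul_left, hx, hy, mul_zero, add_zero])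
        simp only [uh_add_left, uh_add_right, uh_smul_left, uh_smul_right, hcon x hx, hcon y hy] at this
        linear_combination this
      obtain ⟨a, ha⟩ : ∃ a, σ a ≠ a := by
        by_contra hc
        exact h.ne (RingHom.ext fun a => not_not.1 fun h' => hc ⟨a, h'⟩)
      have h1 := key 1
      rw [map_one, one_mul, one_mul] at h1
      have h2 : (σ a - a) * uh σ x y = 0 := by linear_combination key a - a * h1
      exact (mul_eq_zero.1 h2).resolve_left (sub_ne_zero.2 ha)
    have hline : ∀ x, uh σ x v = 0 → x = uh σ x e • v := by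
      intro x hx
      refine uh_ext h fun z => ?_
      rw [← h.symm x z, uh_smul_right]
      have hz : uh σ x (z - uh σ z v • e) = 0 := hpair _ _ hx (by rw [uh_sub_left, uh_smul_left, hev, mul_one, sub_self])
      rw [uh_sub_right, uh_smul_right, sub_eq_zero] at hz
      rw [hz, map_mul, h.invol]
      ring
    let φ : (Fin n → F) →ₗ[F] F :=
      { toFun := fun x => uh σ x v
        map_add' := fun x y => uh_add_left x y v
        map_smul' := fun a x => uh_smul_left a x v }
    have h1 := LinearMap.finrank_range_add_finrank_ker φ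
    have h2 : Module.finrank F (LinearMap.range φ) ≤ 1 := (Submodule.finrank_le _).trans_eq (Module.finrank_self F)
    have h3 : Module.finrank F (LinearMap.ker φ) ≤ 1 := by
      refine (Submodule.finrank_mono (t := Submodule.span F {v}) fun x hx => ?_).trans (by rw [finrank_span_singleton hv])
      exact Submodule.mem_span_singleton.2 ⟨_, (hline x hx).symm⟩
    rw [Module.finrank_fin_fun] at h1
    omega
  set d := g.1.det
  have hd : d ≠ 0 := left_ne_zero_of_mul_eq_one (gu_det h hg)
  have hNd : σ d⁻¹ * d⁻¹ = 1 := by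
    rw [map_inv₀, ← mul_inv, mul_comm, gu_det h hg, inv_one]
  set b := (d⁻¹ - 1) / uh σ w w
  have hdet : (tMat σ w b).det = d⁻¹ := by rw [det_tMat, div_mul_cancel₀ _ hww, add_sub_cancel]
  have hfix : tMat σ w b *ᵥ v = v := by
    rw [tMat_mulVec, ← h.symm, hwv, map_zero, mul_zero, zero_smul, add_zero]
  have hT : ∀ x y, uh σ (tMat σ w b *ᵥ x) (tMat σ w b *ᵥ y) = uh σ x y := by
    intro x y
    simp only [tMat_mulVec, uh_add_left, uh_add_right, uh_smul_left, uh_smul_right, map_mul, h.symm]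
    have hb : b + σ b + b * σ b * uh σ w w = 0 := by
      have hs : σ (uh σ w w) = uh σ w w := h.symm w w
      simp only [b, map_div₀, map_sub, map_one, hs]
      revert hNd
      generalize d⁻¹ = δ
      intro hNd
      field_simp
      linear_combination hNd
    linear_combination (uh σ x w * uh σ w y) * hb
  let k : Cfsg.SU n F q := ⟨⟨tMat σ w b * g.1, by rw [det_mul, hdet, inv_mul_cancel₀ hd]⟩, CfsgLib.Classical.mem_SU_iff.2 fun x y => by
    rw [h.hermForm_eq, h.hermForm_eq]
    show uh σ ((tMat σ w b * g.1) *ᵥ x) ((tMat σ w b * g.1) *ᵥ y) = _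
    rw [← mulVec_mulVec, ← mulVec_mulVec, hT, gu_uh h hg]⟩
  exact ⟨k, by show (tMat σ w b * g.1) *ᵥ u = v; rw [← mulVec_mulVec, hgu, hfix]⟩

theorem isConj [Finite F] (hn : 3 ≤ n) (h : UFrob σ q) (s t : Cfsg.SU n F q)
    (hs : Cfsg.IsTransvection s.1.1) (ht : Cfsg.IsTransvection t.1.1) : IsConj s t := by
  obtain ⟨u, c, hu, hc, hu0, hc0, rfl⟩ := exists_utv h s hs.1 hs.2
  obtain ⟨v, e, hv, he, hv0, he0, rfl⟩ := exists_utv h t ht.1 ht.2
  have hfix : σ (c / e) = c / e := by
    rw [map_div₀, show σ c = -c by linear_combination hc, show σ e = -e by linear_combination he, neg_div_neg_eq]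
  obtain ⟨a, ha⟩ := CfsgLib.Geometry.exists_norm_eq h.ne h.invol (c := (c / e)⁻¹) (by rw [map_inv₀, hfix])
  have ha0 : a ≠ 0 := fun e0 => by
    rw [e0, zero_mul] at ha
    exact inv_ne_zero (div_ne_zero hc0 he0) ha.symm
  obtain ⟨g, hg⟩ := exists_su_map hn h hu0 (smul_ne_zero ha0 hv0) hu
    (by rw [uh_smul_left, uh_smul_right, hv, mul_zero, mul_zero])
  rw [isConj_iff]
  refine ⟨g, ?_⟩
  rw [mul_inv_eq_iff_eq_mul]
  refine su_ext fun x => ?_
  rw [su_mul_mulVec, su_mul_mulVec, utv_mulVec, utv_mulVec, mulVec_add, mulVec_smul, hg, smul_smul]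
  congr 2
  have hb : uh σ x u = σ a * uh σ (g.1.1 *ᵥ x) v := by rw [← su_uh h g x u, hg, uh_smul_right]
  rw [hb]
  have hk : a * σ a * c = e := by rw [ha]; field_simp
  linear_combination (uh σ (g.1.1 *ᵥ x) v) * hk

end CfsgLib.KnownB.UnitaryTransvConj
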